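import Cfsg.Agent.Lib.Helper55.CoprimeGen
import Cfsg.Agent.Lib.Helper71.BG11a

set_option autoImplicit false

/-! # Keystone K-S1416-K7a (BG Lemma 12.4, STEP 4, first part)

`[M_σ, A] = 1` from BG 12.3(a) by coprime generation. -/

namespace Cfsg.Agent.Lib.Helper79.BG124

open Cfsg

variable {G : Type*} [Group G] [Finite G] {M A : Subgroup G} {p : ℕ} [Fact p.Prime]

theorem le_centralizer_sigmaCore (hG : IsMinSimpleOddOrder G) (hM : IsCoatom M) (hAM : A ≤ M)
    (hAe : IsElementaryAbelian p A) (hA2 : Nat.card A = p ^ 2) (hσ : p ∉ sigma M)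
    (h : ∀ A₀ : Subgroup G, A₀ ≤ A → Nat.card A₀ = p → ∃ H : Subgroup G, IsCoatom H ∧ H ≠ M ∧
      Subgroup.normalizer (A₀ : Set G) ≤ H ∧
      A ≤ Subgroup.centralizer ((sigmaCore M ⊓ H : Subgroup G) : Set G)) :
    A ≤ Subgroup.centralizer ((sigmaCore M : Subgroup G) : Set G) := by
  have hp : p.Prime := Fact.out
  obtain ⟨hcomm, hexp⟩ := hAe
  have hAc : ∀ a ∈ A, ∀ b ∈ A, a * b = b * a := by
    intro a ha b hb
    have := hcomm.is_comm.comm ⟨a, ha⟩ ⟨b, hb⟩
    exact congrArg Subtype.val this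
  -- `p ∤ |M_σ|`
  have hcop : (Nat.card (sigmaCore M)).Coprime p := by
    rw [Nat.coprime_comm]
    apply (Nat.Prime.coprime_iff_not_dvd hp).mpr
    intro hdvd
    exact hσ (Cfsg.Agent.Lib.Helper71.BG11.sigmaCore_pi hG hM hp hdvd)
  have hAN : A ≤ Subgroup.normalizer ((sigmaCore M : Subgroup G) : Set G) :=
    hAM.trans (Cfsg.Agent.Lib.Helper71.BG11.le_normalizer_sigmaCore M)
  have hAH : A ≤ Subgroup.centralizer (A : Set G) := by
    intro a ha
    rw [Subgroup.mem_centralizer_iff]
    intro b hb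
    exact hAc b hb a ha
  have key : sigmaCore M ≤ Subgroup.centralizer (A : Set G) := by
    apply Cfsg.Agent.Lib.Helper55.le_of_centralizers_le (p := p) hAc hexp (le_of_eq hA2.symm) hcop
      hAN hAH
    intro a ha ha1
    -- `A₀ := ⟨a⟩` has order `p`
    have hord : orderOf a = p := by
      have h1 : orderOf a ∣ p := orderOf_dvd_of_pow_eq_one (hexp a ha)
      rcases (Nat.dvd_prime hp).mp h1 with h2 | h2
      · exact absurd (orderOf_eq_one_iff.mp h2) ha1
      · exact h2
    have hle : Subgroup.zpowers a ≤ A := by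
      rw [Subgroup.zpowers_le]; exact ha
    have hcard : Nat.card (Subgroup.zpowers a) = p := by
      rw [Nat.card_zpowers, hord]
    obtain ⟨H, -, -, hNH, hAH'⟩ := h (Subgroup.zpowers a) hle hcard
    intro x hx
    have hxσ : x ∈ sigmaCore M := hx.1
    have hxc : x ∈ Subgroup.centralizer ({a} : Set G) := hx.2
    have hxN : x ∈ Subgroup.normalizer ((Subgroup.zpowers a : Subgroup G) : Set G) := by
      apply Subgroup.centralizer_le_normalizer
      rw [Subgroup.mem_centralizer_iff]
      intro y hy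
      obtain ⟨k, rfl⟩ := Subgroup.mem_zpowers_iff.mp hy
      have hxa : a * x = x * a := by
        rw [Subgroup.mem_centralizer_iff] at hxc
        exact hxc a rfl
      exact (Commute.zpow_left hxa k).eq
    have hxH : x ∈ sigmaCore M ⊓ H := ⟨hxσ, hNH hxN⟩
    rw [Subgroup.mem_centralizer_iff]
    intro b hb
    have hb' := hAH' hb
    rw [Subgroup.mem_centralizer_iff] at hb'
    exact (hb' x hxH).symm
  intro a ha
  rw [Subgroup.mem_centralizer_iff]
  intro x hx
  have hx' := key hx
  rw [Subgroup.mem_centralizer_iff] at hx'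
  exact (hx' a ha).symm
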