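import Mathlib

set_option autoImplicit false

namespace Cfsg.Agent.Lib.Helper79

section CyclicExt

variable {G U : Type*} [Group G] [Group U]

/-- pairs `(a, b)` such that conjugation by `b` on values of `f` matches conjugation by `a`
on the arguments in `N`. -/
def conjPairs (N : Subgroup G) [N.Normal] (f : G → U) : Subgroup (G × U) where
  carrier := {p | ∀ n ∈ N, p.2 * f n * p.2⁻¹ = f (p.1 * n * p.1⁻¹)}
  one_mem' := by
    intro n _
    simp
  mul_mem' := by
    rintro ⟨a, b⟩ ⟨a', b'⟩ h h' n hn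
    have h1 := h' n hn
    have hn' : a' * n * a'⁻¹ ∈ N := ‹N.Normal›.conj_mem n hn a'
    have h2 := h (a' * n * a'⁻¹) hn'
    simp only at h1 h2 ⊢
    calc b * b' * f n * (b * b')⁻¹ = b * (b' * f n * b'⁻¹) * b⁻¹ := by group
      _ = b * f (a' * n * a'⁻¹) * b⁻¹ := by rw [h1]
      _ = f (a * (a' * n * a'⁻¹) * a⁻¹) := h2
      _ = f (a * a' * n * (a * a')⁻¹) := by congr 1; group
  inv_mem' := by
    rintro ⟨a, b⟩ h n hn
    have hn' : a⁻¹ * n * a⁻¹⁻¹ ∈ N := ‹N.Normal›.conj_mem n hn a⁻¹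
    have h1 := h (a⁻¹ * n * a⁻¹⁻¹) hn'
    have h2 : a * (a⁻¹ * n * a⁻¹⁻¹) * a⁻¹ = n := by group
    rw [h2] at h1
    change b⁻¹ * f n * b⁻¹⁻¹ = f (a⁻¹ * n * a⁻¹⁻¹)
    rw [← h1]
    group

theorem mem_conjPairs (N : Subgroup G) [N.Normal] (f : G → U) (p : G × U) :
    p ∈ conjPairs N f ↔ ∀ n ∈ N, p.2 * f n * p.2⁻¹ = f (p.1 * n * p.1⁻¹) := Iff.rfl

/-- iterating a conjugation compatibility to integer powers. -/
theorem zpow_conj_compat (N : Subgroup G) [N.Normal] (f : G → U) (g : G) (M : U)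
    (hconj : ∀ n ∈ N, M * f n * M⁻¹ = f (g * n * g⁻¹)) (i : ℤ) :
    ∀ n ∈ N, M ^ i * f n * (M ^ i)⁻¹ = f (g ^ i * n * (g ^ i)⁻¹) := by
  have hmem : ((g, M) : G × U) ∈ conjPairs N f := by
    rw [mem_conjPairs]; exact hconj
  have := (conjPairs N f).zpow_mem hmem i
  rw [mem_conjPairs] at this
  simpa using this

/-- extension of a homomorphism from a normal subgroup with cyclic quotient. -/
theorem exists_hom_extension (N : Subgroup G) [N.Normal] (g : G)
    (hgen : ∀ a : G, ∃ i : ℤ, a * g ^ (-i) ∈ N)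
    (f : G → U) (hfmul : ∀ a ∈ N, ∀ b ∈ N, f (a * b) = f a * f b) (M : U)
    (hconj : ∀ n ∈ N, M * f n * M⁻¹ = f (g * n * g⁻¹))
    (hpow : ∀ k : ℤ, g ^ k ∈ N → f (g ^ k) = M ^ k) :
    ∃ F : G →* U, (∀ n ∈ N, F n = f n) ∧ F g = M := by
  classical
  have hnorm : ∀ (a : G) (n : G), n ∈ N → a * n * a⁻¹ ∈ N := fun a n hn =>
    ‹N.Normal›.conj_mem n hn a
  have hzconj : ∀ (i : ℤ), ∀ n ∈ N, M ^ i * f n * (M ^ i)⁻¹ = f (g ^ i * n * (g ^ i)⁻¹) := by
    intro i
    have hmem : ((g, M) : G × U) ∈ conjPairs N f := by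
      rw [mem_conjPairs]; exact hconj
    have := (conjPairs N f).zpow_mem hmem i
    rw [mem_conjPairs] at this
    simpa using this
  choose idx hidx using hgen
  let F : G → U := fun a => f (a * g ^ (-(idx a))) * M ^ (idx a)
  have hF : ∀ (a n : G) (i : ℤ), n ∈ N → a = n * g ^ i → F a = f n * M ^ i := by
    intro a n i hn ha
    have hn' : a * g ^ (-(idx a)) ∈ N := hidx a
    set j := idx a with hj
    set n' := a * g ^ (-j) with hn'_def
    have h1 : n' = n * g ^ (i - j) := by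
      rw [hn'_def, ha, zpow_sub, zpow_neg]; group
    have h2 : g ^ (i - j) ∈ N := by
      have : g ^ (i - j) = n⁻¹ * n' := by rw [h1]; group
      rw [this]
      exact N.mul_mem (N.inv_mem hn) hn'
    change f n' * M ^ j = f n * M ^ i
    rw [h1, hfmul n hn _ h2, hpow _ h2, mul_assoc, ← zpow_add, sub_add_cancel]
  have hFrep : ∀ a : G, ∃ n ∈ N, ∃ i : ℤ, a = n * g ^ i := by
    intro a
    refine ⟨a * g ^ (-(idx a)), hidx a, idx a, ?_⟩
    rw [zpow_neg]; group
  have hFmul : ∀ a b : G, F (a * b) = F a * F b := by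
    intro a b
    obtain ⟨n, hn, i, ha⟩ := hFrep a
    obtain ⟨n', hn', j, hb⟩ := hFrep b
    have hc : g ^ i * n' * (g ^ i)⁻¹ ∈ N := hnorm _ _ hn'
    have hab : a * b = (n * (g ^ i * n' * (g ^ i)⁻¹)) * g ^ (i + j) := by
      rw [ha, hb, zpow_add]; group
    rw [hF (a * b) _ (i + j) (N.mul_mem hn hc) hab, hF a n i hn ha, hF b n' j hn' hb,
      hfmul n hn _ hc, ← hzconj i n' hn', zpow_add]
    group
  refine ⟨MonoidHom.mk' F hFmul, ?_, ?_⟩
  · intro n hn
    change F n = f n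
    rw [hF n n 0 hn (by simp)]
    simp
  · change F g = M
    have h1 : f 1 = 1 := by
      have := hfmul 1 N.one_mem 1 N.one_mem
      rw [mul_one] at this
      have h' : f 1 * 1 = f 1 * f 1 := by rw [mul_one]; exact this
      exact (mul_left_cancel h').symm
    rw [hF g 1 1 N.one_mem (by simp), h1]
    simp

end CyclicExt

end Cfsg.Agent.Lib.Helper79
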