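import Mathlib
import Cfsg.Prelude.Def_Characters
import Cfsg.Agent.Lib.Helper84.Schur

set_option autoImplicit false
set_option linter.style.haveILetI false
set_option linter.unusedSectionVars false

namespace Cfsg.Agent.Lib.Helper79

open Matrix

section RepMat

variable {G : Type*} [Group G] {n : ℕ} (ρ : Representation ℂ G (Fin n → ℂ))

/-- the matrix of `ρ g`. -/
noncomputable def repMat (g : G) : Matrix (Fin n) (Fin n) ℂ := LinearMap.toMatrix' (ρ g)

theorem repMat_mul (g h : G) : repMat ρ (g * h) = repMat ρ g * repMat ρ h := by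
  unfold repMat
  rw [map_mul, LinearMap.toMatrix'_mul]

theorem repMat_one : repMat ρ 1 = 1 := by
  unfold repMat
  rw [map_one, LinearMap.toMatrix'_one]

theorem repMat_mul_inv (g : G) : repMat ρ g * repMat ρ g⁻¹ = 1 := by
  rw [← repMat_mul, mul_inv_cancel, repMat_one]

theorem repMat_inv_mul (g : G) : repMat ρ g⁻¹ * repMat ρ g = 1 := by
  rw [← repMat_mul, inv_mul_cancel, repMat_one]

theorem trace_repMat (g : G) : (repMat ρ g).trace = ρ.character g := by
  unfold repMat Representation.character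
  rw [LinearMap.trace_eq_matrix_trace ℂ (Pi.basisFun ℂ (Fin n)), LinearMap.toMatrix_eq_toMatrix']

/-- Schur's lemma in matrix form. -/
theorem matrix_schur [ρ.IsIrreducible] (A : Matrix (Fin n) (Fin n) ℂ)
    (hA : ∀ g, A * repMat ρ g = repMat ρ g * A) :
    A = (A.trace / (n : ℂ)) • (1 : Matrix (Fin n) (Fin n) ℂ) := by
  have h := Cfsg.Agent.Lib.Helper84.schur_scalar ρ (Matrix.toLin' A) (by
    intro g
    apply LinearMap.toMatrix'.injective
    rw [LinearMap.toMatrix'_comp, LinearMap.toMatrix'_comp, LinearMap.toMatrix'_toLin']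
    exact hA g)
  have htr : LinearMap.trace ℂ (Fin n → ℂ) (Matrix.toLin' A) = A.trace := by
    rw [LinearMap.trace_eq_matrix_trace ℂ (Pi.basisFun ℂ (Fin n)), LinearMap.toMatrix_eq_toMatrix',
      LinearMap.toMatrix'_toLin']
  have hfr : Module.finrank ℂ (Fin n → ℂ) = n := by simp
  rw [htr, hfr] at h
  have h2 := congrArg LinearMap.toMatrix' h
  rw [LinearMap.toMatrix'_toLin'] at h2
  calc A = LinearMap.toMatrix' ((A.trace / (n : ℂ)) • (LinearMap.id : (Fin n → ℂ) →ₗ[ℂ] (Fin n → ℂ))) := h2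
    _ = (A.trace / (n : ℂ)) • (1 : Matrix (Fin n) (Fin n) ℂ) := by
      rw [map_smul, LinearMap.toMatrix'_id]

theorem card_ne_zero_of_irr [ρ.IsIrreducible] : (n : ℂ) ≠ 0 := by
  have := Cfsg.Agent.Lib.Helper84.irr_finrank_pos ρ
  have hfr : Module.finrank ℂ (Fin n → ℂ) = n := by simp
  rw [hfr] at this
  exact_mod_cast this.ne'

end RepMat


section Avg

variable {G : Type*} [Group G] [Fintype G] {n : ℕ} (ρ : Representation ℂ G (Fin n → ℂ))

/-- matrix-coefficient orthogonality: `∑_u X(u⁻¹) Z X(u)` is scalar. -/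
theorem sum_conj_eq_smul_one [ρ.IsIrreducible] (Z : Matrix (Fin n) (Fin n) ℂ) :
    ∑ u : G, repMat ρ u⁻¹ * Z * repMat ρ u =
      (((Fintype.card G : ℂ) * Z.trace) / (n : ℂ)) • (1 : Matrix (Fin n) (Fin n) ℂ) := by
  have hcomm : ∀ g, (∑ u : G, repMat ρ u⁻¹ * Z * repMat ρ u) * repMat ρ g =
      repMat ρ g * (∑ u : G, repMat ρ u⁻¹ * Z * repMat ρ u) := by
    intro g
    rw [Finset.sum_mul, Finset.mul_sum]
    rw [← Equiv.sum_comp (Equiv.mulRight g)
      (fun u => repMat ρ g * (repMat ρ u⁻¹ * Z * repMat ρ u))]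
    refine Finset.sum_congr rfl fun u _ => ?_
    simp only [Equiv.coe_mulRight, _root_.mul_inv_rev, repMat_mul]
    simp only [Matrix.mul_assoc]
    rw [← Matrix.mul_assoc (repMat ρ g) (repMat ρ g⁻¹), repMat_mul_inv, Matrix.one_mul]
  have h := matrix_schur ρ _ hcomm
  have htr : (∑ u : G, repMat ρ u⁻¹ * Z * repMat ρ u).trace = (Fintype.card G : ℂ) * Z.trace := by
    rw [Matrix.trace_sum]
    have : ∀ u : G, (repMat ρ u⁻¹ * Z * repMat ρ u).trace = Z.trace := by
      intro u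
      rw [Matrix.trace_mul_comm, ← Matrix.mul_assoc, repMat_mul_inv, Matrix.one_mul]
    simp only [this, Finset.sum_const, Finset.card_univ, nsmul_eq_mul]
  rw [htr] at h
  exact h

/-- averaging `X(u)ᵀ A X(u)` against an invertible invariant form `W`. -/
theorem sum_transpose_mul_mul [ρ.IsIrreducible] (W W' : Matrix (Fin n) (Fin n) ℂ)
    (hW : W * W' = 1) (hinv : ∀ g, (repMat ρ g)ᵀ * W * repMat ρ g = W)
    (A : Matrix (Fin n) (Fin n) ℂ) :
    ∑ u : G, (repMat ρ u)ᵀ * A * repMat ρ u =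
      (((Fintype.card G : ℂ) * (W' * A).trace) / (n : ℂ)) • W := by
  have h1 : ∀ u : G, (repMat ρ u)ᵀ = W * repMat ρ u⁻¹ * W' := by
    intro u
    calc (repMat ρ u)ᵀ = (repMat ρ u)ᵀ * (W * W') := by rw [hW, Matrix.mul_one]
      _ = (repMat ρ u)ᵀ * W * (repMat ρ u * repMat ρ u⁻¹) * W' := by
        rw [repMat_mul_inv, Matrix.mul_one, Matrix.mul_assoc]
      _ = ((repMat ρ u)ᵀ * W * repMat ρ u) * repMat ρ u⁻¹ * W' := by
        simp only [Matrix.mul_assoc]
      _ = W * repMat ρ u⁻¹ * W' := by rw [hinv]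
  have h2 : ∑ u : G, (repMat ρ u)ᵀ * A * repMat ρ u =
      W * ∑ u : G, repMat ρ u⁻¹ * (W' * A) * repMat ρ u := by
    rw [Finset.mul_sum]
    refine Finset.sum_congr rfl fun u _ => ?_
    rw [h1 u]
    simp only [Matrix.mul_assoc]
  rw [h2, sum_conj_eq_smul_one, Matrix.mul_smul, Matrix.mul_one]


omit [Fintype G] in
theorem trace_mul_self_eq (P : Matrix (Fin n) (Fin n) ℂ) :
    (P * P).trace = ∑ i, ∑ j, (Pᵀ * Matrix.single i j (1 : ℂ) * P : Matrix (Fin n) (Fin n) ℂ) j i := by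
  have h : ∀ i j : Fin n,
      (Pᵀ * Matrix.single i j (1 : ℂ) * P : Matrix (Fin n) (Fin n) ℂ) j i = P i j * P j i := by
    intro i j
    rw [Matrix.mul_apply, Finset.sum_eq_single j]
    · rw [Matrix.mul_single_apply_same, Matrix.transpose_apply, mul_one]
    · intro l _ hl
      rw [Matrix.mul_single_apply_of_ne (hbj := hl), zero_mul]
    · intro h; exact absurd (Finset.mem_univ j) h
  simp_rw [h]
  rw [Matrix.trace]
  refine Finset.sum_congr rfl fun i _ => ?_
  rw [Matrix.diag_apply, Matrix.mul_apply]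

theorem sum_trace_sq [ρ.IsIrreducible] (W W' : Matrix (Fin n) (Fin n) ℂ)
    (hW : W * W' = 1) (hW' : W' * W = 1)
    (hinv : ∀ g, (repMat ρ g)ᵀ * W * repMat ρ g = W) (ε : ℂ) (hε : Wᵀ = ε • W) :
    ∑ u : G, (repMat ρ u * repMat ρ u).trace = (Fintype.card G : ℂ) * ε := by
  have hn := card_ne_zero_of_irr ρ
  simp_rw [trace_mul_self_eq]
  rw [Finset.sum_comm]
  have h1 : ∀ i : Fin n, ∑ u : G, ∑ j, ((repMat ρ u)ᵀ * Matrix.single i j (1 : ℂ) * repMat ρ u : Matrix (Fin n) (Fin n) ℂ) j i =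
      ∑ j, ((Fintype.card G : ℂ) / (n : ℂ)) * (W' j i * Wᵀ i j) := by
    intro i
    rw [Finset.sum_comm]
    refine Finset.sum_congr rfl fun j _ => ?_
    have := sum_transpose_mul_mul ρ W W' hW hinv (Matrix.single i j (1 : ℂ))
    have h2 := congrFun (congrFun this j) i
    rw [Matrix.sum_apply] at h2
    rw [h2, Matrix.smul_apply, Matrix.trace_mul_single, Matrix.transpose_apply]
    simp only [MulOpposite.op_one, one_smul, smul_eq_mul]
    ring
  simp_rw [h1]
  rw [Finset.sum_comm]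
  simp_rw [← Finset.mul_sum]
  have h3 : ∑ j, ∑ i, W' j i * Wᵀ i j = (W' * Wᵀ).trace := by
    rw [Matrix.trace]
    refine Finset.sum_congr rfl fun j _ => ?_
    rw [Matrix.diag_apply, Matrix.mul_apply]
  rw [h3, hε, Matrix.mul_smul, hW', Matrix.trace_smul, Matrix.trace_one]
  simp only [Fintype.card_fin, smul_eq_mul]
  field_simp

end Avg

end Cfsg.Agent.Lib.Helper79
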