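import Mathlib
import Cfsg.Prelude.Def_Characters
import Cfsg.Agent.Lib.Helper05.CharEquiv
import Cfsg.Agent.Lib.Helper79.InvForm
import Cfsg.Agent.Lib.Helper79.CyclicExt

set_option autoImplicit false
set_option linter.style.haveILetI false
set_option linter.unusedSectionVars false

namespace Cfsg.Agent.Lib.Helper79

open Matrix

section Intertwiner

variable {N : Type*} [Group N] [Finite N] {d : ℕ} (ρ : Representation ℂ N (Fin d → ℂ))

/-- if twisting by an automorphism preserves the character, there is an intertwining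
invertible matrix. -/
theorem exists_intertwiner (c : N →* N)
    (hinv : ∀ n : N, ρ.character (c n) = ρ.character n) :
    ∃ M M' : Matrix (Fin d) (Fin d) ℂ, M * M' = 1 ∧ M' * M = 1 ∧
      ∀ n : N, M * repMat ρ n * M' = repMat ρ (c n) := by
  let ρ' : Representation ℂ N (Fin d → ℂ) := MonoidHom.comp ρ c
  have hρ' : ∀ n, ρ' n = ρ (c n) := fun _ => rfl
  have hchar : ρ.character = ρ'.character := by
    ext n
    exact (hinv n).symm
  obtain ⟨φ⟩ := Cfsg.Agent.Lib.Helper05.nonempty_equiv_of_char_eq _ ρ _ ρ' hchar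
  let e : (Fin d → ℂ) ≃ₗ[ℂ] (Fin d → ℂ) := φ.toLinearEquiv
  let M := LinearMap.toMatrix' (e : (Fin d → ℂ) →ₗ[ℂ] (Fin d → ℂ))
  let M' := LinearMap.toMatrix' (e.symm : (Fin d → ℂ) →ₗ[ℂ] (Fin d → ℂ))
  have h1 : M * M' = 1 := by
    rw [← LinearMap.toMatrix'_comp, LinearEquiv.comp_symm, LinearMap.toMatrix'_id]
  have h2 : M' * M = 1 := by
    rw [← LinearMap.toMatrix'_comp, LinearEquiv.symm_comp, LinearMap.toMatrix'_id]
  refine ⟨M, M', h1, h2, fun n => ?_⟩
  have h3 : M * repMat ρ n = repMat ρ (c n) * M := by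
    unfold repMat
    rw [← LinearMap.toMatrix'_comp, ← LinearMap.toMatrix'_comp]
    congr 1
    exact φ.toIntertwiningMap.isIntertwining' n
  rw [h3, Matrix.mul_assoc, h1, Matrix.mul_one]

end Intertwiner

section Main

variable {G : Type*} [Group G] [Finite G] (N : Subgroup G) [hN : N.Normal] {d : ℕ}
  (ρ : Representation ℂ N (Fin d → ℂ))

/-- the matrix homomorphism of a representation. -/
noncomputable def repMatHom {H : Type*} [Group H] {d : ℕ} (ρ : Representation ℂ H (Fin d → ℂ)) :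
    H →* Matrix (Fin d) (Fin d) ℂ where
  toFun := repMat ρ
  map_one' := repMat_one ρ
  map_mul' := repMat_mul ρ

theorem exists_matrix_extension [ρ.IsIrreducible] (hcyc : IsCyclic (G ⧸ N))
    (hinv : ∀ (g : G) (n : N), ρ.character (MulAut.conjNormal g n) = ρ.character n) :
    ∃ F : G →* (Matrix (Fin d) (Fin d) ℂ)ˣ,
      ∀ n : N, ((F n : (Matrix (Fin d) (Fin d) ℂ)ˣ) : Matrix (Fin d) (Fin d) ℂ) = repMat ρ n := by
  classical
  obtain ⟨q, hq⟩ := hcyc.exists_generator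
  obtain ⟨g, rfl⟩ := QuotientGroup.mk_surjective q
  have hgen : ∀ a : G, ∃ i : ℤ, a * g ^ (-i) ∈ N := by
    intro a
    obtain ⟨i, hi⟩ := Subgroup.mem_zpowers_iff.mp (hq (a : G ⧸ N))
    refine ⟨i, ?_⟩
    have h1 : ((g ^ i : G) : G ⧸ N) = (a : G ⧸ N) := by rw [QuotientGroup.mk_zpow]; exact hi
    have h2 : (g ^ i)⁻¹ * a ∈ N := QuotientGroup.eq.mp h1
    have h3 := hN.conj_mem _ h2 (g ^ i)
    have : g ^ i * ((g ^ i)⁻¹ * a) * (g ^ i)⁻¹ = a * g ^ (-i) := by rw [_root_.zpow_neg]; group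
    rwa [this] at h3
  let uHom : N →* (Matrix (Fin d) (Fin d) ℂ)ˣ := (repMatHom ρ).toHomUnits
  have huHom : ∀ n : N, ((uHom n : (Matrix (Fin d) (Fin d) ℂ)ˣ) : Matrix (Fin d) (Fin d) ℂ) =
      repMat ρ n := fun n => rfl
  let f : G → (Matrix (Fin d) (Fin d) ℂ)ˣ := fun a => if h : a ∈ N then uHom ⟨a, h⟩ else 1
  have hf : ∀ a (h : a ∈ N), f a = uHom ⟨a, h⟩ := fun a h => dif_pos h
  have hfmul : ∀ a ∈ N, ∀ b ∈ N, f (a * b) = f a * f b := by
    intro a ha b hb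
    rw [hf a ha, hf b hb, hf (a * b) (N.mul_mem ha hb), ← map_mul]
    rfl
  have hfinv : ∀ a ∈ N, f a⁻¹ = (f a)⁻¹ := by
    intro a ha
    rw [hf a ha, hf a⁻¹ (N.inv_mem ha), ← map_inv]
    rfl
  -- the intertwiner
  obtain ⟨M, M', hMM', hM'M, hint⟩ :=
    exists_intertwiner ρ (MulAut.conjNormal g : MulAut N).toMonoidHom (hinv g)
  let Mu₀ : (Matrix (Fin d) (Fin d) ℂ)ˣ := ⟨M, M', hMM', hM'M⟩
  have hconj₀ : ∀ n ∈ N, Mu₀ * f n * Mu₀⁻¹ = f (g * n * g⁻¹) := by
    intro n hn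
    rw [hf n hn, hf _ (hN.conj_mem n hn g)]
    apply Units.ext
    rw [Units.val_mul, Units.val_mul, huHom, huHom]
    have h1 := hint ⟨n, hn⟩
    have h2 : ((MulAut.conjNormal g : MulAut N).toMonoidHom ⟨n, hn⟩ : N) =
        ⟨g * n * g⁻¹, hN.conj_mem n hn g⟩ := by
      apply Subtype.ext
      exact MulAut.conjNormal_apply g ⟨n, hn⟩
    rw [h2] at h1
    exact h1
  -- the order of g modulo N
  set m := orderOf (g : G ⧸ N) with hm_def
  have hm : 0 < m := orderOf_pos _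
  have hgm : g ^ m ∈ N := by
    rw [← QuotientGroup.eq_one_iff, QuotientGroup.mk_pow, hm_def, pow_orderOf_eq_one]
  have hmem_iff : ∀ k : ℤ, g ^ k ∈ N → (m : ℤ) ∣ k := by
    intro k hk
    rw [hm_def, orderOf_dvd_iff_zpow_eq_one, ← QuotientGroup.mk_zpow]
    exact (QuotientGroup.eq_one_iff _).mpr hk
  -- the Schur scalar
  have hzc := zpow_conj_compat N f g Mu₀ hconj₀ (m : ℤ)
  set C : (Matrix (Fin d) (Fin d) ℂ)ˣ := (f (g ^ m))⁻¹ * Mu₀ ^ m with hC
  have hCcomm : ∀ n ∈ N, C * f n = f n * C := by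
    intro n hn
    have h1 := hzc n hn
    simp only [zpow_natCast] at h1
    have h2 : f (g ^ m * n * (g ^ m)⁻¹) = f (g ^ m) * f n * (f (g ^ m))⁻¹ := by
      rw [hfmul _ (N.mul_mem hgm hn) _ (N.inv_mem hgm), hfmul _ hgm _ hn, hfinv _ hgm]
    rw [h2] at h1
    have h3 : Mu₀ ^ m * f n = f (g ^ m) * f n * (f (g ^ m))⁻¹ * Mu₀ ^ m := by
      rw [← h1]; group
    rw [hC, mul_assoc, h3]
    group
  have hCmat : ∀ n : N, (C : Matrix (Fin d) (Fin d) ℂ) * repMat ρ n =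
      repMat ρ n * (C : Matrix (Fin d) (Fin d) ℂ) := by
    intro n
    have h1 := hCcomm n n.2
    rw [hf n n.2] at h1
    have h2 := congrArg Units.val h1
    rw [Units.val_mul, Units.val_mul, huHom] at h2
    exact h2
  have hschur := matrix_schur ρ (C : Matrix (Fin d) (Fin d) ℂ) hCmat
  set lam : ℂ := (C : Matrix (Fin d) (Fin d) ℂ).trace / (d : ℂ) with hlam
  have hd : (d : ℂ) ≠ 0 := card_ne_zero_of_irr ρ
  have hlam0 : lam ≠ 0 := by
    intro h0
    rw [h0, zero_smul] at hschur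
    have h1 : (C : Matrix (Fin d) (Fin d) ℂ) * ((C⁻¹ : (Matrix (Fin d) (Fin d) ℂ)ˣ) :
        Matrix (Fin d) (Fin d) ℂ) = 1 := by
      rw [← Units.val_mul, mul_inv_cancel, Units.val_one]
    rw [hschur, Matrix.zero_mul] at h1
    have h2 := congrArg Matrix.trace h1
    rw [Matrix.trace_zero, Matrix.trace_one, Fintype.card_fin] at h2
    exact hd h2.symm
  obtain ⟨μ, hμ⟩ := IsAlgClosed.exists_pow_nat_eq (lam⁻¹ : ℂ) hm
  have hμ0 : μ ≠ 0 := by
    intro h0
    rw [h0, zero_pow hm.ne'] at hμ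
    exact (inv_ne_zero hlam0) hμ.symm
  let S : (Matrix (Fin d) (Fin d) ℂ)ˣ :=
    ⟨μ • (1 : Matrix (Fin d) (Fin d) ℂ), μ⁻¹ • (1 : Matrix (Fin d) (Fin d) ℂ),
      by rw [Matrix.smul_mul, Matrix.mul_smul, Matrix.one_mul, smul_smul, mul_inv_cancel₀ hμ0,
        one_smul],
      by rw [Matrix.smul_mul, Matrix.mul_smul, Matrix.one_mul, smul_smul, inv_mul_cancel₀ hμ0,
        one_smul]⟩
  have hSval : (S : Matrix (Fin d) (Fin d) ℂ) = μ • (1 : Matrix (Fin d) (Fin d) ℂ) := rfl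
  have hScomm : ∀ u : (Matrix (Fin d) (Fin d) ℂ)ˣ, S * u = u * S := by
    intro u
    apply Units.ext
    rw [Units.val_mul, Units.val_mul, hSval, Matrix.smul_mul, Matrix.mul_smul, Matrix.one_mul,
      Matrix.mul_one]
  set Mu : (Matrix (Fin d) (Fin d) ℂ)ˣ := S * Mu₀ with hMu
  have hconj : ∀ n ∈ N, Mu * f n * Mu⁻¹ = f (g * n * g⁻¹) := by
    intro n hn
    rw [← hconj₀ n hn, hMu, _root_.mul_inv_rev]
    calc S * Mu₀ * f n * (Mu₀⁻¹ * S⁻¹) = S * (Mu₀ * f n * Mu₀⁻¹) * S⁻¹ := by group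
      _ = (Mu₀ * f n * Mu₀⁻¹) * S * S⁻¹ := by rw [hScomm]
      _ = Mu₀ * f n * Mu₀⁻¹ := by group
  have hSpow : ((S ^ m : (Matrix (Fin d) (Fin d) ℂ)ˣ) : Matrix (Fin d) (Fin d) ℂ) =
      lam⁻¹ • (1 : Matrix (Fin d) (Fin d) ℂ) := by
    rw [Units.val_pow_eq_pow_val, hSval, smul_pow, one_pow, hμ]
  have hMupow : Mu ^ m = f (g ^ m) := by
    have h1 : Mu ^ m = S ^ m * Mu₀ ^ m := by
      rw [hMu]
      exact (show Commute S Mu₀ from hScomm Mu₀).mul_pow m
    have h2 : Mu₀ ^ m = f (g ^ m) * C := by rw [hC]; group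
    have h3 : S ^ m * C = 1 := by
      apply Units.ext
      rw [Units.val_mul, hSpow, hschur, Units.val_one, Matrix.smul_mul, Matrix.mul_smul,
        Matrix.one_mul, smul_smul, inv_mul_cancel₀ hlam0, one_smul]
    have h4 : S ^ m * f (g ^ m) = f (g ^ m) * S ^ m :=
      ((show Commute S (f (g ^ m)) from hScomm _).pow_left m).eq
    rw [h1, h2, ← mul_assoc, h4, mul_assoc, h3, mul_one]
  have hpow : ∀ k : ℤ, g ^ k ∈ N → f (g ^ k) = Mu ^ k := by
    intro k hk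
    obtain ⟨t, rfl⟩ := hmem_iff k hk
    rw [_root_.zpow_mul, _root_.zpow_mul, zpow_natCast, zpow_natCast, hMupow, hf _ hgm]
    have h1 : ((g ^ m) ^ t) ∈ N := N.zpow_mem hgm t
    rw [hf _ h1, ← map_zpow]
    rfl
  obtain ⟨F, hFN, -⟩ := exists_hom_extension N g hgen f hfmul Mu hconj hpow
  refine ⟨F, fun n => ?_⟩
  rw [hFN n n.2, hf n n.2, huHom]

/-- an invariant irreducible representation of a normal subgroup with cyclic quotient extends
to an irreducible representation of the whole group. -/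
theorem exists_irreducible_extension [ρ.IsIrreducible] (hcyc : IsCyclic (G ⧸ N))
    (hinv : ∀ (g : G) (n : N), ρ.character (MulAut.conjNormal g n) = ρ.character n) :
    ∃ σ : Representation ℂ G (Fin d → ℂ), σ.IsIrreducible ∧ ∀ n : N, σ (n : G) = ρ n := by
  obtain ⟨F, hF⟩ := exists_matrix_extension N ρ hcyc hinv
  let σ : Representation ℂ G (Fin d → ℂ) :=
    { toFun := fun a => Matrix.toLin' ((F a : (Matrix (Fin d) (Fin d) ℂ)ˣ) :
        Matrix (Fin d) (Fin d) ℂ)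
      map_one' := by rw [map_one, Units.val_one, Matrix.toLin'_one]; rfl
      map_mul' := fun a b => by rw [map_mul, Units.val_mul, Matrix.toLin'_mul]; rfl }
  have hσ : ∀ n : N, σ (n : G) = ρ n := by
    intro n
    change Matrix.toLin' ((F n : (Matrix (Fin d) (Fin d) ℂ)ˣ) : Matrix (Fin d) (Fin d) ℂ) = ρ n
    rw [hF n]
    unfold repMat
    rw [Matrix.toLin'_toMatrix']
  refine ⟨σ, ?_, hσ⟩
  have h1 := (Cfsg.Agent.Lib.Helper05.isIrreducible_iff ρ).mp inferInstance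
  rw [Cfsg.Agent.Lib.Helper05.isIrreducible_iff]
  refine ⟨h1.1, fun W hW => h1.2 W (fun n v hv => ?_)⟩
  rw [← hσ n]
  exact hW (n : G) v hv

end Main

end Cfsg.Agent.Lib.Helper79
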