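import Mathlib
import Cfsg.Prelude.Def_Characters
import Cfsg.Prelude.Def_Blocks
import Cfsg.Agent.Lib.Helper85.Clifford
import Cfsg.Agent.Lib.Helper85.CliffordAbelian
import Cfsg.Agent.Lib.Helper85.CliffordCorr
import Cfsg.Agent.Lib.Helper83.Quotient
import Cfsg.Agent.Lib.Helper83.Abelian
import Cfsg.Agent.Lib.Helper83.SecondOrth
import Cfsg.Agent.Lib.Helper13.MinNormal
import Cfsg.Agent.Lib.Helper13.MinNormalSolvable

set_option autoImplicit false
set_option linter.style.haveILetI false
set_option linter.unusedSectionVars false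

namespace Cfsg.Agent.Lib.Helper79

open scoped ComplexConjugate
open Cfsg

section Sub

universe u
variable {G : Type u} [Group G] [Finite G]

/-- the degree hypothesis passes to quotients. -/
theorem degree_hyp_quotient (p : ℕ) (N : Subgroup G) [N.Normal]
    (h : ∀ χ : IrrCharacter G, ¬ p ∣ charDegree (χ : G → ℂ)) :
    ∀ ψ : IrrCharacter (G ⧸ N), ¬ p ∣ charDegree (ψ : G ⧸ N → ℂ) := by
  intro ψ
  have h1 := h (Cfsg.Agent.Lib.Helper83.irrInflate N ψ).1
  have h2 : charDegree (((Cfsg.Agent.Lib.Helper83.irrInflate N ψ).1 : IrrCharacter G) : G → ℂ) =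
      charDegree (ψ : G ⧸ N → ℂ) := by
    unfold charDegree
    rw [Cfsg.Agent.Lib.Helper83.irrInflate_apply, QuotientGroup.mk_one]
  rwa [h2] at h1

/-- an irreducible character of `G` over a given irreducible character of a normal subgroup,
with the Clifford degree formula. -/
theorem exists_irr_over (M : Subgroup G) (hM : M.Normal) (θ : IrrCharacter M)
    [DecidableEq (M → ℂ)] [Fintype G] :
    ∃ χ : IrrCharacter G, ∃ e : ℕ, charDegree (χ : G → ℂ) =
      e * (Finset.univ.image (fun g : G => Cfsg.Agent.Lib.Helper85.conjFun hM (θ : M → ℂ) g)).card *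
        charDegree (θ : M → ℂ) := by
  classical
  haveI : Fintype M := Fintype.ofFinite M
  have hθc : IsCharacter M (θ : M → ℂ) := Cfsg.Agent.Lib.Helper83.IrrCharacter_isCharacter θ
  have hF : IsCharacter G (indFun M (θ : M → ℂ)) :=
    Cfsg.Agent.Lib.Helper34.isCharacter_indFun M hθc
  have hF1 : indFun M (θ : M → ℂ) 1 ≠ 0 := by
    rw [Cfsg.Agent.Lib.Helper85.indFun_apply_one]
    apply mul_ne_zero
    · have : M.index ≠ 0 := Subgroup.index_ne_zero_of_finite
      exact_mod_cast this
    · exact Cfsg.Agent.Lib.Helper83.irr_degree_ne_zero θ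
  obtain ⟨χ, hχ, hne⟩ := Cfsg.Agent.Lib.Helper85.exists_irr_constituent hF hF1
  have hχc : IsCharacter G χ := Cfsg.Agent.Lib.Helper83.isCharacter_of_irr hχ
  have hconst : classInner (fun n : M => χ n) (θ : M → ℂ) ≠ 0 := by
    rw [Cfsg.Agent.Lib.Helper34.classInner_indFun_left M _ _
      (Cfsg.Agent.Lib.Helper83.char_isClassFunction hχc)] at hne
    intro h0
    apply hne
    rw [← Cfsg.Agent.Lib.Helper34.classInner_conj_symm, h0, map_zero]
  have hcl := Cfsg.Agent.Lib.Helper85.clifford_finset hM hχ θ.2 hconst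
  obtain ⟨e, he⟩ := Cfsg.Agent.Lib.Helper83.classInner_char_nat
    (Cfsg.Agent.Lib.Helper83.isCharacter_restrict M hχc) hθc
  refine ⟨⟨χ, hχ⟩, e, ?_⟩
  have h1 := congrFun hcl 1
  rw [he] at h1
  simp only [Pi.smul_apply, Finset.sum_apply, smul_eq_mul] at h1
  have h2 : ∀ ψ ∈ Finset.univ.image (fun g : G => Cfsg.Agent.Lib.Helper85.conjFun hM (θ : M → ℂ) g),
      ψ 1 = (θ : M → ℂ) 1 := by
    intro ψ hψ
    obtain ⟨g, -, rfl⟩ := Finset.mem_image.mp hψ
    rw [Cfsg.Agent.Lib.Helper85.conjFun_apply]
    have : (⟨g * ((1 : M) : G) * g⁻¹, hM.conj_mem _ (1 : M).2 g⟩ : M) = 1 := by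
      apply Subtype.ext
      simp
    rw [this]
  rw [Finset.sum_congr rfl h2, Finset.sum_const, nsmul_eq_mul] at h1
  have h3 : ((charDegree χ : ℕ) : ℂ) = χ 1 := Cfsg.Agent.Lib.Helper83.charDegree_cast hχc
  have h4 : ((charDegree (θ : M → ℂ) : ℕ) : ℂ) = (θ : M → ℂ) 1 :=
    Cfsg.Agent.Lib.Helper83.charDegree_cast hθc
  have h5 : ((charDegree χ : ℕ) : ℂ) = ((e *
      (Finset.univ.image (fun g : G => Cfsg.Agent.Lib.Helper85.conjFun hM (θ : M → ℂ) g)).card *
        charDegree (θ : M → ℂ) : ℕ) : ℂ) := by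
    push_cast
    rw [h3, h4]
    have : χ ((1 : M) : G) = χ 1 := rfl
    rw [← this, h1]
    ring
  exact_mod_cast h5

/-- a finite group all of whose irreducible characters are linear is commutative. -/
theorem comm_of_all_linear {M : Type u} [Group M] [Finite M]
    (h : ∀ θ : IrrCharacter M, charDegree (θ : M → ℂ) = 1) : ∀ a b : M, a * b = b * a := by
  classical
  haveI : Fintype M := Fintype.ofFinite M
  haveI : Fintype (IrrCharacter M) := Fintype.ofFinite _
  have h1 := Cfsg.Agent.Lib.Helper83.sum_charDegree_sq (G := M)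
  simp only [h, one_pow, Finset.sum_const, Finset.card_univ, smul_eq_mul, mul_one] at h1
  have h2 := Cfsg.Agent.Lib.Helper83.card_irr_eq_card_conjClasses (G := M)
  rw [Nat.card_eq_fintype_card, h1] at h2
  have h3 : commProb M = 1 := by
    rw [commProb_def', ← h2]
    have : (Nat.card M : ℚ) ≠ 0 := by
      have : Nat.card M ≠ 0 := Nat.card_pos.ne'
      exact_mod_cast this
    field_simp
  have h4 := (commProb_eq_one_iff (M := M)).mp h3
  intro a b
  exact h4.is_comm.comm a b

/-- `p`-elements lie in a normal subgroup of index prime to `p`. -/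
theorem mem_of_pow_eq_one {M : Type u} [Group M] [Finite M] (p : ℕ) [Fact p.Prime]
    (P : Subgroup M) [P.Normal] (hidx : ¬ p ∣ P.index) (x : M) (k : ℕ)
    (hx : x ^ (p ^ k) = 1) : x ∈ P := by
  rw [← QuotientGroup.eq_one_iff]
  have h1 : (QuotientGroup.mk x : M ⧸ P) ^ (p ^ k) = 1 := by
    rw [← QuotientGroup.mk_pow, hx, QuotientGroup.mk_one]
  have h2 : orderOf (QuotientGroup.mk x : M ⧸ P) ∣ p ^ k := orderOf_dvd_of_pow_eq_one h1
  have h3 : orderOf (QuotientGroup.mk x : M ⧸ P) ∣ P.index := by
    rw [Subgroup.index_eq_card]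
    exact orderOf_dvd_natCard _
  have hcop : Nat.Coprime (p ^ k) P.index :=
    Nat.Coprime.pow_left k ((Nat.Prime.coprime_iff_not_dvd (Fact.out)).mpr hidx)
  have h4 : orderOf (QuotientGroup.mk x : M ⧸ P) = 1 :=
    Nat.eq_one_of_dvd_coprimes hcop h2 h3
  exact orderOf_eq_one_iff.mp h4

/-- irreducible characters of a commutative group separate points. -/
theorem eq_of_forall_irr_eq {N : Type u} [Group N] [Finite N] (hab : ∀ a b : N, a * b = b * a)
    (a b : N) (h : ∀ θ : IrrCharacter N, (θ : N → ℂ) a = (θ : N → ℂ) b) : a = b := by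
  classical
  haveI : Fintype N := Fintype.ofFinite N
  haveI : Fintype (IrrCharacter N) := Fintype.ofFinite _
  have h1 := Cfsg.Agent.Lib.Helper83.second_orthogonality a b
  have h2 := Cfsg.Agent.Lib.Helper83.second_orthogonality b b
  rw [if_pos (IsConj.refl b)] at h2
  simp_rw [h] at h1
  rw [h2] at h1
  by_cases hc : IsConj a b
  · rw [isConj_iff] at hc
    obtain ⟨c, hc⟩ := hc
    rw [← hc, hab c a, mul_assoc, mul_inv_cancel, mul_one]
  · rw [if_neg hc] at h1
    exfalso
    have : Nat.card (Subgroup.centralizer ({b} : Set N)) ≠ 0 := Nat.card_pos.ne'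
    exact this (by exact_mod_cast h1)

end Sub

section Main

universe u

/-- in a central-by-(abelian `p`-group) extension with `p'` kernel, `p`-elements are central. -/
theorem conj_eq_of_central_kernel {G : Type u} [Group G] [Finite G] (p q : ℕ) [Fact p.Prime]
    (hq : q.Prime) (hqp : q ≠ p) (N : Subgroup G) [N.Normal] (hqN : IsPGroup q N)
    (hcen : ∀ n ∈ N, ∀ g : G, g * n = n * g)
    (hQab : ∀ a b : G ⧸ N, a * b = b * a) (y : G) (k : ℕ) (hy : y ^ (p ^ k) = 1) (g : G) :
    g * y * g⁻¹ = y := by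
  set z := g * y * g⁻¹ * y⁻¹ with hz
  have hzN : z ∈ N := by
    rw [← QuotientGroup.eq_one_iff]
    have h1 : (QuotientGroup.mk z : G ⧸ N) =
        (QuotientGroup.mk g : G ⧸ N) * QuotientGroup.mk y * (QuotientGroup.mk g)⁻¹ *
          (QuotientGroup.mk y)⁻¹ := by
      rw [hz]; simp
    rw [h1, hQab (QuotientGroup.mk g) (QuotientGroup.mk y)]
    group
  have hconj : g * y * g⁻¹ = z * y := by rw [hz]; group
  have hzc : Commute z y := (hcen z hzN y).symm
  have h1 : (z * y) ^ (p ^ k) = 1 := by
    rw [← hconj]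
    have : (g * y * g⁻¹) ^ (p ^ k) = g * y ^ (p ^ k) * g⁻¹ := by
      rw [conj_pow]
    rw [this, hy, mul_one, mul_inv_cancel]
  rw [hzc.mul_pow, hy, mul_one] at h1
  obtain ⟨b, hb⟩ := hqN ⟨z, hzN⟩
  have hb' : z ^ (q ^ b) = 1 := by
    have := congrArg Subtype.val hb
    simpa using this
  have ho1 : orderOf z ∣ p ^ k := orderOf_dvd_of_pow_eq_one h1
  have ho2 : orderOf z ∣ q ^ b := orderOf_dvd_of_pow_eq_one hb'
  have hcop : Nat.Coprime (p ^ k) (q ^ b) :=
    Nat.Coprime.pow _ _ ((Nat.coprime_primes (Fact.out) hq).mpr (Ne.symm hqp))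
  have hz1 : z = 1 := orderOf_eq_one_iff.mp (Nat.eq_one_of_dvd_coprimes hcop ho1 ho2)
  rw [hconj, hz1, one_mul]

/-- Itô's theorem for solvable groups, the hard direction. -/
theorem ito_solvable_aux (p : ℕ) [Fact p.Prime] : ∀ n : ℕ, ∀ (G : Type u) [Group G] [Finite G],
    Nat.card G = n → Group.IsSolvable G → (∀ χ : IrrCharacter G, ¬ p ∣ charDegree (χ : G → ℂ)) →
    ∃ P : Subgroup G, P.Normal ∧ (∀ x ∈ P, ∀ y ∈ P, x * y = y * x) ∧ IsPGroup p P ∧
      ¬ p ∣ P.index := by
  intro n
  induction n using Nat.strong_induction_on with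
  | _ n ih =>
  intro G _ _ hcard hsolv hdeg
  haveI := hsolv
  classical
  haveI : Fintype G := Fintype.ofFinite G
  have hp : p.Prime := Fact.out
  by_cases htriv : Subsingleton G
  · refine ⟨⊥, inferInstance, ?_, IsPGroup.of_bot, ?_⟩
    · intro x hx y hy
      rw [Subgroup.mem_bot] at hx hy
      rw [hx, hy]
    · rw [Subgroup.index_bot, Nat.card_unique]
      exact hp.one_lt.ne' ∘ Nat.dvd_one.mp
  rw [not_subsingleton_iff_nontrivial] at htriv
  obtain ⟨N, hNmin⟩ := Cfsg.Agent.Lib.Helper13.exists_isMinNormal (G := G)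
  haveI hNn : N.Normal := hNmin.1
  obtain ⟨q, hq, hqd, hqexp, hqN⟩ := hNmin.exists_prime
  have hNab : ∀ a ∈ N, ∀ b ∈ N, a * b = b * a := fun a ha b hb => hNmin.mul_comm_of_mem ha hb
  have hcardQ : Nat.card (G ⧸ N) < n := by
    rw [← hcard, Subgroup.card_eq_card_quotient_mul_card_subgroup N]
    have h1 : 1 < Nat.card N := (Subgroup.one_lt_card_iff_ne_bot (H := N)).mpr hNmin.2.1
    have h2 : 0 < Nat.card (G ⧸ N) := Nat.card_pos
    nlinarith
  obtain ⟨Pbar, hPn, hPab, hPp, hPidx⟩ :=
    ih _ hcardQ (G ⧸ N) rfl inferInstance (degree_hyp_quotient p N hdeg)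
  set M : Subgroup G := Pbar.comap (QuotientGroup.mk' N) with hM
  haveI hMn : M.Normal := hPn.comap _
  have hMidx : ¬ p ∣ M.index := by
    rw [hM, Subgroup.index_comap_of_surjective _ (QuotientGroup.mk'_surjective N)]
    exact hPidx
  have hdegM : ∀ θ : IrrCharacter M, ¬ p ∣ charDegree (θ : M → ℂ) := by
    intro θ hd
    obtain ⟨χ, e, hχ⟩ := exists_irr_over M hMn θ
    exact hdeg χ (by rw [hχ]; exact Dvd.dvd.mul_left hd _)
  by_cases hqp : q = p
  · -- the minimal normal subgroup is a p-group
    have hMp : IsPGroup p M := by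
      rintro ⟨m, hm⟩
      have hm' : (QuotientGroup.mk' N m) ∈ Pbar := hm
      obtain ⟨a, ha⟩ := hPp ⟨QuotientGroup.mk' N m, hm'⟩
      have ha' : (QuotientGroup.mk' N m) ^ (p ^ a) = 1 := by
        have := congrArg Subtype.val ha
        simpa using this
      have hmN : m ^ (p ^ a) ∈ N := by
        rw [← QuotientGroup.eq_one_iff]
        simpa using ha'
      obtain ⟨b, hb⟩ := hqN ⟨m ^ (p ^ a), hmN⟩
      have hb' : (m ^ (p ^ a)) ^ (q ^ b) = 1 := by
        have := congrArg Subtype.val hb
        simpa using this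
      rw [hqp] at hb'
      refine ⟨a + b, ?_⟩
      apply Subtype.ext
      simp only [Subgroup.coe_pow, Subgroup.coe_one]
      rw [pow_add, pow_mul, hb']
    refine ⟨M, hMn, ?_, hMp, hMidx⟩
    have hlin : ∀ θ : IrrCharacter M, charDegree (θ : M → ℂ) = 1 := by
      intro θ
      have h2 : charDegree (θ : M → ℂ) ∣ Nat.card M :=
        Cfsg.Agent.Lib.Helper83.irr_charDegree_dvd_card θ
      obtain ⟨k, hk⟩ := IsPGroup.iff_card.mp hMp
      rw [hk] at h2
      obtain ⟨j, _, hj⟩ := (Nat.dvd_prime_pow hp).mp h2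
      rcases Nat.eq_zero_or_pos j with h0 | h0
      · rw [hj, h0, pow_zero]
      · exfalso
        apply hdegM θ
        rw [hj]
        exact dvd_pow_self p h0.ne'
    have hcomm := comm_of_all_linear hlin
    intro x hx y hy
    exact congrArg Subtype.val (hcomm ⟨x, hx⟩ ⟨y, hy⟩)
  · -- the minimal normal subgroup is a p'-group
    by_cases hMtop : M = ⊤
    · -- G/N is an abelian p-group
      have hPtop : Pbar = ⊤ := by
        rw [eq_top_iff]
        intro x _
        obtain ⟨g, rfl⟩ := QuotientGroup.mk'_surjective N x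
        have : g ∈ M := by rw [hMtop]; exact Subgroup.mem_top g
        exact this
      have hQab : ∀ a b : G ⧸ N, a * b = b * a := by
        intro a b
        exact hPab a (by rw [hPtop]; exact Subgroup.mem_top a) b
          (by rw [hPtop]; exact Subgroup.mem_top b)
      have hidxN : ∃ k, N.index = p ^ k := by
        rw [Subgroup.index_eq_card]
        have h1 : IsPGroup p (G ⧸ N) := by
          intro x
          obtain ⟨a, ha⟩ := hPp ⟨x, by rw [hPtop]; exact Subgroup.mem_top x⟩
          refine ⟨a, ?_⟩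
          have := congrArg Subtype.val ha
          simpa using this
        exact IsPGroup.iff_card.mp h1
      -- every irreducible character of N is invariant
      have hinv : ∀ (θ : IrrCharacter N) (g : G),
          Cfsg.Agent.Lib.Helper85.conjFun hNn (θ : N → ℂ) g = (θ : N → ℂ) := by
        intro θ g
        by_contra hne
        obtain ⟨χ, e, hχ⟩ := exists_irr_over N hNn θ
        set S := Finset.univ.image (fun g : G => Cfsg.Agent.Lib.Helper85.conjFun hNn (θ : N → ℂ) g)
          with hS
        have hdvd : S.card ∣ N.index :=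
          Cfsg.Agent.Lib.Helper85.card_conj_orbit_dvd_index hNn hNab (θ : N → ℂ)
        have h1mem : (θ : N → ℂ) ∈ S := by
          rw [hS, Finset.mem_image]
          refine ⟨1, Finset.mem_univ _, ?_⟩
          funext n
          rw [Cfsg.Agent.Lib.Helper85.conjFun_apply]
          have : (⟨1 * (n : G) * 1⁻¹, hNn.conj_mem _ n.2 1⟩ : N) = n := by
            apply Subtype.ext
            simp
          rw [this]
        have hgmem : Cfsg.Agent.Lib.Helper85.conjFun hNn (θ : N → ℂ) g ∈ S := by
          rw [hS, Finset.mem_image]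
          exact ⟨g, Finset.mem_univ _, rfl⟩
        have hcard2 : 1 < S.card := Finset.one_lt_card.mpr ⟨_, hgmem, _, h1mem, hne⟩
        obtain ⟨k, hk⟩ := hidxN
        rw [hk] at hdvd
        obtain ⟨j, _, hj⟩ := (Nat.dvd_prime_pow hp).mp hdvd
        have hj0 : j ≠ 0 := by
          intro h0
          rw [hj, h0, pow_zero] at hcard2
          exact lt_irrefl _ hcard2
        apply hdeg χ
        rw [hχ, hj]
        exact Dvd.dvd.mul_right (Dvd.dvd.mul_left (dvd_pow_self p hj0) _) _
      -- N is central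
      have hcen : ∀ n ∈ N, ∀ g : G, g * n = n * g := by
        intro n hn g
        have h1 : (⟨g * n * g⁻¹, hNn.conj_mem n hn g⟩ : N) = ⟨n, hn⟩ := by
          apply eq_of_forall_irr_eq (fun a b => Subtype.ext (hNab a a.2 b b.2))
          intro θ
          have := congrFun (hinv θ g) ⟨n, hn⟩
          rw [Cfsg.Agent.Lib.Helper85.conjFun_apply] at this
          exact this
        have h2 : g * n * g⁻¹ = n := congrArg Subtype.val h1
        calc g * n = g * n * g⁻¹ * g := by group
          _ = n * g := by rw [h2]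
      -- take a Sylow p-subgroup
      obtain ⟨P⟩ : Nonempty (Sylow p G) := inferInstance
      have hcentral : ∀ y ∈ (P : Subgroup G), ∀ g : G, g * y * g⁻¹ = y := by
        intro y hy g
        obtain ⟨k, hk⟩ := P.2 ⟨y, hy⟩
        have hk' : y ^ (p ^ k) = 1 := by
          have := congrArg Subtype.val hk
          simpa using this
        exact conj_eq_of_central_kernel p q hq hqp N hqN hcen hQab y k hk' g
      refine ⟨P, ⟨fun y hy g => ?_⟩, ?_, P.2, P.not_dvd_index⟩
      · rw [hcentral y hy g]; exact hy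
      · intro x hx y hy
        have := hcentral y hy x
        calc x * y = x * y * x⁻¹ * x := by group
          _ = y * x := by rw [this]
    · -- M is proper: induct
      have hcardM : Nat.card M < n := by
        rw [← hcard]
        have h1 : M.index ≠ 1 := fun h => hMtop (Subgroup.index_eq_one.mp h)
        have h2 : M.index ≠ 0 := Subgroup.index_ne_zero_of_finite
        have h3 := Subgroup.card_mul_index M
        have h4 : 0 < Nat.card M := Nat.card_pos
        have h5 : 2 ≤ M.index := by omega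
        nlinarith
      obtain ⟨P', hP'n, hP'ab, hP'p, hP'idx⟩ := ih _ hcardM M rfl inferInstance hdegM
      haveI := hP'n
      refine ⟨P'.map M.subtype, ⟨?_⟩, ?_, ?_, ?_⟩
      · rintro y ⟨y', hy', rfl⟩ g
        have hmem : g * (y' : G) * g⁻¹ ∈ M := hMn.conj_mem _ y'.2 g
        obtain ⟨k, hk⟩ := hP'p ⟨y', hy'⟩
        have hk' : y' ^ (p ^ k) = 1 := by
          have := congrArg Subtype.val hk
          simpa using this
        have hz : (⟨g * (y' : G) * g⁻¹, hmem⟩ : M) ^ (p ^ k) = 1 := by
          apply Subtype.ext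
          simp only [Subgroup.coe_pow, Subgroup.coe_one]
          rw [conj_pow]
          have : (y' : G) ^ (p ^ k) = 1 := by
            have := congrArg Subtype.val hk'
            simpa using this
          rw [this, mul_one, mul_inv_cancel]
        have := mem_of_pow_eq_one p P' hP'idx _ k hz
        exact ⟨⟨g * (y' : G) * g⁻¹, hmem⟩, this, rfl⟩
      · rintro x ⟨x', hx', rfl⟩ y ⟨y', hy', rfl⟩
        have := hP'ab x' hx' y' hy'
        exact congrArg Subtype.val this
      · exact hP'p.map M.subtype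
      · rw [Subgroup.index_map_subtype]
        intro hd
        rcases (Nat.Prime.dvd_mul hp).mp hd with h | h
        · exact hP'idx h
        · exact hMidx h

end Main

end Cfsg.Agent.Lib.Helper79
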