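import Mathlib
import Cfsg.Prelude.Def_Characters
import Cfsg.Agent.Lib.Helper05.CharEquiv
import Cfsg.Agent.Lib.Helper04.CharValues
import Cfsg.Agent.Lib.Helper79.InvForm

set_option autoImplicit false
set_option linter.style.haveILetI false
set_option linter.unusedSectionVars false

namespace Cfsg.Agent.Lib.Helper79

open Matrix

section Exists

variable {G : Type*} [Group G] [Fintype G] {n : ℕ} (ρ : Representation ℂ G (Fin n → ℂ))

/-- an equivalence with the dual gives an invertible invariant matrix. -/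
theorem exists_invariant_of_equiv_dual (φ : ρ.Equiv ρ.dual) :
    ∃ W W' : Matrix (Fin n) (Fin n) ℂ, W * W' = 1 ∧ W' * W = 1 ∧
      ∀ g, (repMat ρ g)ᵀ * W * repMat ρ g = W := by
  let B : (Fin n → ℂ) →ₗ[ℂ] (Fin n → ℂ) →ₗ[ℂ] ℂ := φ.toLinearMap
  have hB : ∀ v w, B v w = φ v w := fun _ _ => rfl
  let W := LinearMap.toMatrix₂' ℂ B
  have hinv : ∀ g, (repMat ρ g)ᵀ * W * repMat ρ g = W := by
    intro g
    unfold repMat
    rw [← LinearMap.toMatrix₂'_compl₁₂]
    congr 1
    refine LinearMap.ext₂ fun v w => ?_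
    rw [LinearMap.compl₁₂_apply, hB, hB]
    have h1 : φ (ρ g v) = ρ.dual g (φ v) :=
      LinearMap.congr_fun (φ.toIntertwiningMap.isIntertwining' g) v
    rw [h1]
    simp only [Representation.dual_apply, Module.Dual.transpose_apply]
    rw [LinearMap.comp_apply, ← Module.End.mul_apply, ← map_mul, inv_mul_cancel, map_one,
      Module.End.one_apply]
  have hdet : IsUnit W.det := by
    have h1 : Wᵀ = LinearMap.toMatrix (Pi.basisFun ℂ (Fin n)) (Pi.basisFun ℂ (Fin n)).dualBasis
        φ.toLinearEquiv.toLinearMap := by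
      ext i j
      rw [Matrix.transpose_apply, LinearMap.toMatrix_apply, Module.Basis.dualBasis_repr]
      change LinearMap.toMatrix₂' ℂ B j i = _
      rw [LinearMap.toMatrix₂'_apply]
      simp only [Pi.basisFun_apply]
      rfl
    have h2 := LinearEquiv.isUnit_det φ.toLinearEquiv (Pi.basisFun ℂ (Fin n))
      (Pi.basisFun ℂ (Fin n)).dualBasis
    rw [← h1, Matrix.det_transpose] at h2
    exact h2
  refine ⟨W, W⁻¹, Matrix.mul_nonsing_inv W hdet, Matrix.nonsing_inv_mul W hdet, hinv⟩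

/-- a real-valued irreducible character gives an invertible invariant matrix. -/
theorem exists_invariant_of_real (hreal : ∀ g : G, (ρ.character g).im = 0) :
    ∃ W W' : Matrix (Fin n) (Fin n) ℂ, W * W' = 1 ∧ W' * W = 1 ∧
      ∀ g, (repMat ρ g)ᵀ * W * repMat ρ g = W := by
  have hchar : ρ.character = ρ.dual.character := by
    ext g
    rw [Representation.char_dual, Cfsg.Agent.Lib.Helper04.char_inv]
    exact (Complex.conj_eq_iff_im.mpr (hreal g)).symm
  obtain ⟨φ⟩ := Cfsg.Agent.Lib.Helper05.nonempty_equiv_of_char_eq _ ρ _ ρ.dual hchar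
  exact exists_invariant_of_equiv_dual ρ φ

end Exists

end Cfsg.Agent.Lib.Helper79

namespace Cfsg.Agent.Lib.Helper79

open Matrix

section Main

variable {G : Type*} [Group G] [Fintype G] {n : ℕ} (ρ : Representation ℂ G (Fin n → ℂ))

omit [Fintype G] in
theorem transpose_repMat_eq (W W' : Matrix (Fin n) (Fin n) ℂ)
    (hW : W * W' = 1) (hinv : ∀ g, (repMat ρ g)ᵀ * W * repMat ρ g = W) (u : G) :
    (repMat ρ u)ᵀ = W * repMat ρ u⁻¹ * W' := by
  calc (repMat ρ u)ᵀ = (repMat ρ u)ᵀ * (W * W') := by rw [hW, Matrix.mul_one]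
    _ = (repMat ρ u)ᵀ * W * (repMat ρ u * repMat ρ u⁻¹) * W' := by
      rw [repMat_mul_inv, Matrix.mul_one, Matrix.mul_assoc]
    _ = ((repMat ρ u)ᵀ * W * repMat ρ u) * repMat ρ u⁻¹ * W' := by
      simp only [Matrix.mul_assoc]
    _ = W * repMat ρ u⁻¹ * W' := by rw [hinv]

omit [Fintype G] in
/-- every invariant matrix is a multiple of an invertible invariant one. -/
theorem invariant_eq_smul [ρ.IsIrreducible] (W W' : Matrix (Fin n) (Fin n) ℂ)
    (hW : W * W' = 1) (hW' : W' * W = 1) (hinv : ∀ g, (repMat ρ g)ᵀ * W * repMat ρ g = W)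
    (M : Matrix (Fin n) (Fin n) ℂ) (hM : ∀ g, (repMat ρ g)ᵀ * M * repMat ρ g = M) :
    M = ((W' * M).trace / (n : ℂ)) • W := by
  have hcomm : ∀ g, (W' * M) * repMat ρ g = repMat ρ g * (W' * M) := by
    intro g
    have h1 : M = W * repMat ρ g⁻¹ * W' * M * repMat ρ g := by
      conv_lhs => rw [← hM g, transpose_repMat_eq ρ W W' hW hinv g]
    have h2 : W' * M = repMat ρ g⁻¹ * (W' * M) * repMat ρ g := by
      conv_lhs => rw [h1]
      simp only [← Matrix.mul_assoc]
      rw [hW', Matrix.one_mul]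
    conv_rhs => rw [h2]
    simp only [← Matrix.mul_assoc]
    rw [repMat_mul_inv, Matrix.one_mul]
  have h := matrix_schur ρ (W' * M) hcomm
  calc M = W * (W' * M) := by rw [← Matrix.mul_assoc, hW, Matrix.one_mul]
    _ = ((W' * M).trace / (n : ℂ)) • W := by
      conv_lhs => rw [h]
      rw [Matrix.mul_smul, Matrix.mul_one]

/-- the Frobenius–Schur indicator is the symmetry sign of an invariant form. -/
theorem transpose_eq_indicator_smul [ρ.IsIrreducible] (hreal : ∀ g : G, (ρ.character g).im = 0)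
    (M : Matrix (Fin n) (Fin n) ℂ) (hM : ∀ g, (repMat ρ g)ᵀ * M * repMat ρ g = M) :
    Mᵀ = ((Nat.card G : ℂ)⁻¹ * ∑ s : G, ρ.character (s * s)) • M := by
  obtain ⟨W, W', hW, hW', hinv⟩ := exists_invariant_of_real ρ hreal
  have hWt : ∀ g, (repMat ρ g)ᵀ * Wᵀ * repMat ρ g = Wᵀ := by
    intro g
    have := congrArg Matrix.transpose (hinv g)
    rw [Matrix.transpose_mul, Matrix.transpose_mul, Matrix.transpose_transpose] at this
    rw [Matrix.mul_assoc]
    exact this
  have hε := invariant_eq_smul ρ W W' hW hW' hinv Wᵀ hWt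
  set ε := (W' * Wᵀ).trace / (n : ℂ) with hεdef
  have hsum := sum_trace_sq ρ W W' hW hW' hinv ε hε
  have hν : (Nat.card G : ℂ)⁻¹ * ∑ s : G, ρ.character (s * s) = ε := by
    have : ∀ s : G, ρ.character (s * s) = (repMat ρ s * repMat ρ s).trace := by
      intro s
      rw [← repMat_mul, trace_repMat]
    simp_rw [this]
    rw [hsum, Nat.card_eq_fintype_card, ← mul_assoc, inv_mul_cancel₀, one_mul]
    exact_mod_cast Fintype.card_ne_zero
  rw [hν]
  have hMc := invariant_eq_smul ρ W W' hW hW' hinv M hM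
  set c := (W' * M).trace / (n : ℂ) with hcdef
  rw [hMc, Matrix.transpose_smul, hε, smul_smul, smul_smul, mul_comm]

theorem exists_ne_zero_invariant [ρ.IsIrreducible] (hreal : ∀ g : G, (ρ.character g).im = 0) :
    ∃ M : Matrix (Fin n) (Fin n) ℂ, M ≠ 0 ∧ ∀ g, (repMat ρ g)ᵀ * M * repMat ρ g = M := by
  obtain ⟨W, W', hW, hW', hinv⟩ := exists_invariant_of_real ρ hreal
  refine ⟨W, ?_, hinv⟩
  intro h0
  rw [h0, Matrix.zero_mul] at hW
  have hn := card_ne_zero_of_irr ρ
  have hn' : n ≠ 0 := by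
    intro h; apply hn; rw [h]; simp
  have := congrFun (congrFun hW ⟨0, Nat.pos_of_ne_zero hn'⟩) ⟨0, Nat.pos_of_ne_zero hn'⟩
  simp at this

end Main

end Cfsg.Agent.Lib.Helper79
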