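import Mathlib
import Cfsg.Prelude.Def_Characters
import Cfsg.Prelude.Def_Blocks
import Cfsg.Agent.Lib.Helper84.FrobSchur
import Cfsg.Agent.Lib.Helper83.Decompose
import Cfsg.Agent.Lib.Helper79.InvFormExists

set_option autoImplicit false
set_option linter.style.haveILetI false
set_option linter.unusedSectionVars false

namespace Cfsg.Agent.Lib.Helper79

open Matrix
open scoped ComplexConjugate

section Indicator

universe u
variable {G : Type u} [Group G] [Fintype G]

/-- the Frobenius–Schur indicator of a complex-valued function. -/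
noncomputable def fsInd (χ : G → ℂ) : ℂ := (Nat.card G : ℂ)⁻¹ * ∑ u : G, χ (u * u)

theorem fsInd_rep_cases {n : ℕ} (ρ : Representation ℂ G (Fin n → ℂ)) [ρ.IsIrreducible] :
    (fsInd ρ.character = 0 ∨ fsInd ρ.character = 1 ∨ fsInd ρ.character = -1) ∧
      (fsInd ρ.character ≠ 0 → ∀ g : G, (ρ.character g).im = 0) := by
  by_cases hreal : ∀ g : G, (ρ.character g).im = 0
  · refine ⟨Or.inr ?_, fun _ => hreal⟩
    obtain ⟨M, hM0, hM⟩ := exists_ne_zero_invariant ρ hreal
    have h1 := transpose_eq_indicator_smul ρ hreal M hM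
    have hMt : ∀ g, (repMat ρ g)ᵀ * Mᵀ * repMat ρ g = Mᵀ := by
      intro g
      have := congrArg Matrix.transpose (hM g)
      rw [Matrix.transpose_mul, Matrix.transpose_mul, Matrix.transpose_transpose] at this
      rw [Matrix.mul_assoc]
      exact this
    have h2 := transpose_eq_indicator_smul ρ hreal Mᵀ hMt
    rw [Matrix.transpose_transpose] at h2
    change Mᵀ = fsInd ρ.character • M at h1
    change M = fsInd ρ.character • Mᵀ at h2
    rw [h1, smul_smul] at h2
    have h3 : (1 - fsInd ρ.character * fsInd ρ.character) • M = 0 := by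
      rw [sub_smul, one_smul, ← h2, sub_self]
    rcases smul_eq_zero.mp h3 with h4 | h4
    · have h5 : (fsInd ρ.character - 1) * (fsInd ρ.character + 1) = 0 := by
        linear_combination -h4
      rcases mul_eq_zero.mp h5 with h6 | h6
      · left; linear_combination h6
      · right; linear_combination h6
    · exact absurd h4 hM0
  · push Not at hreal
    obtain ⟨g, hg⟩ := hreal
    have h0 : fsInd ρ.character = 0 := by
      unfold fsInd
      rw [Cfsg.Agent.Lib.Helper84.sum_char_sq_eq_zero_of_not_real ρ ⟨g, ?_⟩, mul_zero]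
      rw [Cfsg.Agent.Lib.Helper04.char_inv]
      intro h
      exact hg (Complex.conj_eq_iff_im.mp h)
    exact ⟨Or.inl h0, fun h => absurd h0 h⟩

theorem fsInd_irr_cases (χ : Cfsg.IrrCharacter G) :
    (fsInd (χ : G → ℂ) = 0 ∨ fsInd (χ : G → ℂ) = 1 ∨ fsInd (χ : G → ℂ) = -1) ∧
      (fsInd (χ : G → ℂ) ≠ 0 → ∀ g : G, ((χ : G → ℂ) g).im = 0) := by
  obtain ⟨n, ρ, hirr, hχ⟩ := χ.2
  haveI := hirr
  have := fsInd_rep_cases ρ
  rw [hχ] at this
  exact this

/-- an integer-valued version of the indicator. -/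
theorem exists_int_fsInd (χ : Cfsg.IrrCharacter G) :
    ∃ ν : ℤ, (ν = 0 ∨ ν = 1 ∨ ν = -1) ∧ (ν : ℂ) = fsInd (χ : G → ℂ) ∧
      (ν ≠ 0 → ∀ g : G, ((χ : G → ℂ) g).im = 0) := by
  obtain ⟨h1, h2⟩ := fsInd_irr_cases χ
  rcases h1 with h | h | h
  · exact ⟨0, Or.inl rfl, by rw [h]; simp, fun h0 => absurd rfl h0⟩
  · exact ⟨1, Or.inr (Or.inl rfl), by rw [h]; simp, fun _ => h2 (by rw [h]; exact one_ne_zero)⟩
  · exact ⟨-1, Or.inr (Or.inr rfl), by rw [h]; simp,
      fun _ => h2 (by rw [h]; exact neg_ne_zero.mpr one_ne_zero)⟩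

end Indicator


section Count

universe u
variable {G : Type u} [Group G] [Fintype G]

theorem card_sq_eq_one :
    Nat.card {u : G // u * u = 1} = 1 + Nat.card {x : G // orderOf x = 2} := by
  classical
  rw [Nat.card_eq_fintype_card, Nat.card_eq_fintype_card, Fintype.card_subtype,
    Fintype.card_subtype]
  have h : (Finset.univ.filter fun u : G => u * u = 1) =
      insert 1 (Finset.univ.filter fun x : G => orderOf x = 2) := by
    ext u
    simp only [Finset.mem_filter, Finset.mem_univ, true_and, Finset.mem_insert]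
    haveI : Fact (Nat.Prime 2) := ⟨Nat.prime_two⟩
    rw [orderOf_eq_prime_iff, pow_two]
    constructor
    · intro h
      by_cases h1 : u = 1
      · exact Or.inl h1
      · exact Or.inr ⟨h, h1⟩
    · rintro (h | h)
      · rw [h, one_mul]
      · exact h.1
  rw [h, Finset.card_insert_of_notMem, add_comm]
  simp

theorem one_add_card_involutions [Fintype (Cfsg.IrrCharacter G)] :
    ((1 + Nat.card {x : G // orderOf x = 2} : ℕ) : ℂ) =
      ∑ χ : Cfsg.IrrCharacter G, fsInd (χ : G → ℂ) * (χ : G → ℂ) 1 := by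
  classical
  have hreg1 : ∑ᶠ χ : Cfsg.IrrCharacter G, (χ : G → ℂ) 1 * (χ : G → ℂ) 1 =
      (Fintype.card G : ℂ) := by
    rw [finsum_eq_sum_of_fintype]
    have := Cfsg.Agent.Lib.Helper83.sum_irr_degree_mul (G := G) 1
    rw [if_pos rfl, Nat.card_eq_fintype_card] at this
    exact this
  have hreg2 : ∀ u : G, u ≠ 1 →
      ∑ᶠ χ : Cfsg.IrrCharacter G, (χ : G → ℂ) 1 * (χ : G → ℂ) u = 0 := by
    intro u hu
    rw [finsum_eq_sum_of_fintype]
    have := Cfsg.Agent.Lib.Helper83.sum_irr_degree_mul (G := G) u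
    rw [if_neg hu] at this
    exact this
  have h := Cfsg.Agent.Lib.Helper84.root_count_of_regular hreg1 hreg2 (1 : G)
  rw [card_sq_eq_one] at h
  rw [h, finsum_eq_sum_of_fintype]
  refine Finset.sum_congr rfl fun χ _ => ?_
  rw [finsum_eq_sum_of_fintype]
  rfl

theorem sum_card_centralizer [Fintype (Cfsg.IrrCharacter G)] :
    ∑ g : G, Nat.card (Subgroup.centralizer ({g} : Set G)) =
      Fintype.card (Cfsg.IrrCharacter G) * Nat.card G := by
  classical
  have h1 : ∑ g : G, ∑ χ : Cfsg.IrrCharacter G, (χ : G → ℂ) g * conj ((χ : G → ℂ) g)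
      = ∑ g : G, (Nat.card (Subgroup.centralizer ({g} : Set G)) : ℂ) := by
    apply Finset.sum_congr rfl
    intro g _
    rw [Cfsg.Agent.Lib.Helper83.second_orthogonality, if_pos (IsConj.refl g)]
  rw [Finset.sum_comm] at h1
  have h2 : ∀ χ : Cfsg.IrrCharacter G,
      ∑ g : G, (χ : G → ℂ) g * conj ((χ : G → ℂ) g) = (Nat.card G : ℂ) := by
    intro χ
    have := Cfsg.Agent.Lib.Helper83.irr_inner_self χ
    rw [Cfsg.Agent.Lib.Helper83.classInner_def] at this
    field_simp [Cfsg.Agent.Lib.Helper83.card_ne_zero_complex (G := G)] at this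
    exact this
  simp only [h2, Finset.sum_const, Finset.card_univ, nsmul_eq_mul] at h1
  have h3 : ((∑ g : G, Nat.card (Subgroup.centralizer ({g} : Set G)) : ℕ) : ℂ) =
      ((Fintype.card (Cfsg.IrrCharacter G) * Nat.card G : ℕ) : ℂ) := by
    push_cast
    rw [← h1]
  exact_mod_cast h3

end Count

end Cfsg.Agent.Lib.Helper79
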