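import Mathlib
import Cfsg.Prelude.Def_Characters
import Cfsg.Agent.Lib.Helper79.FrobSchurCount

set_option autoImplicit false
set_option linter.style.haveILetI false
set_option linter.unusedSectionVars false

namespace Cfsg.Agent.Lib.Helper79

open Matrix

section OddDegree

universe u
variable {G : Type u} [Group G] [Fintype G]

/-- the character value at one is the dimension. -/
theorem character_one_eq_dim {n : ℕ} (ρ : Representation ℂ G (Fin n → ℂ)) :
    ρ.character 1 = (n : ℂ) := by
  rw [← trace_repMat, repMat_one, Matrix.trace_one, Fintype.card_fin]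

/-- a real irreducible representation has indicator `1`, or `-1` with even degree. -/
theorem fsInd_real_cases {n : ℕ} (ρ : Representation ℂ G (Fin n → ℂ)) [ρ.IsIrreducible]
    (hreal : ∀ g : G, (ρ.character g).im = 0) :
    fsInd ρ.character = 1 ∨ (fsInd ρ.character = -1 ∧ Even n) := by
  obtain ⟨W, W', hW, hW', hinv⟩ := exists_invariant_of_real ρ hreal
  have hWt : Wᵀ = fsInd ρ.character • W := transpose_eq_indicator_smul ρ hreal W hinv
  have hdet : W.det * W'.det = 1 := by rw [← Matrix.det_mul, hW, Matrix.det_one]
  have hdet0 : W.det ≠ 0 := by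
    intro h; rw [h, zero_mul] at hdet; exact zero_ne_one hdet
  have hn : n ≠ 0 := by
    have := card_ne_zero_of_irr ρ
    exact_mod_cast this
  rcases (fsInd_rep_cases ρ).1 with h | h | h
  · exfalso
    rw [h, zero_smul] at hWt
    have : W = 0 := by
      have := congrArg Matrix.transpose hWt
      rwa [Matrix.transpose_transpose, Matrix.transpose_zero] at this
    apply hdet0
    rw [this]
    haveI : Nonempty (Fin n) := ⟨⟨0, Nat.pos_of_ne_zero hn⟩⟩
    exact Matrix.det_zero
  · exact Or.inl h
  · refine Or.inr ⟨h, ?_⟩
    rw [h] at hWt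
    have h1 : W.det = (-1 : ℂ) ^ n * W.det := by
      have := congrArg Matrix.det hWt
      rw [Matrix.det_transpose, Matrix.det_smul, Fintype.card_fin] at this
      exact this
    by_contra hodd
    rw [Nat.not_even_iff_odd] at hodd
    rw [hodd.neg_one_pow] at h1
    apply hdet0
    linear_combination (1 / 2 : ℂ) * h1

end OddDegree

end Cfsg.Agent.Lib.Helper79
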