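import Mathlib
import Cfsg.Prelude.Def_Blocks
import Cfsg.Agent.S0908
import Cfsg.Agent.Lib.Helper22.DefectClass
import Cfsg.Agent.Lib.Helper21.OsimaApps

set_option autoImplicit false
set_option linter.unusedSectionVars false
set_option linter.style.haveILetI false

namespace Cfsg.Agent.Lib.Helper79

open Cfsg
open Cfsg.Agent.Lib.Helper21 Cfsg.Agent.Lib.Helper82 Cfsg.Agent.Lib.Helper22
open scoped ComplexConjugate

section DefectSep

variable {G : Type*} [Group G] [Finite G] {p : ℕ} [Fact p.Prime] {M : Ideal AlgInt}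

local notation "C[" g "]" => Subgroup.centralizer (singleton g)

/-- the least `p`-exponent of the degrees in a block, in terms of the defect. -/
theorem sInf_add_blockDefect (hMp : M.IsPrime) {B : Set (IrrCharacter G)} (hB : IsPBlock M B) :
    sInf ((fun χ : IrrCharacter G => (charDegree (χ : G → ℂ)).factorization p) '' B) +
      blockDefect p B = (Nat.card G).factorization p := by
  obtain ⟨χ, hχ⟩ := IsPBlock.nonempty hMp hB
  have h1 : sInf ((fun χ : IrrCharacter G => (charDegree (χ : G → ℂ)).factorization p) '' B) ≤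
      (charDegree (χ : G → ℂ)).factorization p := Nat.sInf_le (Set.mem_image_of_mem _ hχ)
  have h2 := factorization_charDegree_le_card (p := p) χ
  rw [blockDefect]
  omega

/-- the block idempotent has coefficients in the local ideal at classes of defect larger than the
defect of the block. -/
theorem memLocalIdeal_blockCoeff_of_defect_lt (hM : IsPModular p M) (χ₀ : IrrCharacter G) (g : G)
    (hlt : blockDefect p (blockOf M (χ₀ : G → ℂ)) <
      (Nat.card C[g]).factorization p) :
    MemLocalIdeal M (blockCoeff (blockOf M (χ₀ : G → ℂ)) g) := by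
  classical
  let _ : Fintype G := Fintype.ofFinite G
  let _ : Fintype (IrrCharacter G) := Fintype.ofFinite _
  have hp : p.Prime := hM.1
  have hMp : M.IsPrime := hM.2.1.isPrime
  by_cases hreg : p ∣ orderOf g
  · rw [blockCoeff_eq_zero_of_singular hM χ₀ g hreg]; exact memLocalIdeal_zero hMp
  obtain ⟨P⟩ : Nonempty (Sylow p C[g]) := inferInstance
  set D := (P : Subgroup C[g]).map C[g].subtype with hDdef
  set δ := (Nat.card C[g]).factorization p with hδ
  have hcardD : Nat.card D = p ^ δ := by
    rw [hDdef, Subgroup.card_map_of_injective C[g].subtype_injective]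
    exact P.card_eq_multiplicity
  have hG0 : Nat.card G ≠ 0 := Nat.card_pos.ne'
  have hsum0 := sInf_add_blockDefect (p := p) hMp (isPBlock_blockOf (M := M) χ₀)
  have hcomm : ∀ u ∈ D, g * u = u * g := by
    intro u hu
    obtain ⟨v, _, rfl⟩ := Subgroup.mem_map.1 hu
    exact (Subgroup.mem_centralizer_iff.1 v.2) g rfl
  have hDp : IsPGroup p D := P.isPGroup'.map C[g].subtype
  let _ : Fintype D := Fintype.ofFinite D
  have hvan : ∀ u : D, u ≠ 1 → blockCoeff (blockOf M (χ₀ : G → ℂ)) (g * (u : G)) = 0 := by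
    intro u hu
    apply blockCoeff_eq_zero_of_singular hM χ₀
    obtain ⟨k, hk⟩ := (IsPGroup.iff_orderOf.1 hDp) u
    have hk' : orderOf (u : G) = p ^ k := by rw [← hk, Subgroup.orderOf_coe]
    have hk0 : k ≠ 0 := by
      rintro rfl
      rw [pow_zero, orderOf_eq_one_iff] at hk
      exact hu hk
    have hco : (orderOf g).Coprime (orderOf (u : G)) := by
      rw [hk']
      exact Nat.Coprime.pow_right k ((Nat.Prime.coprime_iff_not_dvd hp).2 hreg).symm
    rw [Commute.orderOf_mul_eq_mul_orderOf_of_coprime (hcomm u u.2) hco, hk']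
    exact dvd_mul_of_dvd_right (dvd_pow_self p hk0) _
  have hsum : blockCoeff (blockOf M (χ₀ : G → ℂ)) g =
      ∑ u : D, blockCoeff (blockOf M (χ₀ : G → ℂ)) (g * (u : G)) := by
    rw [Finset.sum_eq_single (1 : D) (fun u _ hu => hvan u hu)
      (fun h => absurd (Finset.mem_univ _) h)]
    simp
  have hcD : (Fintype.card D : ℂ) = (p : ℂ) ^ δ := by
    rw [← Nat.card_eq_fintype_card, hcardD]; push_cast; rfl
  have hp0 : (p : ℂ) ≠ 0 := Nat.cast_ne_zero.2 hp.ne_zero
  have hG0' : (Nat.card G : ℂ) ≠ 0 := Nat.cast_ne_zero.2 hG0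
  have key : ∑ u : D, blockCoeff (blockOf M (χ₀ : G → ℂ)) (g * (u : G)) =
      ∑ χ : IrrCharacter G, if χ ∈ blockOf M (χ₀ : G → ℂ) then
        (((charDegree (χ : G → ℂ) * p ^ δ : ℕ) : ℂ) / (Nat.card G : ℂ)) *
          conj ((Fintype.card D : ℂ)⁻¹ * ∑ u : D, (χ : G → ℂ) (g * (u : G))) else 0 := by
    simp_rw [blockCoeff_eq_sum]
    rw [← Finset.mul_sum, Finset.sum_comm, Finset.mul_sum]
    refine Finset.sum_congr rfl fun χ _ => ?_
    split_ifs with hχ
    · have hχc := IsIrrCharacter.isCharacter χ.2
      rw [map_mul, map_inv₀, map_sum, map_natCast, ← Finset.mul_sum,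
        ← IsCharacter.charDegree_cast hχc, hcD]
      push_cast
      field_simp
    · simp
  rw [hsum, key]
  refine memLocalIdeal_sum hMp _ _ fun χ _ => ?_
  split_ifs with hχ
  · have hχc := IsIrrCharacter.isCharacter χ.2
    refine memLocalIdeal_mul_right hMp
      (Cfsg.Agent.S0908.memLocalIdeal_div_of_factorization_lt hM _ _ hG0 ?_)
      (memLocalRing_of_isIntegral hMp
        (Cfsg.Agent.S0908.isIntegral_conj (isIntegral_avg_coset hχc D g hcomm)))
    have hdpos := IsIrrCharacter.charDegree_pos χ.2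
    rw [Nat.factorization_mul hdpos.ne' (pow_ne_zero _ hp.ne_zero), Finsupp.add_apply,
      Nat.Prime.factorization_pow hp, Finsupp.single_eq_same]
    have h1 : sInf ((fun χ : IrrCharacter G => (charDegree (χ : G → ℂ)).factorization p) ''
        blockOf M (χ₀ : G → ℂ)) ≤ (charDegree (χ : G → ℂ)).factorization p :=
      Nat.sInf_le (Set.mem_image_of_mem _ hχ)
    omega
  · exact memLocalIdeal_zero hMp

/-- central characters vanish modulo the local ideal at classes of defect smaller than the
defect of the block. -/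
theorem memLocalIdeal_centralChar_of_lt_defect (hM : IsPModular p M) (χ : IrrCharacter G) (g : G)
    (hlt : (Nat.card C[g]).factorization p < blockDefect p (blockOf M (χ : G → ℂ))) :
    MemLocalIdeal M (centralChar (χ : G → ℂ) g) := by
  classical
  have hp : p.Prime := hM.1
  have hMp : M.IsPrime := hM.2.1.isPrime
  have hsum0 := sInf_add_blockDefect (p := p) hMp (isPBlock_blockOf (M := M) χ)
  have hne : ((fun χ : IrrCharacter G => (charDegree (χ : G → ℂ)).factorization p) ''
      blockOf M (χ : G → ℂ)).Nonempty := ⟨_, Set.mem_image_of_mem _ (mem_blockOf_self hMp χ)⟩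
  obtain ⟨χ₁, hχ₁, hχ₁e⟩ := Nat.sInf_mem hne
  have hχ₁e' : (charDegree (χ₁ : G → ℂ)).factorization p =
      sInf ((fun χ : IrrCharacter G => (charDegree (χ : G → ℂ)).factorization p) ''
        blockOf M (χ : G → ℂ)) := hχ₁e
  have hadd := factorization_card_eq_add (p := p) g
  have h1 : MemLocalIdeal M (centralChar (χ₁ : G → ℂ) g) := by
    have hχc := IsIrrCharacter.isCharacter χ₁.2
    have hdpos := IsIrrCharacter.charDegree_pos χ₁.2
    have hrew : centralChar (χ₁ : G → ℂ) g =
        ((C[g].index : ℂ) / (charDegree (χ₁ : G → ℂ) : ℂ)) * (χ₁ : G → ℂ) g := by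
      rw [centralChar, IsCharacter.charDegree_cast hχc]
      ring
    rw [hrew]
    refine memLocalIdeal_mul_right hMp
      (Cfsg.Agent.S0908.memLocalIdeal_div_of_factorization_lt hM _ _ hdpos.ne' ?_)
      (memLocalRing_of_isIntegral hMp (IsCharacter.isIntegral hχc g))
    omega
  have h2 : SameBlock M (χ : G → ℂ) (χ₁ : G → ℂ) := hχ₁
  have h3 := memLocalIdeal_add hMp (h2 g) h1
  rwa [sub_add_cancel] at h3

end DefectSep

end Cfsg.Agent.Lib.Helper79
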