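import Mathlib
import Cfsg.Prelude.Def_GeometricClasses
import Cfsg.Prelude.Def_ClassicalGeometry

/-!
# K-SpU pack (S5976, architect helper79): shared definitions

`Sp_{2d}(q)`, `q` odd, and the subgroups of type `GU_d(q).2` = normalisers of a quadratic field subalgebra `K` of the
matrix algebra which is closed under adjoints for the symplectic form but not self-adjoint.
-/

set_option autoImplicit false

namespace Cfsg.Agent.Lib.Helper79.SpU

open Cfsg Cfsg.Geo
open scoped Matrix MatrixGroups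

variable {F : Type*} [Field F]

/-- the hypotheses on `K` in S5976: a quadratic field subalgebra, closed under adjoints, not self-adjoint -/
structure IsUType (d : ℕ) (K : Subalgebra F (Matrix (Fin d ⊕ Fin d) (Fin d ⊕ Fin d) F)) : Prop where
  field : IsFieldSubalgebra 2 K
  adj : IsAdjointClosedFor (sympForm d F) K
  nsa : ¬ IsSelfAdjointFor (sympForm d F) K

/-- `θ₀ = [[0, δ], [1, 0]]` in `d × d` blocks: `θ₀ (a, b) = (δ b, a)`, `θ₀² = δ`, skew-adjoint for `sympForm` -/
def theta (d : ℕ) (δ : F) : Matrix (Fin d ⊕ Fin d) (Fin d ⊕ Fin d) F :=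
  Matrix.fromBlocks 0 (δ • (1 : Matrix (Fin d) (Fin d) F)) 1 0

/-- the standard unitary-type quadratic subalgebra `F[θ₀]` -/
def K0 (d : ℕ) (δ : F) : Subalgebra F (Matrix (Fin d ⊕ Fin d) (Fin d ⊕ Fin d) F) :=
  Algebra.adjoin F {theta d δ}

theorem theta_mul_self (d : ℕ) (δ : F) : theta d δ * theta d δ = δ • (1 : Matrix (Fin d ⊕ Fin d) (Fin d ⊕ Fin d) F) := by
  unfold theta
  rw [Matrix.fromBlocks_multiply, ← Matrix.fromBlocks_one, Matrix.fromBlocks_smul]
  simp

theorem theta_mem_K0 (d : ℕ) (δ : F) : theta d δ ∈ K0 d δ :=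
  Algebra.subset_adjoin (Set.mem_singleton _)

theorem mem_K0_iff (d : ℕ) (δ : F) (x : Matrix (Fin d ⊕ Fin d) (Fin d ⊕ Fin d) F) :
    x ∈ K0 d δ ↔ ∃ a b : F, x = a • (1 : Matrix (Fin d ⊕ Fin d) (Fin d ⊕ Fin d) F) + b • theta d δ := by
  constructor
  · intro hx
    unfold K0 at hx
    induction hx using Algebra.adjoin_induction with
    | mem y hy =>
      rw [Set.mem_singleton_iff] at hy
      exact ⟨0, 1, by rw [hy, zero_smul, zero_add, one_smul]⟩
    | algebraMap c =>
      exact ⟨c, 0, by rw [zero_smul, add_zero, Algebra.algebraMap_eq_smul_one]⟩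
    | add y z _ _ hy hz =>
      obtain ⟨a, b, rfl⟩ := hy
      obtain ⟨a', b', rfl⟩ := hz
      exact ⟨a + a', b + b', by rw [add_smul, add_smul]; abel⟩
    | mul y z _ _ hy hz =>
      obtain ⟨a, b, rfl⟩ := hy
      obtain ⟨a', b', rfl⟩ := hz
      refine ⟨a * a' + b * b' * δ, a * b' + b * a', ?_⟩
      rw [add_mul, mul_add, mul_add, smul_mul_smul_comm, smul_mul_smul_comm, smul_mul_smul_comm, smul_mul_smul_comm,
        theta_mul_self, mul_one, one_mul, mul_one, smul_smul, add_smul, add_smul, mul_smul]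
      simp only [smul_smul]
      abel_nf
  · rintro ⟨a, b, rfl⟩
    exact (K0 d δ).add_mem ((K0 d δ).smul_mem (K0 d δ).one_mem a) ((K0 d δ).smul_mem (theta_mem_K0 d δ) b)

end Cfsg.Agent.Lib.Helper79.SpU
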