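import Cfsg.Agent.Lib.Helper73.UNdDefs

/-!
# K-UNd-BA3 (keystone 595403, architect helper73): isometry basics for hermitian spaces
(port of the second half of `Helper98.Sy1`).
-/

set_option autoImplicit false

namespace Cfsg.Agent.Lib.Helper79.UNd

open Module Cfsg.Agent.Lib.Helper99.HermONB Cfsg.Agent.Lib.Helper98.Elus Cfsg.Agent.Lib.Helper73.UNd

universe u
variable {F : Type u} [Field F] {V : Type u} [AddCommGroup V] [Module F V]
variable {q : ℕ} {h : V → V → F}

/-- local copy of `eq_zero_symm` (leaf BA1) -/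
theorem eq_zero_symm' [Fintype F] (hF : Fintype.card F = q ^ 2) (hh : HForm q h) {u v : V}
    (h0 : h u v = 0) : h v u = 0 := by
  rw [hh.conj u v, h0, zero_pow (Cfsg.Agent.Lib.Helper19.q_pos hF).ne']

/-- additivity on the right over finite sums -/
theorem sum_right' [Fintype F] (hF : Fintype.card F = q ^ 2) (hh : HForm q h) {ι : Type*}
    (s : Finset ι) (u : V) (v : ι → V) : h u (∑ i ∈ s, v i) = ∑ i ∈ s, h u (v i) := by
  classical
  induction s using Finset.induction_on with
  | empty => simp [hh.zero_right hF]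
  | insert a s ha ih =>
    rw [Finset.sum_insert ha, Finset.sum_insert ha, hh.add_right hF, ih]

theorem inv_perp [Fintype F] (hF : Fintype.card F = q ^ 2) (hh : HForm q h) (r : ℕ) (hr : 0 < r)
    (y : V →ₗ[F] V) (z : F) (hz : z ≠ 0) (hy : y ^ r = z • 1) (hiso : Isom h y)
    (W : Submodule F V) (hW : Inv y W) : Inv y (perp hh W) := by
  intro v hv
  rw [mem_perp] at hv ⊢
  intro w hw
  have h1 : w = y (z⁻¹ • (y ^ (r - 1)) w) := by
    rw [map_smul, ← Module.End.mul_apply, ← pow_succ', Nat.sub_add_cancel hr, hy,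
      LinearMap.smul_apply, Module.End.one_apply, smul_smul, inv_mul_cancel₀ hz, one_smul]
  rw [h1, hiso]
  exact hv _ (Submodule.smul_mem _ _ (hW.pow_mem _ w hw))

theorem isom_pow (y : V →ₗ[F] V) (hiso : Isom h y) (k : ℕ) : Isom h (y ^ k) := by
  induction k with
  | zero => intro u v; simp
  | succ k ih =>
    intro u v
    rw [pow_succ', Module.End.mul_apply, Module.End.mul_apply, hiso, ih]

theorem isom_smul (hh : HForm q h) (y : V →ₗ[F] V) (hiso : Isom h y) (c : F)
    (hc : c ^ (q + 1) = 1) : Isom h (c • y) := by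
  intro u v
  rw [LinearMap.smul_apply, LinearMap.smul_apply, hh.smul_left, hh.smul_right, hiso, ← mul_assoc,
    ← pow_succ', hc, one_mul]

theorem inv_smul_iff (y : V →ₗ[F] V) (c : F) (hc : c ≠ 0) (W : Submodule F V) :
    Inv (c • y) W ↔ Inv y W := by
  constructor
  · intro hI v hv
    have := hI v hv
    rw [LinearMap.smul_apply] at this
    have h2 := Submodule.smul_mem W c⁻¹ this
    rwa [smul_smul, inv_mul_cancel₀ hc, one_smul] at h2
  · intro hI v hv
    rw [LinearMap.smul_apply]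
    exact Submodule.smul_mem _ _ (hI v hv)

/-- a scalar isometry of a nonzero space has norm one -/
theorem scalar_norm [Fintype F] (hF : Fintype.card F = q ^ 2) (hh : HForm q h) [Nontrivial V]
    (z : F) (hiso : Isom h (z • (1 : V →ₗ[F] V))) : z ^ (q + 1) = 1 := by
  obtain ⟨v, hv⟩ := exists_ne (0 : V)
  have hex : ∃ w, h v w ≠ 0 := by
    by_contra hcon
    push_neg at hcon
    exact hv (hh.nondeg v hcon)
  obtain ⟨w, hw⟩ := hex
  have h1 := hiso v w
  rw [LinearMap.smul_apply, LinearMap.smul_apply, Module.End.one_apply, Module.End.one_apply,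
    hh.smul_left, hh.smul_right, ← mul_assoc, ← pow_succ'] at h1
  have h2 : (z ^ (q + 1) - 1) * h v w = 0 := by rw [sub_mul, h1, one_mul, sub_self]
  rcases mul_eq_zero.1 h2 with h3 | h3
  · exact sub_eq_zero.1 h3
  · exact absurd h3 hw

theorem ort_V0_V1 [Fintype F] (hF : Fintype.card F = q ^ 2) (hh : HForm q h) (r : ℕ)
    (hrF : (r : F) ≠ 0) (y : V →ₗ[F] V) (hy : y ^ r = 1) (hiso : Isom h y) :
    Ort h (V0 y) (V1 r y) := by
  intro u hu v hv
  have h1 : ∀ k : ℕ, h u ((y ^ k) v) = h u v := by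
    intro k
    have h2 := isom_pow y hiso k u v
    rw [pow_apply_of_mem_V0 y u hu k] at h2
    exact h2
  have h2 : h u (gsum r y v) = (r : F) * h u v := by
    rw [gsum_apply, sum_right' hF hh]
    simp only [h1, Finset.sum_const, Finset.card_range, nsmul_eq_mul]
  rw [(mem_V1 r y v).mp hv, hh.zero_right hF] at h2
  rcases mul_eq_zero.mp h2.symm with h3 | h3
  · exact absurd h3 hrF
  · exact h3

theorem nd_inf_parts [Fintype F] (hF : Fintype.card F = q ^ 2) (hh : HForm q h) (r : ℕ)
    (hrF : (r : F) ≠ 0) (y : V →ₗ[F] V) (hy : y ^ r = 1) (hiso : Isom h y) (W : Submodule F V)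
    (hW : ND h W) (hWinv : Inv y W) : ND h (W ⊓ V0 y) ∧ ND h (W ⊓ V1 r y) := by
  have hort := ort_V0_V1 hF hh r hrF y hy hiso
  have hdec : ∀ w ∈ W, ∃ a ∈ W ⊓ V0 y, ∃ b ∈ W ⊓ V1 r y, w = a + b := by
    intro w hw
    have hG : gsum r y w ∈ W := gsum_mem_of_inv r y W hWinv w hw
    refine ⟨(r : F)⁻¹ • gsum r y w, ?_, w - (r : F)⁻¹ • gsum r y w, ?_, by abel⟩
    · exact Submodule.smul_mem _ _ (Submodule.mem_inf.mpr ⟨hG, gsum_mem_V0 r y hy w⟩)
    · refine Submodule.mem_inf.mpr ⟨Submodule.sub_mem _ hw (Submodule.smul_mem _ _ hG), ?_⟩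
      rw [mem_V1, map_sub, map_smul]
      have := congrArg (fun g => g w) (gsum_mul_gsum r y hy)
      simp only [Module.End.mul_apply, LinearMap.smul_apply] at this
      rw [this, smul_smul, inv_mul_cancel₀ hrF, one_smul, sub_self]
  constructor
  · intro u hu hu'
    apply hW u (Submodule.mem_inf.mp hu).1
    intro w hw
    obtain ⟨a, ha, b, hb, rfl⟩ := hdec w hw
    rw [hh.add_right hF, hu' a ha, zero_add]
    exact hort u (Submodule.mem_inf.mp hu).2 b (Submodule.mem_inf.mp hb).2
  · intro u hu hu'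
    apply hW u (Submodule.mem_inf.mp hu).1
    intro w hw
    obtain ⟨a, ha, b, hb, rfl⟩ := hdec w hw
    rw [hh.add_right hF, hu' b hb, add_zero]
    exact eq_zero_symm' hF hh (hort a (Submodule.mem_inf.mp ha).2 u (Submodule.mem_inf.mp hu).2)

end Cfsg.Agent.Lib.Helper79.UNd
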