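import Cfsg.Agent.Lib.Helper79.UNdUA
import Cfsg.Agent.Lib.Helper79.UNdBA3
import Cfsg.Agent.Lib.Helper98.Nd1

/-!
# K-UNd-UB (keystone 595412, architect helper73): splitting off a Jordan block of a unipotent hermitian
isometry (port of `Helper98.Nd3.exists_piece`; always one block).
-/

set_option autoImplicit false
set_option linter.unusedSimpArgs false
set_option linter.unusedSectionVars false
set_option linter.unusedVariables false
set_option maxHeartbeats 1600000

namespace Cfsg.Agent.Lib.Helper79.UNd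

open Module Cfsg.Agent.Lib.Helper99.HermONB Cfsg.Agent.Lib.Helper98.Elus Cfsg.Agent.Lib.Helper73.UNd

universe u
variable {F : Type u} [Field F] {V : Type u} [AddCommGroup V] [Module F V]
variable {q : ℕ} {h : V → V → F}

theorem neg_right' [Fintype F] (hF : Fintype.card F = q ^ 2) (hh : HForm q h) (x y : V) :
    h x (-y) = - h x y := by
  have h1 := hh.add_right hF x y (-y)
  rw [add_neg_cancel, hh.zero_right hF] at h1
  exact eq_neg_of_add_eq_zero_right h1.symm

theorem sub_right' [Fintype F] (hF : Fintype.card F = q ^ 2) (hh : HForm q h) (x y z : V) :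
    h x (y - z) = h x y - h x z := by
  rw [sub_eq_add_neg, hh.add_right hF, neg_right' hF hh, ← sub_eq_add_neg]

theorem sub_left' (hh : HForm q h) (x y z : V) : h (x - y) z = h x z - h y z := by
  have h1 := hh.add_left (x - y) y z
  rw [sub_add_cancel] at h1
  rw [h1, add_sub_cancel_right]

/-- U-B: splitting off a piece of a unipotent isometry -/
theorem exists_piece_u [Fintype F] [FiniteDimensional F V] (hF : Fintype.card F = q ^ 2)
    (hh : HForm q h) (p : ℕ) (hp : 0 < p) (u : V →ₗ[F] V) (hu : u ^ p = 1)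
    (hNp : (u - 1) ^ p = 0) (hiso : Isom h u)
    (U : Submodule F V) (hU : Inv u U) (hUnd : ND h U) (hne : U ≠ ⊥) :
    ∃ (P : Submodule F V) (a : ℕ), P ≤ U ∧ Inv u P ∧ ND h P ∧ 0 < a ∧ a ≤ p ∧
      finrank F P = a ∧ ∀ k, finrank F ↥(P ⊓ LinearMap.ker ((u - 1) ^ k)) = min a k := by
  classical
  set N : V →ₗ[F] V := u - 1 with hN
  set ui : V →ₗ[F] V := u ^ (p - 1) with hui
  have hu1 : ∀ x, u (ui x) = x := by
    intro x
    rw [hui, ← Module.End.mul_apply, ← pow_succ', Nat.sub_add_cancel hp, hu, Module.End.one_apply]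
  have hu2 : ∀ x, ui (u x) = x := by
    intro x
    rw [hui, ← Module.End.mul_apply, ← pow_succ, Nat.sub_add_cancel hp, hu, Module.End.one_apply]
  have hNU : Inv N U := Cfsg.Agent.Lib.Helper98.Nd.inv_sub_one u U hU
  have hNapp : ∀ x, N x = u x - x := fun x => by
    rw [hN, LinearMap.sub_apply, Module.End.one_apply]
  -- the nilpotency index on U
  have hex : ∃ a : ℕ, ∀ x ∈ U, (N ^ a) x = 0 := ⟨p, fun x _ => by rw [hNp]; rfl⟩
  set a := Nat.find hex with ha
  have haU : ∀ x ∈ U, (N ^ a) x = 0 := Nat.find_spec hex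
  have hap : a ≤ p := Nat.find_min' hex (fun x _ => by rw [hNp]; rfl)
  have ha0 : 0 < a := by
    rcases Nat.eq_zero_or_pos a with h0 | h0
    · exfalso
      apply hne
      rw [eq_bot_iff]
      intro x hx
      have := haU x hx
      rw [h0, pow_zero, Module.End.one_apply] at this
      rw [this]
      exact Submodule.zero_mem _
    · exact h0
  obtain ⟨w0, hw0U, hw0⟩ : ∃ w0 ∈ U, (N ^ (a - 1)) w0 ≠ 0 := by
    have := Nat.find_min hex (show a - 1 < a by omega)
    push Not at this
    exact this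
  -- adjoint of N
  obtain ⟨K, hK⟩ : ∃ K : V →ₗ[F] V, K = ui * N := ⟨_, rfl⟩
  have hadj1 : ∀ x y, h (N x) y = - h x (K y) := by
    intro x y
    have e1 : h (u x) y = h x (ui y) := by
      conv_lhs => rw [← hu1 y]
      exact hiso x (ui y)
    rw [hK, Module.End.mul_apply, hNapp, hNapp, map_sub, hu2, sub_left' hh, sub_right' hF hh, e1]
    ring
  have hadj : ∀ i x y, h ((N ^ i) x) y = (-1) ^ i * h x ((K ^ i) y) := by
    intro i
    induction i with
    | zero => intro x y; simp
    | succ i ih =>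
      intro x y
      calc h ((N ^ (i + 1)) x) y = h ((N ^ i) (N x)) y := by rw [pow_succ, Module.End.mul_apply]
        _ = (-1) ^ i * h (N x) ((K ^ i) y) := ih _ _
        _ = (-1) ^ i * - h x (K ((K ^ i) y)) := by rw [hadj1]
        _ = (-1) ^ (i + 1) * h x ((K ^ (i + 1)) y) := by
          rw [pow_succ' K, Module.End.mul_apply, pow_succ]
          ring
  have hcomm : Commute ui N := by
    rw [hui, hN]
    exact ((Commute.refl u).pow_left (p - 1)).sub_right (Commute.one_right _)
  have hKpow : ∀ i, K ^ i = ui ^ i * N ^ i := fun i => by rw [hK, hcomm.mul_pow]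
  have hNadd : ∀ (y : V) (hy : y ∈ U) (n : ℕ), a ≤ n → (N ^ n) y = 0 := by
    intro y hy n hn
    obtain ⟨c, rfl⟩ := Nat.exists_eq_add_of_le hn
    rw [add_comm, pow_add, Module.End.mul_apply, haU y hy, map_zero]
  have hfix : ∀ z : V, N z = 0 → ∀ i, (ui ^ i) z = z := by
    intro z hz i
    have huz : u z = z := by
      have := hNapp z
      rw [hz] at this
      exact (sub_eq_zero.mp this.symm)
    have h1 : ui z = z := by
      conv_lhs => rw [← huz]
      exact hu2 z
    induction i with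
    | zero => simp
    | succ i ih => rw [pow_succ, Module.End.mul_apply, h1, ih]
  have P1 : ∀ x, ∀ y ∈ U, ∀ i j, a ≤ i + j → h ((N ^ i) x) ((N ^ j) y) = 0 := by
    intro x y hy i j hij
    rw [hadj, hKpow, Module.End.mul_apply, ← Module.End.mul_apply (N ^ i), ← pow_add,
      hNadd y hy _ hij, map_zero, hh.zero_right hF, mul_zero]
  have P2 : ∀ x, ∀ y ∈ U, ∀ i j, i + j + 1 = a →
      h ((N ^ i) x) ((N ^ j) y) = (-1) ^ i * h x ((N ^ (a - 1)) y) := by
    intro x y hy i j hij
    rw [hadj, hKpow, Module.End.mul_apply, ← Module.End.mul_apply (N ^ i), ← pow_add]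
    have : i + j = a - 1 := by omega
    rw [this, hfix]
    rw [← Module.End.mul_apply, ← pow_succ', Nat.sub_add_cancel ha0]
    exact haU y hy
  -- the sesquilinear form `g x y = h x (N^(a-1) y)`
  obtain ⟨g, hg⟩ : ∃ g : V → V → F, ∀ x y, g x y = h x ((N ^ (a - 1)) y) := ⟨_, fun _ _ => rfl⟩
  have hgaddl : ∀ x x' y, g (x + x') y = g x y + g x' y := by
    intro x x' y; rw [hg, hg, hg, hh.add_left]
  have hgaddr : ∀ x y y', g x (y + y') = g x y + g x y' := by
    intro x y y'; rw [hg, hg, hg, map_add, hh.add_right hF]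
  have hgsmull : ∀ (c : F) x y, g (c • x) y = c * g x y := by
    intro c x y; rw [hg, hg, hh.smul_left]
  have hgsmulr : ∀ (c : F) x y, g x (c • y) = c ^ q * g x y := by
    intro c x y; rw [hg, hg, map_smul, hh.smul_right]
  obtain ⟨x0, hx0U, hx0⟩ : ∃ x0 ∈ U, g x0 w0 ≠ 0 := by
    by_contra hcon
    push Not at hcon
    apply hw0
    apply hUnd _ (hNU.pow_mem _ _ hw0U)
    intro x hx
    have := hcon x hx
    rw [hg] at this
    exact eq_zero_symm' hF hh this
  obtain ⟨v, hvU, hv⟩ : ∃ v ∈ U, g v v ≠ 0 := by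
    by_contra hcon
    push Not at hcon
    have hskew : ∀ x ∈ U, ∀ y ∈ U, g y x = - g x y := by
      intro x hx y hy
      have h1 := hcon (x + y) (Submodule.add_mem _ hx hy)
      rw [hgaddl, hgaddr, hgaddr, hcon x hx, hcon y hy, zero_add, add_zero] at h1
      exact eq_neg_of_add_eq_zero_right h1
    obtain ⟨c, hc⟩ := Cfsg.Agent.Lib.Helper46.exists_frobRing_ne hF
    rw [Cfsg.Agent.Lib.Helper46.frobRing_apply] at hc
    have h1 := hskew (c • x0) (Submodule.smul_mem _ _ hx0U) w0 hw0U
    rw [hgsmull, hgsmulr, hskew x0 hx0U w0 hw0U] at h1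
    have h2 : (c ^ q - c) * g x0 w0 = 0 := by linear_combination -h1
    rcases mul_eq_zero.mp h2 with h3 | h3
    · exact hc (sub_eq_zero.mp h3)
    · exact hx0 h3
  rw [hg] at hv
  obtain ⟨P, hPU, hPinv, hPnd, hPd, hPk⟩ := piece_of_chains_u hF hh N U hNU a ha0 haU P1 P2 1
    (fun _ => v) (fun _ => hvU) (by
      intro γ hγ
      funext l
      have := hγ l
      rw [Fin.sum_univ_one] at this
      rcases mul_eq_zero.mp this with h0 | h0
      · rw [Subsingleton.elim l 0]; exact h0
      · exact absurd h0 hv)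
  refine ⟨P, a, hPU, Cfsg.Agent.Lib.Helper98.Nd.inv_of_inv_sub_one u P hPinv, hPnd, ha0, hap, ?_, ?_⟩
  · rw [hPd, one_mul]
  · intro k
    rw [hPk k, one_mul]

end Cfsg.Agent.Lib.Helper79.UNd
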