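import Cfsg.Agent.S0915
import Cfsg.Agent.Lib.Helper22.BlockQuot
import Cfsg.Agent.Lib.Helper83.Quotient
import Cfsg.Agent.Lib.Helper81.PSolvable
import Cfsg.Agent.Lib.Helper29.PCore
import Cfsg.Agent.Lib.Helper01.PPrimeCore
import Cfsg.Agent.Lib.Helper05.CharBasic

set_option autoImplicit false
open Cfsg

namespace Cfsg.Agent.Lib.Helper79

universe u

variable {G : Type u} [Group G] [Finite G]

/-- characters of the principal block have `O_{p'}(G)` in their kernel. -/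
theorem principalBlock_ker (p : ℕ) [Fact p.Prime] (M : Ideal AlgInt) (hM : IsPModular p M)
    (χ : IrrCharacter G) (hχ : χ ∈ principalBlock M G) :
    ∀ n ∈ pPrimeCore p G, (χ : G → ℂ) n = (χ : G → ℂ) 1 := by
  haveI : (pPrimeCore p G).Normal := Cfsg.Agent.Lib.Helper01.pPrimeCore_normal p
  have hcop : ¬ p ∣ Nat.card (pPrimeCore p G) := by
    have h := Cfsg.Agent.Lib.Helper01.pPrimeCore_card_coprime (G := G) p
    intro hd
    have := Nat.Coprime.eq_one_of_dvd h.symm hd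
    exact (Fact.out : p.Prime).one_lt.ne' this
  exact Cfsg.Agent.Lib.Helper22.ker_of_sameBlock hM (pPrimeCore p G) hcop
    (α := fun _ => (1 : ℂ)) (β := (χ : G → ℂ))
    Cfsg.Agent.Lib.Helper05.isIrrCharacter_one χ.2 hχ (fun _ _ => rfl)

/-- in a `p`-solvable group, every irreducible character with `O_{p'}(G)` in its kernel lies in
the principal block. -/
theorem mem_principalBlock_of_ker (p : ℕ) [Fact p.Prime] (M : Ideal AlgInt) (hM : IsPModular p M)
    (hsolv : IsPSolvable p G) (χ : IrrCharacter G)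
    (hχ : ∀ n ∈ pPrimeCore p G, (χ : G → ℂ) n = (χ : G → ℂ) 1) :
    χ ∈ principalBlock M G := by
  haveI : (pPrimeCore p G).Normal := Cfsg.Agent.Lib.Helper01.pPrimeCore_normal p
  set N := pPrimeCore p G with hN
  have hp : p.Prime := Fact.out
  have hq : IsPSolvable p (G ⧸ N) := Cfsg.Agent.Lib.Helper81.IsPSolvable.quotient hp hsolv N
  have hcore : pPrimeCore p (G ⧸ N) = ⊥ := Cfsg.Agent.Lib.Helper29.pPrimeCore_quotient_eq_bot p
  -- deflate χ
  let ψ : IrrCharacter (G ⧸ N) := (Cfsg.Agent.Lib.Helper83.irrQuotientEquiv N).symm ⟨χ, hχ⟩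
  have hψ : ∀ g : G, (ψ : G ⧸ N → ℂ) (QuotientGroup.mk g) = (χ : G → ℂ) g := fun g =>
    Cfsg.Agent.Lib.Helper83.irrQuotientEquiv_symm_apply N ⟨χ, hχ⟩ g
  let one' : IrrCharacter (G ⧸ N) := ⟨fun _ => 1, Cfsg.Agent.Lib.Helper05.isIrrCharacter_one⟩
  have hsb : SameBlock M ((one' : IrrCharacter (G ⧸ N)) : G ⧸ N → ℂ) (ψ : G ⧸ N → ℂ) :=
    Cfsg.Agent.S0915.result p M hM hq hcore one' ψ
  have hinf := Cfsg.Agent.Lib.Helper22.sameBlock_inflate (G := G) hM.2.1.isPrime N hsb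
  have h1 : ((one' : G ⧸ N → ℂ) ∘ (QuotientGroup.mk : G → G ⧸ N)) = fun _ => (1 : ℂ) := by
    funext g; rfl
  have h2 : ((ψ : G ⧸ N → ℂ) ∘ (QuotientGroup.mk : G → G ⧸ N)) = (χ : G → ℂ) := by
    funext g; exact hψ g
  rw [h1, h2] at hinf
  exact hinf

/-- the principal block of a `p`-solvable group consists of the characters with `O_{p'}(G)` in
their kernel. -/
theorem mem_principalBlock_iff_ker (p : ℕ) [Fact p.Prime] (M : Ideal AlgInt)
    (hM : IsPModular p M) (hsolv : IsPSolvable p G) (χ : IrrCharacter G) :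
    χ ∈ principalBlock M G ↔ ∀ n ∈ pPrimeCore p G, (χ : G → ℂ) n = (χ : G → ℂ) 1 :=
  ⟨principalBlock_ker p M hM χ, mem_principalBlock_of_ker p M hM hsolv χ⟩

end Cfsg.Agent.Lib.Helper79
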