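import Mathlib
import Cfsg.Agent.Lib.Helper99.OTsDefs
import Cfsg.Agent.Lib.Helper50.TypeCriteria
import Cfsg.Agent.Lib.Helper50.WittMain
import Cfsg.Agent.Lib.Helper50.MinusParam
import Cfsg.Agent.Lib.Helper50.ElusiveCount

/-!
# K-OTs-O3 (keystone 597303, architect helper99): the number of nonzero singular vectors of a nondegenerate
subspace of even dimension, by type (all characteristics).
-/

set_option autoImplicit false

namespace Cfsg.Agent.Lib.Helper79.OTs

open Module Cfsg.Agent.Lib.Helper98.Elus Cfsg.Agent.Lib.Helper98.Sy Cfsg.Agent.Lib.Helper99.OTs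

universe u
variable {F : Type u} [Field F] {V : Type u} [AddCommGroup V] [Module F V]

/-- removing the zero vector from the zero set -/
theorem card_nonzero_zeros {X : Type*} [Finite X] [Zero X] (R : X → F) (h0 : R 0 = 0) :
    Nat.card {v : X // v ≠ 0 ∧ R v = 0} + 1 = Nat.card {v : X // R v = 0} := by
  classical
  haveI : Fintype X := Fintype.ofFinite X
  rw [Nat.card_eq_fintype_card, Nat.card_eq_fintype_card, Fintype.card_subtype, Fintype.card_subtype]
  have h1 : (Finset.univ.filter fun v : X => R v = 0) =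
      insert 0 (Finset.univ.filter fun v : X => v ≠ 0 ∧ R v = 0) := by
    ext v
    simp only [Finset.mem_filter, Finset.mem_univ, true_and, Finset.mem_insert]
    constructor
    · intro h
      by_cases hv : v = 0
      · exact Or.inl hv
      · exact Or.inr ⟨hv, h⟩
    · rintro (h | h)
      · rw [h]; exact h0
      · exact h.2
  rw [h1, Finset.card_insert_of_notMem]
  simp

/-- transport of the count of nonzero singular vectors along an isometry with a model -/
theorem card_singular_of_model (Q : QuadraticForm F V) (U : Submodule F V) {κ : Type*}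
    (R : (κ → F) → F) (φ : U ≃ₗ[F] (κ → F)) (hφ : ∀ v : U, R (φ v) = Q (v : V)) :
    Nat.card {x : V // x ∈ U ∧ x ≠ 0 ∧ Q x = 0} = Nat.card {v : κ → F // v ≠ 0 ∧ R v = 0} := by
  apply Nat.card_congr
  refine
    { toFun := fun x => ⟨φ ⟨x.1, x.2.1⟩, ?_, ?_⟩
      invFun := fun v => ⟨((φ.symm v.1 : U) : V), (φ.symm v.1).2, ?_, ?_⟩
      left_inv := ?_
      right_inv := ?_ }
  · intro h
    have h1 : (⟨x.1, x.2.1⟩ : U) = 0 := φ.map_eq_zero_iff.mp h
    exact x.2.2.1 (congrArg Subtype.val h1)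
  · rw [hφ]
    exact x.2.2.2
  · intro h
    have h1 : φ.symm v.1 = 0 := Subtype.ext h
    exact v.2.1 (φ.symm.map_eq_zero_iff.mp h1)
  · rw [← hφ, LinearEquiv.apply_symm_apply]
    exact v.2.2
  · intro x
    apply Subtype.ext
    simp
  · intro v
    apply Subtype.ext
    simp

/-- **K-OTs-O3.** -/
theorem card_singular [Fintype F] [FiniteDimensional F V] (Q : QuadraticForm F V) (U : Submodule F V)
    (hU : NonDeg (QuadraticMap.polarBilin Q) U) (e : ℕ) (hUd : finrank F U = 2 * e) :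
    (PlusOn Q U → Nat.card {x : V // x ∈ U ∧ x ≠ 0 ∧ Q x = 0} =
      (Fintype.card F ^ e - 1) * (Fintype.card F ^ (e - 1) + 1)) ∧
    (¬ PlusOn Q U → Nat.card {x : V // x ∈ U ∧ x ≠ 0 ∧ Q x = 0} =
      (Fintype.card F ^ e + 1) * (Fintype.card F ^ (e - 1) - 1)) := by
  classical
  set Q' : QuadraticForm F U := Q.comp U.subtype with hQ'
  have hQ'app : ∀ v : U, Q' v = Q (v : V) := fun v => rfl
  have hND : Cfsg.Agent.Lib.Helper50.QND Q' := by
    intro v hv
    apply Subtype.ext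
    apply hU v.1 v.2
    intro w hw
    have := hv ⟨w, hw⟩
    exact this
  have hq1 : 1 ≤ Fintype.card F := Fintype.card_pos
  -- the two counts
  have hplus : Cfsg.Agent.Lib.Helper50.IsPlusType Q' e →
      Nat.card {x : V // x ∈ U ∧ x ≠ 0 ∧ Q x = 0} =
        (Fintype.card F ^ e - 1) * (Fintype.card F ^ (e - 1) + 1) := by
    rintro ⟨φ, hφ⟩
    rw [card_singular_of_model Q U (Cfsg.quadFormPlus e F) φ hφ]
    have h1 := card_nonzero_zeros (X := Fin e ⊕ Fin e → F) (Cfsg.quadFormPlus e F)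
      (by simp [Cfsg.quadFormPlus])
    rw [Cfsg.Agent.Lib.Helper50.card_zeros_plus] at h1
    have h2 : 1 ≤ Fintype.card F ^ e := Nat.one_le_pow _ _ hq1
    obtain ⟨a, ha⟩ : ∃ a, Fintype.card F ^ e = a + 1 := ⟨_, (Nat.sub_add_cancel h2).symm⟩
    rw [ha] at h1 ⊢
    simp only [Nat.add_sub_cancel] at h1 ⊢
    have h3 : Nat.card {v : Fin e ⊕ Fin e → F // v ≠ 0 ∧ Cfsg.quadFormPlus e F v = 0} =
        a + a * Fintype.card F ^ (e - 1) := by omega
    rw [h3]
    ring
  have hminus : ∀ m : ℕ, ∀ ζ : F, e = m + 1 → (∀ t : F, t ^ 2 + t + ζ ≠ 0) →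
      Cfsg.Agent.Lib.Helper50.IsMinusType Q' m ζ →
      Nat.card {x : V // x ∈ U ∧ x ≠ 0 ∧ Q x = 0} =
        (Fintype.card F ^ e + 1) * (Fintype.card F ^ (e - 1) - 1) := by
    rintro m ζ rfl hζ ⟨φ, hφ⟩
    rw [card_singular_of_model Q U (Cfsg.quadFormMinus m F 1 ζ) φ hφ]
    have h1 := card_nonzero_zeros (X := (Fin m ⊕ Fin m) ⊕ Fin 2 → F) (Cfsg.quadFormMinus m F 1 ζ)
      (by simp [Cfsg.quadFormMinus])
    have h2 := Cfsg.Agent.Lib.Helper50.card_zeros_minus m 1 ζ
      (Cfsg.Agent.Lib.Helper50.anis_of_irred ζ hζ)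
    rw [← h1] at h2
    have h3 : 1 ≤ Fintype.card F ^ m := Nat.one_le_pow _ _ hq1
    obtain ⟨a, ha⟩ : ∃ a, Fintype.card F ^ m = a + 1 := ⟨_, (Nat.sub_add_cancel h3).symm⟩
    simp only [Nat.add_sub_cancel]
    rw [ha]
    simp only [Nat.add_sub_cancel]
    have e1 : Fintype.card F ^ (m + 1) = (a + 1) * Fintype.card F := by rw [pow_succ, ha]
    have e2 : Fintype.card F ^ (2 * m + 1) = (a + 1) * (a + 1) * Fintype.card F := by
      rw [pow_succ, two_mul, pow_add, ha]
    rw [e1, e2, ha] at h2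
    rw [e1]
    have h4 : Nat.card {v : (Fin m ⊕ Fin m) ⊕ Fin 2 → F // v ≠ 0 ∧ Cfsg.quadFormMinus m F 1 ζ v = 0} +
        (a + 1) * Fintype.card F = (a + 1) * (a + 1) * Fintype.card F + a := by omega
    have h5 : (a + 1) * (a + 1) * Fintype.card F = a * ((a + 1) * Fintype.card F) +
        (a + 1) * Fintype.card F := by ring
    rw [h5] at h4
    have h6 : Nat.card {v : (Fin m ⊕ Fin m) ⊕ Fin 2 → F // v ≠ 0 ∧ Cfsg.quadFormMinus m F 1 ζ v = 0} =
        a * ((a + 1) * Fintype.card F) + a := by omega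
    rw [h6]
    ring
  -- plus type of the model ↔ `PlusOn`
  have hP_of : Cfsg.Agent.Lib.Helper50.IsPlusType Q' e → PlusOn Q U := by
    intro hp
    obtain ⟨X, hX, hX0⟩ := Cfsg.Agent.Lib.Helper50.exists_totally_singular_of_plusType Q' e hp
    refine ⟨X.map U.subtype, Submodule.map_subtype_le U X, ?_, ?_⟩
    · rintro _ ⟨x, hx, rfl⟩
      exact hX0 x hx
    · rw [Submodule.finrank_map_subtype_eq, hX, hUd]
  have hnotP : ∀ m : ℕ, ∀ ζ : F, e = m + 1 → (∀ t : F, t ^ 2 + t + ζ ≠ 0) →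
      Cfsg.Agent.Lib.Helper50.IsMinusType Q' m ζ → ¬ PlusOn Q U := by
    rintro m ζ rfl hζ hm ⟨Z, hZU, hZ, hZd⟩
    have hZd' : finrank F Z = m + 1 := by omega
    have hX : finrank F (Z.comap U.subtype) = m + 1 := by
      rw [← hZd']
      exact LinearEquiv.finrank_eq (Submodule.comapSubtypeEquivOfLe hZU)
    have hp := Cfsg.Agent.Lib.Helper50.plusType_of_totally_singular (m + 1) Q' hND hUd
      (Z.comap U.subtype) hX.ge (fun x hx => hZ _ hx)
    exact Cfsg.Agent.Lib.Helper50.not_plus_and_minus Q' m ζ hζ hp hm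
  rcases Cfsg.Agent.Lib.Helper50.witt_type (2 * e) Q' hUd hND with
    ⟨m, hm, hp⟩ | ⟨m, ζ, hm, hζ, hp⟩ | ⟨m, c, hm, -, -⟩
  · obtain rfl : m = e := by omega
    exact ⟨fun _ => hplus hp, fun h => absurd (hP_of hp) h⟩
  · have he : e = m + 1 := by omega
    exact ⟨fun h => absurd h (hnotP m ζ he hζ hp), fun _ => hminus m ζ he hζ hp⟩
  · omega

end Cfsg.Agent.Lib.Helper79.OTs
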