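import Mathlib

/-!
# K-H4-AR (keystone 422127, helper6's pack for S4221): the final arithmetic
-/

set_option autoImplicit false

namespace Cfsg.Agent.Lib.Helper79.Hall4

/-- LEAF AR (422127). -/
theorem arith_main (f N h c0 c0' cx cy cz rx ry rz C : ℕ) (hf : f = 2 ∨ f = 3) (hN : 5 ≤ N)
    (hh : 0 < h) (hc0 : 0 < c0) (hc0' : 0 < c0') (hcx : 0 < cx) (hcz : 0 < cz)
    (e1 : C = f * (f - 1) * N * cx) (e2 : C = f * (f - 1) * N * cy)
    (e3 : C = N * (N - 2) * cz) (e4 : C = N * (N - 2) * rx) (e5 : C = N * (N - 2) * ry)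
    (e6 : C = N * (N - 2) * rz) (e7 : 4 * c0 = (N - 4) * c0')
    (e8 : h * c0 ^ 2 = cx * cy * cz) (e9 : h * c0' ^ 2 = rx * ry * rz) :
    f = 3 ∧ N = 8 ∧ c0 = c0' ∧ cx = cz ∧ cy = cz := by
  obtain ⟨M, rfl⟩ : ∃ M, N = M + 5 := ⟨N - 5, by omega⟩
  have hN4 : M + 5 - 4 = M + 1 := by omega
  have hN2 : M + 5 - 2 = M + 3 := by omega
  rw [hN4] at e7
  rw [hN2] at e3 e4 e5 e6
  have hpos : 0 < (M + 5) * (M + 3) := by positivity
  have hrx : rx = cz := by
    have : (M + 5) * (M + 3) * rx = (M + 5) * (M + 3) * cz := by rw [← e4, ← e3]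
    exact Nat.eq_of_mul_eq_mul_left hpos this
  have hry : ry = cz := by
    have : (M + 5) * (M + 3) * ry = (M + 5) * (M + 3) * cz := by rw [← e5, ← e3]
    exact Nat.eq_of_mul_eq_mul_left hpos this
  have hrz : rz = cz := by
    have : (M + 5) * (M + 3) * rz = (M + 5) * (M + 3) * cz := by rw [← e6, ← e3]
    exact Nat.eq_of_mul_eq_mul_left hpos this
  rw [hrx, hry, hrz] at e9
  have hff : 0 < f * (f - 1) := by
    rcases hf with rfl | rfl <;> norm_num
  have hcy : cy = cx := by
    have : f * (f - 1) * (M + 5) * cy = f * (f - 1) * (M + 5) * cx := by rw [← e2, ← e1]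
    exact Nat.eq_of_mul_eq_mul_left (by positivity) this
  rw [hcy] at e8
  have hsq : (c0 * cz) ^ 2 = (cx * c0') ^ 2 := by
    have : h * (c0 * cz) ^ 2 = h * (cx * c0') ^ 2 := by
      calc h * (c0 * cz) ^ 2 = (h * c0 ^ 2) * cz ^ 2 := by ring
        _ = (cx * cx * cz) * cz ^ 2 := by rw [e8]
        _ = cx ^ 2 * (cz * cz * cz) := by ring
        _ = cx ^ 2 * (h * c0' ^ 2) := by rw [e9]
        _ = h * (cx * c0') ^ 2 := by ring
    exact Nat.eq_of_mul_eq_mul_left hh this
  have hlin : c0 * cz = cx * c0' := Nat.pow_left_injective (n := 2) (by norm_num) hsq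
  have h4 : 4 * cx = (M + 1) * cz := by
    have : c0' * (4 * cx) = c0' * ((M + 1) * cz) := by
      calc c0' * (4 * cx) = 4 * (cx * c0') := by ring
        _ = 4 * (c0 * cz) := by rw [hlin]
        _ = (4 * c0) * cz := by ring
        _ = ((M + 1) * c0') * cz := by rw [e7]
        _ = c0' * ((M + 1) * cz) := by ring
    exact Nat.eq_of_mul_eq_mul_left hc0' this
  have h5 : f * (f - 1) * cx = (M + 3) * cz := by
    have : (M + 5) * (f * (f - 1) * cx) = (M + 5) * ((M + 3) * cz) := by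
      calc (M + 5) * (f * (f - 1) * cx) = f * (f - 1) * (M + 5) * cx := by ring
        _ = C := e1.symm
        _ = (M + 5) * (M + 3) * cz := e3
        _ = (M + 5) * ((M + 3) * cz) := by ring
    exact Nat.eq_of_mul_eq_mul_left (by positivity) this
  have h6 : f * (f - 1) * (M + 1) = 4 * (M + 3) := by
    have : cz * (f * (f - 1) * (M + 1)) = cz * (4 * (M + 3)) := by
      calc cz * (f * (f - 1) * (M + 1)) = f * (f - 1) * ((M + 1) * cz) := by ring
        _ = f * (f - 1) * (4 * cx) := by rw [h4]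
        _ = 4 * (f * (f - 1) * cx) := by ring
        _ = 4 * ((M + 3) * cz) := by rw [h5]
        _ = cz * (4 * (M + 3)) := by ring
    exact Nat.eq_of_mul_eq_mul_left hcz this
  rcases hf with rfl | rfl
  · exfalso
    norm_num at h6
    omega
  · have hM : M = 3 := by
      norm_num at h6
      omega
    subst hM
    have hcxz : cx = cz := by omega
    subst hcxz
    refine ⟨rfl, rfl, ?_, rfl, hcy⟩
    exact Nat.eq_of_mul_eq_mul_left hcx (by rw [mul_comm cx c0, hlin])

end Cfsg.Agent.Lib.Helper79.Hall4
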