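import Cfsg.Agent.Lib.Helper06.Hall4.Defs

/-!
# K-H4-CJ (keystone 422108, helper6's pack for S4221): all involutions are conjugate (`n ≥ 7`)

`conj_invol_of` takes the statements of LEAF P2 (`conj_of_agree`) and LEAF P3 (`nfix_le_three`)
as hypotheses; own proofs of P2 and P3 (exact spec signatures) are included, so `conj_invol` is
self-contained.
-/

set_option autoImplicit false
open Equiv

namespace Cfsg.Agent.Lib.Helper79.Hall4
open Cfsg.Agent.Lib.Helper06.Hall4

variable {α : Type*} [Fintype α] [DecidableEq α]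

theorem invol_apply {t : Perm α} (t2 : t * t = 1) (x : α) : t (t x) = x := by
  have : (t * t) x = x := by rw [t2]; rfl
  exact this

/-- an element of a finite group of odd order whose square is `1` is trivial -/
theorem eq_one_of_mem_odd (H : Subgroup (Perm α)) (hH : Odd (Nat.card H)) {t : Perm α}
    (ht : t ∈ H) (t2 : t * t = 1) : t = 1 := by
  have h1 : orderOf (⟨t, ht⟩ : H) ∣ Nat.card H := orderOf_dvd_natCard _
  have h2 : orderOf (⟨t, ht⟩ : H) ∣ 2 := by
    apply orderOf_dvd_of_pow_eq_one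
    apply Subtype.ext
    show t ^ 2 = 1
    rw [pow_two, t2]
  rcases (Nat.dvd_prime Nat.prime_two).mp h2 with h | h
  · rw [orderOf_eq_one_iff] at h
    exact congrArg Subtype.val h
  · exfalso
    rw [h] at h1
    rcases hH with ⟨m, hm⟩
    omega

/-- LEAF P3 (422106), own proof. -/
theorem nfix_le_three (G : Subgroup (Perm α)) (hodd : Odd4 G) {t : Perm α} (ht : t ∈ G)
    (t2 : t * t = 1) (t1 : t ≠ 1) : nfix t ≤ 3 := by
  by_contra hcon
  have h4 : 3 < (Function.fixedPoints t).ncard := by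
    unfold nfix at hcon
    omega
  obtain ⟨a, ha, -⟩ := Set.exists_mem_notMem_of_ncard_lt_ncard
    (s := (∅ : Set α)) (t := Function.fixedPoints t) (by rw [Set.ncard_empty]; omega)
    Set.finite_empty
  obtain ⟨b, hb, hba⟩ := Set.exists_mem_notMem_of_ncard_lt_ncard
    (s := ({a} : Set α)) (t := Function.fixedPoints t) (by rw [Set.ncard_singleton]; omega)
    (Set.toFinite _)
  have h2 : ({a, b} : Set α).ncard ≤ 2 := by
    calc ({a, b} : Set α).ncard ≤ ({b} : Set α).ncard + 1 := Set.ncard_insert_le _ _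
      _ = 2 := by rw [Set.ncard_singleton]
  obtain ⟨c, hc, hcab⟩ := Set.exists_mem_notMem_of_ncard_lt_ncard
    (s := ({a, b} : Set α)) (t := Function.fixedPoints t) (by omega) (Set.toFinite _)
  have h3 : ({a, b, c} : Set α).ncard ≤ 3 := by
    calc ({a, b, c} : Set α).ncard ≤ ({b, c} : Set α).ncard + 1 := Set.ncard_insert_le _ _
      _ ≤ (({c} : Set α).ncard + 1) + 1 := by
        have := Set.ncard_insert_le b ({c} : Set α)
        omega
      _ = 3 := by rw [Set.ncard_singleton]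
  obtain ⟨d, hd, hdabc⟩ := Set.exists_mem_notMem_of_ncard_lt_ncard
    (s := ({a, b, c} : Set α)) (t := Function.fixedPoints t) (by omega) (Set.toFinite _)
  simp only [Set.mem_insert_iff, Set.mem_singleton_iff, not_or] at hba hcab hdabc
  have hab : a ≠ b := fun h => hba h.symm
  have hac : a ≠ c := fun h => hcab.1 h.symm
  have had : a ≠ d := fun h => hdabc.1 h.symm
  have hbc : b ≠ c := fun h => hcab.2 h.symm
  have hbd : b ≠ d := fun h => hdabc.2.1 h.symm
  have hcd : c ≠ d := fun h => hdabc.2.2 h.symm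
  have hmem : t ∈ FS G {a, b, c, d} := by
    refine ⟨ht, ?_⟩
    intro s hs
    simp only [Set.mem_insert_iff, Set.mem_singleton_iff] at hs
    rcases hs with rfl | rfl | rfl | rfl
    · exact ha
    · exact hb
    · exact hc
    · exact hd
  exact t1 (eq_one_of_mem_odd _ (hodd a b c d hab hac had hbc hbd hcd) hmem t2)

/-- LEAF P2 (422105), own proof. -/
theorem conj_of_agree (G : Subgroup (Perm α)) (hodd : Odd4 G)
    {a b c d : α} (hab : a ≠ b) (hac : a ≠ c) (had : a ≠ d) (hbc : b ≠ c) (hbd : b ≠ d)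
    (hcd : c ≠ d) {t t' : Perm α} (ht : t ∈ G) (ht' : t' ∈ G) (t2 : t * t = 1) (t2' : t' * t' = 1)
    (ha : t' a = t a) (hb : t' b = t b) (hc : t' c = t c) (hd : t' d = t d) :
    ∃ u ∈ FS G {a, b, c, d}, u * t * u⁻¹ = t' ∧
      ∀ v : Perm α, v * t = t * v → v * t' = t' * v → v * u = u * v := by
  have htt' := invol_apply t2'
  have hfix : ∀ s : α, t' s = t s → (t' * t) s = s := by
    intro s hs
    rw [Perm.mul_apply, ← hs, htt']
  have hw : t' * t ∈ FS G {a, b, c, d} := by
    refine ⟨G.mul_mem ht' ht, ?_⟩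
    intro s hs
    simp only [Set.mem_insert_iff, Set.mem_singleton_iff] at hs
    rcases hs with rfl | rfl | rfl | rfl
    · exact hfix _ ha
    · exact hfix _ hb
    · exact hfix _ hc
    · exact hfix _ hd
  have hoddk : Odd (orderOf (t' * t)) := by
    have h1 : orderOf (⟨t' * t, hw⟩ : FS G {a, b, c, d}) ∣ Nat.card (FS G {a, b, c, d}) :=
      orderOf_dvd_natCard _
    rw [Subgroup.orderOf_mk] at h1
    exact Odd.of_dvd_nat (hodd a b c d hab hac had hbc hbd hcd) h1
  obtain ⟨m, hm⟩ := hoddk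
  have tinv : t⁻¹ = t := inv_eq_of_mul_eq_one_left t2
  have tinv' : t'⁻¹ = t' := inv_eq_of_mul_eq_one_left t2'
  have hinvw : t * (t' * t) * t⁻¹ = (t' * t)⁻¹ := by
    have e1 : t * (t' * t) * t⁻¹ = t * t' := by group
    rw [e1, mul_inv_rev, tinv, tinv']
  have hinvu : t * (t' * t) ^ (m + 1) * t⁻¹ = ((t' * t) ^ (m + 1))⁻¹ := by
    rw [← conj_pow, hinvw, inv_pow]
  have huu : (t' * t) ^ (m + 1) * (t' * t) ^ (m + 1) = t' * t := by
    rw [← pow_add]
    have : m + 1 + (m + 1) = orderOf (t' * t) + 1 := by omega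
    rw [this, pow_succ, pow_orderOf_eq_one, one_mul]
  refine ⟨(t' * t) ^ (m + 1), Subgroup.pow_mem _ hw _, ?_, ?_⟩
  · have h1 : t * ((t' * t) ^ (m + 1))⁻¹ = (t' * t) ^ (m + 1) * t := by
      have : t * ((t' * t) ^ (m + 1))⁻¹ * t⁻¹ = (t' * t) ^ (m + 1) := by
        have h := congrArg (fun z => z⁻¹) hinvu
        simp only [mul_inv_rev, inv_inv] at h
        rw [mul_assoc]
        exact h
      calc t * ((t' * t) ^ (m + 1))⁻¹ = t * ((t' * t) ^ (m + 1))⁻¹ * t⁻¹ * t := by group
        _ = (t' * t) ^ (m + 1) * t := by rw [this]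
    rw [mul_assoc, h1, ← mul_assoc, huu, mul_assoc, t2, mul_one]
  · intro v hv hv'
    have hvw : Commute v (t' * t) := by
      have c1 : Commute v t := hv
      have c2 : Commute v t' := hv'
      exact c2.mul_right c1
    exact hvw.pow_right _

/-- an involution with at most three fixed points on at least seven points has two
distinct 2-cycles -/
theorem exists_moved_quad (t : Perm α) (t1 : t ≠ 1) (h3 : nfix t ≤ 3)
    (hn : 7 ≤ Fintype.card α) :
    ∃ a c : α, t a ≠ a ∧ t c ≠ c ∧ c ≠ a ∧ c ≠ t a := by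
  obtain ⟨a, ha⟩ : ∃ a, t a ≠ a := by
    by_contra h
    push Not at h
    exact t1 (Equiv.ext h)
  by_contra hcon
  push Not at hcon
  have huniv : (Set.univ : Set α) ⊆ Function.fixedPoints t ∪ {a, t a} := by
    intro c _
    by_cases hc : t c = c
    · left; exact hc
    · right
      by_cases hca : c = a
      · rw [hca]; exact Set.mem_insert _ _
      · rw [hcon a c ha hc hca]
        exact Set.mem_insert_of_mem _ (Set.mem_singleton _)
  have h4 := Set.ncard_le_ncard huniv (Set.toFinite _)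
  rw [Set.ncard_univ, Nat.card_eq_fintype_card] at h4
  have h5 := Set.ncard_union_le (Function.fixedPoints t) {a, t a}
  have h6 : ({a, t a} : Set α).ncard ≤ 2 := by
    calc ({a, t a} : Set α).ncard ≤ ({t a} : Set α).ncard + 1 := Set.ncard_insert_le _ _
      _ = 2 := by rw [Set.ncard_singleton]
  unfold nfix at h3
  omega

/-- LEAF CJ with the statements of P2 and P3 as hypotheses. -/
theorem conj_invol_of (G : Subgroup (Perm α)) (hG : Trans4 G)
    (hP2 : ∀ {a b c d : α}, a ≠ b → a ≠ c → a ≠ d → b ≠ c → b ≠ d → c ≠ d →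
      ∀ {t t' : Perm α}, t ∈ G → t' ∈ G → t * t = 1 → t' * t' = 1 →
      t' a = t a → t' b = t b → t' c = t c → t' d = t d →
      ∃ u ∈ FS G {a, b, c, d}, u * t * u⁻¹ = t' ∧
        ∀ v : Perm α, v * t = t * v → v * t' = t' * v → v * u = u * v)
    (hP3 : ∀ {t : Perm α}, t ∈ G → t * t = 1 → t ≠ 1 → nfix t ≤ 3)
    (hn : 7 ≤ Fintype.card α) {t t' : Perm α} (ht : t ∈ G) (ht' : t' ∈ G)
    (t2 : t * t = 1) (t2' : t' * t' = 1) (t1 : t ≠ 1) (t1' : t' ≠ 1) :
    ∃ g ∈ G, g * t * g⁻¹ = t' := by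
  obtain ⟨a, c, ha, hc, hca, hcta⟩ := exists_moved_quad t t1 (hP3 ht t2 t1) hn
  obtain ⟨a', c', ha', hc', hca', hcta'⟩ := exists_moved_quad t' t1' (hP3 ht' t2' t1') hn
  have htt := invol_apply t2
  have htt' := invol_apply t2'
  -- distinctness of a, t a, c, t c
  have d1 : a ≠ t a := fun h => ha h.symm
  have d2 : a ≠ c := fun h => hca h.symm
  have d3 : a ≠ t c := by
    intro h
    apply hcta
    rw [h, htt]
  have d4 : t a ≠ c := fun h => hcta h.symm
  have d5 : t a ≠ t c := by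
    intro h
    exact d2 (t.injective h)
  have d6 : c ≠ t c := fun h => hc h.symm
  have d1' : a' ≠ t' a' := fun h => ha' h.symm
  have d2' : a' ≠ c' := fun h => hca' h.symm
  have d3' : a' ≠ t' c' := by
    intro h
    apply hcta'
    rw [h, htt']
  have d4' : t' a' ≠ c' := fun h => hcta' h.symm
  have d5' : t' a' ≠ t' c' := by
    intro h
    exact d2' (t'.injective h)
  have d6' : c' ≠ t' c' := fun h => hc' h.symm
  obtain ⟨g, hgG, g1, g2, g3, g4⟩ :=
    hG a (t a) c (t c) a' (t' a') c' (t' c') d1 d2 d3 d4 d5 d6 d1' d2' d3' d4' d5' d6'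
  -- inverse images
  have i1 : g⁻¹ a' = a := by rw [Perm.inv_eq_iff_eq]; exact g1.symm
  have i2 : g⁻¹ (t' a') = t a := by rw [Perm.inv_eq_iff_eq]; exact g2.symm
  have i3 : g⁻¹ c' = c := by rw [Perm.inv_eq_iff_eq]; exact g3.symm
  have i4 : g⁻¹ (t' c') = t c := by rw [Perm.inv_eq_iff_eq]; exact g4.symm
  have hs : g * t * g⁻¹ ∈ G := G.mul_mem (G.mul_mem hgG ht) (G.inv_mem hgG)
  have hs2 : g * t * g⁻¹ * (g * t * g⁻¹) = 1 := by
    have : g * t * g⁻¹ * (g * t * g⁻¹) = g * (t * t) * g⁻¹ := by group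
    rw [this, t2, mul_one, mul_inv_cancel]
  have e1 : t' a' = (g * t * g⁻¹) a' := by
    rw [Perm.mul_apply, Perm.mul_apply, i1, g2]
  have e2 : t' (t' a') = (g * t * g⁻¹) (t' a') := by
    rw [Perm.mul_apply, Perm.mul_apply, i2, htt, htt', g1]
  have e3 : t' c' = (g * t * g⁻¹) c' := by
    rw [Perm.mul_apply, Perm.mul_apply, i3, g4]
  have e4 : t' (t' c') = (g * t * g⁻¹) (t' c') := by
    rw [Perm.mul_apply, Perm.mul_apply, i4, htt, htt', g3]
  obtain ⟨u, hu, hconj, -⟩ := hP2 d1' d2' d3' d4' d5' d6' hs ht' hs2 t2' e1 e2 e3 e4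
  refine ⟨u * g, G.mul_mem (FS_le G _ hu) hgG, ?_⟩
  rw [← hconj]
  group

/-- LEAF CJ (422108), exact spec signature. -/
theorem conj_invol (G : Subgroup (Perm α)) (hG : Trans4 G) (hodd : Odd4 G)
    (hn : 7 ≤ Fintype.card α) {t t' : Perm α} (ht : t ∈ G) (ht' : t' ∈ G)
    (t2 : t * t = 1) (t2' : t' * t' = 1) (t1 : t ≠ 1) (t1' : t' ≠ 1) :
    ∃ g ∈ G, g * t * g⁻¹ = t' :=
  conj_invol_of G hG
    (fun hab hac had hbc hbd hcd _ _ ht ht' t2 t2' ha hb hc hd =>
      conj_of_agree G hodd hab hac had hbc hbd hcd ht ht' t2 t2' ha hb hc hd)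
    (fun ht t2 t1 => nfix_le_three G hodd ht t2 t1) hn ht ht' t2 t2' t1 t1'

end Cfsg.Agent.Lib.Helper79.Hall4
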