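import Cfsg.Prelude.Def_GeometricClasses
import Cfsg.Agent.Lib.Helper19.Unitary
import Cfsg.Agent.Lib.Helper19.UnitaryDet

set_option autoImplicit false

/-! # Keystone K-SUMax-XA

`q = 2`: a non-degenerate hermitian plane over `F₄` has exactly two non-isotropic points, and they are
orthogonal.  So a non-degenerate 2-decomposition refines canonically to a non-degenerate
1-decomposition, preserved by every isometry preserving the 2-decomposition. -/

namespace Cfsg.Agent.Lib.Helper79.SUMax

open Cfsg Cfsg.Geo Cfsg.Agent.Lib.Helper19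
open scoped Matrix MatrixGroups

variable {F : Type*} [Field F] [Fintype F] {n : ℕ}

namespace XA

theorem two_eq_zero (hF : Fintype.card F = 2 ^ 2) : (2 : F) = 0 := by
  have h4 : ((Fintype.card F : ℕ) : F) = 0 := Nat.cast_card_eq_zero F
  rw [hF] at h4
  have h22 : (2 : F) * 2 = 0 := by
    have : ((2 ^ 2 : ℕ) : F) = 2 * 2 := by push_cast; ring
    rw [← this]; exact h4
  exact mul_self_eq_zero.mp h22

theorem add_self (hF : Fintype.card F = 2 ^ 2) (x : F) : x + x = 0 := by
  rw [← two_mul, two_eq_zero hF, zero_mul]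

theorem pow_three (hF : Fintype.card F = 2 ^ 2) {x : F} (hx : x ≠ 0) : x ^ 3 = 1 := by
  have h := FiniteField.pow_card_sub_one_eq_one x hx
  rw [hF] at h
  exact h

theorem exists_omega (hF : Fintype.card F = 2 ^ 2) : ∃ ω : F, ω ≠ 0 ∧ ω ≠ 1 := by
  classical
  by_contra hcon
  push Not at hcon
  have hsub : (Finset.univ : Finset F) ⊆ {0, 1} := by
    intro x _
    by_cases hx : x = 0
    · simp [hx]
    · simp [hcon x hx]
  have h1 := Finset.card_le_card hsub
  have h2 : ({0, 1} : Finset F).card ≤ 2 := Finset.card_le_two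
  rw [Finset.card_univ, hF] at h1
  omega

theorem herm_zero_left (w : Fin n → F) : hermForm n F 2 0 w = 0 := by
  simp [hermForm]

theorem norm_eq_one (hF : Fintype.card F = 2 ^ 2) {v : Fin n → F} (hv : hermForm n F 2 v v ≠ 0) :
    hermForm n F 2 v v = 1 := by
  have h := hermForm_conj hF v v
  have h2 : hermForm n F 2 v v * hermForm n F 2 v v = hermForm n F 2 v v * 1 := by
    rw [mul_one, ← sq]; exact h
  exact mul_left_cancel₀ hv h2

/-- the form, as a linear map in its first argument -/
noncomputable def hL (w : Fin n → F) : (Fin n → F) →ₗ[F] F where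
  toFun u := hermForm n F 2 u w
  map_add' u u' := hermForm_add_left u u' w
  map_smul' a u := by
    simp only [RingHom.id_apply, smul_eq_mul]
    exact hermForm_smul_left a u w

theorem hL_apply (w u : Fin n → F) : hL w u = hermForm n F 2 u w := rfl

theorem linearIndependent_of_orthogonal {κ : Type*} (c : κ → Fin n → F)
    (h1 : ∀ k, hermForm n F 2 (c k) (c k) ≠ 0)
    (h0 : ∀ k k', k ≠ k' → hermForm n F 2 (c k) (c k') = 0) : LinearIndependent F c := by
  classical
  rw [linearIndependent_iff']
  intro s g hg k hk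
  have h := congrArg (hL (c k)) hg
  rw [map_sum, map_zero] at h
  simp only [map_smul, smul_eq_mul, hL_apply] at h
  rw [Finset.sum_eq_single k] at h
  · exact (mul_eq_zero.mp h).resolve_right (h1 k)
  · intro i _ hik
    rw [h0 i k hik, mul_zero]
  · intro hk'
    exact absurd hk hk'

/-- expansion of the norm of `x • a + y • b` -/
theorem norm_expand (hF : Fintype.card F = 2 ^ 2) (a b : Fin n → F) (x y : F) :
    hermForm n F 2 (x • a + y • b) (x • a + y • b) =
      x * (x ^ 2 * hermForm n F 2 a a) + x * (y ^ 2 * hermForm n F 2 a b) +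
        (y * (x ^ 2 * hermForm n F 2 b a) + y * (y ^ 2 * hermForm n F 2 b b)) := by
  rw [hermForm_add_left, hermForm_add_right hF, hermForm_add_right hF, hermForm_smul_left,
    hermForm_smul_left, hermForm_smul_left, hermForm_smul_left, hermForm_smul_right,
    hermForm_smul_right, hermForm_smul_right, hermForm_smul_right]

/-- the canonical orthogonal frame of a non-degenerate hermitian plane over `F₄` -/
theorem exists_frame (hF : Fintype.card F = 2 ^ 2) (W : Submodule F (Fin n → F))
    (hfr : Module.finrank F W = 2) (hnd : IsNondegenerateOn (hermForm n F 2) W) :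
    ∃ a b : Fin n → F, a ∈ W ∧ b ∈ W ∧ hermForm n F 2 a a = 1 ∧ hermForm n F 2 b b = 1 ∧
      hermForm n F 2 a b = 0 ∧ hermForm n F 2 b a = 0 ∧
      ∀ v ∈ W, ∃ x y : F, v = x • a + y • b := by
  classical
  -- Step A: a non-isotropic vector
  have hA : ∃ a ∈ W, hermForm n F 2 a a ≠ 0 := by
    by_contra hall
    push Not at hall
    have hWbot : W ≠ ⊥ := by
      rintro rfl
      simp at hfr
    obtain ⟨w, hwW, hw0⟩ := Submodule.exists_mem_ne_zero_of_ne_bot hWbot
    obtain ⟨⟨x, hxW, hxw⟩, -⟩ := hnd w hwW hw0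
    set c := hermForm n F 2 x w with hc
    have hx'W : c⁻¹ • x ∈ W := W.smul_mem _ hxW
    have h1 : hermForm n F 2 (c⁻¹ • x) w = 1 := by
      rw [hermForm_smul_left, ← hc, inv_mul_cancel₀ hxw]
    have h2 : hermForm n F 2 w (c⁻¹ • x) = 1 := by
      rw [← hermForm_conj hF (c⁻¹ • x) w, h1, one_pow]
    obtain ⟨ω, hω0, hω1⟩ := exists_omega hF
    have hvW : (1 : F) • (c⁻¹ • x) + ω • w ∈ W :=
      W.add_mem (W.smul_mem _ hx'W) (W.smul_mem _ hwW)
    have h3 := hall _ hvW
    rw [norm_expand hF, h1, h2, hall _ hx'W, hall _ hwW] at h3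
    have h4 : ω * (ω + 1) = 0 := by
      have : ω * (ω + 1) = 1 * (1 ^ 2 * 0) + 1 * (ω ^ 2 * 1) + (ω * (1 ^ 2 * 1) + ω * (ω ^ 2 * 0)) := by
        ring
      rw [this]; exact h3
    rcases mul_eq_zero.mp h4 with h5 | h5
    · exact hω0 h5
    · apply hω1
      have h6 := add_self hF (1 : F)
      calc ω = ω + 1 + 1 - (1 + 1) := by ring
        _ = 1 := by rw [h5, h6]; ring
  obtain ⟨a, haW, haa⟩ := hA
  have haa1 := norm_eq_one hF haa
  have ha0 : a ≠ 0 := by
    rintro rfl
    exact haa (herm_zero_left _)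
  -- Step B: a vector of `W` outside `⟨a⟩`
  have hB : ∃ w ∈ W, w ∉ Submodule.span F {a} := by
    by_contra hall
    push Not at hall
    have hle : W ≤ Submodule.span F {a} := fun w hw => hall w hw
    have h1 := Submodule.finrank_mono hle
    rw [hfr, finrank_span_singleton ha0] at h1
    omega
  obtain ⟨w, hwW, hwa⟩ := hB
  set b := w + (-(hermForm n F 2 w a)) • a with hb
  have hbW : b ∈ W := W.add_mem hwW (W.smul_mem _ haW)
  have hba : hermForm n F 2 b a = 0 := by
    rw [hb, hermForm_add_left, hermForm_smul_left, haa1]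
    ring
  have hab : hermForm n F 2 a b = 0 := by
    rw [← hermForm_conj hF b a, hba]
    ring
  have hbspan : b ∉ Submodule.span F {a} := by
    intro hmem
    apply hwa
    have : w = b + (hermForm n F 2 w a) • a := by
      rw [hb]
      simp
    rw [this]
    exact Submodule.add_mem _ hmem (Submodule.smul_mem _ _ (Submodule.subset_span rfl))
  have hli : LinearIndependent F ![b, a] := by
    rw [linearIndependent_fin2]
    refine ⟨by simpa using ha0, ?_⟩
    intro x hx
    apply hbspan
    simp only [Matrix.cons_val_one, Matrix.cons_val_zero] at hx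
    rw [← hx]
    exact Submodule.smul_mem _ _ (Submodule.subset_span rfl)
  have hspan : Submodule.span F (Set.range ![b, a]) = W := by
    apply Submodule.eq_of_le_of_finrank_eq
    · rw [Submodule.span_le]
      rintro _ ⟨i, rfl⟩
      fin_cases i
      · exact hbW
      · exact haW
    · rw [finrank_span_eq_card hli, hfr]
      simp
  have hsp : ∀ v ∈ W, ∃ x y : F, v = x • a + y • b := by
    intro v hv
    rw [← hspan, Submodule.mem_span_range_iff_exists_fun] at hv
    obtain ⟨g, hg⟩ := hv
    rw [Fin.sum_univ_two] at hg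
    refine ⟨g 1, g 0, ?_⟩
    rw [← hg]
    simp [add_comm]
  have hb0 : b ≠ 0 := by
    rintro h0
    apply hbspan
    rw [h0]
    exact Submodule.zero_mem _
  have hbb : hermForm n F 2 b b ≠ 0 := by
    intro hbb0
    obtain ⟨⟨x, hxW, hxb⟩, -⟩ := hnd b hbW hb0
    obtain ⟨s, t, rfl⟩ := hsp x hxW
    apply hxb
    rw [hermForm_add_left, hermForm_smul_left, hermForm_smul_left, hab, hbb0]
    ring
  exact ⟨a, b, haW, hbW, haa1, norm_eq_one hF hbb, hab, hba, hsp⟩

omit [Fintype F] in
theorem mem_decompStab_of_forall_exists {t' : ℕ} (D' : Fin t' → Submodule F (Fin n → F))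
    (hinj : Function.Injective D') (g : GL (Fin n) F)
    (h : ∀ m, ∃ m', (D' m).map (Matrix.toLin' (g : Matrix (Fin n) (Fin n) F)) = D' m') :
    g ∈ decompositionStabilizer D' := by
  choose φ hφ using h
  have hginj : Function.Injective (Matrix.toLin' (g : Matrix (Fin n) (Fin n) F)) := by
    apply Function.LeftInverse.injective
      (g := Matrix.toLin' ((g⁻¹ : GL (Fin n) F) : Matrix (Fin n) (Fin n) F))
    intro v
    rw [← LinearMap.comp_apply, ← Matrix.toLin'_mul, ← Units.val_mul, inv_mul_cancel, Units.val_one,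
      Matrix.toLin'_one, LinearMap.id_apply]
  have hφinj : Function.Injective φ := by
    intro m m' hmm
    apply hinj
    apply Submodule.map_injective_of_injective hginj
    rw [hφ, hφ, hmm]
  have hbij : Function.Bijective φ := Finite.injective_iff_bijective.mp hφinj
  exact ⟨Equiv.ofBijective φ hbij, fun i => hφ i⟩

end XA

/-- **K-SUMax-XA.**  `q = 2`, `|F| = 4`: a non-degenerate 2-decomposition for the hermitian form refines to a
non-degenerate 1-decomposition whose stabiliser contains the isometries stabilising the 2-decomposition. -/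
theorem nondeg_planes_le_lines_of_two {q : ℕ} (hF : Fintype.card F = q ^ 2) (hq : q = 2) {t : ℕ}
    (D : Fin t → Submodule F (Fin n → F)) (hD : IsNondegenerateMDecomposition (hermForm n F q) 2 D) :
    ∃ (t' : ℕ) (D' : Fin t' → Submodule F (Fin n → F)),
      IsNondegenerateMDecomposition (hermForm n F q) 1 D' ∧
      decompositionStabilizer D ⊓ GU n F q ≤ decompositionStabilizer D' := by
  classical
  subst hq
  have hfr := fun i => XA.exists_frame hF (D i) (hD.decomp.finrank_eq i) (hD.nondegenerate i)
  choose a b haW hbW haa hbb hab hba hsp using hfr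
  let c : Fin t × Fin 2 → Fin n → F := fun k => if k.2 = 0 then a k.1 else b k.1
  have hc0 : ∀ i, c (i, 0) = a i := fun i => by simp [c]
  have hc1 : ∀ i, c (i, 1) = b i := fun i => by simp [c]
  have hcW : ∀ k, c k ∈ D k.1 := by
    rintro ⟨i, j⟩
    fin_cases j
    · show c (i, 0) ∈ D i
      rw [hc0]; exact haW i
    · show c (i, 1) ∈ D i
      rw [hc1]; exact hbW i
  have hcc : ∀ k, hermForm n F 2 (c k) (c k) = 1 := by
    rintro ⟨i, j⟩
    fin_cases j
    · show hermForm n F 2 (c (i, 0)) (c (i, 0)) = 1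
      rw [hc0]; exact haa i
    · show hermForm n F 2 (c (i, 1)) (c (i, 1)) = 1
      rw [hc1]; exact hbb i
  have hcorth : ∀ k k', k ≠ k' → hermForm n F 2 (c k) (c k') = 0 := by
    rintro ⟨i, j⟩ ⟨i', j'⟩ hkk'
    by_cases h1 : i = i'
    · subst h1
      have hjj' : j ≠ j' := fun h => hkk' (by rw [h])
      fin_cases j <;> fin_cases j'
      · exact absurd rfl hjj'
      · show hermForm n F 2 (c (i, 0)) (c (i, 1)) = 0
        rw [hc0, hc1]; exact hab i
      · show hermForm n F 2 (c (i, 1)) (c (i, 0)) = 0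
        rw [hc0, hc1]; exact hba i
      · exact absurd rfl hjj'
    · exact hD.orthogonal i i' h1 _ (hcW (i, j)) _ (hcW (i', j'))
  let D'' : Fin t × Fin 2 → Submodule F (Fin n → F) := fun k => Submodule.span F {c k}
  have hD''def : ∀ k, D'' k = Submodule.span F {c k} := fun k => rfl
  have hc_ne : ∀ k, c k ≠ 0 := by
    intro k h0
    have := hcc k
    rw [h0, XA.herm_zero_left] at this
    exact zero_ne_one this
  have hli : LinearIndependent F c :=
    XA.linearIndependent_of_orthogonal c (fun k => by rw [hcc k]; exact one_ne_zero) hcorth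
  have hindep : iSupIndep D'' := hli.iSupIndep_span_singleton
  have hDle : ∀ i, D i ≤ D'' (i, 0) ⊔ D'' (i, 1) := by
    intro i v hv
    obtain ⟨x, y, rfl⟩ := hsp i v hv
    apply Submodule.add_mem_sup
    · rw [hD''def, hc0]
      exact Submodule.smul_mem _ _ (Submodule.subset_span rfl)
    · rw [hD''def, hc1]
      exact Submodule.smul_mem _ _ (Submodule.subset_span rfl)
  have htop : iSup D'' = ⊤ := by
    rw [eq_top_iff, ← hD.decomp.iSup_eq_top]
    apply iSup_le
    intro i
    exact (hDle i).trans (sup_le (le_iSup D'' (i, 0)) (le_iSup D'' (i, 1)))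
  -- the non-isotropic vectors of `D i`
  have hP4 : ∀ i, ∀ v ∈ D i, hermForm n F 2 v v ≠ 0 → ∃ j, v ∈ D'' (i, j) := by
    intro i v hv hvv
    obtain ⟨x, y, rfl⟩ := hsp i v hv
    rw [XA.norm_expand hF, haa, hbb, hab, hba] at hvv
    by_cases hx : x = 0
    · refine ⟨1, ?_⟩
      rw [hx, zero_smul, zero_add, hD''def, hc1]
      exact Submodule.smul_mem _ _ (Submodule.subset_span rfl)
    · by_cases hy : y = 0
      · refine ⟨0, ?_⟩
        rw [hy, zero_smul, add_zero, hD''def, hc0]
        exact Submodule.smul_mem _ _ (Submodule.subset_span rfl)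
      · exfalso
        apply hvv
        have h3x := XA.pow_three hF hx
        have h3y := XA.pow_three hF hy
        have h3 : x * (x ^ 2 * 1) + x * (y ^ 2 * 0) + (y * (x ^ 2 * 0) + y * (y ^ 2 * 1))
            = x ^ 3 + y ^ 3 := by ring
        rw [h3, h3x, h3y]
        exact XA.add_self hF 1
  let e : Fin t × Fin 2 ≃ Fin (t * 2) := finProdFinEquiv
  let D' : Fin (t * 2) → Submodule F (Fin n → F) := fun m => D'' (e.symm m)
  have hD'def : ∀ m, D' m = Submodule.span F {c (e.symm m)} := fun m => rfl
  have hD'inj : Function.Injective D' := by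
    have h1 : Function.Injective D'' := hindep.injective (fun k => by
      rw [hD''def, Ne, Submodule.span_singleton_eq_bot]; exact hc_ne k)
    exact h1.comp e.symm.injective
  refine ⟨t * 2, D', ⟨⟨?_, one_pos, ?_, ?_, ?_⟩, ?_, ?_⟩, ?_⟩
  · have := hD.decomp.two_le
    omega
  · intro m
    rw [hD'def]
    exact finrank_span_singleton (hc_ne _)
  · exact hindep.comp e.symm.injective
  · rw [← htop]
    exact e.symm.iSup_comp (g := D'')
  · -- non-degenerate
    intro m w hw hw0
    rw [hD'def] at hw
    obtain ⟨x, rfl⟩ := Submodule.mem_span_singleton.mp hw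
    have hx0 : x ≠ 0 := by
      rintro rfl
      exact hw0 (zero_smul _ _)
    refine ⟨⟨c (e.symm m), Submodule.subset_span rfl, ?_⟩, ⟨c (e.symm m), Submodule.subset_span rfl, ?_⟩⟩
    · rw [hermForm_smul_right, hcc, mul_one]
      exact pow_ne_zero _ hx0
    · rw [hermForm_smul_left, hcc, mul_one]
      exact hx0
  · -- orthogonal
    intro m m' hmm' u hu v hv
    rw [hD'def] at hu hv
    obtain ⟨x, rfl⟩ := Submodule.mem_span_singleton.mp hu
    obtain ⟨y, rfl⟩ := Submodule.mem_span_singleton.mp hv
    rw [hermForm_smul_left, hermForm_smul_right,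
      hcorth _ _ (fun h => hmm' (e.symm.injective h))]
    ring
  · -- the stabiliser
    intro g hg
    obtain ⟨⟨σ, hσ⟩, hgU⟩ := hg
    have hgU' := (mem_GU_iff g).mp hgU
    apply XA.mem_decompStab_of_forall_exists D' hD'inj g
    intro m
    have hv : (g : Matrix (Fin n) (Fin n) F) *ᵥ c (e.symm m) ∈ D (σ (e.symm m).1) := by
      rw [← hσ (e.symm m).1]
      exact ⟨c (e.symm m), hcW _, by rw [Matrix.toLin'_apply]⟩
    have hvv : hermForm n F 2 ((g : Matrix (Fin n) (Fin n) F) *ᵥ c (e.symm m))
        ((g : Matrix (Fin n) (Fin n) F) *ᵥ c (e.symm m)) ≠ 0 := by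
      rw [hgU', hcc]
      exact one_ne_zero
    obtain ⟨j, hj⟩ := hP4 _ _ hv hvv
    refine ⟨e (σ (e.symm m).1, j), ?_⟩
    rw [hD'def, hD'def, Equiv.symm_apply_apply, Submodule.map_span, Set.image_singleton,
      Matrix.toLin'_apply]
    rw [hD''def] at hj
    obtain ⟨x, hx⟩ := Submodule.mem_span_singleton.mp hj
    have hx0 : x ≠ 0 := by
      rintro rfl
      rw [zero_smul] at hx
      apply hvv
      rw [← hx]
      exact XA.herm_zero_left _
    rw [← hx]
    exact Submodule.span_singleton_smul_eq (IsUnit.mk0 x hx0) _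

end Cfsg.Agent.Lib.Helper79.SUMax
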