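import Mathlib
import Cfsg.Prelude.Def_GeometricClasses
import Cfsg.Agent.Lib.Helper61.AschDefs
import Cfsg.Agent.Lib.Helper61.AschBasic
import Cfsg.Agent.Lib.Helper46.AschOBasic
import Cfsg.Agent.Lib.Helper41.AschB2
import Cfsg.Agent.Lib.Helper42.AschOB2a
import Cfsg.Agent.Lib.Helper42.AschOB2

/-!
# K-OEven-B2a (helper79, architect helper46): the centre of `spanAlg N` gives an adjoint-closed field of prime degree

Adaptation of `Helper39.SpAsch.exists_adjointClosed_field` (S5662 leaf S3a) and of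
`Helper42.AschO.ogeom_of_center_ne_bot` (S5673 leaf B2) to the polar form of a non-degenerate quadratic form in any
characteristic: the field subalgebra `E` of prime degree `r` cut out of the centre of `A = spanAlg N` by
`x ^ (q ^ r) = x` is stable under `adjQ Q`; `r = 2` when the degree of the centre is even, and otherwise `r` is odd and
the adjoint, an `F`-automorphism of `E` of order at most two, is trivial on `E`.
-/

set_option autoImplicit false

namespace Cfsg.Agent.Lib.Helper79.AschE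

open Cfsg Cfsg.Geo Cfsg.Agent.Lib.Helper61.Asch Cfsg.Agent.Lib.Helper46.AschO
open scoped Matrix MatrixGroups
open Module

variable {F : Type*} [Field F] [Fintype F] {n : ℕ}

local notation "V" => (Fin n → F)
local notation "Mat" => Matrix (Fin n) (Fin n) F

/-- `Helper42.AschO.exists_central_fieldSubalgebra` with the prime `r` chosen by the caller among the prime divisors
of the degree of the centre. -/
theorem exists_central_fieldSubalgebra_of_dvd (K : Subgroup (GL (Fin n) F)) (A : Subalgebra F Mat) [IsSimpleRing A]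
    (hKA : NormAlg K A) (r : ℕ) (hrp : r.Prime) (hrd : r ∣ finrank F (Subalgebra.center F A)) :
    ∃ E : Subalgebra F Mat, IsFieldSubalgebra r E ∧ K ≤ subalgebraNormalizer E ∧
      ∀ x : Mat, x ∈ E ↔ (x ∈ A ∧ ∀ a ∈ A, a * x = x * a) ∧ x ^ (Fintype.card F ^ r) = x := by
  classical
  -- the centre is a field
  have hL : IsField (Subalgebra.center F A) := by
    have h := IsSimpleRing.isField_center A
    refine ⟨⟨0, 1, zero_ne_one⟩, mul_comm, ?_⟩
    intro a ha
    have ha' : (⟨a.1, a.2⟩ : Subring.center A) ≠ 0 := by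
      intro h0
      apply ha
      apply Subtype.ext
      exact congrArg Subtype.val h0
    obtain ⟨b, hb⟩ := h.mul_inv_cancel ha'
    refine ⟨⟨b.1, b.2⟩, ?_⟩
    apply Subtype.ext
    exact congrArg Subtype.val hb
  haveI : Finite (Subalgebra.center F A) :=
    Finite.of_injective (fun x : Subalgebra.center F A => ((x : A) : Mat))
      (fun x y h => Subtype.ext (Subtype.ext h))
  let ι : Subalgebra.center F A →ₐ[F] Mat := A.val.comp (Subalgebra.center F A).val
  have hι : Function.Injective ι := fun x y h => Subtype.ext (Subtype.ext h)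
  obtain ⟨E, hEr, hEcomm, hEinv, hEmem⟩ :=
    Cfsg.Agent.Lib.Helper41.Asch.exists_fieldSubalgebra_of_embedding (F := F) (B := Mat)
      (L := Subalgebra.center F A) hL ι hι r hrd hrp.pos
  -- description of the image of the centre
  have hrange : ∀ x : Mat, x ∈ ι.range ↔ x ∈ A ∧ ∀ a ∈ A, a * x = x * a := by
    intro x
    constructor
    · rintro ⟨c, rfl⟩
      refine ⟨(c : A).2, ?_⟩
      intro a ha
      have := Subalgebra.mem_center_iff.1 c.2 ⟨a, ha⟩
      exact congrArg Subtype.val this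
    · rintro ⟨hxA, hx⟩
      refine ⟨⟨⟨x, hxA⟩, ?_⟩, rfl⟩
      rw [Subalgebra.mem_center_iff]
      intro b
      apply Subtype.ext
      exact hx b.1 b.2
  refine ⟨E, ⟨hEcomm, hEinv, hEr⟩, ?_, fun x => by rw [hEmem, hrange]⟩
  -- forward invariance
  have hfwd : ∀ g ∈ K, ∀ x : Mat, x ∈ E →
      (g : Mat) * x * ((g⁻¹ : GL (Fin n) F) : Mat) ∈ E := by
    intro g hg x hx
    rw [hEmem] at hx ⊢
    obtain ⟨hx1, hx2⟩ := hx
    rw [hrange] at hx1 ⊢
    obtain ⟨hxA, hxc⟩ := hx1
    refine ⟨⟨hKA g hg x hxA, ?_⟩, ?_⟩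
    · intro a ha
      have ha' : ((g⁻¹ : GL (Fin n) F) : Mat) * a * (g : Mat) ∈ A := by
        have := hKA g⁻¹ (K.inv_mem hg) a ha
        rwa [inv_inv] at this
      have h1 := hxc _ ha'
      have hgi : ((g : GL (Fin n) F) : Mat) * ((g⁻¹ : GL (Fin n) F) : Mat) = 1 := by
        rw [← Units.val_mul, mul_inv_cancel, Units.val_one]
      have hig : ((g⁻¹ : GL (Fin n) F) : Mat) * ((g : GL (Fin n) F) : Mat) = 1 := by
        rw [← Units.val_mul, inv_mul_cancel, Units.val_one]
      calc a * ((g : Mat) * x * ((g⁻¹ : GL (Fin n) F) : Mat))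
          = (g : Mat) * ((((g⁻¹ : GL (Fin n) F) : Mat) * a * (g : Mat)) * x)
              * ((g⁻¹ : GL (Fin n) F) : Mat) := by
            simp only [mul_assoc]
            rw [← mul_assoc (g : Mat) ((g⁻¹ : GL (Fin n) F) : Mat), hgi, one_mul]
        _ = (g : Mat) * (x * (((g⁻¹ : GL (Fin n) F) : Mat) * a * (g : Mat)))
              * ((g⁻¹ : GL (Fin n) F) : Mat) := by rw [h1]
        _ = (g : Mat) * x * ((g⁻¹ : GL (Fin n) F) : Mat) * a := by
            simp only [mul_assoc]
            rw [hgi, mul_one]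
    · rw [Units.conj_pow, hx2]
  intro g hg
  show ∀ k : Mat, k ∈ E ↔ (g : Mat) * k * ((g⁻¹ : GL (Fin n) F) : Mat) ∈ E
  intro k
  constructor
  · exact hfwd g hg k
  · intro h
    have := hfwd g⁻¹ (K.inv_mem hg) _ h
    rw [inv_inv] at this
    have hig : ((g⁻¹ : GL (Fin n) F) : Mat) * ((g : GL (Fin n) F) : Mat) = 1 := by
      rw [← Units.val_mul, inv_mul_cancel, Units.val_one]
    have e : ((g⁻¹ : GL (Fin n) F) : Mat) * ((g : Mat) * k * ((g⁻¹ : GL (Fin n) F) : Mat)) * (g : Mat)
        = k := by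
      simp only [mul_assoc]
      rw [hig, mul_one, ← mul_assoc, hig, one_mul]
    rwa [e] at this

/-- **K-OEven-B2a.** -/
theorem exists_adjointClosed_field (Q : V → F) (hQ : IsNondegenerateQuadraticForm Q)
    (K N : Subgroup (GL (Fin n) F)) (hK : K ≤ quadSimilarityGroup Q) (hNK : N ≤ K) (hKN : NormBy K N)
    (hsimple : IsSimpleRing (spanAlg N)) (hc : Subalgebra.center F (spanAlg N) ≠ ⊥) :
    ∃ (r : ℕ) (E : Subalgebra F Mat), r.Prime ∧ IsFieldSubalgebra r E ∧ K ≤ subalgebraNormalizer E ∧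
      (∀ x ∈ E, x ∈ spanAlg N ∧ ∀ y ∈ spanAlg N, x * y = y * x) ∧
      IsAdjointClosedFor (QuadraticMap.polar Q) E ∧ (IsSelfAdjointFor (QuadraticMap.polar Q) E ∨ r = 2) := by
  classical
  haveI := hsimple
  -- the degree of the centre is at least two
  have hd1 : finrank F (Subalgebra.center F (spanAlg N)) ≠ 1 := by
    intro h
    apply hc
    rw [eq_bot_iff]
    intro w hw
    have h1 := (finrank_eq_one_iff_of_nonzero' (1 : Subalgebra.center F (spanAlg N)) one_ne_zero).1 h ⟨w, hw⟩
    obtain ⟨c, hc'⟩ := h1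
    rw [Algebra.mem_bot]
    refine ⟨c, ?_⟩
    have h2 : ((c • (1 : Subalgebra.center F (spanAlg N)) : Subalgebra.center F (spanAlg N)) : spanAlg N) = w :=
      congrArg Subtype.val hc'
    rw [← h2, Algebra.algebraMap_eq_smul_one]
    rfl
  -- choice of the prime
  obtain ⟨r, hrp, hrd, hr2⟩ : ∃ r : ℕ, r.Prime ∧ r ∣ finrank F (Subalgebra.center F (spanAlg N)) ∧
      (Odd r ∨ r = 2) := by
    rcases Nat.even_or_odd (finrank F (Subalgebra.center F (spanAlg N))) with he | ho
    · exact ⟨2, Nat.prime_two, he.two_dvd, Or.inr rfl⟩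
    · obtain ⟨r, hrp, hrd⟩ := Nat.exists_prime_and_dvd hd1
      refine ⟨r, hrp, hrd, Or.inl ?_⟩
      obtain ⟨k, hk⟩ := hrd
      rcases Nat.even_or_odd r with he | ho'
      · exfalso
        have : Even (finrank F (Subalgebra.center F (spanAlg N))) := by rw [hk]; exact he.mul_right k
        exact (Nat.not_even_iff_odd.2 ho) this
      · exact ho'
  obtain ⟨E, hEf, hnorm, hEmem⟩ :=
    exists_central_fieldSubalgebra_of_dvd K (spanAlg N) (normAlg_spanAlg hKN) r hrp hrd
  have hAadj : ∀ x ∈ spanAlg N, adjQ Q x ∈ spanAlg N := fun x hx => adjQ_mem_spanAlg hQ (hNK.trans hK) hx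
  -- `E` is stable under the adjoint
  have hEadj : ∀ x ∈ E, adjQ Q x ∈ E := by
    intro x hx
    rw [hEmem] at hx ⊢
    obtain ⟨⟨hxA, hxc⟩, hxp⟩ := hx
    refine ⟨⟨hAadj x hxA, ?_⟩, ?_⟩
    · intro a ha
      have h1 : a * adjQ Q x = adjQ Q (x * adjQ Q a) := by rw [adjQ_mul hQ, adjQ_adjQ hQ]
      have h2 : adjQ Q x * a = adjQ Q (adjQ Q a * x) := by rw [adjQ_mul hQ, adjQ_adjQ hQ]
      rw [h1, h2, hxc _ (hAadj a ha)]
    · rw [← Cfsg.Agent.Lib.Helper42.AschO.adjQ_pow hQ, hxp]
  refine ⟨r, E, hrp, hEf, hnorm, ?_, ?_, ?_⟩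
  · intro x hx
    obtain ⟨⟨hxA, hxc⟩, _⟩ := (hEmem x).1 hx
    exact ⟨hxA, fun y hy => (hxc y hy).symm⟩
  · intro k hk
    exact ⟨adjQ Q k, hEadj k hk, fun u v => polar_adjQ hQ k u v⟩
  · rcases hr2 with hrodd | h2
    · left
      -- `E` is a finite field
      haveI : Nontrivial E :=
        Module.nontrivial_of_finrank_pos (R := F) (by rw [hEf.finrank_eq]; exact hrp.pos)
      have hEfield : IsField E := by
        refine ⟨exists_pair_ne E, ?_, ?_⟩
        · intro x y
          exact Subtype.ext (hEf.comm x x.2 y y.2)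
        · intro a ha
          have ha' : (a : Mat) ≠ 0 := fun h => ha (Subtype.ext h)
          obtain ⟨y, hy, hay⟩ := hEf.inv a a.2 ha'
          exact ⟨⟨y, hy⟩, Subtype.ext hay⟩
      haveI : Finite E := Finite.of_injective (fun x : E => (x : Mat)) Subtype.val_injective
      -- the adjoint as an algebra endomorphism of `E`
      let f : E →ₐ[F] E :=
        { toFun := fun x => ⟨adjQ Q (x : Mat), hEadj x x.2⟩
          map_one' := Subtype.ext (adjQ_one hQ)
          map_mul' := fun x y => Subtype.ext (by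
            show adjQ Q ((x : Mat) * (y : Mat)) = adjQ Q (x : Mat) * adjQ Q (y : Mat)
            rw [hEf.comm x x.2 y y.2, adjQ_mul hQ])
          map_zero' := Subtype.ext (Cfsg.Agent.Lib.Helper42.AschO.adjQ_zero Q)
          map_add' := fun x y => Subtype.ext (adjQ_add Q x y)
          commutes' := fun c => Subtype.ext (adjQ_algebraMap hQ c) }
      have hfix : ∀ x : E, f x = x :=
        Cfsg.Agent.Lib.Helper42.AschO.algHom_involution_eq_id hEfield
          (by rw [hEf.finrank_eq]; exact hrodd) f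
          (fun x => Subtype.ext (adjQ_adjQ hQ (x : Mat)))
      have hself : ∀ x ∈ E, adjQ Q x = x := fun x hx => congrArg Subtype.val (hfix ⟨x, hx⟩)
      intro k hk u v
      rw [polar_adjQ hQ, hself k hk]
    · exact Or.inr h2

end Cfsg.Agent.Lib.Helper79.AschE
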