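import Mathlib
import Cfsg.Prelude.Def_GeometricClasses
import Cfsg.Agent.Lib.Helper61.AschDefs
import Cfsg.Agent.Lib.Helper04.AschC1
import Cfsg.Agent.Lib.Helper72.AschC6

/-!
K-S5673-C6' (keystone 567317, architect helper46): helper72's `AschC6.le_subfieldSubgroup_of_realisable` with the
realising matrix `B` and the subfield `F₁` made explicit (same proof, copied from `Cfsg.Agent.Lib.Helper72.AschC6`).
-/

set_option autoImplicit false
set_option maxHeartbeats 800000
set_option linter.unusedSectionVars false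

namespace Cfsg.Agent.Lib.Helper79.AschO

open Cfsg Cfsg.Geo Cfsg.Agent.Lib.Helper61.Asch
open scoped Matrix Kronecker MatrixGroups

variable {F : Type*} [Field F] [Fintype F] {n : ℕ}

local notation "Mat" => Matrix (Fin n) (Fin n) F

/-- K-S5673-C6'. -/
theorem le_subfieldSubgroup_of_conj_mem (K X : Subgroup (GL (Fin n) F)) (hX : spanAlg X = ⊤) (hKX : NormBy K X)
    (F₁ : Subfield F) (B : GL (Fin n) F)
    (hB : ∀ s ∈ matrixSet X, ∀ i j, ((B : Mat) * s * ((B⁻¹ : GL (Fin n) F) : Mat)) i j ∈ F₁) :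
    K ≤ subfieldSubgroup F₁ B⁻¹ := by
  classical
  let emb : Matrix (Fin n) (Fin n) F₁ →+* Mat := F₁.subtype.mapMatrix
  have hemb_inj : Function.Injective emb := by
    intro a b hab
    ext i j
    have h1 := congrFun (congrFun hab i) j
    exact h1
  have hemb_smul : ∀ (c : F₁) (a : Matrix (Fin n) (Fin n) F₁), emb (c • a) = (c : F) • emb a := by
    intro c a
    ext i j
    rfl
  -- conjugates of elements of `X` are defined over `F₁`
  have hlift : ∀ x ∈ X, ∃ m : Matrix (Fin n) (Fin n) F₁,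
      emb m = (B : Mat) * (x : Mat) * ((B⁻¹ : GL (Fin n) F) : Mat) := by
    intro x hx
    refine ⟨fun i j => ⟨_, hB (x : Mat) ⟨x, hx, rfl⟩ i j⟩, ?_⟩
    ext i j
    rfl
  let S : Set (Matrix (Fin n) (Fin n) F₁) :=
    {m | ∃ x ∈ X, emb m = (B : Mat) * (x : Mat) * ((B⁻¹ : GL (Fin n) F) : Mat)}
  have hBB : ((B⁻¹ : GL (Fin n) F) : Mat) * (B : Mat) = 1 := by
    rw [← Units.val_mul, inv_mul_cancel, Units.val_one]
  have hBB' : (B : Mat) * ((B⁻¹ : GL (Fin n) F) : Mat) = 1 := by
    rw [← Units.val_mul, mul_inv_cancel, Units.val_one]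
  have hspanF : Submodule.span F (emb '' S) = ⊤ := by
    rw [eq_top_iff]
    intro M _
    have hp : ∀ N ∈ Submodule.span F (matrixSet X),
        (B : Mat) * N * ((B⁻¹ : GL (Fin n) F) : Mat) ∈ Submodule.span F (emb '' S) := by
      intro N hN
      induction hN using Submodule.span_induction with
      | mem N hN =>
        obtain ⟨x, hx, rfl⟩ := hN
        obtain ⟨m, hm⟩ := hlift x hx
        apply Submodule.subset_span
        exact ⟨m, ⟨x, hx, hm⟩, hm⟩
      | zero => rw [mul_zero, zero_mul]; exact Submodule.zero_mem _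
      | add a b _ _ ha hb =>
        rw [mul_add, add_mul]; exact Submodule.add_mem _ ha hb
      | smul c a _ ha =>
        rw [Matrix.mul_smul, Matrix.smul_mul]; exact Submodule.smul_mem _ c ha
    have h1 := hp (((B⁻¹ : GL (Fin n) F) : Mat) * M * (B : Mat))
      (by rw [Cfsg.Agent.Lib.Helper72.Asch.span_matrixSet_eq_top X hX]; exact Submodule.mem_top)
    have h2 : (B : Mat) * (((B⁻¹ : GL (Fin n) F) : Mat) * M * (B : Mat)) *
        ((B⁻¹ : GL (Fin n) F) : Mat) = M := by
      calc (B : Mat) * (((B⁻¹ : GL (Fin n) F) : Mat) * M * (B : Mat)) *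
          ((B⁻¹ : GL (Fin n) F) : Mat)
          = ((B : Mat) * ((B⁻¹ : GL (Fin n) F) : Mat)) * M *
            ((B : Mat) * ((B⁻¹ : GL (Fin n) F) : Mat)) := by simp only [mul_assoc]
        _ = M := by rw [hBB', one_mul, mul_one]
    rw [h2] at h1
    exact h1
  have hspan₁ : Submodule.span F₁ S = ⊤ := Cfsg.Agent.Lib.Helper72.Asch.span_subfield_eq_top F₁ S hspanF
  intro k hk
  -- the conjugate of `k`
  obtain ⟨k', hk'⟩ : ∃ k' : GL (Fin n) F, k' = B * k * B⁻¹ := ⟨_, rfl⟩
  have hkk : ((k'⁻¹ : GL (Fin n) F) : Mat) * (k' : Mat) = 1 := by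
    rw [← Units.val_mul, inv_mul_cancel, Units.val_one]
  have hkk' : (k' : Mat) * ((k'⁻¹ : GL (Fin n) F) : Mat) = 1 := by
    rw [← Units.val_mul, mul_inv_cancel, Units.val_one]
  -- conjugation by `k'` preserves the matrices over `F₁`
  have hpres : ∀ m : Matrix (Fin n) (Fin n) F₁, ∃ m' : Matrix (Fin n) (Fin n) F₁,
      emb m' = (k' : Mat) * emb m * ((k'⁻¹ : GL (Fin n) F) : Mat) := by
    intro m
    have hm : m ∈ Submodule.span F₁ S := by rw [hspan₁]; exact Submodule.mem_top
    induction hm using Submodule.span_induction with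
    | mem s hs =>
      obtain ⟨x, hx, hsx⟩ := hs
      obtain ⟨m', hm'⟩ := hlift (k * x * k⁻¹) (hKX k hk x hx)
      refine ⟨m', ?_⟩
      rw [hm', hsx]
      have hg : B * (k * x * k⁻¹) * B⁻¹ = k' * (B * x * B⁻¹) * k'⁻¹ := by
        rw [hk']; group
      have := congrArg (fun u : GL (Fin n) F => (u : Mat)) hg
      simp only [Units.val_mul] at this ⊢
      exact this
    | zero => exact ⟨0, by rw [map_zero, mul_zero, zero_mul]⟩
    | add a b _ _ ha hb =>
      obtain ⟨a', ha'⟩ := ha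
      obtain ⟨b', hb'⟩ := hb
      exact ⟨a' + b', by rw [map_add, ha', hb', map_add, mul_add, add_mul]⟩
    | smul c a _ ha =>
      obtain ⟨a', ha'⟩ := ha
      refine ⟨c • a', ?_⟩
      rw [hemb_smul, ha', hemb_smul, Matrix.mul_smul, Matrix.smul_mul]
  choose θf hθ using hpres
  -- the induced algebra automorphism
  let θ : Matrix (Fin n) (Fin n) F₁ →ₐ[F₁] Matrix (Fin n) (Fin n) F₁ :=
    { toFun := θf
      map_one' := hemb_inj (by rw [hθ, map_one, mul_one, hkk'])
      map_mul' := fun a b => hemb_inj (by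
        rw [hθ, map_mul, map_mul, hθ, hθ]
        calc (k' : Mat) * (emb a * emb b) * ((k'⁻¹ : GL (Fin n) F) : Mat)
            = (k' : Mat) * emb a * 1 * emb b * ((k'⁻¹ : GL (Fin n) F) : Mat) := by
              simp only [mul_assoc, one_mul]
          _ = _ := by rw [← hkk]; simp only [mul_assoc])
      map_zero' := hemb_inj (by rw [hθ, map_zero, mul_zero, zero_mul])
      map_add' := fun a b => hemb_inj (by rw [hθ, map_add, map_add, hθ, hθ, mul_add, add_mul])
      commutes' := fun c => hemb_inj (by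
        rw [hθ]
        have h1 : emb (algebraMap F₁ (Matrix (Fin n) (Fin n) F₁) c) =
            algebraMap F Mat (c : F) := by
          ext i j
          simp only [emb, RingHom.mapMatrix_apply, Matrix.map_apply, Matrix.algebraMap_matrix_apply]
          split_ifs <;> simp
        rw [h1, ← Algebra.commutes, mul_assoc, hkk', mul_one]) }
  have hθinj : Function.Injective θ := by
    intro a b hab
    apply hemb_inj
    have h1 : emb (θf a) = emb (θf b) := congrArg emb hab
    rw [hθ, hθ] at h1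
    calc emb a = ((k'⁻¹ : GL (Fin n) F) : Mat) * ((k' : Mat) * emb a *
        ((k'⁻¹ : GL (Fin n) F) : Mat)) * (k' : Mat) := by
          simp only [mul_assoc, hkk, mul_one]; rw [← mul_assoc, hkk, one_mul]
      _ = ((k'⁻¹ : GL (Fin n) F) : Mat) * ((k' : Mat) * emb b *
        ((k'⁻¹ : GL (Fin n) F) : Mat)) * (k' : Mat) := by rw [h1]
      _ = emb b := by
          simp only [mul_assoc, hkk, mul_one]; rw [← mul_assoc, hkk, one_mul]
  have hθsurj : Function.Surjective θ :=
    LinearMap.surjective_of_injective (f := θ.toLinearMap) hθinj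
  obtain ⟨C, hC⟩ := Cfsg.Agent.Lib.Helper04.Asch.exists_conj_of_algEquiv
    (AlgEquiv.ofBijective θ ⟨hθinj, hθsurj⟩)
  -- the image of `C` over the big field
  have hCC : emb (C : Matrix (Fin n) (Fin n) F₁) *
      emb ((C⁻¹ : GL (Fin n) F₁) : Matrix (Fin n) (Fin n) F₁) = 1 := by
    rw [← map_mul, ← Units.val_mul, mul_inv_cancel, Units.val_one, map_one]
  have hCC' : emb ((C⁻¹ : GL (Fin n) F₁) : Matrix (Fin n) (Fin n) F₁) *
      emb (C : Matrix (Fin n) (Fin n) F₁) = 1 := by
    rw [← map_mul, ← Units.val_mul, inv_mul_cancel, Units.val_one, map_one]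
  let g₁ : GL (Fin n) F := ⟨emb C, emb ((C⁻¹ : GL (Fin n) F₁) : Matrix (Fin n) (Fin n) F₁), hCC, hCC'⟩
  have hg₁ : g₁ = Matrix.GeneralLinearGroup.map F₁.subtype C := by
    apply Units.ext
    rfl
  -- `g₁⁻¹ k'` centralizes the matrices over `F₁`
  have hcomm : ∀ m : Matrix (Fin n) (Fin n) F₁,
      ((g₁⁻¹ * k' : GL (Fin n) F) : Mat) * emb m = emb m * ((g₁⁻¹ * k' : GL (Fin n) F) : Mat) := by
    intro m
    have e1 : (k' : Mat) * emb m * ((k'⁻¹ : GL (Fin n) F) : Mat) =
        emb (C : Matrix (Fin n) (Fin n) F₁) * emb m *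
          emb ((C⁻¹ : GL (Fin n) F₁) : Matrix (Fin n) (Fin n) F₁) := by
      rw [← hθ, ← map_mul, ← map_mul, ← hC]
      rfl
    have hv : ((g₁⁻¹ * k' : GL (Fin n) F) : Mat) =
        emb ((C⁻¹ : GL (Fin n) F₁) : Matrix (Fin n) (Fin n) F₁) * (k' : Mat) := rfl
    rw [hv]
    calc emb ((C⁻¹ : GL (Fin n) F₁) : Matrix (Fin n) (Fin n) F₁) * (k' : Mat) * emb m
        = emb ((C⁻¹ : GL (Fin n) F₁) : Matrix (Fin n) (Fin n) F₁) *
          ((k' : Mat) * emb m * ((k'⁻¹ : GL (Fin n) F) : Mat)) * (k' : Mat) := by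
            simp only [mul_assoc, hkk, mul_one]
      _ = emb ((C⁻¹ : GL (Fin n) F₁) : Matrix (Fin n) (Fin n) F₁) *
          (emb (C : Matrix (Fin n) (Fin n) F₁) * emb m *
          emb ((C⁻¹ : GL (Fin n) F₁) : Matrix (Fin n) (Fin n) F₁)) * (k' : Mat) := by rw [e1]
      _ = emb m * (emb ((C⁻¹ : GL (Fin n) F₁) : Matrix (Fin n) (Fin n) F₁) * (k' : Mat)) := by
            rw [← mul_assoc, ← mul_assoc, hCC', one_mul, mul_assoc]
  -- hence it is a scalar
  have hz : g₁⁻¹ * k' ∈ scalars (Fin n) F := by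
    have h1 : ((g₁⁻¹ * k' : GL (Fin n) F) : Mat) ∈ Set.range (Matrix.scalar (Fin n)) := by
      rw [Matrix.mem_range_scalar_iff_commute_single']
      intro i j
      have h2 : (Matrix.single i j (1 : F) : Mat) = emb (Matrix.single i j (1 : F₁)) := by
        ext a b
        simp only [emb, RingHom.mapMatrix_apply, Matrix.map_apply, Matrix.single_apply]
        split_ifs <;> simp
      rw [h2]
      exact (hcomm _).symm
    obtain ⟨c, hc⟩ := h1
    rw [mem_scalars_iff]
    by_cases hc0 : c = 0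
    · have h3 : ((g₁⁻¹ * k' : GL (Fin n) F) : Mat) = 0 := by
        rw [← hc, hc0, map_zero]
      have h4 : (1 : Mat) = 0 := by
        have := Units.inv_mul (g₁⁻¹ * k' : GL (Fin n) F)
        rw [h3, mul_zero] at this
        exact this.symm
      refine ⟨1, ?_⟩
      have : Subsingleton Mat := subsingleton_of_zero_eq_one h4.symm
      exact Subsingleton.elim _ _
    · refine ⟨Units.mk0 c hc0, ?_⟩
      rw [← hc, Units.val_mk0, Matrix.smul_one_eq_diagonal]
      rfl
  have hmem : k' ∈ (Matrix.GeneralLinearGroup.map (n := Fin n) (F₁.subtype : F₁ →+* F)).range ⊔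
      scalars (Fin n) F := by
    have h1 : k' = g₁ * (g₁⁻¹ * k') := by group
    rw [h1]
    exact Subgroup.mul_mem_sup (by rw [hg₁]; exact ⟨C, rfl⟩) hz
  unfold subfieldSubgroup
  refine Subgroup.mem_map.mpr ⟨k', hmem, ?_⟩
  rw [hk']
  simp only [MulEquiv.coe_toMonoidHom, MulAut.conj_apply]
  group

end Cfsg.Agent.Lib.Helper79.AschO
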