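import Mathlib
import Cfsg.Prelude.Def_GeometricClasses
import Cfsg.Agent.Lib.Helper19.OEvenType2
import Cfsg.Agent.Lib.Helper08.QuadExtFin

/-!
# K-OEvenX-X7 (helper79, architect helper46): a quadratic-subfield structure forces plus type

`Q₀ u = ζ Q (P u)` is a non-degenerate quadratic form on `F₀^n`.  By Witt's classification over the finite field `F₀`
(`Helper50.WittMain` through `Helper19.OEvenType`) it is hyperbolic or elliptic in suitable coordinates
`φ : F₀^n ≃ (F₀^m ⊕ F₀^m) ⊕ F₀^2`; in the elliptic case the binary form `z₁² + z₁ z₂ + ζ₀ z₂²` has a zero `(τ, 1)` over the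
quadratic extension `F` (`Helper08.exists_root_of_card_sq`).  The `F`-span of the images under `P` of the first `m`
coordinate vectors (and of `τ a + b`) is totally singular of dimension `n / 2`: independence over `F` of the image of an
`F₀`-basis is `linearIndependent_up`.
-/

set_option autoImplicit false
set_option linter.unusedSectionVars false
set_option linter.unusedVariables false

namespace Cfsg.Agent.Lib.Helper79.OEvenX

open Cfsg Cfsg.Geo Module QuadraticMap
open scoped Matrix

variable {F : Type*} [Field F] {n : ℕ}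

/-- a vector with entries in the subfield, read in the big field -/
def up (F₀ : Subfield F) {J : Type*} (u : J → F₀) : J → F := fun i => (u i : F)

theorem up_apply (F₀ : Subfield F) {J : Type*} (u : J → F₀) (i : J) : up F₀ u i = (u i : F) := rfl

theorem up_add (F₀ : Subfield F) {J : Type*} (u v : J → F₀) : up F₀ (u + v) = up F₀ u + up F₀ v := by
  funext i
  simp [up]

theorem up_smul (F₀ : Subfield F) {J : Type*} (c : F₀) (u : J → F₀) : up F₀ (c • u) = (c : F) • up F₀ u := by
  funext i
  simp [up]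

theorem up_mem (F₀ : Subfield F) {J : Type*} (u : J → F₀) (i : J) : up F₀ u i ∈ F₀ := (u i).2

theorem up_eq_zero (F₀ : Subfield F) {J : Type*} {u : J → F₀} (h : up F₀ u = 0) : u = 0 := by
  funext i
  have := congrFun h i
  exact Subtype.ext this

theorem up_single (F₀ : Subfield F) {J : Type*} [DecidableEq J] (j : J) :
    up F₀ (Pi.single j (1 : F₀)) = Pi.single j (1 : F) := by
  funext i
  by_cases h : i = j
  · subst h
    simp [up]
  · simp [up, Pi.single_apply, h]

/-- coordinates of the image under an `F₀`-linear map, read in `F` -/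
theorem coe_apply_eq_sum (F₀ : Subfield F) {J : Type*} (φ : (Fin n → F₀) →ₗ[F₀] (J → F₀)) (u : Fin n → F₀) (j : J) :
    ((φ u j : F₀) : F) = ∑ i, (u i : F) * ((φ (fun k => if i = k then 1 else 0) j : F₀) : F) := by
  rw [LinearMap.pi_apply_eq_sum_univ φ u]
  show F₀.subtype ((∑ i, u i • φ (fun k => if i = k then 1 else 0)) j) = _
  rw [Finset.sum_apply, map_sum]
  apply Finset.sum_congr rfl
  intro i _
  rw [Pi.smul_apply, smul_eq_mul, map_mul]
  rfl

/-- the image of an `F₀`-basis of `F₀^n` is linearly independent over `F` -/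
theorem linearIndependent_up (F₀ : Subfield F) {J : Type*} [Fintype J] [DecidableEq J]
    (φ : (Fin n → F₀) ≃ₗ[F₀] (J → F₀)) (P : GL (Fin n) F) :
    LinearIndependent F
      (fun j : J => (P : Matrix (Fin n) (Fin n) F) *ᵥ up F₀ (φ.symm (Pi.single j 1))) := by
  classical
  rw [Fintype.linearIndependent_iff]
  intro g hg
  -- the matrix of `φ` read in `F`
  let A : Matrix J (Fin n) F := fun j i => ((φ (fun k => if i = k then 1 else 0) j : F₀) : F)
  have hA : ∀ u : Fin n → F₀, A *ᵥ up F₀ u = up F₀ (φ u) := by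
    intro u
    funext j
    have h := coe_apply_eq_sum F₀ φ.toLinearMap u j
    simp only [LinearEquiv.coe_coe] at h
    rw [up_apply, h]
    simp only [Matrix.mulVec, dotProduct, A, up_apply]
    apply Finset.sum_congr rfl
    intro i _
    rw [mul_comm]
  have h1 : (P : Matrix (Fin n) (Fin n) F) *ᵥ (∑ j, g j • up F₀ (φ.symm (Pi.single j 1))) = 0 := by
    rw [Matrix.mulVec_sum]
    rw [← hg]
    apply Finset.sum_congr rfl
    intro j _
    rw [Matrix.mulVec_smul]
  have h2 : (∑ j, g j • up F₀ (φ.symm (Pi.single j 1))) = 0 := by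
    have := congrArg (fun x => ((P⁻¹ : GL (Fin n) F) : Matrix (Fin n) (Fin n) F) *ᵥ x) h1
    simp only [Matrix.mulVec_mulVec, Matrix.mulVec_zero] at this
    rwa [← Units.val_mul, inv_mul_cancel, Units.val_one, Matrix.one_mulVec] at this
  have h3 : A *ᵥ (∑ j, g j • up F₀ (φ.symm (Pi.single j 1))) = g := by
    rw [Matrix.mulVec_sum]
    funext k
    rw [Finset.sum_apply]
    have : ∀ j, (A *ᵥ (g j • up F₀ (φ.symm (Pi.single j 1)))) k = g j * (Pi.single j (1 : F) : J → F) k := by
      intro j
      rw [Matrix.mulVec_smul, hA, LinearEquiv.apply_symm_apply, up_single, Pi.smul_apply, smul_eq_mul]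
    simp only [this]
    simp [Pi.single_apply]
  intro j
  rw [h2, Matrix.mulVec_zero] at h3
  exact (congrFun h3 j).symm

variable [Fintype F]

/-- the descended form `u ↦ ζ Q (P u)` on `F₀^n` -/
def descend (F₀ : Subfield F) (Q : (Fin n → F) → F) (P : GL (Fin n) F) (ζ : F)
    (hrat : IsQuadFormRationalStructure (fun v : Fin n → F => ζ * Q v) F₀ P) : (Fin n → F₀) → F₀ :=
  fun u => ⟨ζ * Q ((P : Matrix (Fin n) (Fin n) F) *ᵥ up F₀ u), hrat _ (up_mem F₀ u)⟩

theorem coe_descend (F₀ : Subfield F) (Q : (Fin n → F) → F) (P : GL (Fin n) F) (ζ : F)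
    (hrat : IsQuadFormRationalStructure (fun v : Fin n → F => ζ * Q v) F₀ P) (u : Fin n → F₀) :
    ((descend F₀ Q P ζ hrat u : F₀) : F) = ζ * Q ((P : Matrix (Fin n) (Fin n) F) *ᵥ up F₀ u) := rfl

theorem coe_polar_descend (F₀ : Subfield F) (Q : (Fin n → F) → F) (P : GL (Fin n) F) (ζ : F)
    (hrat : IsQuadFormRationalStructure (fun v : Fin n → F => ζ * Q v) F₀ P) (u v : Fin n → F₀) :
    ((polar (descend F₀ Q P ζ hrat) u v : F₀) : F) =
      ζ * polar Q ((P : Matrix (Fin n) (Fin n) F) *ᵥ up F₀ u) ((P : Matrix (Fin n) (Fin n) F) *ᵥ up F₀ v) := by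
  unfold polar
  rw [Subfield.coe_sub, Subfield.coe_sub, coe_descend, coe_descend, coe_descend, up_add, Matrix.mulVec_add]
  ring

theorem mulVec_ne_zero (P : GL (Fin n) F) {x : Fin n → F} (hx : x ≠ 0) :
    (P : Matrix (Fin n) (Fin n) F) *ᵥ x ≠ 0 := by
  intro h
  apply hx
  have := congrArg (fun y => ((P⁻¹ : GL (Fin n) F) : Matrix (Fin n) (Fin n) F) *ᵥ y) h
  simp only [Matrix.mulVec_mulVec, Matrix.mulVec_zero] at this
  rwa [← Units.val_mul, inv_mul_cancel, Units.val_one, Matrix.one_mulVec] at this

theorem isNondegenerateQuadraticForm_descend (F₀ : Subfield F) (Q : (Fin n → F) → F)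
    (hQ : IsNondegenerateQuadraticForm Q) (P : GL (Fin n) F) (ζ : F) (hζ : ζ ≠ 0)
    (hrat : IsQuadFormRationalStructure (fun v : Fin n → F => ζ * Q v) F₀ P) :
    IsNondegenerateQuadraticForm (descend F₀ Q P ζ hrat) := by
  classical
  have hsymm : ∀ x y : Fin n → F, polar Q x y = polar Q y x := fun x y => polar_comm Q x y
  refine ⟨?_, ⟨?_, ?_, ?_, ?_⟩, ?_⟩
  · intro c u
    apply Subtype.ext
    rw [coe_descend, up_smul, Matrix.mulVec_smul, hQ.smul]
    push_cast
    rw [coe_descend]
    ring
  · intro x y v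
    apply Subtype.ext
    rw [Subfield.coe_add, coe_polar_descend, coe_polar_descend, coe_polar_descend, up_add, Matrix.mulVec_add,
      hQ.polar_bilinear.add_left]
    ring
  · intro c x v
    apply Subtype.ext
    rw [Subfield.coe_mul, coe_polar_descend, coe_polar_descend, up_smul, Matrix.mulVec_smul,
      hQ.polar_bilinear.smul_left]
    ring
  · intro v x y
    apply Subtype.ext
    rw [Subfield.coe_add, coe_polar_descend, coe_polar_descend, coe_polar_descend, up_add, Matrix.mulVec_add,
      hQ.polar_bilinear.add_right]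
    ring
  · intro c v x
    apply Subtype.ext
    rw [Subfield.coe_mul, coe_polar_descend, coe_polar_descend, up_smul, Matrix.mulVec_smul,
      hQ.polar_bilinear.smul_right]
    ring
  · intro v hv
    -- some basis vector pairs non-trivially with `v`
    have hPv : (P : Matrix (Fin n) (Fin n) F) *ᵥ up F₀ v ≠ 0 :=
      mulVec_ne_zero P (fun h => hv (up_eq_zero F₀ h))
    have hex : ∃ i : Fin n, polar Q ((P : Matrix (Fin n) (Fin n) F) *ᵥ up F₀ v)
        ((P : Matrix (Fin n) (Fin n) F) *ᵥ Pi.single i 1) ≠ 0 := by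
      by_contra hcon
      push Not at hcon
      obtain ⟨-, ⟨y, hy⟩⟩ := hQ.nondegenerate _ hPv
      apply hy
      -- the linear functional `x ↦ B (P v) (P x)` vanishes on the standard basis
      let L : (Fin n → F) →ₗ[F] F :=
        { toFun := fun x => polar Q ((P : Matrix (Fin n) (Fin n) F) *ᵥ up F₀ v)
            ((P : Matrix (Fin n) (Fin n) F) *ᵥ x)
          map_add' := fun x y => by
            rw [Matrix.mulVec_add, hQ.polar_bilinear.add_right]
          map_smul' := fun c x => by
            rw [Matrix.mulVec_smul, hQ.polar_bilinear.smul_right, RingHom.id_apply, smul_eq_mul] }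
      have hL : L = 0 := by
        apply LinearMap.pi_ext
        intro i x
        have hx : (Pi.single i x : Fin n → F) = x • Pi.single i (1 : F) := by
          funext k
          simp [Pi.single_apply]
        rw [hx, map_smul]
        show x • polar Q _ _ = _
        rw [hcon i]
        simp
      have hy' : L (((P⁻¹ : GL (Fin n) F) : Matrix (Fin n) (Fin n) F) *ᵥ y) = 0 := by
        rw [hL]; rfl
      have hPP : (P : Matrix (Fin n) (Fin n) F) *ᵥ
          (((P⁻¹ : GL (Fin n) F) : Matrix (Fin n) (Fin n) F) *ᵥ y) = y := by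
        rw [Matrix.mulVec_mulVec, ← Units.val_mul, mul_inv_cancel, Units.val_one, Matrix.one_mulVec]
      have : polar Q ((P : Matrix (Fin n) (Fin n) F) *ᵥ up F₀ v)
          ((P : Matrix (Fin n) (Fin n) F) *ᵥ
            (((P⁻¹ : GL (Fin n) F) : Matrix (Fin n) (Fin n) F) *ᵥ y)) = 0 := hy'
      rwa [hPP] at this
    obtain ⟨i, hi⟩ := hex
    have key : polar (descend F₀ Q P ζ hrat) v (Pi.single i 1) ≠ 0 := by
      intro h0
      have := congrArg (fun x : F₀ => (x : F)) h0
      simp only [coe_polar_descend, up_single, Subfield.coe_zero] at this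
      rcases mul_eq_zero.1 this with h | h
      · exact hζ h
      · exact hi h
    refine ⟨⟨Pi.single i 1, ?_⟩, ⟨Pi.single i 1, key⟩⟩
    rwa [polar_comm]

/-- **K-OEvenX-X7.** -/
theorem plus_of_subfield_two (hn : Even n) (Q : (Fin n → F) → F) (hQ : IsNondegenerateQuadraticForm Q)
    (F₀ : Subfield F) (hF : Fintype.card F = Nat.card F₀ ^ 2) (P : GL (Fin n) F) (ζ : F) (hζ : ζ ≠ 0)
    (hrat : IsQuadFormRationalStructure (fun v : Fin n → F => ζ * Q v) F₀ P) : IsPlusTypeOn Q ⊤ := by
  classical
  let _ : Fintype F₀ := Fintype.ofFinite F₀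
  obtain ⟨M, hM⟩ := hn
  have hnM : n = 2 * M := by omega
  set Q₀ := descend F₀ Q P ζ hrat with hQ₀def
  have hQ₀ : IsNondegenerateQuadraticForm Q₀ := isNondegenerateQuadraticForm_descend F₀ Q hQ P ζ hζ hrat
  -- values of `Q` from values of `Q₀`
  have hval : ∀ u : Fin n → F₀, Q₀ u = 0 → Q ((P : Matrix (Fin n) (Fin n) F) *ᵥ up F₀ u) = 0 := by
    intro u hu
    have := congrArg (fun x : F₀ => (x : F)) hu
    simp only [hQ₀def, coe_descend, Subfield.coe_zero] at this
    rcases mul_eq_zero.1 this with h | h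
    · exact absurd h hζ
    · exact h
  have hpol : ∀ x y : Fin n → F, polar Q x y = Q (x + y) - Q x - Q y := fun x y => rfl
  have htop : finrank F (⊤ : Submodule F (Fin n → F)) = n := by
    rw [finrank_top, Module.finrank_fin_fun]
  by_cases hplus : IsPlusTypeOn Q₀ ⊤
  · -- hyperbolic over `F₀`
    obtain ⟨φ, hφ⟩ := (Cfsg.Agent.Lib.Helper19.OEvenType.isPlusTypeOn_top_iff Q₀ hQ₀ hnM).mp hplus
    have hφ' : ∀ v, Cfsg.quadFormPlus M F₀ (φ v) = Q₀ v := hφ
    have hX : ∀ u : Fin n → F₀, (∀ k, φ u (Sum.inr k) = 0) →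
        Q ((P : Matrix (Fin n) (Fin n) F) *ᵥ up F₀ u) = 0 := by
      intro u hu
      apply hval
      rw [← hφ' u]
      simp [Cfsg.quadFormPlus, hu]
    let w : Fin M → (Fin n → F) := fun i =>
      (P : Matrix (Fin n) (Fin n) F) *ᵥ up F₀ (φ.symm (Pi.single (Sum.inl i) 1))
    have h0 : ∀ i, Q (w i) = 0 := by
      intro i
      apply hX
      intro k
      rw [LinearEquiv.apply_symm_apply]
      simp
    have h1 : ∀ i j, polar Q (w i) (w j) = 0 := by
      intro i j
      rw [hpol, h0 i, h0 j]
      have : w i + w j = (P : Matrix (Fin n) (Fin n) F) *ᵥ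
          up F₀ (φ.symm (Pi.single (Sum.inl i) 1) + φ.symm (Pi.single (Sum.inl j) 1)) := by
        rw [up_add, Matrix.mulVec_add]
      rw [this, hX]
      · ring
      · intro k
        rw [map_add, LinearEquiv.apply_symm_apply, LinearEquiv.apply_symm_apply]
        simp
    have hli : LinearIndependent F w :=
      (linearIndependent_up F₀ φ P).comp Sum.inl Sum.inl_injective
    refine ⟨Submodule.span F (Set.range w), le_top,
      Cfsg.Agent.Lib.Helper19.OEvenType.isTotallySingularQuad_span Q hQ w h0 h1, ?_⟩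
    rw [finrank_span_eq_card hli, htop, Fintype.card_fin, hnM]
  · -- elliptic over `F₀`
    obtain ⟨m, ζ₀, hMm, hirr, φ, hφ⟩ :=
      Cfsg.Agent.Lib.Helper19.OEvenType.minusType_of_not_plus Q₀ hQ₀ hnM hplus
    have hφ' : ∀ v, Cfsg.quadFormMinus m F₀ 1 ζ₀ (φ v) = Q₀ v := hφ
    -- a root of `t² + t + ζ₀` in `F`
    obtain ⟨τ, hτ⟩ : ∃ τ : F, τ ^ 2 + τ + (ζ₀ : F) = 0 := by
      have hab : ∀ z₁ z₂ : F₀, z₁ ^ 2 + 1 * z₁ * z₂ + ζ₀ * z₂ ^ 2 = 0 → z₁ = 0 ∧ z₂ = 0 := by
        intro z₁ z₂ h
        by_cases hz : z₂ = 0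
        · subst hz
          refine ⟨?_, rfl⟩
          have : z₁ ^ 2 = 0 := by linear_combination h
          exact pow_eq_zero_iff (two_ne_zero) |>.1 this
        · exfalso
          apply hirr (z₁ / z₂)
          field_simp
          linear_combination h
      obtain ⟨θ, hθ⟩ := Cfsg.Agent.Lib.Helper08.exists_root_of_card_sq (F := F₀) (K := F)
        (q := Nat.card F₀) (Nat.card_eq_fintype_card).symm hF 1 ζ₀ hab
      refine ⟨-θ, ?_⟩
      have e1 : algebraMap F₀ F 1 = 1 := map_one _
      have e2 : algebraMap F₀ F ζ₀ = (ζ₀ : F) := rfl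
      rw [e1, e2] at hθ
      linear_combination hθ
    -- the coordinate vectors
    let ε : (Fin m ⊕ Fin m) ⊕ Fin 2 → (Fin n → F₀) := fun j => φ.symm (Pi.single j 1)
    let E : (Fin m ⊕ Fin m) ⊕ Fin 2 → (Fin n → F) := fun j =>
      (P : Matrix (Fin n) (Fin n) F) *ᵥ up F₀ (ε j)
    have hE : LinearIndependent F E := linearIndependent_up F₀ φ P
    -- `ζ Q` and `ζ B` on the coordinate vectors
    have hQE : ∀ j, ζ * Q (E j) = ((Cfsg.quadFormMinus m F₀ 1 ζ₀ (Pi.single j 1) : F₀) : F) := by
      intro j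
      have := hφ' (ε j)
      rw [LinearEquiv.apply_symm_apply] at this
      rw [this]
      rfl
    have hBE : ∀ j k, ζ * polar Q (E j) (E k) =
        ((Cfsg.quadFormMinus m F₀ 1 ζ₀ (Pi.single j 1 + Pi.single k 1)
          - Cfsg.quadFormMinus m F₀ 1 ζ₀ (Pi.single j 1)
          - Cfsg.quadFormMinus m F₀ 1 ζ₀ (Pi.single k 1) : F₀) : F) := by
      intro j k
      have h1 := hφ' (ε j + ε k)
      rw [map_add, LinearEquiv.apply_symm_apply, LinearEquiv.apply_symm_apply] at h1
      have h2 := hφ' (ε j)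
      rw [LinearEquiv.apply_symm_apply] at h2
      have h3 := hφ' (ε k)
      rw [LinearEquiv.apply_symm_apply] at h3
      rw [h1, h2, h3, ← coe_polar_descend F₀ Q P ζ hrat (ε j) (ε k)]
      rfl
    have hz : ∀ x : F, ζ * x = 0 → x = 0 := fun x hx => by
      rcases mul_eq_zero.1 hx with h | h
      · exact absurd h hζ
      · exact h
    have hQx : ∀ i : Fin m, Q (E (Sum.inl (Sum.inl i))) = 0 := by
      intro i
      apply hz
      rw [hQE]
      simp [Cfsg.quadFormMinus]
    have hBxx : ∀ i j : Fin m, polar Q (E (Sum.inl (Sum.inl i))) (E (Sum.inl (Sum.inl j))) = 0 := by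
      intro i j
      apply hz
      rw [hBE]
      simp [Cfsg.quadFormMinus]
    have hBx0 : ∀ i : Fin m, polar Q (E (Sum.inl (Sum.inl i))) (E (Sum.inr 0)) = 0 := by
      intro i
      apply hz
      rw [hBE]
      simp [Cfsg.quadFormMinus]
    have hBx1 : ∀ i : Fin m, polar Q (E (Sum.inl (Sum.inl i))) (E (Sum.inr 1)) = 0 := by
      intro i
      apply hz
      rw [hBE]
      simp [Cfsg.quadFormMinus]
    have hQ0 : ζ * Q (E (Sum.inr 0)) = 1 := by
      rw [hQE]
      simp [Cfsg.quadFormMinus]
    have hQ1 : ζ * Q (E (Sum.inr 1)) = (ζ₀ : F) := by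
      rw [hQE]
      simp [Cfsg.quadFormMinus]
    have hB01 : ζ * polar Q (E (Sum.inr 0)) (E (Sum.inr 1)) = 1 := by
      rw [hBE]
      simp [Cfsg.quadFormMinus]
      ring
    -- the new singular vector
    let z : Fin n → F := τ • E (Sum.inr 0) + E (Sum.inr 1)
    have hzdef : z = τ • E (Sum.inr 0) + E (Sum.inr 1) := rfl
    have hQz : Q z = 0 := by
      apply hz
      have e1 : Q z = polar Q (τ • E (Sum.inr 0)) (E (Sum.inr 1)) + Q (τ • E (Sum.inr 0))
          + Q (E (Sum.inr 1)) := by
        rw [hzdef, hpol]; ring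
      rw [e1, hQ.polar_bilinear.smul_left, hQ.smul]
      linear_combination τ * hB01 + τ ^ 2 * hQ0 + hQ1 + hτ
    have hBxz : ∀ i : Fin m, polar Q (E (Sum.inl (Sum.inl i))) z = 0 := by
      intro i
      show polar Q _ (τ • E (Sum.inr 0) + E (Sum.inr 1)) = 0
      rw [hQ.polar_bilinear.add_right, hQ.polar_bilinear.smul_right, hBx0, hBx1]
      ring
    have hBzz : polar Q z z = 0 := by
      rw [hpol, ← two_smul F z, hQ.smul, hQz]
      ring
    let w : Option (Fin m) → (Fin n → F) := fun o => Option.elim o z (fun i => E (Sum.inl (Sum.inl i)))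
    have h0 : ∀ o, Q (w o) = 0 := by
      intro o
      cases o with
      | none => exact hQz
      | some i => exact hQx i
    have h1 : ∀ o o', polar Q (w o) (w o') = 0 := by
      intro o o'
      cases o with
      | none =>
        cases o' with
        | none => exact hBzz
        | some j =>
          show polar Q z (E (Sum.inl (Sum.inl j))) = 0
          rw [polar_comm]
          exact hBxz j
      | some i =>
        cases o' with
        | none => exact hBxz i
        | some j => exact hBxx i j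
    have hli : LinearIndependent F w := by
      rw [Fintype.linearIndependent_iff]
      intro g hg
      have hws : ∀ i, w (some i) = E (Sum.inl (Sum.inl i)) := fun i => rfl
      have hwn : w none = τ • E (Sum.inr 0) + E (Sum.inr 1) := rfl
      rw [Fintype.sum_option, hwn] at hg
      simp only [hws] at hg
      let G : (Fin m ⊕ Fin m) ⊕ Fin 2 → F := fun j =>
        Sum.elim (Sum.elim (fun i => g (some i)) (fun _ => 0)) (fun k => if k = 0 then g none * τ else g none) j
      have hG : ∑ j, G j • E j = 0 := by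
        rw [Fintype.sum_sum_type, Fintype.sum_sum_type, Fin.sum_univ_two]
        simp only [G, Sum.elim_inl, Sum.elim_inr, zero_smul, Finset.sum_const_zero, add_zero]
        rw [← hg]
        simp only [if_true, Fin.isValue, one_ne_zero, if_false, smul_add, smul_smul]
        abel
      have hG0 := (Fintype.linearIndependent_iff.1 hE) G hG
      intro o
      cases o with
      | none =>
        have := hG0 (Sum.inr 1)
        simpa [G] using this
      | some i =>
        have := hG0 (Sum.inl (Sum.inl i))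
        simpa [G] using this
    refine ⟨Submodule.span F (Set.range w), le_top,
      Cfsg.Agent.Lib.Helper19.OEvenType.isTotallySingularQuad_span Q hQ w h0 h1, ?_⟩
    rw [finrank_span_eq_card hli, htop, Fintype.card_option, Fintype.card_fin, hnM, hMm]

end Cfsg.Agent.Lib.Helper79.OEvenX
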