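import Mathlib

set_option autoImplicit false

/-!
# Convolution calculus and a determinant lemma (helper79)

Generic tools for lifting a fixed-point-free modular representation to characteristic zero:
* `conv` : convolution of ring-valued functions on a finite group;
* `Th`   : the operator `∑ h, π (f h) • ρ h` attached to a function `f`, with `Th f ∘ Th f' = Th (f ⋆ f')`;
* `eq_zero_of_conv_self` : a function with all values in a prime ideal `M` and `F ⋆ F = s • F`, `s ∉ M`,
  vanishes (determinant argument; no Noetherian hypothesis).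
-/

namespace Cfsg.Agent.Lib.Helper79.FpfLift

section Conv
variable {H : Type*} [Group H] [Fintype H] {R : Type*} [CommRing R]

/-- Convolution of functions on a finite group. -/
def conv (f f' : H → R) : H → R := fun g => ∑ h : H, f h * f' (h⁻¹ * g)

theorem conv_apply (f f' : H → R) (g : H) : conv f f' g = ∑ h : H, f h * f' (h⁻¹ * g) := rfl

theorem conv_add_left (f₁ f₂ f' : H → R) : conv (f₁ + f₂) f' = conv f₁ f' + conv f₂ f' := by
  funext g
  simp [conv, add_mul, Finset.sum_add_distrib]

theorem conv_zero_left (f' : H → R) : conv (0 : H → R) f' = 0 := by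
  funext g
  simp [conv]

theorem conv_sum_left {ι : Type*} (s : Finset ι) (f : ι → H → R) (f' : H → R) :
    conv (∑ i ∈ s, f i) f' = ∑ i ∈ s, conv (f i) f' := by
  classical
  induction s using Finset.induction_on with
  | empty => simp [conv_zero_left]
  | insert a s ha ih => rw [Finset.sum_insert ha, Finset.sum_insert ha, conv_add_left, ih]

theorem conv_single [DecidableEq H] (y : H) (f' : H → R) :
    conv (Pi.single y (1 : R)) f' = fun g => f' (y⁻¹ * g) := by
  funext g
  simp only [conv]
  rw [Finset.sum_eq_single y]
  · simp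
  · intro b _ hb
    simp [Pi.single_eq_of_ne hb]
  · intro h
    exact absurd (Finset.mem_univ y) h

theorem conv_smul_left (a : R) (f f' : H → R) : conv (a • f) f' = a • conv f f' := by
  funext g
  simp [conv, Finset.mul_sum, mul_assoc]

end Conv

section Th
variable {H : Type*} [Group H] [Fintype H] {R : Type*} [CommRing R]
variable {k : Type*} [CommRing k] (π : R →+* k)
variable {W : Type*} [AddCommGroup W] [Module k W] (ρ : Representation k H W)

/-- The operator `∑ h, π (f h) • ρ h`. -/
noncomputable def Th (f : H → R) : W →ₗ[k] W := ∑ h : H, π (f h) • ρ h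

theorem Th_add (f₁ f₂ : H → R) : Th π ρ (f₁ + f₂) = Th π ρ f₁ + Th π ρ f₂ := by
  simp [Th, add_smul, Finset.sum_add_distrib]

theorem Th_zero : Th π ρ (0 : H → R) = 0 := by
  simp [Th]

theorem Th_sum {ι : Type*} (s : Finset ι) (f : ι → H → R) :
    Th π ρ (∑ i ∈ s, f i) = ∑ i ∈ s, Th π ρ (f i) := by
  classical
  induction s using Finset.induction_on with
  | empty => simp [Th_zero]
  | insert a s ha ih => rw [Finset.sum_insert ha, Finset.sum_insert ha, Th_add, ih]

theorem Th_smul (a : R) (f : H → R) : Th π ρ (a • f) = π a • Th π ρ f := by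
  simp [Th, Finset.smul_sum, mul_smul]

theorem Th_single [DecidableEq H] (y : H) : Th π ρ (Pi.single y (1 : R)) = ρ y := by
  simp only [Th]
  rw [Finset.sum_eq_single y]
  · simp
  · intro b _ hb
    simp [Pi.single_eq_of_ne hb]
  · intro h
    exact absurd (Finset.mem_univ y) h

theorem Th_comp (f f' : H → R) : Th π ρ f * Th π ρ f' = Th π ρ (conv f f') := by
  simp only [Th, conv, map_sum, map_mul, Finset.sum_smul]
  rw [Finset.sum_mul_sum]
  conv_rhs => rw [Finset.sum_comm]
  refine Finset.sum_congr rfl fun h _ => ?_
  rw [← Fintype.sum_equiv (Equiv.mulLeft h) (fun h' => (π (f h) • ρ h) * (π (f' h') • ρ h'))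
    (fun g => (π (f h) * π (f' (h⁻¹ * g))) • ρ g)]
  intro h'
  simp only [Equiv.coe_mulLeft, inv_mul_cancel_left, map_mul]
  rw [smul_mul_smul_comm]

end Th

section Det
variable {H : Type*} [Group H] [Fintype H] [DecidableEq H] {R : Type*} [CommRing R] [IsDomain R]

/-- A function `F` on a finite group with values in a prime ideal `M` of a domain and with
`F ⋆ F = s • F`, `s ∉ M`, is zero. -/
theorem eq_zero_of_conv_self (M : Ideal R) (hM : M.IsPrime) (F : H → R) (s : R) (hs : s ∉ M)
    (hF : ∀ x, F x ∈ M) (hconv : conv F F = s • F) : F = 0 := by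
  classical
  set A : Matrix H H R := fun x y => F (x * y⁻¹) with hA
  have hAA : A * A = s • A := by
    ext x z
    rw [Matrix.mul_apply, Matrix.smul_apply]
    have h1 := congrFun hconv (x * z⁻¹)
    rw [conv_apply] at h1
    simp only [Pi.smul_apply, smul_eq_mul] at h1
    change ∑ j, F (x * j⁻¹) * F (j * z⁻¹) = s * F (x * z⁻¹)
    rw [← h1]
    symm
    refine Fintype.sum_equiv ((Equiv.inv H).trans (Equiv.mulLeft x)).symm _ _ ?_
    intro h
    simp only [Equiv.symm_trans_apply, Equiv.symm_symm, Equiv.coe_mulLeft]
    simp [mul_assoc]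
  set B : Matrix H H R := s • (1 : Matrix H H R) - A with hB
  have hBA : B * A = 0 := by
    rw [hB, sub_mul, smul_mul_assoc, one_mul, hAA, sub_self]
  have hdet : B.det ≠ 0 := by
    intro h0
    have hq : (Ideal.Quotient.mk M).mapMatrix B = (Ideal.Quotient.mk M s) • (1 : Matrix H H (R ⧸ M)) := by
      ext x y
      simp only [RingHom.mapMatrix_apply, Matrix.map_apply, hB, Matrix.sub_apply, Matrix.smul_apply,
        map_sub, smul_eq_mul, map_mul]
      have : Ideal.Quotient.mk M (A x y) = 0 := Ideal.Quotient.eq_zero_iff_mem.mpr (hF _)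
      rw [this, sub_zero]
      by_cases hxy : x = y
      · subst hxy; simp
      · simp [Matrix.one_apply_ne hxy]
    have h2 : (Ideal.Quotient.mk M) B.det = (Ideal.Quotient.mk M s) ^ Fintype.card H := by
      rw [RingHom.map_det, hq, Matrix.det_smul, Matrix.det_one, mul_one]
    rw [h0, map_zero] at h2
    have := hM
    have h3 : Ideal.Quotient.mk M s = 0 := by
      exact pow_eq_zero_iff (Fintype.card_ne_zero) |>.mp h2.symm
    exact hs (Ideal.Quotient.eq_zero_iff_mem.mp h3)
  have hAz : A = 0 := by
    ext x z
    have hv : B.mulVec (fun y => A y z) = 0 := by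
      funext x'
      have := congrFun (congrFun hBA x') z
      rw [Matrix.mul_apply] at this
      simpa [Matrix.mulVec, dotProduct] using this
    have := Matrix.eq_zero_of_mulVec_eq_zero hdet hv
    exact congrFun this x
  funext x
  have := congrFun (congrFun hAz x) 1
  simpa [hA] using this

end Det

end Cfsg.Agent.Lib.Helper79.FpfLift
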