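import Mathlib
import Cfsg.Agent.Lib.Helper79.FpfLiftA
import Cfsg.Agent.Lib.Helper82.CharBasic
import Cfsg.Agent.Lib.Helper83.SecondOrth
import Cfsg.Agent.Lib.Helper83.Central
import Cfsg.Agent.Lib.Helper83.CharBasic
import Cfsg.Agent.Lib.Helper83.Orthogonality
import Cfsg.Agent.Lib.Helper83.Linear

set_option autoImplicit false

/-!
# Character identities with algebraic-integer coefficients (helper79)

For an irreducible character `χ` of a finite group `H` we define the `AlgInt`-valued functions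
`eFun χ = χ(1) χ(h⁻¹)` (a multiple of the central idempotent), `psiFun χ C g = ∑_{c ∈ C} χ(c g)`,
`FFun χ C = χ(1) ψ(x⁻¹)` and prove the convolution identities needed for the lifting theorem.
-/

namespace Cfsg.Agent.Lib.Helper79.FpfLift

open Cfsg Cfsg.Agent.Lib.Helper83
open scoped ComplexConjugate
open Classical

variable {H : Type*} [Group H] [Fintype H]

/-- a character value as an algebraic integer -/
noncomputable def chiInt (χ : IrrCharacter H) (h : H) : AlgInt :=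
  ⟨(χ : H → ℂ) h, Cfsg.Agent.Lib.Helper82.IsCharacter.isIntegral (IrrCharacter_isCharacter χ) h⟩

@[simp] theorem coe_chiInt (χ : IrrCharacter H) (h : H) : ((chiInt χ h : AlgInt) : ℂ) = (χ : H → ℂ) h := rfl

/-- `χ(1) χ(h⁻¹)` -/
noncomputable def eFun (χ : IrrCharacter H) : H → AlgInt := fun h => chiInt χ 1 * chiInt χ h⁻¹

/-- `∑_{c ∈ C} χ(c g)` -/
noncomputable def psiFun (χ : IrrCharacter H) (C : Subgroup H) (g : H) : AlgInt :=
  ∑ c : C, chiInt χ ((c : H) * g)

/-- `χ(1) ψ(x⁻¹)` -/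
noncomputable def FFun (χ : IrrCharacter H) (C : Subgroup H) : H → AlgInt :=
  fun x => chiInt χ 1 * psiFun χ C x⁻¹

/-- the central element `∑_h h σ_C g h⁻¹` as a function -/
noncomputable def zFun (C : Subgroup H) (g : H) : H → AlgInt :=
  ∑ h : H, ∑ c : C, Pi.single (h * (c : H) * g * h⁻¹) (1 : AlgInt)

theorem coe_psiFun (χ : IrrCharacter H) (C : Subgroup H) (g : H) :
    ((psiFun χ C g : AlgInt) : ℂ) = ∑ c : C, (χ : H → ℂ) ((c : H) * g) := by
  simp [psiFun]

theorem char_mul_comm' (χ : IrrCharacter H) (a b : H) : (χ : H → ℂ) (a * b) = (χ : H → ℂ) (b * a) := by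
  have h := isClassFunction_irr χ (a * b) b
  rw [← h]
  congr 1
  group

theorem sum_char_inv_mul (χ : IrrCharacter H) :
    ∑ t : H, (χ : H → ℂ) t⁻¹ * (χ : H → ℂ) t = (Fintype.card H : ℂ) := by
  have h := irr_inner_self χ
  unfold classInner at h
  have hn : (Nat.card H : ℂ) ≠ 0 := by
    rw [Nat.card_eq_fintype_card]
    exact_mod_cast Fintype.card_ne_zero
  rw [inv_mul_eq_iff_eq_mul₀ hn, mul_one, Nat.card_eq_fintype_card] at h
  rw [← h]
  refine Finset.sum_congr rfl fun t _ => ?_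
  rw [char_inv (IrrCharacter_isCharacter χ) t, mul_comm]

variable [Fintype (IrrCharacter H)]

theorem sum_eFun (h : H) :
    ∑ χ : IrrCharacter H, eFun χ h = if h = 1 then (Fintype.card H : AlgInt) else 0 := by
  apply Subtype.ext
  have := sum_irr_degree_mul (G := H) h⁻¹
  rw [AddSubmonoidClass.coe_finsetSum]
  simp only [eFun, MulMemClass.coe_mul, coe_chiInt]
  rw [this]
  by_cases h1 : h = 1
  · subst h1
    simp [Nat.card_eq_fintype_card]
  · have : ¬ h⁻¹ = 1 := by simpa using h1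
    rw [if_neg this, if_neg h1]
    simp

omit [Fintype (IrrCharacter H)] in
theorem smul_conv_zFun (χ : IrrCharacter H) (C : Subgroup H) (g : H) :
    chiInt χ 1 • conv (zFun C g) (eFun χ) = ((Fintype.card H : AlgInt) * psiFun χ C g) • eFun χ := by
  funext x
  apply Subtype.ext
  simp only [Pi.smul_apply, smul_eq_mul, MulMemClass.coe_mul]
  have hz : conv (zFun C g) (eFun χ) x
      = ∑ h : H, ∑ c : C, eFun χ ((h * (c : H) * g * h⁻¹)⁻¹ * x) := by
    unfold zFun
    rw [conv_sum_left, Finset.sum_apply]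
    refine Finset.sum_congr rfl fun h _ => ?_
    rw [conv_sum_left, Finset.sum_apply]
    refine Finset.sum_congr rfl fun c _ => ?_
    rw [conv_single]
  rw [hz]
  rw [AddSubmonoidClass.coe_finsetSum]
  simp only [AddSubmonoidClass.coe_finsetSum, eFun, MulMemClass.coe_mul, coe_chiInt, coe_psiFun]
  rw [Finset.sum_comm]
  have h1 : ∀ c : C, ∑ h : H, (χ : H → ℂ) 1 * (χ : H → ℂ) ((h * (c : H) * g * h⁻¹)⁻¹ * x)⁻¹
      = (χ : H → ℂ) 1 * ((Nat.card H : ℂ) * (χ : H → ℂ) x⁻¹ * (χ : H → ℂ) ((c : H) * g) / (χ : H → ℂ) 1) := by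
    intro c
    rw [← Finset.mul_sum, ← irr_sum_conj_mul χ x⁻¹ ((c : H) * g)]
    congr 1
    refine Finset.sum_congr rfl fun h _ => ?_
    congr 1
    group
  rw [Finset.sum_congr rfl fun c _ => h1 c]
  have hd : (χ : H → ℂ) 1 ≠ 0 := irr_degree_ne_zero χ
  have hN : (Nat.card H : ℂ) = (Fintype.card H : ℂ) := by rw [Nat.card_eq_fintype_card]
  have hc : ((Fintype.card H : AlgInt) : ℂ) = (Fintype.card H : ℂ) := by simp
  simp only [hN, hc, Finset.mul_sum, Finset.sum_mul]
  refine Finset.sum_congr rfl fun c _ => ?_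
  field_simp

omit [Fintype (IrrCharacter H)] in
theorem conv_FFun (χ : IrrCharacter H) (C : Subgroup H) :
    conv (FFun χ C) (FFun χ C) = ((Fintype.card C : AlgInt) * (Fintype.card H : AlgInt)) • FFun χ C := by
  funext x
  apply Subtype.ext
  simp only [conv_apply, Pi.smul_apply, smul_eq_mul, MulMemClass.coe_mul, FFun,
    AddSubmonoidClass.coe_finsetSum, coe_chiInt, coe_psiFun]
  have hd : (χ : H → ℂ) 1 ≠ 0 := irr_degree_ne_zero χ
  -- inner sum over y
  have hin : ∀ c c' : C, ∑ y : H, (χ : H → ℂ) ((c : H) * y⁻¹) * (χ : H → ℂ) ((c' : H) * (y⁻¹ * x)⁻¹)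
      = (χ : H → ℂ) ((c : H) * (c' : H) * x⁻¹) * (Fintype.card H : ℂ) / (χ : H → ℂ) 1 := by
    intro c c'
    have hcf : IsClassFunction H (fun t : H => (χ : H → ℂ) t⁻¹) := by
      intro a b
      have := isClassFunction_irr χ a⁻¹ b
      simp only [mul_inv_rev, inv_inv]
      rw [← this]
      congr 1
      group
    have hm := irr_sum_classFunction_mul χ hcf ((c : H) * (c' : H) * x⁻¹)
    rw [sum_char_inv_mul χ] at hm
    rw [← hm]
    refine (Fintype.sum_equiv (Equiv.mulRight (c : H)⁻¹) _ _ ?_)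
    intro y
    simp only [Equiv.coe_mulRight]
    congr 1
    · congr 1
      group
    · rw [show (c : H) * (c' : H) * x⁻¹ * (y * (c : H)⁻¹) = ((c : H) * (c' : H) * x⁻¹ * y) * (c : H)⁻¹ by group,
        char_mul_comm' χ _ ((c : H)⁻¹)]
      congr 1
      group
  have h1 : ∀ y : H, (χ : H → ℂ) 1 * (∑ c : C, (χ : H → ℂ) ((c : H) * y⁻¹))
      * ((χ : H → ℂ) 1 * ∑ c' : C, (χ : H → ℂ) ((c' : H) * (y⁻¹ * x)⁻¹))
      = (χ : H → ℂ) 1 * (χ : H → ℂ) 1 * ∑ c : C, ∑ c' : C,
        (χ : H → ℂ) ((c : H) * y⁻¹) * (χ : H → ℂ) ((c' : H) * (y⁻¹ * x)⁻¹) := by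
    intro y
    rw [mul_mul_mul_comm, Finset.sum_mul_sum]
  rw [Finset.sum_congr rfl fun y _ => h1 y, ← Finset.mul_sum, Finset.sum_comm]
  have h2 : ∀ c : C, ∑ y : H, ∑ c' : C,
        (χ : H → ℂ) ((c : H) * y⁻¹) * (χ : H → ℂ) ((c' : H) * (y⁻¹ * x)⁻¹)
      = (Fintype.card H : ℂ) / (χ : H → ℂ) 1 * ∑ c'' : C, (χ : H → ℂ) ((c'' : H) * x⁻¹) := by
    intro c
    rw [Finset.sum_comm, Finset.sum_congr rfl fun c' _ => hin c c', Finset.mul_sum]
    refine (Fintype.sum_equiv (Equiv.mulLeft c) _ _ ?_)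
    intro c'
    simp only [Equiv.coe_mulLeft, Subgroup.coe_mul]
    ring
  rw [Finset.sum_congr rfl fun c _ => h2 c, Finset.sum_const, Finset.card_univ]
  have hc : ((Fintype.card H : AlgInt) : ℂ) = (Fintype.card H : ℂ) := by simp
  have hc' : ((Fintype.card C : AlgInt) : ℂ) = (Fintype.card C : ℂ) := by simp
  rw [hc, hc', nsmul_eq_mul]
  field_simp

end Cfsg.Agent.Lib.Helper79.FpfLift
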