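import Mathlib
import Cfsg.Agent.Lib.Helper79.FpfLiftB

set_option autoImplicit false

/-!
# Lifting a fixed-point-free modular representation to an ordinary irreducible character (helper79)

`exists_irr_of_fpf`: let `M` be a maximal ideal of the algebraic integers over the prime `q ∤ |H|`,
and `ρ` a nonzero representation of `H` over the residue field on which every subgroup of prime order
has zero "norm" (`∑_{c ∈ C} ρ c = 0`).  Then some irreducible complex character `χ` of `H` satisfies
`∑_{c ∈ C} χ(c g) = 0` for all `g` and all subgroups `C` of prime order.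
-/

namespace Cfsg.Agent.Lib.Helper79.FpfLift

open Cfsg Cfsg.Agent.Lib.Helper83
open Classical

variable {H : Type*} [Group H] [Fintype H]

theorem natCast_not_mem {q : ℕ} {M : Ideal AlgInt} (hM : IsPModular q M) {m : ℕ} (hm : ¬ q ∣ m) :
    (m : AlgInt) ∉ M := by
  intro hmem
  obtain ⟨hq, hmax, hqM⟩ := hM
  have hcop : Nat.Coprime q m := (Nat.Prime.coprime_iff_not_dvd hq).mpr hm
  obtain ⟨a, b, hab⟩ := Nat.isCoprime_iff_coprime.mpr hcop
  have h1 : (1 : AlgInt) ∈ M := by
    have : ((a : AlgInt) * (q : AlgInt) + (b : AlgInt) * (m : AlgInt)) = 1 := by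
      have := congrArg (fun z : ℤ => (z : AlgInt)) hab
      simpa using this
    rw [← this]
    exact M.add_mem (M.mul_mem_left _ hqM) (M.mul_mem_left _ hmem)
  exact hmax.ne_top ((Ideal.eq_top_iff_one M).mpr h1)

theorem exists_irr_of_fpf {q : ℕ} (M : Ideal AlgInt) (hM : IsPModular q M)
    (hq : ¬ q ∣ Fintype.card H)
    {W : Type*} [AddCommGroup W] [Module (AlgInt ⧸ M) W] (ρ : Representation (AlgInt ⧸ M) H W)
    (hW : ∃ w : W, w ≠ 0)
    (hfpf : ∀ C : Subgroup H, (Nat.card C).Prime → ∑ c : C, ρ (c : H) = 0) :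
    ∃ χ : IrrCharacter H, ∀ C : Subgroup H, (Nat.card C).Prime → ∀ g : H,
      ∑ c : C, (χ : H → ℂ) ((c : H) * g) = 0 := by
  haveI : Fintype (IrrCharacter H) := Fintype.ofFinite _
  haveI : M.IsMaximal := hM.2.1
  have hMprime : M.IsPrime := hM.2.1.isPrime
  set π : AlgInt →+* AlgInt ⧸ M := Ideal.Quotient.mk M with hπ
  have hn : π (Fintype.card H : AlgInt) ≠ 0 := by
    intro h0
    exact natCast_not_mem hM hq (Ideal.Quotient.eq_zero_iff_mem.mp h0)
  -- some `Th (eFun χ)` is nonzero
  have hsum : ∑ χ : IrrCharacter H, Th π ρ (eFun χ) = π (Fintype.card H : AlgInt) • (1 : W →ₗ[AlgInt ⧸ M] W) := by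
    rw [← Th_sum]
    have : (∑ χ : IrrCharacter H, eFun χ) = (Fintype.card H : AlgInt) • Pi.single (1 : H) (1 : AlgInt) := by
      funext h
      rw [Finset.sum_apply, sum_eFun]
      by_cases h1 : h = 1
      · subst h1; simp
      · simp [h1, Pi.single_eq_of_ne h1]
    rw [this, Th_smul, Th_single, map_one]
  obtain ⟨χ, hχ⟩ : ∃ χ : IrrCharacter H, Th π ρ (eFun χ) ≠ 0 := by
    by_contra hcon
    push_neg at hcon
    rw [Finset.sum_congr rfl fun χ _ => hcon χ, Finset.sum_const_zero] at hsum
    obtain ⟨w, hw⟩ := hW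
    obtain ⟨b, hb⟩ := Ideal.Quotient.exists_inv hn
    apply hw
    have h1 : (π (Fintype.card H : AlgInt) • (1 : W →ₗ[AlgInt ⧸ M] W)) w = 0 := by
      rw [← hsum]; rfl
    have h2 : π (Fintype.card H : AlgInt) • w = 0 := by simpa using h1
    calc w = (b * π (Fintype.card H : AlgInt)) • w := by rw [mul_comm, hb, one_smul]
      _ = 0 := by rw [mul_smul, h2, smul_zero]
  refine ⟨χ, fun C hC g => ?_⟩
  -- all values of `psiFun` lie in `M`
  have hpsiM : ∀ g : H, psiFun χ C g ∈ M := by
    intro g
    have hz : Th π ρ (zFun C g) = 0 := by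
      unfold zFun
      rw [Th_sum]
      have : ∀ h : H, Th π ρ (∑ c : C, Pi.single (h * (c : H) * g * h⁻¹) (1 : AlgInt))
          = ρ h * (∑ c : C, ρ (c : H)) * ρ (g * h⁻¹) := by
        intro h
        rw [Th_sum, Finset.mul_sum, Finset.sum_mul]
        refine Finset.sum_congr rfl fun c _ => ?_
        rw [Th_single, ← map_mul, ← map_mul]
        congr 1
        group
      rw [Finset.sum_congr rfl fun h _ => this h]
      simp [hfpf C hC]
    have h1 : Th π ρ (chiInt χ 1 • conv (zFun C g) (eFun χ)) = 0 := by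
      rw [Th_smul, ← Th_comp, hz, zero_mul, smul_zero]
    rw [smul_conv_zFun, Th_smul] at h1
    by_contra hnot
    have hne : π ((Fintype.card H : AlgInt) * psiFun χ C g) ≠ 0 := by
      rw [map_mul]
      refine mul_ne_zero hn ?_
      intro h0
      exact hnot (Ideal.Quotient.eq_zero_iff_mem.mp h0)
    obtain ⟨b, hb⟩ := Ideal.Quotient.exists_inv hne
    apply hχ
    calc Th π ρ (eFun χ) = (b * π ((Fintype.card H : AlgInt) * psiFun χ C g)) • Th π ρ (eFun χ) := by
          rw [mul_comm, hb, one_smul]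
      _ = 0 := by rw [← smul_smul, h1, smul_zero]
  -- determinant argument
  have hr : ¬ q ∣ Fintype.card C := by
    intro hdiv
    apply hq
    have h1 : Fintype.card C ∣ Fintype.card H := by
      have := Subgroup.card_subgroup_dvd_card C
      simpa [Nat.card_eq_fintype_card] using this
    exact dvd_trans hdiv h1
  have hs : ((Fintype.card C : AlgInt) * (Fintype.card H : AlgInt)) ∉ M := by
    intro hmem
    rcases hMprime.mem_or_mem hmem with h | h
    · exact natCast_not_mem hM hr h
    · exact natCast_not_mem hM hq h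
  have hF : FFun χ C = 0 := by
    refine eq_zero_of_conv_self M hMprime (FFun χ C) _ hs ?_ (conv_FFun χ C)
    intro x
    exact M.mul_mem_left _ (hpsiM x⁻¹)
  have hpsi0 : psiFun χ C g = 0 := by
    have h1 := congrFun hF g⁻¹
    simp only [FFun, inv_inv, Pi.zero_apply] at h1
    rcases mul_eq_zero.mp h1 with h | h
    · exfalso
      have : ((chiInt χ 1 : AlgInt) : ℂ) = 0 := by rw [h]; rfl
      exact irr_degree_ne_zero χ this
    · exact h
  have := congrArg (fun z : AlgInt => (z : ℂ)) hpsi0
  simpa [coe_psiFun] using this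

end Cfsg.Agent.Lib.Helper79.FpfLift
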