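import Mathlib
import Cfsg.Agent.Lib.Helper79.FpfLiftB

set_option autoImplicit false

/-!
# From a fixed-point-free irreducible character to a matrix representation over `AlgebraicClosure ℚ` (helper79)

Given an irreducible complex character `χ` with `∑_{c ∈ C} χ(c g) = 0` for all subgroups `C` of prime
order, the function `g ↦ χ(g⁻¹)` (transported to `AlgebraicClosure ℚ`) lies in the translation-invariant
space `Jsub` of functions annihilated on the left by all `σ_C`.  A minimal nonzero invariant subspace
of `Jsub` gives a faithful irreducible matrix representation without nonzero fixed vectors.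
-/

namespace Cfsg.Agent.Lib.Helper79.FpfLift

open Cfsg Cfsg.Agent.Lib.Helper83
open Classical

section
attribute [-instance] DivisionRing.toRatAlgebra
/-- the algebraic numbers inside `ℂ` are isomorphic to `AlgebraicClosure ℚ` -/
noncomputable def eQ : ↥(algebraicClosure ℚ ℂ) ≃+* AlgebraicClosure ℚ :=
  (IsAlgClosure.equiv ℚ ↥(algebraicClosure ℚ ℂ) (AlgebraicClosure ℚ)).toRingEquiv
end

theorem mem_algClosure_of_isIntegral (z : ℂ) (hz : IsIntegral ℤ z) : z ∈ algebraicClosure ℚ ℂ := by
  rw [mem_algebraicClosure_iff]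
  exact (hz.tower_top (A := ℚ)).isAlgebraic

section Jsub
variable {H : Type*} [Group H] [Fintype H] (K : Type*) [Field K]

/-- functions annihilated on the left by all `σ_C`, `C` of prime order -/
def Jsub : Submodule K (H → K) where
  carrier := {x | ∀ C : Subgroup H, (Nat.card C).Prime → ∀ g : H, ∑ c : C, x ((c : H)⁻¹ * g) = 0}
  add_mem' := by
    intro x y hx hy C hC g
    simp only [Pi.add_apply, Finset.sum_add_distrib, hx C hC g, hy C hC g, add_zero]
  zero_mem' := by
    intro C _ g
    simp
  smul_mem' := by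
    intro a x hx C hC g
    simp only [Pi.smul_apply, smul_eq_mul, ← Finset.mul_sum, hx C hC g, mul_zero]

theorem mem_Jsub {x : H → K} : x ∈ Jsub (H := H) K ↔
    ∀ C : Subgroup H, (Nat.card C).Prime → ∀ g : H, ∑ c : C, x ((c : H)⁻¹ * g) = 0 := Iff.rfl

/-- left translation -/
def tr (h : H) : (H → K) →ₗ[K] (H → K) := LinearMap.funLeft K K (fun g => h⁻¹ * g)

theorem tr_apply (h : H) (x : H → K) (g : H) : tr K h x g = x (h⁻¹ * g) := rfl

theorem tr_one : tr (H := H) K 1 = LinearMap.id := by
  ext x g
  simp [tr_apply]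

theorem tr_mul (h h' : H) : tr K (h * h') = tr K h ∘ₗ tr K h' := by
  apply LinearMap.ext
  intro x
  funext g
  simp only [tr_apply, LinearMap.comp_apply, mul_inv_rev, mul_assoc]

/-- invariance under all translations -/
def Inv (L : Submodule K (H → K)) : Prop := ∀ h : H, ∀ x ∈ L, tr K h x ∈ L

theorem Jsub_inv : Inv K (Jsub (H := H) K) := by
  intro h x hx C hC g
  set f : H →* H := (MulAut.conj h⁻¹).toMonoidHom with hf
  have hinj : Function.Injective f := (MulAut.conj h⁻¹).injective
  set φ := C.equivMapOfInjective f hinj with hφ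
  have hcard : (Nat.card (C.map f)).Prime := by
    rw [← Nat.card_congr φ.toEquiv]; exact hC
  have h0 := hx (C.map f) hcard (h⁻¹ * g)
  rw [← h0]
  refine Fintype.sum_equiv φ.toEquiv _ _ ?_
  intro c
  simp only [tr_apply]
  congr 1
  have : ((φ.toEquiv c : C.map f) : H) = h⁻¹ * (c : H) * h := by
    show ((φ c : C.map f) : H) = _
    rw [hφ, Subgroup.coe_equivMapOfInjective_apply, hf]
    simp [MulAut.conj_apply]
  rw [this]
  group

/-- A minimal nonzero invariant subspace. -/
theorem exists_min_inv [FiniteDimensional K (H → K)] (J : Submodule K (H → K)) (hJ : J ≠ ⊥) (hinv : Inv K J) :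
    ∃ L : Submodule K (H → K), L ≤ J ∧ L ≠ ⊥ ∧ Inv K L ∧
      ∀ L' : Submodule K (H → K), L' ≤ L → Inv K L' → L' ≠ ⊥ → L' = L := by
  have hex : ∃ n : ℕ, ∃ L : Submodule K (H → K), L ≤ J ∧ L ≠ ⊥ ∧ Inv K L ∧ Module.finrank K L = n :=
    ⟨_, J, le_refl _, hJ, hinv, rfl⟩
  obtain ⟨L, hLJ, hL0, hLinv, hLn⟩ := Nat.find_spec hex
  refine ⟨L, hLJ, hL0, hLinv, fun L' hL' hinv' h0' => ?_⟩
  have h1 : Nat.find hex ≤ Module.finrank K L' :=
    Nat.find_min' hex ⟨L', hL'.trans hLJ, h0', hinv', rfl⟩
  have h2 : Module.finrank K L' ≤ Module.finrank K L := Submodule.finrank_mono hL'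
  exact Submodule.eq_of_le_of_finrank_eq hL' (le_antisymm h2 (hLn ▸ h1))

end Jsub

section Rep
variable {H : Type*} [Group H] [Fintype H] {K : Type*} [Field K] [CharZero K]

/-- translation restricted to an invariant subspace -/
noncomputable def trL {L : Submodule K (H → K)} (hL : Inv K L) (h : H) : L →ₗ[K] L :=
  (tr K h).restrict (hL h)

theorem trL_apply {L : Submodule K (H → K)} (hL : Inv K L) (h : H) (x : L) :
    ((trL hL h x : L) : H → K) = tr K h (x : H → K) := rfl

/-- the matrix representation afforded by an invariant subspace -/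
noncomputable def matRep {L : Submodule K (H → K)} (hL : Inv K L) :
    H →* Matrix (Fin (Module.finrank K L)) (Fin (Module.finrank K L)) K where
  toFun h := LinearMap.toMatrix (Module.finBasis K L) (Module.finBasis K L) (trL hL h)
  map_one' := by
    have : trL hL (1 : H) = 1 := by
      apply LinearMap.ext
      intro x
      apply Subtype.ext
      rw [trL_apply, tr_one]
      rfl
    rw [this, LinearMap.toMatrix_one]
  map_mul' := by
    intro h h'
    have : trL hL (h * h') = trL hL h * trL hL h' := by
      apply LinearMap.ext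
      intro x
      apply Subtype.ext
      rw [trL_apply, tr_mul]
      rfl
    rw [this, LinearMap.toMatrix_mul]

theorem matRep_mulVec {L : Submodule K (H → K)} (hL : Inv K L) (h : H) (x : L) :
    (matRep hL h).mulVec ((Module.finBasis K L).equivFun x) = (Module.finBasis K L).equivFun (trL hL h x) := by
  have := LinearMap.toMatrix_mulVec_repr (Module.finBasis K L) (Module.finBasis K L) (trL hL h) x
  simpa [matRep, Module.Basis.equivFun_apply] using this

/-- A fixed vector of `g ≠ 1` in `Jsub` is zero. -/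
theorem eq_zero_of_fixed {x : H → K} (hx : x ∈ Jsub (H := H) K) {g : H} (hg : g ≠ 1)
    (hfix : tr K g x = x) : x = 0 := by
  -- a subgroup of prime order inside `⟨g⟩`
  have hord : orderOf g ≠ 1 := by
    intro h; exact hg (orderOf_eq_one_iff.mp h)
  obtain ⟨r, hr, hrd⟩ := Nat.exists_prime_and_dvd hord
  obtain ⟨m, hm⟩ := hrd
  set c₀ : H := g ^ m with hc₀
  have hgpos : 0 < orderOf g := orderOf_pos g
  have hmpos : 0 < m := by
    rcases Nat.eq_zero_or_pos m with h | h
    · rw [h, mul_zero] at hm; omega
    · exact h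
  have hc₀ord : orderOf c₀ = r := by
    rw [hc₀, orderOf_pow' g hmpos.ne', hm, Nat.gcd_eq_right (Dvd.intro_left r rfl)]
    exact Nat.mul_div_cancel _ hmpos
  have hC : (Nat.card (Subgroup.zpowers c₀)).Prime := by
    rw [Nat.card_zpowers, hc₀ord]; exact hr
  -- `x` is invariant under all powers of `g`
  have hpow : ∀ (j : ℕ) (y : H), x ((g ^ j)⁻¹ * y) = x y := by
    intro j
    induction j with
    | zero => intro y; simp
    | succ j ih =>
      intro y
      have h1 := congrFun hfix ((g ^ j)⁻¹ * y)
      rw [tr_apply] at h1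
      rw [← ih y, ← h1]
      congr 1
      rw [pow_succ]
      group
  have hzp : ∀ (c : Subgroup.zpowers c₀) (y : H), x ((c : H)⁻¹ * y) = x y := by
    intro c y
    obtain ⟨j, hj⟩ := (Subgroup.mem_zpowers_iff).mp c.2
    have hfin : IsOfFinOrder c₀ := isOfFinOrder_of_finite c₀
    obtain ⟨j', hj'⟩ : ∃ j' : ℕ, c₀ ^ j' = (c : H) := by
      have := hfin.mem_zpowers_iff_mem_range_orderOf.mp c.2
      obtain ⟨a, _, ha⟩ := Finset.mem_image.mp this
      exact ⟨a, ha⟩
    rw [← hj', hc₀, ← pow_mul]
    exact hpow _ y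
  funext y
  have h0 := hx (Subgroup.zpowers c₀) hC y
  rw [Finset.sum_congr rfl fun c _ => hzp c y, Finset.sum_const, Finset.card_univ, nsmul_eq_mul] at h0
  have hcard : (Fintype.card (Subgroup.zpowers c₀) : K) ≠ 0 := by
    exact_mod_cast Fintype.card_ne_zero
  simpa [hcard] using h0

end Rep

end Cfsg.Agent.Lib.Helper79.FpfLift
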