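import Mathlib
import Cfsg.Agent.Lib.Helper79.FpfLiftD

set_option autoImplicit false

/-!
# The matrix representation attached to a fixed-point-free irreducible character (helper79)
-/

namespace Cfsg.Agent.Lib.Helper79.FpfLift

open Cfsg Cfsg.Agent.Lib.Helper83
open Classical

variable {H : Type*} [Group H] [Fintype H]

theorem exists_rep_of_irr (χ : IrrCharacter H)
    (hχ : ∀ C : Subgroup H, (Nat.card C).Prime → ∀ g : H, ∑ c : C, (χ : H → ℂ) ((c : H) * g) = 0) :
    ∃ (n : ℕ) (ρ : H →* GL (Fin n) (AlgebraicClosure ℚ)), 0 < n ∧ Function.Injective ρ ∧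
      (∀ W : Submodule (AlgebraicClosure ℚ) (Fin n → AlgebraicClosure ℚ),
        (∀ g : H, ∀ w ∈ W, ((ρ g : GL (Fin n) (AlgebraicClosure ℚ)) :
          Matrix (Fin n) (Fin n) (AlgebraicClosure ℚ)).mulVec w ∈ W) → W = ⊥ ∨ W = ⊤) ∧
      ∀ g : H, g ≠ 1 → ∀ v : Fin n → AlgebraicClosure ℚ,
        ((ρ g : GL (Fin n) (AlgebraicClosure ℚ)) :
          Matrix (Fin n) (Fin n) (AlgebraicClosure ℚ)).mulVec v = v → v = 0 := by
  set K := AlgebraicClosure ℚ with hK
  have hint : ∀ g : H, (χ : H → ℂ) g ∈ algebraicClosure ℚ ℂ := fun g =>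
    mem_algClosure_of_isIntegral _
      (Cfsg.Agent.Lib.Helper82.IsCharacter.isIntegral (IrrCharacter_isCharacter χ) g)
  set xK : H → K := fun g => eQ ⟨(χ : H → ℂ) g⁻¹, hint g⁻¹⟩ with hxK
  have hxJ : xK ∈ Jsub (H := H) K := by
    intro C hC g
    simp only [hxK]
    rw [← map_sum]
    have : (∑ c : C, (⟨(χ : H → ℂ) ((c : H)⁻¹ * g)⁻¹, hint _⟩ : ↥(algebraicClosure ℚ ℂ))) = 0 := by
      apply Subtype.ext
      rw [AddSubmonoidClass.coe_finsetSum]
      simp only [ZeroMemClass.coe_zero]
      rw [← hχ C hC g⁻¹]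
      refine Finset.sum_congr rfl fun c _ => ?_
      rw [char_mul_comm' χ (c : H) g⁻¹]
      congr 1
      group
    rw [this, map_zero]
  have hx0 : xK ≠ 0 := by
    intro h0
    have h1 := congrFun h0 1
    simp only [hxK, Pi.zero_apply, inv_one] at h1
    have h2 : (⟨(χ : H → ℂ) 1, hint 1⟩ : ↥(algebraicClosure ℚ ℂ)) = 0 := by
      have := eQ.injective (a₁ := ⟨(χ : H → ℂ) 1, hint 1⟩) (a₂ := 0) (by rw [h1, map_zero])
      exact this
    have h3 : (χ : H → ℂ) 1 = 0 := congrArg Subtype.val h2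
    exact irr_degree_ne_zero χ h3
  have hJ0 : Jsub (H := H) K ≠ ⊥ := by
    intro h
    have : xK ∈ (⊥ : Submodule K (H → K)) := h ▸ hxJ
    exact hx0 ((Submodule.mem_bot K).mp this)
  obtain ⟨L, hLJ, hL0, hLinv, hLmin⟩ := exists_min_inv K (Jsub (H := H) K) hJ0 (Jsub_inv K)
  set b := Module.finBasis K L with hb
  have hcoe : ∀ g : H, (((matRep hLinv).toHomUnits g : GL (Fin (Module.finrank K L)) K) :
      Matrix (Fin (Module.finrank K L)) (Fin (Module.finrank K L)) K) = matRep hLinv g :=
    fun g => MonoidHom.coe_toHomUnits _ g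
  obtain ⟨x₀, hx₀L, hx₀⟩ := Submodule.exists_mem_ne_zero_of_ne_bot hL0
  have hfpf : ∀ g : H, g ≠ 1 → ∀ v : Fin (Module.finrank K L) → K,
      (matRep hLinv g).mulVec v = v → v = 0 := by
    intro g hg v hv
    set x : L := b.equivFun.symm v with hx
    have hxv : b.equivFun x = v := by rw [hx]; exact b.equivFun.apply_symm_apply v
    have h1 := matRep_mulVec hLinv g x
    rw [hxv, hv] at h1
    have h2 : trL hLinv g x = x := by
      apply b.equivFun.injective
      rw [← h1, hxv]
    have h3 : tr K g (x : H → K) = (x : H → K) := by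
      rw [← trL_apply hLinv g x, h2]
    have h4 : (x : H → K) = 0 := eq_zero_of_fixed (hLJ x.2) hg h3
    have h5 : x = 0 := Subtype.ext h4
    rw [← hxv, h5, map_zero]
  refine ⟨Module.finrank K L, (matRep hLinv).toHomUnits, ?_, ?_, ?_, ?_⟩
  · exact Module.finrank_pos_iff_exists_ne_zero.mpr ⟨⟨x₀, hx₀L⟩, fun h => hx₀ (congrArg Subtype.val h)⟩
  · rw [injective_iff_map_eq_one]
    intro g hg1
    by_contra hg
    have hm : matRep hLinv g = 1 := by
      rw [← hcoe g, hg1]; rfl
    have := hfpf g hg (b.equivFun ⟨x₀, hx₀L⟩) (by rw [hm, Matrix.one_mulVec])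
    have h2 : (⟨x₀, hx₀L⟩ : L) = 0 := by
      apply b.equivFun.injective
      rw [this, map_zero]
    exact hx₀ (congrArg Subtype.val h2)
  · intro W hW
    set W'' : Submodule K L := W.comap b.equivFun.toLinearMap with hW''
    set L' : Submodule K (H → K) := W''.map L.subtype with hL'
    have hL'L : L' ≤ L := Submodule.map_subtype_le L W''
    have hL'inv : Inv K L' := by
      intro h x hx
      obtain ⟨y, hy, rfl⟩ := (Submodule.mem_map).mp hx
      refine (Submodule.mem_map).mpr ⟨trL hLinv h y, ?_, rfl⟩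
      show b.equivFun (trL hLinv h y) ∈ W
      rw [← matRep_mulVec hLinv h y, ← hcoe h]
      exact hW h _ hy
    by_cases h0 : L' = ⊥
    · left
      rw [eq_bot_iff]
      intro w hw
      set y : L := b.equivFun.symm w with hy
      have hyw : b.equivFun y = w := by rw [hy]; exact b.equivFun.apply_symm_apply w
      have hyW : y ∈ W'' := by
        show b.equivFun y ∈ W
        rw [hyw]; exact hw
      have : (y : H → K) ∈ L' := (Submodule.mem_map).mpr ⟨y, hyW, rfl⟩
      rw [h0] at this
      have hy0 : y = 0 := Subtype.ext ((Submodule.mem_bot K).mp this)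
      rw [← hyw, hy0, map_zero]
      exact Submodule.zero_mem _
    · right
      have hLL := hLmin L' hL'L hL'inv h0
      rw [eq_top_iff]
      intro w _
      set y : L := b.equivFun.symm w with hy
      have : (y : H → K) ∈ L' := by rw [hLL]; exact y.2
      obtain ⟨y', hy'W, hy'⟩ := (Submodule.mem_map).mp this
      have hyy : y' = y := Subtype.ext hy'
      have hw : b.equivFun y = w := by rw [hy]; exact b.equivFun.apply_symm_apply w
      rw [← hw, ← hyy]
      exact hy'W
  · intro g hg v hv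
    rw [hcoe g] at hv
    exact hfpf g hg v hv

end Cfsg.Agent.Lib.Helper79.FpfLift
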