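import Mathlib
import Cfsg.Agent.Lib.Helper79.FpfLiftA

set_option autoImplicit false

/-!
# The module `Hom(V, k)` of a group acting by conjugation (helper79)

For a normal subgroup `N` of `L0` and a prime `q`, `VSub N q` is the subgroup of elements of `N` that are
central in `N` and of exponent `q`; `WSub` is the `k`-space of additive maps `VSub N q → k`, with `L0`
acting through conjugation.  If an element `c₀ ≠ 1` of a subgroup `C` centralizes no nontrivial element
of `N`, then `∑_{c ∈ C} ρ c = 0` on `WSub`.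
-/

namespace Cfsg.Agent.Lib.Helper79.FpfLift

open Classical

theorem aux_dual (q : ℕ) [Fact q.Prime] (E : Type*) [AddCommGroup E] [Module (ZMod q) E] (x₀ : E)
    (hx₀ : x₀ ≠ 0) : ∃ f : E →ₗ[ZMod q] ZMod q, f x₀ ≠ 0 :=
  Module.Projective.exists_dual_ne_zero (ZMod q) hx₀

theorem exists_addHom_ne_zero (q : ℕ) [Fact q.Prime] (E : Type*) [AddCommGroup E]
    (hq : ∀ x : E, q • x = 0) (x₀ : E) (hx₀ : x₀ ≠ 0) : ∃ f : E →+ ZMod q, f x₀ ≠ 0 := by
  obtain ⟨f, hf⟩ := @aux_dual q _ E _ (AddCommGroup.zmodModule hq) x₀ hx₀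
  exact ⟨@LinearMap.toAddMonoidHom _ _ _ _ _ _ _ _ (AddCommGroup.zmodModule hq) _ _ f, hf⟩

section V
variable {L0 : Type*} [Group L0] (N : Subgroup L0) [hN : N.Normal] (q : ℕ)

/-- elements of `N`, central in `N`, of exponent `q` -/
def VSub : Subgroup L0 where
  carrier := {x | x ∈ N ∧ (∀ y ∈ N, x * y = y * x) ∧ x ^ q = 1}
  mul_mem' := by
    rintro x y ⟨hx, hxc, hxq⟩ ⟨hy, hyc, hyq⟩
    refine ⟨N.mul_mem hx hy, ?_, ?_⟩
    · intro z hz
      rw [mul_assoc, hyc z hz, ← mul_assoc, hxc z hz, mul_assoc]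
    · have hcomm : Commute x y := hxc y hy
      rw [hcomm.mul_pow, hxq, hyq, one_mul]
  one_mem' := ⟨N.one_mem, fun y _ => by simp, one_pow q⟩
  inv_mem' := by
    rintro x ⟨hx, hxc, hxq⟩
    refine ⟨N.inv_mem hx, ?_, ?_⟩
    · intro z hz
      have h : Commute x z := hxc z hz
      exact h.inv_left
    · rw [inv_pow, hxq, inv_one]

theorem mem_VSub {x : L0} : x ∈ VSub N q ↔ x ∈ N ∧ (∀ y ∈ N, x * y = y * x) ∧ x ^ q = 1 := Iff.rfl

noncomputable instance : CommGroup ↥(VSub N q) :=
  { (inferInstance : Group ↥(VSub N q)) with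
    mul_comm := fun a b => Subtype.ext (a.2.2.1 b b.2.1) }

/-- conjugation by `h` on `VSub N q` -/
def cj (h : L0) : ↥(VSub N q) →* ↥(VSub N q) where
  toFun x := ⟨h * x * h⁻¹, by
    obtain ⟨hx, hxc, hxq⟩ := x.2
    refine ⟨hN.conj_mem _ hx h, ?_, ?_⟩
    · intro y hy
      have hy' : h⁻¹ * y * h ∈ N := by
        have := hN.conj_mem _ hy h⁻¹
        simpa using this
      have h1 := hxc _ hy'
      calc h * ↑x * h⁻¹ * y = h * (↑x * (h⁻¹ * y * h)) * h⁻¹ := by group
        _ = h * ((h⁻¹ * y * h) * ↑x) * h⁻¹ := by rw [h1]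
        _ = y * (h * ↑x * h⁻¹) := by group
    · rw [conj_pow, hxq]; simp⟩
  map_one' := by
    apply Subtype.ext
    simp
  map_mul' := by
    intro x y
    apply Subtype.ext
    simp only [Subgroup.coe_mul]
    group

theorem coe_cj (h : L0) (x : ↥(VSub N q)) : ((cj N q h x : ↥(VSub N q)) : L0) = h * x * h⁻¹ := rfl

theorem cj_one (x : ↥(VSub N q)) : cj N q 1 x = x := by
  apply Subtype.ext; simp [coe_cj]

theorem cj_mul (h h' : L0) (x : ↥(VSub N q)) : cj N q (h * h') x = cj N q h (cj N q h' x) := by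
  apply Subtype.ext
  simp only [coe_cj]
  group

variable (k : Type*) [CommRing k]

/-- additive maps `VSub N q → k` -/
def WSub : Submodule k (↥(VSub N q) → k) where
  carrier := {φ | ∀ u v, φ (u * v) = φ u + φ v}
  add_mem' := by
    intro φ ψ hφ hψ u v
    simp only [Pi.add_apply, hφ u v, hψ u v]
    ring
  zero_mem' := by
    intro u v
    simp
  smul_mem' := by
    intro a φ hφ u v
    simp only [Pi.smul_apply, hφ u v, smul_add]

theorem WSub_map_one {φ : ↥(VSub N q) → k} (hφ : φ ∈ WSub N q k) : φ 1 = 0 := by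
  have := hφ 1 1
  rw [mul_one] at this
  have h2 : φ 1 + 0 = φ 1 + φ 1 := by rw [add_zero]; exact this
  exact (add_left_cancel h2).symm

theorem WSub_map_prod {φ : ↥(VSub N q) → k} (hφ : φ ∈ WSub N q k) {ι : Type*} (s : Finset ι)
    (f : ι → ↥(VSub N q)) : φ (∏ i ∈ s, f i) = ∑ i ∈ s, φ (f i) := by
  induction s using Finset.induction_on with
  | empty => simp [WSub_map_one N q k hφ]
  | insert a s ha ih => rw [Finset.prod_insert ha, Finset.sum_insert ha, hφ, ih]

/-- the action of `h` on `WSub` by `φ ↦ φ ∘ cj h⁻¹` -/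
def actW (h : L0) : WSub N q k →ₗ[k] WSub N q k :=
  (LinearMap.funLeft k k (cj N q h⁻¹)).restrict (by
    intro φ hφ u v
    simp only [LinearMap.funLeft_apply, map_mul]
    exact hφ _ _)

theorem actW_apply (h : L0) (φ : WSub N q k) (v : ↥(VSub N q)) :
    ((actW N q k h φ : WSub N q k) : ↥(VSub N q) → k) v = (φ : ↥(VSub N q) → k) (cj N q h⁻¹ v) := rfl

/-- the representation of `L0` on `WSub` -/
def repW : Representation k L0 (WSub N q k) where
  toFun h := actW N q k h
  map_one' := by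
    apply LinearMap.ext
    intro φ
    apply Subtype.ext
    funext v
    rw [actW_apply, inv_one, cj_one]
    rfl
  map_mul' := by
    intro h h'
    apply LinearMap.ext
    intro φ
    apply Subtype.ext
    funext v
    rw [Module.End.mul_apply, actW_apply, actW_apply, actW_apply, mul_inv_rev, cj_mul]

theorem repW_apply (h : L0) (φ : WSub N q k) (v : ↥(VSub N q)) :
    ((repW N q k h φ : WSub N q k) : ↥(VSub N q) → k) v = (φ : ↥(VSub N q) → k) (cj N q h⁻¹ v) := rfl

/-- If some `c₀ ∈ C` centralizes (through `ι`) no nontrivial element of `N`, the norm of `C` vanishes on `WSub`. -/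
theorem sum_repW_eq_zero {Γ : Type*} [Group Γ] (ι : Γ →* L0) (C : Subgroup Γ) [Fintype C] (c₀ : Γ) (hc₀ : c₀ ∈ C)
    (hfix : ∀ x ∈ N, x * ι c₀ = ι c₀ * x → x = 1) :
    ∑ c : C, repW N q k (ι (c : Γ)) = 0 := by
  apply LinearMap.ext
  intro φ
  apply Subtype.ext
  funext v
  rw [LinearMap.sum_apply]
  simp only [LinearMap.zero_apply, ZeroMemClass.coe_zero, Pi.zero_apply]
  rw [AddSubmonoidClass.coe_finsetSum, Finset.sum_apply]
  simp only [repW_apply]
  rw [← WSub_map_prod N q k φ.2]
  set u : ↥(VSub N q) := ∏ c : C, cj N q ((ι (c : Γ))⁻¹) v with hu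
  have hu1 : cj N q (ι c₀)⁻¹ u = u := by
    rw [hu, map_prod]
    refine Fintype.prod_equiv (Equiv.mulRight (⟨c₀, hc₀⟩ : C)) _ _ ?_
    intro c
    rw [← cj_mul]
    simp only [Equiv.coe_mulRight, Subgroup.coe_mul, mul_inv_rev, map_mul]
  have hu2 : (u : L0) = 1 := by
    apply hfix _ u.2.1
    have := congrArg (fun z : ↥(VSub N q) => (z : L0)) hu1
    simp only [coe_cj, inv_inv] at this
    calc (u : L0) * ι c₀ = ι c₀ * ((ι c₀)⁻¹ * (u : L0) * ι c₀) := by group
      _ = ι c₀ * (u : L0) := by rw [this]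
  have : u = 1 := Subtype.ext hu2
  rw [this]
  exact WSub_map_one N q k φ.2

/-- A nonzero element of `WSub` when `VSub` is nontrivial and `k` has characteristic `q`. -/
theorem exists_WSub_ne_zero [Fact q.Prime] [Nontrivial k] [CharP k q] (v₀ : ↥(VSub N q)) (hv₀ : v₀ ≠ 1) :
    ∃ w : WSub N q k, w ≠ 0 := by
  have hq : ∀ x : Additive ↥(VSub N q), q • x = 0 := by
    intro x
    have h1 : (Additive.toMul x) ^ q = 1 := by
      apply Subtype.ext
      rw [Subgroup.coe_pow]
      exact (Additive.toMul x).2.2.2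
    have : Additive.ofMul ((Additive.toMul x) ^ q) = 0 := by rw [h1]; rfl
    simpa using this
  have hx₀ : Additive.ofMul v₀ ≠ 0 := by
    intro h
    apply hv₀
    exact Additive.ofMul.injective h
  obtain ⟨f, hf⟩ := exists_addHom_ne_zero q (Additive ↥(VSub N q)) hq _ hx₀
  set cast : ZMod q →+* k := ZMod.castHom (dvd_refl q) k with hcast
  have hinj : Function.Injective cast := cast.injective
  refine ⟨⟨fun v => cast (f (Additive.ofMul v)), ?_⟩, ?_⟩
  · intro u v
    show cast (f (Additive.ofMul (u * v))) = cast (f (Additive.ofMul u)) + cast (f (Additive.ofMul v))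
    rw [ofMul_mul, map_add, map_add]
  · intro h0
    have := congrFun (congrArg Subtype.val h0) v₀
    simp only [ZeroMemClass.coe_zero, Pi.zero_apply] at this
    exact hf (hinj (by rw [this, map_zero]))

end V

end Cfsg.Agent.Lib.Helper79.FpfLift
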