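import Mathlib
import Cfsg.Agent.Lib.Helper79.FpfLiftC
import Cfsg.Agent.Lib.Helper79.FpfLiftE
import Cfsg.Agent.Lib.Helper79.FpfLiftF
import Cfsg.Agent.S0034
import Cfsg.Agent.S0035
import Cfsg.Agent.S0039
import Cfsg.Agent.S0042
import Cfsg.Agent.Lib.Helper82.DefectZero

set_option autoImplicit false

/-!
# A Frobenius complement has a faithful irreducible fixed-point-free representation (helper79)
-/

namespace Cfsg.Agent.Lib.Helper79.FpfLift

open Cfsg Cfsg.Agent.Lib.Helper83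
open Classical

/-- The Frobenius kernel `N` of a Frobenius complement `Hc`, with a nontrivial element `z'` of prime order
`q ∤ |Hc|` that is central in `N`. -/
theorem exists_kernel_data {L0 : Type*} [Group L0] [Finite L0] (Hc : Subgroup L0)
    (hHc : Cfsg.IsFrobeniusComplement Hc) :
    ∃ (N : Subgroup L0) (q : ℕ) (z' : L0), N.Normal ∧ N ≠ ⊥ ∧
      (∀ h ∈ Hc, h ≠ 1 → N ⊓ Subgroup.centralizer {h} = ⊥) ∧
      q.Prime ∧ ¬ q ∣ Nat.card ↥Hc ∧ z' ≠ 1 ∧ z' ∈ N ∧ (∀ y ∈ N, z' * y = y * z') ∧ z' ^ q = 1 := by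
  obtain ⟨N, hNset, hNnormal, hcomp⟩ := Cfsg.Agent.S0035.result Hc hHc
  obtain ⟨N', hN'set, _, hN'nil⟩ := Cfsg.Agent.S0042.result Hc hHc
  have hNN' : N' = N := SetLike.coe_injective (hN'set.trans hNset.symm)
  subst hNN'
  haveI := hNnormal
  have hNbot : N' ≠ ⊥ := by
    intro h
    rw [h] at hcomp
    exact hHc.2.1 (Subgroup.isComplement'_bot_left.mp hcomp)
  have hcent := (Cfsg.Agent.S0039.result N' Hc hcomp hNbot hHc.1).mp hHc
  -- the centre of `N'` is nontrivial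
  haveI : Nontrivial ↥N' := (Subgroup.nontrivial_iff_ne_bot N').mpr hNbot
  have hcen : Subgroup.center ↥N' ≠ ⊥ := Group.IsNilpotent.center_ne_bot ↥N'
  obtain ⟨z, hz1⟩ := (Subgroup.ne_bot_iff_exists_ne_one).mp hcen
  -- `z0 : L0`
  set z0 : L0 := ((z : ↥N') : L0) with hz0
  have hz0N : z0 ∈ N' := (z : ↥N').2
  have hz0c : ∀ y ∈ N', z0 * y = y * z0 := by
    intro y hy
    have h := (Subgroup.mem_center_iff.mp z.2) ⟨y, hy⟩
    have h' := congrArg (Subtype.val) h
    simp only [Subgroup.coe_mul] at h'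
    exact h'.symm
  have hz0ne : z0 ≠ 1 := by
    intro h
    apply hz1
    apply Subtype.ext
    apply Subtype.ext
    exact h
  have hord : orderOf z0 ≠ 1 := by
    intro h
    exact hz0ne (orderOf_eq_one_iff.mp h)
  set q : ℕ := (orderOf z0).minFac with hq
  have hqprime : q.Prime := Nat.minFac_prime hord
  have hqdvd : q ∣ orderOf z0 := Nat.minFac_dvd _
  have hord0 : orderOf z0 ≠ 0 := (orderOf_pos z0).ne'
  set z' : L0 := z0 ^ (orderOf z0 / q) with hz'
  have hz'ord : orderOf z' = q := orderOf_pow_orderOf_div hord0 hqdvd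
  have hz'ne : z' ≠ 1 := by
    intro h
    rw [h, orderOf_one] at hz'ord
    exact hqprime.one_lt.ne hz'ord
  have hz'q : z' ^ q = 1 := by
    rw [← hz'ord]; exact pow_orderOf_eq_one z'
  -- `q` does not divide `|Hc|`
  have hqH : ¬ q ∣ Nat.card ↥Hc := by
    intro hdvd
    obtain ⟨h1, h2⟩ := Cfsg.Agent.S0034.result Hc hHc
    have hcardN : Nat.card ↥N' = Hc.index := by
      rw [← h1]
      exact congrArg (fun S : Set L0 => Nat.card ↥S) hNset
    have hqN : q ∣ Hc.index := by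
      rw [← hcardN]
      have : orderOf z0 ∣ Nat.card ↥N' := by
        have := orderOf_dvd_natCard (z : ↥N')
        rwa [← Subgroup.orderOf_coe] at this
      exact hqdvd.trans this
    have hmod : Hc.index ≡ 1 [MOD Nat.card ↥Hc] := h2
    have hmod' : Hc.index ≡ 1 [MOD q] := Nat.ModEq.of_dvd hdvd hmod
    have h0 : Hc.index % q = 0 := Nat.eq_zero_of_dvd_of_lt (Nat.dvd_of_mod_eq_zero (by
      rw [Nat.mod_mod]; exact Nat.mod_eq_zero_of_dvd hqN)) (Nat.mod_lt _ hqprime.pos)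
    have h3 : 1 % q = 0 := by rw [← hmod', h0]
    rw [Nat.one_mod_eq_one.mpr hqprime.one_lt.ne'] at h3
    exact one_ne_zero h3
  refine ⟨N', q, z', hNnormal, hNbot, hcent, hqprime, hqH, hz'ne, N'.pow_mem hz0N _, ?_, hz'q⟩
  intro y hy
  have hc : Commute z0 y := hz0c y hy
  exact (hc.pow_left _)

/-- A Frobenius complement has an irreducible complex character all of whose prime-order "norm sums"
vanish. -/
theorem exists_irr_of_frobeniusComplement {L0 : Type*} [Group L0] [Finite L0] (Hc : Subgroup L0)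
    (hHc : Cfsg.IsFrobeniusComplement Hc) [Fintype ↥Hc] :
    ∃ χ : IrrCharacter ↥Hc, ∀ C : Subgroup ↥Hc, (Nat.card C).Prime → ∀ g : ↥Hc,
      ∑ c : C, (χ : ↥Hc → ℂ) ((c : ↥Hc) * g) = 0 := by
  obtain ⟨N', q, z', hNnormal, hNbot, hcent, hqprime, hqH', hz'ne, hz'N, hz'c, hz'q⟩ :=
    exists_kernel_data Hc hHc
  haveI := hNnormal
  haveI : Fact q.Prime := ⟨hqprime⟩
  have hz'V : z' ∈ VSub N' q := ⟨hz'N, hz'c, hz'q⟩
  have hqH : ¬ q ∣ Fintype.card ↥Hc := by
    rw [← Nat.card_eq_fintype_card]; exact hqH'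
  obtain ⟨M, hM⟩ := Cfsg.Agent.Lib.Helper82.exists_isPModular q hqprime
  haveI hMmax : M.IsMaximal := hM.2.1
  haveI : Nontrivial (AlgInt ⧸ M) := Ideal.Quotient.nontrivial_iff.mpr hMmax.ne_top
  haveI : CharP (AlgInt ⧸ M) q := by
    rw [CharP.charP_iff_prime_eq_zero hqprime]
    have : ((q : AlgInt) : AlgInt ⧸ M) = 0 := Ideal.Quotient.eq_zero_iff_mem.mpr hM.2.2
    simpa using this
  set ρW : Representation (AlgInt ⧸ M) ↥Hc (WSub N' q (AlgInt ⧸ M)) :=
    (repW N' q (AlgInt ⧸ M)).comp Hc.subtype with hρW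
  have hW : ∃ w : WSub N' q (AlgInt ⧸ M), w ≠ 0 :=
    exists_WSub_ne_zero N' q (AlgInt ⧸ M) ⟨z', hz'V⟩ (by
      intro h
      exact hz'ne (congrArg Subtype.val h))
  have hfpf : ∀ C : Subgroup ↥Hc, (Nat.card C).Prime → ∑ c : C, ρW (c : ↥Hc) = 0 := by
    intro C hC
    haveI : Nontrivial ↥C := Finite.one_lt_card_iff_nontrivial.mp hC.one_lt
    obtain ⟨c₀, hc₀⟩ := exists_ne (1 : ↥C)
    have hc₀' : ((c₀ : ↥Hc) : L0) ≠ 1 := by
      intro h
      apply hc₀
      apply Subtype.ext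
      apply Subtype.ext
      simpa using h
    have hbot := hcent ((c₀ : ↥Hc) : L0) (c₀ : ↥Hc).2 hc₀'
    have := sum_repW_eq_zero N' q (AlgInt ⧸ M) Hc.subtype C (c₀ : ↥Hc) c₀.2 (by
      intro x hx hcomm
      have hmem : x ∈ N' ⊓ Subgroup.centralizer {((c₀ : ↥Hc) : L0)} := by
        refine Subgroup.mem_inf.mpr ⟨hx, ?_⟩
        rw [Subgroup.mem_centralizer_iff]
        intro h hh
        rw [Set.mem_singleton_iff] at hh
        subst hh
        exact hcomm.symm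
      rw [hbot] at hmem
      exact Subgroup.mem_bot.mp hmem)
    exact this
  exact exists_irr_of_fpf M hM hqH ρW hW hfpf

theorem exists_rep_of_frobeniusComplement {L0 : Type*} [Group L0] [Finite L0] (Hc : Subgroup L0)
    (hHc : Cfsg.IsFrobeniusComplement Hc) :
    ∃ (n : ℕ) (ρ : ↥Hc →* GL (Fin n) (AlgebraicClosure ℚ)), 0 < n ∧ Function.Injective ρ ∧
      (∀ W : Submodule (AlgebraicClosure ℚ) (Fin n → AlgebraicClosure ℚ),
        (∀ g : ↥Hc, ∀ w ∈ W, ((ρ g : GL (Fin n) (AlgebraicClosure ℚ)) :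
          Matrix (Fin n) (Fin n) (AlgebraicClosure ℚ)).mulVec w ∈ W) → W = ⊥ ∨ W = ⊤) ∧
      ∀ g : ↥Hc, g ≠ 1 → ∀ v : Fin n → AlgebraicClosure ℚ,
        ((ρ g : GL (Fin n) (AlgebraicClosure ℚ)) :
          Matrix (Fin n) (Fin n) (AlgebraicClosure ℚ)).mulVec v = v → v = 0 := by
  haveI : Fintype ↥Hc := Fintype.ofFinite _
  obtain ⟨χ, hχ⟩ := exists_irr_of_frobeniusComplement Hc hHc
  exact exists_rep_of_irr χ hχ

end Cfsg.Agent.Lib.Helper79.FpfLift
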