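import Mathlib
import Cfsg.Agent.Lib.Helper79.FpfLiftG
import Cfsg.Agent.Lib.Helper76.FrobeniusShrink

set_option autoImplicit false

/-!
# Direct products of groups with fixed-point-free characters are Frobenius complements (helper79)
-/

namespace Cfsg.Agent.Lib.Helper79.FpfLift

open Cfsg Cfsg.Agent.Lib.Helper83
open Classical

section Fix
variable {H : Type*} [Group H] [Fintype H] {K : Type*} [Field K]

/-- A fixed vector of `g ≠ 1` in `Jsub` is zero, when the prime divisors of `|H|` are invertible. -/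
theorem eq_zero_of_fixed' (hK : ∀ r : ℕ, r.Prime → r ∣ Fintype.card H → (r : K) ≠ 0)
    {x : H → K} (hx : x ∈ Jsub (H := H) K) {g : H} (hg : g ≠ 1)
    (hfix : tr K g x = x) : x = 0 := by
  have hord : orderOf g ≠ 1 := by
    intro h; exact hg (orderOf_eq_one_iff.mp h)
  obtain ⟨r, hr, hrd⟩ := Nat.exists_prime_and_dvd hord
  obtain ⟨m, hm⟩ := hrd
  set c₀ : H := g ^ m with hc₀
  have hgpos : 0 < orderOf g := orderOf_pos g
  have hmpos : 0 < m := by
    rcases Nat.eq_zero_or_pos m with h | h
    · rw [h, mul_zero] at hm; omega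
    · exact h
  have hc₀ord : orderOf c₀ = r := by
    rw [hc₀, orderOf_pow' g hmpos.ne', hm, Nat.gcd_eq_right (Dvd.intro_left r rfl)]
    exact Nat.mul_div_cancel _ hmpos
  have hC : (Nat.card (Subgroup.zpowers c₀)).Prime := by
    rw [Nat.card_zpowers, hc₀ord]; exact hr
  have hpow : ∀ (j : ℕ) (y : H), x ((g ^ j)⁻¹ * y) = x y := by
    intro j
    induction j with
    | zero => intro y; simp
    | succ j ih =>
      intro y
      have h1 := congrFun hfix ((g ^ j)⁻¹ * y)
      rw [tr_apply] at h1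
      rw [← ih y, ← h1]
      congr 1
      rw [pow_succ]
      group
  have hzp : ∀ (c : Subgroup.zpowers c₀) (y : H), x ((c : H)⁻¹ * y) = x y := by
    intro c y
    have hfin : IsOfFinOrder c₀ := isOfFinOrder_of_finite c₀
    obtain ⟨j', hj'⟩ : ∃ j' : ℕ, c₀ ^ j' = (c : H) := by
      have := hfin.mem_zpowers_iff_mem_range_orderOf.mp c.2
      obtain ⟨a, _, ha⟩ := Finset.mem_image.mp this
      exact ⟨a, ha⟩
    rw [← hj', hc₀, ← pow_mul]
    exact hpow _ y
  funext y
  have h0 := hx (Subgroup.zpowers c₀) hC y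
  rw [Finset.sum_congr rfl fun c _ => hzp c y, Finset.sum_const, Finset.card_univ, nsmul_eq_mul] at h0
  have hcard : (Fintype.card (Subgroup.zpowers c₀) : K) ≠ 0 := by
    have h1 : Fintype.card (Subgroup.zpowers c₀) = r := by
      rw [← Nat.card_eq_fintype_card, Nat.card_zpowers, hc₀ord]
    rw [h1]
    apply hK r hr
    rw [← hc₀ord]
    exact orderOf_dvd_card
  simpa [hcard] using h0

end Fix

section Prod
variable {A B : Type*} [Group A] [Fintype A] [Group B] [Fintype B] (K : Type*) [Field K]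

/-- functions on `A × B` whose slices lie in `Jsub` -/
def JJsub : Submodule K (A × B → K) where
  carrier := {F | (∀ b : B, (fun a : A => F (a, b)) ∈ Jsub (H := A) K) ∧
    (∀ a : A, (fun b : B => F (a, b)) ∈ Jsub (H := B) K)}
  add_mem' := by
    intro x y hx hy
    refine ⟨fun b => ?_, fun a => ?_⟩
    · exact (Jsub (H := A) K).add_mem (hx.1 b) (hy.1 b)
    · exact (Jsub (H := B) K).add_mem (hx.2 a) (hy.2 a)
  zero_mem' := ⟨fun _ => (Jsub (H := A) K).zero_mem, fun _ => (Jsub (H := B) K).zero_mem⟩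
  smul_mem' := by
    intro c x hx
    refine ⟨fun b => ?_, fun a => ?_⟩
    · exact (Jsub (H := A) K).smul_mem c (hx.1 b)
    · exact (Jsub (H := B) K).smul_mem c (hx.2 a)

theorem JJsub_inv : Inv K (JJsub (A := A) (B := B) K) := by
  intro h x hx
  refine ⟨fun b => ?_, fun a => ?_⟩
  · have := Jsub_inv (H := A) K h.1 _ (hx.1 (h.2⁻¹ * b))
    convert this using 1
    funext a
    simp only [tr_apply, Prod.inv_mk, Prod.mk_mul_mk, Prod.fst_inv, Prod.snd_inv]
    rfl
  · have := Jsub_inv (H := B) K h.2 _ (hx.2 (h.1⁻¹ * a))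
    convert this using 1
    funext b
    simp only [tr_apply, Prod.inv_mk, Prod.mk_mul_mk, Prod.fst_inv, Prod.snd_inv]
    rfl

theorem tr_pow_fixed {H : Type*} [Group H] [Fintype H] {K : Type*} [Field K] {g : H} {x : H → K}
    (hfix : tr K g x = x) (m : ℕ) : tr K (g ^ m) x = x := by
  induction m with
  | zero => rw [pow_zero, tr_one]; rfl
  | succ m ih =>
    rw [pow_succ, tr_mul, LinearMap.comp_apply, hfix, ih]

theorem pow_card_ne_one_of_coprime {A : Type*} [Group A] [Fintype A] {a : A} (ha : a ≠ 1) {m : ℕ}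
    (hcop : (Fintype.card A).Coprime m) : a ^ m ≠ 1 := by
  intro h
  apply ha
  have h1 : orderOf a ∣ m := orderOf_dvd_of_pow_eq_one h
  have h2 : orderOf a ∣ Fintype.card A := orderOf_dvd_card
  have h3 : orderOf a ∣ 1 := by
    have := Nat.dvd_gcd h2 h1
    rwa [hcop.gcd_eq_one] at this
  exact orderOf_eq_one_iff.mp (Nat.dvd_one.mp h3)

theorem JJ_eq_zero_of_fixed
    (hK : ∀ r : ℕ, r.Prime → r ∣ Fintype.card A * Fintype.card B → (r : K) ≠ 0)
    (hcop : (Fintype.card A).Coprime (Fintype.card B))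
    {F : A × B → K} (hF : F ∈ JJsub (A := A) (B := B) K) {g : A × B} (hg : g ≠ 1)
    (hfix : tr K g F = F) : F = 0 := by
  have hg' : g.1 ≠ 1 ∨ g.2 ≠ 1 := by
    by_contra h
    push_neg at h
    exact hg (Prod.ext h.1 h.2)
  rcases hg' with h1 | h2
  · -- first coordinate
    set m := Fintype.card B with hm
    have hfix' := tr_pow_fixed hfix m
    have ha : g.1 ^ m ≠ 1 := pow_card_ne_one_of_coprime h1 hcop
    have hb : g.2 ^ m = 1 := pow_card_eq_one
    funext y
    have hslice : (fun a : A => F (a, y.2)) = 0 := by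
      apply eq_zero_of_fixed' (K := K) (H := A)
        (fun r hr hrd => hK r hr (hrd.mul_right _)) (hF.1 y.2) ha
      funext a
      have := congrFun hfix' (a, y.2)
      rw [tr_apply] at this
      rw [tr_apply]
      rw [← this]
      congr 1
      ext
      · simp
      · simp [hb]
    have := congrFun hslice y.1
    simpa using this
  · set m := Fintype.card A with hm
    have hfix' := tr_pow_fixed hfix m
    have hb : g.2 ^ m ≠ 1 := pow_card_ne_one_of_coprime h2 hcop.symm
    have ha : g.1 ^ m = 1 := pow_card_eq_one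
    funext y
    have hslice : (fun b : B => F (y.1, b)) = 0 := by
      apply eq_zero_of_fixed' (K := K) (H := B)
        (fun r hr hrd => hK r hr (hrd.mul_left _)) (hF.2 y.1) hb
      funext b
      have := congrFun hfix' (y.1, b)
      rw [tr_apply] at this
      rw [tr_apply]
      rw [← this]
      congr 1
      ext
      · simp [ha]
      · simp
    have := congrFun hslice y.2
    simpa using this

end Prod

section Main
variable {A B : Type*} [Group A] [Fintype A] [Group B] [Fintype B]

theorem exists_pi_chi_ne_zero {H : Type*} [Group H] [Fintype H] (χ : IrrCharacter H) {p : ℕ}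
    {M : Ideal AlgInt} (hM : IsPModular p M) (hp : ¬ p ∣ Fintype.card H) :
    ∃ h : H, (Ideal.Quotient.mk M) (chiInt χ h⁻¹) ≠ 0 := by
  by_contra hcon
  push Not at hcon
  have hsum : (∑ t : H, chiInt χ t⁻¹ * chiInt χ t : AlgInt) = (Fintype.card H : AlgInt) := by
    apply Subtype.ext
    rw [AddSubmonoidClass.coe_finsetSum]
    simp only [MulMemClass.coe_mul, coe_chiInt]
    rw [sum_char_inv_mul]
    simp
  have := congrArg (Ideal.Quotient.mk M) hsum
  rw [map_sum] at this
  simp only [map_mul, hcon, zero_mul, Finset.sum_const_zero] at this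
  exact natCast_not_mem hM hp (Ideal.Quotient.eq_zero_iff_mem.mp this.symm)

/-- the translation action on `JJsub` -/
@[instance_reducible]
noncomputable def dmaJJ (K : Type*) [Field K] :
    DistribMulAction (A × B) ↥(JJsub (A := A) (B := B) K) where
  smul g F := trL (JJsub_inv K) g F
  one_smul F := by
    apply Subtype.ext
    change tr K 1 F.1 = F.1
    rw [tr_one]; rfl
  mul_smul g h F := by
    apply Subtype.ext
    change tr K (g * h) F.1 = tr K g (tr K h F.1)
    rw [tr_mul]; rfl
  smul_zero g := map_zero (trL (JJsub_inv K) g)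
  smul_add g x y := map_add (trL (JJsub_inv K) g) x y

theorem exists_frobenius_prod [Nontrivial A]
    (χA : IrrCharacter A)
    (hχA : ∀ C : Subgroup A, (Nat.card C).Prime → ∀ g : A, ∑ c : C, (χA : A → ℂ) ((c : A) * g) = 0)
    (χB : IrrCharacter B)
    (hχB : ∀ C : Subgroup B, (Nat.card C).Prime → ∀ g : B, ∑ c : C, (χB : B → ℂ) ((c : B) * g) = 0)
    (hcop : (Fintype.card A).Coprime (Fintype.card B)) :
    ∃ (L : Type) (_ : Group L) (_ : Finite L) (C : Subgroup L),
      Cfsg.IsFrobeniusComplement C ∧ Nonempty ((A × B) ≃* C) := by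
  obtain ⟨p, hpge, hp⟩ := Nat.exists_infinite_primes (Fintype.card A * Fintype.card B + 1)
  haveI : Fact p.Prime := ⟨hp⟩
  haveI : NeZero p := ⟨hp.ne_zero⟩
  have hpAB : ¬ p ∣ Fintype.card A * Fintype.card B := fun hd => by
    have := Nat.le_of_dvd (Nat.mul_pos Fintype.card_pos Fintype.card_pos) hd
    omega
  have hpA : ¬ p ∣ Fintype.card A := fun h => hpAB (h.mul_right _)
  have hpB : ¬ p ∣ Fintype.card B := fun h => hpAB (h.mul_left _)
  obtain ⟨M, hM⟩ := Cfsg.Agent.Lib.Helper82.exists_isPModular p hp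
  haveI hMmax : M.IsMaximal := hM.2.1
  letI : Field (AlgInt ⧸ M) := Ideal.Quotient.field M
  set π : AlgInt →+* AlgInt ⧸ M := Ideal.Quotient.mk M with hπ
  obtain ⟨a₁, ha₁⟩ := exists_pi_chi_ne_zero χA hM hpA
  obtain ⟨b₁, hb₁⟩ := exists_pi_chi_ne_zero χB hM hpB
  have hv : π (chiInt χA a₁⁻¹) * π (chiInt χB b₁⁻¹) ≠ 0 := mul_ne_zero ha₁ hb₁
  have hpk : ∀ x : AlgInt ⧸ M, p • x = 0 := by
    intro x
    rw [nsmul_eq_mul]
    have : ((p : AlgInt) : AlgInt ⧸ M) = 0 := Ideal.Quotient.eq_zero_iff_mem.mpr hM.2.2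
    have h2 : (p : AlgInt ⧸ M) = 0 := by simpa using this
    rw [h2, zero_mul]
  obtain ⟨f, hf⟩ := exists_addHom_ne_zero p (AlgInt ⧸ M) hpk _ hv
  -- the function
  set F : A × B → ZMod p := fun g => f (π (chiInt χA g.1⁻¹) * π (chiInt χB g.2⁻¹)) with hF
  have hFmem : F ∈ JJsub (A := A) (B := B) (ZMod p) := by
    refine ⟨fun b => ?_, fun a => ?_⟩
    · intro C hC g
      simp only [hF]
      rw [← map_sum, ← Finset.sum_mul, ← map_sum]
      have : ∑ c : C, chiInt χA ((c : A)⁻¹ * g)⁻¹ = 0 := by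
        apply Subtype.ext
        rw [AddSubmonoidClass.coe_finsetSum]
        simp only [coe_chiInt, ZeroMemClass.coe_zero]
        rw [← hχA C hC g⁻¹]
        refine Finset.sum_congr rfl fun c _ => ?_
        rw [char_mul_comm' χA (c : A) g⁻¹]
        congr 1
        group
      rw [this, map_zero, zero_mul, map_zero]
    · intro C hC g
      simp only [hF]
      rw [← map_sum, ← Finset.mul_sum, ← map_sum]
      have : ∑ c : C, chiInt χB ((c : B)⁻¹ * g)⁻¹ = 0 := by
        apply Subtype.ext
        rw [AddSubmonoidClass.coe_finsetSum]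
        simp only [coe_chiInt, ZeroMemClass.coe_zero]
        rw [← hχB C hC g⁻¹]
        refine Finset.sum_congr rfl fun c _ => ?_
        rw [char_mul_comm' χB (c : B) g⁻¹]
        congr 1
        group
      rw [this, map_zero, mul_zero, map_zero]
  have hFne : (⟨F, hFmem⟩ : ↥(JJsub (A := A) (B := B) (ZMod p))) ≠ 0 := by
    intro h0
    have := congrFun (congrArg Subtype.val h0) (a₁, b₁)
    exact hf this
  haveI hVnt : Nontrivial ↥(JJsub (A := A) (B := B) (ZMod p)) := ⟨⟨_, _, hFne⟩⟩
  haveI hVfin : Finite ↥(JJsub (A := A) (B := B) (ZMod p)) := inferInstance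
  let φ : (A × B) →* MulAut (Multiplicative ↥(JJsub (A := A) (B := B) (ZMod p))) :=
    (MulAutMultiplicative ↥(JJsub (A := A) (B := B) (ZMod p))).symm.toMonoidHom.comp
      (@DistribMulAction.toAddAut (A × B) ↥(JJsub (A := A) (B := B) (ZMod p)) _ _ (dmaJJ (ZMod p)))
  have hK : ∀ r : ℕ, r.Prime → r ∣ Fintype.card A * Fintype.card B → (r : ZMod p) ≠ 0 := by
    intro r hr hrd h0
    rw [ZMod.natCast_eq_zero_iff] at h0
    have : p = r := (Nat.prime_dvd_prime_iff_eq hp hr).mp h0
    exact hpAB (this ▸ hrd)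
  have hfpf : ∀ (g : A × B) (v : Multiplicative ↥(JJsub (A := A) (B := B) (ZMod p))),
      φ g v = v → g = 1 ∨ v = 1 := by
    intro g v hv
    by_cases hg : g = 1
    · exact Or.inl hg
    · right
      have h1 : trL (JJsub_inv (A := A) (B := B) (ZMod p)) g (Multiplicative.toAdd v)
          = Multiplicative.toAdd v := congrArg Multiplicative.toAdd hv
      have h2 : tr (ZMod p) g (Multiplicative.toAdd v).1 = (Multiplicative.toAdd v).1 :=
        congrArg Subtype.val h1
      have h3 := JJ_eq_zero_of_fixed (ZMod p) hK hcop (Multiplicative.toAdd v).2 hg h2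
      have h4 : Multiplicative.toAdd v = 0 := Subtype.ext h3
      exact h4
  exact Cfsg.Agent.Lib.Helper76.exists_frobenius_of_fpf φ hfpf

end Main

end Cfsg.Agent.Lib.Helper79.FpfLift
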