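import Mathlib
import Cfsg.Agent.Lib.Helper79.FpfLiftH
import Cfsg.Agent.S0041

set_option autoImplicit false

/-!
# Subgroups of Frobenius complements; coprimality of direct factors (helper79)
-/

namespace Cfsg.Agent.Lib.Helper79.FpfLift

open Cfsg
open Classical

/-- A nontrivial group embedding in a Frobenius complement is a Frobenius complement. -/
theorem frobeniusComplement_of_embedding {L0 : Type*} [Group L0] [Finite L0] (Hc : Subgroup L0)
    (hHc : Cfsg.IsFrobeniusComplement Hc) {A : Type*} [Group A] [Nontrivial A] (ι : A →* L0)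
    (hι : Function.Injective ι) (hιH : ∀ a, ι a ∈ Hc) :
    ∃ (L : Type) (_ : Group L) (_ : Finite L) (C : Subgroup L),
      Cfsg.IsFrobeniusComplement C ∧ Nonempty (A ≃* C) := by
  obtain ⟨N, q, z', hNnormal, hNbot, hcent, -, -, -, -, -, -⟩ := exists_kernel_data Hc hHc
  haveI := hNnormal
  haveI : Finite A := Finite.of_injective ι hι
  haveI : Nontrivial ↥N := (Subgroup.nontrivial_iff_ne_bot N).mpr hNbot
  let φ : A →* MulAut ↥N := (MulAut.conjNormal (H := N)).comp ι
  apply Cfsg.Agent.Lib.Helper76.exists_frobenius_of_fpf φ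
  intro a v hv
  by_cases ha : a = 1
  · exact Or.inl ha
  · right
    have h1 : ι a ≠ 1 := fun h => ha (hι (h.trans (map_one ι).symm))
    have hbot := hcent (ι a) (hιH a) h1
    have h2 : (ι a) * (v : L0) * (ι a)⁻¹ = v := by
      have := congrArg Subtype.val hv
      rwa [MonoidHom.comp_apply, MulAut.conjNormal_apply] at this
    have hmem : (v : L0) ∈ N ⊓ Subgroup.centralizer {ι a} := by
      refine Subgroup.mem_inf.mpr ⟨v.2, ?_⟩
      rw [Subgroup.mem_centralizer_iff]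
      intro h hh
      rw [Set.mem_singleton_iff] at hh
      subst hh
      calc ι a * (v : L0) = (ι a * (v : L0) * (ι a)⁻¹) * ι a := by group
        _ = (v : L0) * ι a := by rw [h2]
    rw [hbot] at hmem
    exact Subtype.ext (Subgroup.mem_bot.mp hmem)

/-- If `A × B` embeds in a Frobenius complement then `|A|` and `|B|` are coprime. -/
theorem coprime_of_prod_embedding {L0 : Type*} [Group L0] [Finite L0] (Hc : Subgroup L0)
    (hHc : Cfsg.IsFrobeniusComplement Hc) {A B : Type*} [Group A] [Group B] [Finite A] [Finite B]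
    (ι : A × B →* L0) (hι : Function.Injective ι) (hιH : ∀ x, ι x ∈ Hc) :
    (Nat.card A).Coprime (Nat.card B) := by
  by_contra hcon
  obtain ⟨r, hr, hrA, hrB⟩ := Nat.Prime.not_coprime_iff_dvd.mp hcon
  haveI : Fact r.Prime := ⟨hr⟩
  obtain ⟨a, ha⟩ := exists_prime_orderOf_dvd_card' r hrA
  obtain ⟨b, hb⟩ := exists_prime_orderOf_dvd_card' r hrB
  obtain ⟨N, q, z', hNnormal, hNbot, hcent, hq, -, hz'ne, hz'N, hz'c, hz'q⟩ := exists_kernel_data Hc hHc
  haveI := hNnormal
  set V : Subgroup L0 := VSub N q with hV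
  set A' : Subgroup L0 := Subgroup.map ι ((Subgroup.zpowers a).prod (Subgroup.zpowers b)) with hA'
  haveI hVcomm : IsMulCommutative ↥V := ⟨⟨fun x y => mul_comm x y⟩⟩
  have hVbot : V ≠ ⊥ := by
    intro h
    have : z' ∈ V := ⟨hz'N, hz'c, hz'q⟩
    rw [h] at this
    exact hz'ne (Subgroup.mem_bot.mp this)
  have hnorm : ∀ g x : L0, x ∈ V → g * x * g⁻¹ ∈ V := fun g x hx => (cj N q g ⟨x, hx⟩).2
  have hAV : A' ≤ Subgroup.normalizer (V : Set L0) := by
    intro g _
    rw [Subgroup.mem_normalizer_iff]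
    intro x
    refine ⟨fun hx => hnorm g x hx, fun hx => ?_⟩
    have := hnorm g⁻¹ _ hx
    have h2 : g⁻¹ * (g * x * g⁻¹) * g⁻¹⁻¹ = x := by group
    rwa [h2] at this
  have hA'H : ∀ y ∈ A', y ∈ Hc := by
    intro y hy
    obtain ⟨x, -, rfl⟩ := Subgroup.mem_map.mp hy
    exact hιH x
  have hfpf : ∀ y ∈ A', y ≠ 1 → V ⊓ Subgroup.centralizer {y} = ⊥ := by
    intro y hy hy1
    rw [eq_bot_iff]
    intro x hx
    have hx' := Subgroup.mem_inf.mp hx
    have : x ∈ N ⊓ Subgroup.centralizer {y} := Subgroup.mem_inf.mpr ⟨hx'.1.1, hx'.2⟩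
    rw [hcent y (hA'H y hy) hy1] at this
    exact this
  have hcomm : IsMulCommutative ↥A' := ⟨⟨by
    rintro ⟨x, hx⟩ ⟨y, hy⟩
    obtain ⟨⟨a', b'⟩, hab', rfl⟩ := Subgroup.mem_map.mp hx
    obtain ⟨⟨a'', b''⟩, hab'', rfl⟩ := Subgroup.mem_map.mp hy
    obtain ⟨ha', hb'⟩ := Subgroup.mem_prod.mp hab'
    obtain ⟨ha'', hb''⟩ := Subgroup.mem_prod.mp hab''
    obtain ⟨i, rfl⟩ := Subgroup.mem_zpowers_iff.mp ha'
    obtain ⟨j, rfl⟩ := Subgroup.mem_zpowers_iff.mp hb'
    obtain ⟨i', rfl⟩ := Subgroup.mem_zpowers_iff.mp ha''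
    obtain ⟨j', rfl⟩ := Subgroup.mem_zpowers_iff.mp hb''
    apply Subtype.ext
    show ι (a ^ i, b ^ j) * ι (a ^ i', b ^ j') = ι (a ^ i', b ^ j') * ι (a ^ i, b ^ j)
    rw [← map_mul, ← map_mul, Prod.mk_mul_mk, Prod.mk_mul_mk, zpow_mul_comm a, zpow_mul_comm b]⟩⟩
  have hcyc : IsCyclic ↥A' := Cfsg.Agent.S0041.result A' V hVbot hAV hfpf (Or.inl hcomm)
  -- every element of `A'` has `r`-th power one
  have hpow : ∀ y : ↥A', y ^ r = 1 := by
    rintro ⟨y, hy⟩
    obtain ⟨⟨a', b'⟩, hab', rfl⟩ := Subgroup.mem_map.mp hy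
    obtain ⟨ha', hb'⟩ := Subgroup.mem_prod.mp hab'
    apply Subtype.ext
    show ι (a', b') ^ r = 1
    rw [← map_pow, Prod.pow_mk]
    have h1 : a' ^ r = 1 := by
      rw [← orderOf_dvd_iff_pow_eq_one, ← ha]; exact orderOf_dvd_of_mem_zpowers ha'
    have h2 : b' ^ r = 1 := by
      rw [← orderOf_dvd_iff_pow_eq_one, ← hb]; exact orderOf_dvd_of_mem_zpowers hb'
    rw [h1, h2]
    exact map_one ι
  have hcard : Nat.card ↥A' ∣ r := by
    rw [← IsCyclic.exponent_eq_card]
    exact Monoid.exponent_dvd_of_forall_pow_eq_one hpow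
  -- the two elements
  set x : L0 := ι (a, 1) with hx
  set y : L0 := ι (1, b) with hy
  have hxA' : x ∈ A' := Subgroup.mem_map.mpr ⟨(a, 1), Subgroup.mem_prod.mpr
    ⟨Subgroup.mem_zpowers a, Subgroup.one_mem _⟩, rfl⟩
  have hyA' : y ∈ A' := Subgroup.mem_map.mpr ⟨(1, b), Subgroup.mem_prod.mpr
    ⟨Subgroup.one_mem _, Subgroup.mem_zpowers b⟩, rfl⟩
  have hxord : orderOf x = r := by
    rw [hx, orderOf_injective ι hι]
    have : orderOf ((a, 1) : A × B) = orderOf a := by
      rw [Prod.orderOf_mk, orderOf_one]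
      simp
    rw [this, ha]
  have hle : Subgroup.zpowers x ≤ A' := (Subgroup.zpowers_le).mpr hxA'
  have heq : Subgroup.zpowers x = A' := by
    apply Subgroup.eq_of_le_of_card_ge hle
    rw [Nat.card_zpowers, hxord]
    exact Nat.le_of_dvd hr.pos hcard
  have hymem : y ∈ Subgroup.zpowers x := by rw [heq]; exact hyA'
  obtain ⟨i, hi⟩ := Subgroup.mem_zpowers_iff.mp hymem
  rw [hx, hy, ← map_zpow] at hi
  have := hι hi
  have hb1 : b = 1 := by
    have := congrArg Prod.snd this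
    simpa using this.symm
  rw [hb1, orderOf_one] at hb
  exact hr.one_lt.ne hb

end Cfsg.Agent.Lib.Helper79.FpfLift
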