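import Mathlib
import Cfsg.Agent.Lib.Helper79.FpfLiftI

set_option autoImplicit false

/-!
# Fixed-point-free automorphism groups have fixed-point-free matrix representations (helper79)
-/

namespace Cfsg.Agent.Lib.Helper79.FpfLift

open Cfsg
open Classical

/-- A nontrivial group of fixed-point-free automorphisms of a finite group is a Frobenius complement. -/
theorem exists_frobenius_of_fpf_aut {K : Type*} [Group K] [Finite K] (G : Subgroup (MulAut K))
    (hfpf : ∀ φ ∈ G, φ ≠ 1 → ∀ k : K, φ k = k → k = 1) (hne : G ≠ ⊥) :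
    ∃ (L : Type) (_ : Group L) (_ : Finite L) (C : Subgroup L),
      Cfsg.IsFrobeniusComplement C ∧ Nonempty (↥G ≃* C) := by
  haveI : Nontrivial ↥G := (Subgroup.nontrivial_iff_ne_bot G).mpr hne
  haveI : Nontrivial K := by
    by_contra h
    rw [not_nontrivial_iff_subsingleton] at h
    obtain ⟨φ, hφ⟩ := exists_ne (1 : ↥G)
    apply hφ
    apply Subtype.ext
    apply MulEquiv.ext
    intro k
    exact Subsingleton.elim _ _
  haveI : Finite (MulAut K) := Finite.of_injective (fun f : MulAut K => (f : K → K))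
    (fun f g h => MulEquiv.ext (congrFun h))
  apply Cfsg.Agent.Lib.Helper76.exists_frobenius_of_fpf (G.subtype)
  intro a v hv
  by_cases ha : a = 1
  · exact Or.inl ha
  · right
    have ha' : (a : MulAut K) ≠ 1 := fun h => ha (Subtype.ext h)
    exact hfpf (a : MulAut K) a.2 ha' v hv

/-- A nontrivial group of fixed-point-free automorphisms of a finite group has a faithful irreducible
representation over `AlgebraicClosure ℚ` in which no nonidentity element has the eigenvalue `1`. -/
theorem exists_rep_of_fpf_aut {K : Type*} [Group K] [Finite K] (G : Subgroup (MulAut K))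
    (hfpf : ∀ φ ∈ G, φ ≠ 1 → ∀ k : K, φ k = k → k = 1) (hne : G ≠ ⊥) :
    ∃ (n : ℕ) (ρ : ↥G →* GL (Fin n) (AlgebraicClosure ℚ)), 0 < n ∧ Function.Injective ρ ∧
      (∀ W : Submodule (AlgebraicClosure ℚ) (Fin n → AlgebraicClosure ℚ),
        (∀ g : ↥G, ∀ w ∈ W, ((ρ g : GL (Fin n) (AlgebraicClosure ℚ)) :
          Matrix (Fin n) (Fin n) (AlgebraicClosure ℚ)).mulVec w ∈ W) → W = ⊥ ∨ W = ⊤) ∧
      ∀ g : ↥G, g ≠ 1 → ∀ v : Fin n → AlgebraicClosure ℚ,
        ((ρ g : GL (Fin n) (AlgebraicClosure ℚ)) :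
          Matrix (Fin n) (Fin n) (AlgebraicClosure ℚ)).mulVec v = v → v = 0 := by
  obtain ⟨L, instL, finL, C, hC, ⟨e⟩⟩ := exists_frobenius_of_fpf_aut G hfpf hne
  obtain ⟨n, ρ, hn, hinj, hirr, hfp⟩ := exists_rep_of_frobeniusComplement C hC
  refine ⟨n, ρ.comp e.toMonoidHom, hn, ?_, ?_, ?_⟩
  · exact hinj.comp e.injective
  · intro W hW
    apply hirr W
    intro g w hw
    have := hW (e.symm g) w hw
    simpa using this
  · intro g hg v hv
    have hg' : e g ≠ 1 := by
      intro h
      apply hg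
      exact e.injective (h.trans (map_one e).symm)
    exact hfp (e g) hg' v hv

/-- A Frobenius complement acts faithfully and fixed-point-freely (by conjugation) on its Frobenius kernel `N`:
the image `G` of `Hc` in `MulAut N` is a group of fixed-point-free automorphisms isomorphic to `Hc`. -/
theorem exists_fpf_aut_of_frobeniusComplement {L0 : Type*} [Group L0] [Finite L0] (Hc : Subgroup L0)
    (hHc : Cfsg.IsFrobeniusComplement Hc) :
    ∃ (N : Subgroup L0) (_ : N.Normal) (G : Subgroup (MulAut ↥N)),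
      N ≠ ⊥ ∧ G ≠ ⊥ ∧ Nonempty (↥Hc ≃* ↥G) ∧
      (∀ φ ∈ G, φ ≠ 1 → ∀ k : ↥N, φ k = k → k = 1) ∧
      G = ((MulAut.conjNormal (H := N)).comp Hc.subtype).range := by
  obtain ⟨N, q, z', hNnormal, hNbot, hcent, -, -, -, -, -, -⟩ := exists_kernel_data Hc hHc
  haveI := hNnormal
  set f : ↥Hc →* MulAut ↥N := (MulAut.conjNormal (H := N)).comp Hc.subtype with hf
  have hfix : ∀ h : ↥Hc, h ≠ 1 → ∀ k : ↥N, f h k = k → k = 1 := by
    intro h hh k hk
    have h1 : (h : L0) ≠ 1 := fun e => hh (Subtype.ext e)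
    have hbot := hcent (h : L0) h.2 h1
    have h2 : (h : L0) * (k : L0) * (h : L0)⁻¹ = k := by
      have := congrArg Subtype.val hk
      rwa [hf, MonoidHom.comp_apply, MulAut.conjNormal_apply] at this
    have hmem : (k : L0) ∈ N ⊓ Subgroup.centralizer {(h : L0)} := by
      refine Subgroup.mem_inf.mpr ⟨k.2, ?_⟩
      rw [Subgroup.mem_centralizer_iff]
      intro x hx
      rw [Set.mem_singleton_iff] at hx
      subst hx
      calc (h : L0) * (k : L0) = ((h : L0) * (k : L0) * (h : L0)⁻¹) * (h : L0) := by group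
        _ = (k : L0) * (h : L0) := by rw [h2]
    rw [hbot] at hmem
    exact Subtype.ext (Subgroup.mem_bot.mp hmem)
  haveI : Nontrivial ↥N := (Subgroup.nontrivial_iff_ne_bot N).mpr hNbot
  have hinj : Function.Injective f := by
    rw [injective_iff_map_eq_one]
    intro h hh
    by_contra hne
    obtain ⟨k, hk⟩ := exists_ne (1 : ↥N)
    apply hk
    apply hfix h hne k
    rw [hh]; rfl
  haveI : Nontrivial ↥Hc := (Subgroup.nontrivial_iff_ne_bot Hc).mpr hHc.1
  refine ⟨N, hNnormal, f.range, hNbot, ?_, ⟨MonoidHom.ofInjective hinj⟩, ?_, rfl⟩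
  · intro hbot
    obtain ⟨h, hh⟩ := exists_ne (1 : ↥Hc)
    have : f h ∈ f.range := ⟨h, rfl⟩
    rw [hbot, Subgroup.mem_bot] at this
    exact hh (hinj (this.trans (map_one f).symm))
  · rintro φ ⟨h, rfl⟩ hφ k hk
    have hh : h ≠ 1 := by
      intro e
      apply hφ
      rw [e, map_one]
    exact hfix h hh k hk

end Cfsg.Agent.Lib.Helper79.FpfLift
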