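import Mathlib
import Cfsg.Prelude.Def_Characters
import Cfsg.Agent.Lib.Helper79.FrobSchurCount
import Cfsg.Agent.Lib.Helper83.Quotient
import Cfsg.Agent.Lib.Helper34.Induction
import Cfsg.Agent.Lib.Helper34.GenChar
import Cfsg.Agent.Lib.Helper33.Constituent

set_option autoImplicit false
set_option linter.style.haveILetI false
set_option linter.unusedSectionVars false

namespace Cfsg.Agent.Lib.Helper79

open scoped ComplexConjugate

section PermFS

universe u
variable {G : Type u} [Group G] [Fintype G]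

/-- Frobenius–Schur count of square roots of an arbitrary element. -/
theorem card_sqrt_eq [Fintype (Cfsg.IrrCharacter G)] (g : G) :
    (Nat.card {u : G // u * u = g} : ℂ) =
      ∑ χ : Cfsg.IrrCharacter G, fsInd (χ : G → ℂ) * (χ : G → ℂ) g := by
  classical
  have hreg1 : ∑ᶠ χ : Cfsg.IrrCharacter G, (χ : G → ℂ) 1 * (χ : G → ℂ) 1 =
      (Fintype.card G : ℂ) := by
    rw [finsum_eq_sum_of_fintype]
    have := Cfsg.Agent.Lib.Helper83.sum_irr_degree_mul (G := G) 1
    rw [if_pos rfl, Nat.card_eq_fintype_card] at this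
    exact this
  have hreg2 : ∀ u : G, u ≠ 1 →
      ∑ᶠ χ : Cfsg.IrrCharacter G, (χ : G → ℂ) 1 * (χ : G → ℂ) u = 0 := by
    intro u hu
    rw [finsum_eq_sum_of_fintype]
    have := Cfsg.Agent.Lib.Helper83.sum_irr_degree_mul (G := G) u
    rw [if_neg hu] at this
    exact this
  have h := Cfsg.Agent.Lib.Helper84.root_count_of_regular hreg1 hreg2 g
  rw [h, finsum_eq_sum_of_fintype]
  refine Finset.sum_congr rfl fun χ _ => ?_
  rw [finsum_eq_sum_of_fintype]
  rfl

/-- counting square roots fibrewise over a subgroup. -/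
theorem sum_ite_card_sqrt (H : Subgroup G) [DecidablePred (· ∈ H)] :
    ∑ g : G, (if g ∈ H then Nat.card {u : G // u * u = g} else 0) =
      Nat.card {u : G // u * u ∈ H} := by
  classical
  have h1 : ∀ g : G, Nat.card {u : G // u * u = g} =
      ∑ u : G, if u * u = g then 1 else 0 := by
    intro g
    rw [Nat.card_eq_fintype_card, Fintype.card_subtype, Finset.card_filter]
  have h2 : Nat.card {u : G // u * u ∈ H} = ∑ u : G, if u * u ∈ H then 1 else 0 := by
    rw [Nat.card_eq_fintype_card, Fintype.card_subtype, Finset.card_filter]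
  rw [h2]
  simp_rw [h1]
  have h3 : ∀ g : G, (if g ∈ H then ∑ u : G, (if u * u = g then 1 else 0) else 0) =
      ∑ u : G, if (u * u = g ∧ g ∈ H) then 1 else 0 := by
    intro g
    split_ifs with hg
    · simp [hg]
    · simp [hg]
  simp_rw [h3]
  rw [Finset.sum_comm]
  refine Finset.sum_congr rfl fun u _ => ?_
  by_cases hu : u * u ∈ H
  · rw [if_pos hu, Finset.sum_eq_single (u * u)]
    · simp [hu]
    · intro b _ hb
      rw [if_neg]
      rintro ⟨h, _⟩
      exact hb h.symm
    · intro h; exact absurd (Finset.mem_univ _) h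
  · rw [if_neg hu]
    apply Finset.sum_eq_zero
    intro g _
    rw [if_neg]
    rintro ⟨h, hg⟩
    rw [← h] at hg
    exact hu hg

/-- the permutation character on the cosets of `H`. -/
noncomputable def permChar (H : Subgroup G) : G → ℂ := Cfsg.indFun H (fun _ : H => (1 : ℂ))

theorem permChar_isCharacter (H : Subgroup G) : Cfsg.IsCharacter G (permChar H) :=
  Cfsg.Agent.Lib.Helper34.isCharacter_indFun H Cfsg.Agent.Lib.Helper83.isCharacter_one

/-- multiplicity in the permutation character via the average over `H`. -/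
theorem classInner_permChar (H : Subgroup G) [Fintype H] (χ : Cfsg.IrrCharacter G) :
    Cfsg.classInner (permChar H) (χ : G → ℂ) =
      (Nat.card H : ℂ)⁻¹ * ∑ h : H, (χ : G → ℂ) h := by
  have hχ : Cfsg.IsCharacter G (χ : G → ℂ) := Cfsg.Agent.Lib.Helper83.IrrCharacter_isCharacter χ
  have h1 : Cfsg.classInner (permChar H) (χ : G → ℂ) =
      (Nat.card H : ℂ)⁻¹ * ∑ h : H, conj ((χ : G → ℂ) h) := by
    unfold permChar
    rw [Cfsg.Agent.Lib.Helper34.classInner_indFun_left H _ _
      (Cfsg.Agent.Lib.Helper83.char_isClassFunction hχ), Cfsg.Agent.Lib.Helper34.classInner_def]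
    congr 1
    refine Finset.sum_congr rfl fun h _ => ?_
    rw [one_mul]
  obtain ⟨n, hn⟩ := Cfsg.Agent.Lib.Helper83.classInner_char_nat (permChar_isCharacter H) hχ
  have h2 : conj (Cfsg.classInner (permChar H) (χ : G → ℂ)) =
      Cfsg.classInner (permChar H) (χ : G → ℂ) := by
    rw [hn, Complex.conj_natCast]
  rw [← h2, h1, map_mul, map_inv₀, Complex.conj_natCast, map_sum]
  congr 1
  refine Finset.sum_congr rfl fun h _ => ?_
  rw [Complex.conj_conj]

/-- weighted indicator sum of the permutation character counts square roots of `H`. -/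
theorem sum_fsInd_mul_permChar [Fintype (Cfsg.IrrCharacter G)] (H : Subgroup G) :
    ∑ χ : Cfsg.IrrCharacter G, fsInd (χ : G → ℂ) * Cfsg.classInner (permChar H) (χ : G → ℂ) =
      (Nat.card H : ℂ)⁻¹ * (Nat.card {u : G // u * u ∈ H} : ℂ) := by
  classical
  haveI : Fintype H := Fintype.ofFinite H
  simp_rw [classInner_permChar H]
  have h1 : ∀ χ : Cfsg.IrrCharacter G,
      fsInd (χ : G → ℂ) * ((Nat.card H : ℂ)⁻¹ * ∑ h : H, (χ : G → ℂ) h) =
      (Nat.card H : ℂ)⁻¹ * ∑ g : G, if g ∈ H then fsInd (χ : G → ℂ) * (χ : G → ℂ) g else 0 := by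
    intro χ
    rw [Cfsg.Agent.Lib.Helper83.sum_subgroup_eq_sum_ite H (fun g => (χ : G → ℂ) g), mul_left_comm,
      Finset.mul_sum]
    congr 1
    refine Finset.sum_congr rfl fun g _ => ?_
    split_ifs <;> simp
  simp_rw [h1]
  rw [← Finset.mul_sum, Finset.sum_comm]
  congr 1
  rw [← sum_ite_card_sqrt H]
  push_cast
  refine Finset.sum_congr rfl fun g _ => ?_
  split_ifs with hg
  · rw [card_sqrt_eq g]
  · simp

theorem fsInd_trivChar : fsInd ((Cfsg.Agent.Lib.Helper83.trivChar G : Cfsg.IrrCharacter G) : G → ℂ) = 1 := by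
  unfold fsInd
  simp only [Cfsg.Agent.Lib.Helper83.trivChar_apply, Finset.sum_const, Finset.card_univ,
    nsmul_eq_mul, mul_one]
  rw [Nat.card_eq_fintype_card]
  have : (Fintype.card G : ℂ) ≠ 0 := by
    have := Fintype.card_ne_zero (α := G)
    exact_mod_cast this
  field_simp

theorem classInner_permChar_trivChar (H : Subgroup G) :
    Cfsg.classInner (permChar H)
      ((Cfsg.Agent.Lib.Helper83.trivChar G : Cfsg.IrrCharacter G) : G → ℂ) = 1 := by
  haveI : Fintype H := Fintype.ofFinite H
  rw [classInner_permChar H]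
  simp only [Cfsg.Agent.Lib.Helper83.trivChar_apply, Finset.sum_const, Finset.card_univ,
    nsmul_eq_mul, mul_one]
  rw [Nat.card_eq_fintype_card]
  have : (Fintype.card H : ℂ) ≠ 0 := by
    have := Fintype.card_ne_zero (α := H)
    exact_mod_cast this
  field_simp

/-- an even core index gives an element outside `H` squaring into `H`. -/
theorem exists_sq_mem_not_mem (H : Subgroup G) (heven : Even H.normalCore.index) :
    ∃ t : G, t ∉ H ∧ t * t ∈ H := by
  classical
  haveI : Fact (Nat.Prime 2) := ⟨Nat.prime_two⟩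
  have h2 : 2 ∣ Nat.card (G ⧸ H.normalCore) := by
    rw [← Subgroup.index_eq_card]
    exact even_iff_two_dvd.mp heven
  obtain ⟨q, hq⟩ := exists_prime_orderOf_dvd_card' 2 h2
  obtain ⟨x, rfl⟩ := QuotientGroup.mk_surjective q
  have hx1 : x ∉ H.normalCore := by
    intro hx
    have : (QuotientGroup.mk x : G ⧸ H.normalCore) = 1 := (QuotientGroup.eq_one_iff x).mpr hx
    rw [this, orderOf_one] at hq
    norm_num at hq
  have hx2 : x * x ∈ H.normalCore := by
    rw [← QuotientGroup.eq_one_iff, QuotientGroup.mk_mul, ← pow_two, ← hq, pow_orderOf_eq_one]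
  have hx3 : ∃ b : G, b * x * b⁻¹ ∉ H := by
    by_contra hcon
    push Not at hcon
    exact hx1 hcon
  obtain ⟨b, hb⟩ := hx3
  refine ⟨b * x * b⁻¹, hb, ?_⟩
  have : b * x * b⁻¹ * (b * x * b⁻¹) = b * (x * x) * b⁻¹ := by group
  rw [this]
  exact hx2 b

/-- if the trivial character is the only constituent of `+` type, the core has odd index. -/
theorem odd_index_of_unique (H : Subgroup G)
    (huniq : ∀ χ : Cfsg.IrrCharacter G, Cfsg.classInner (permChar H) (χ : G → ℂ) ≠ 0 →
      fsInd (χ : G → ℂ) = 1 → χ = Cfsg.Agent.Lib.Helper83.trivChar G) :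
    Odd H.normalCore.index := by
  classical
  haveI : Fintype (Cfsg.IrrCharacter G) := Fintype.ofFinite _
  haveI : Fintype H := Fintype.ofFinite H
  by_contra hodd
  rw [Nat.not_odd_iff_even] at hodd
  obtain ⟨t, htH, htt⟩ := exists_sq_mem_not_mem H hodd
  -- lower bound on the number of square roots of H
  have hlow : Nat.card H + 1 ≤ Nat.card {u : G // u * u ∈ H} := by
    let f : Option H → {u : G // u * u ∈ H} := fun o =>
      match o with
      | none => ⟨t, htt⟩
      | some h => ⟨(h : G), H.mul_mem h.2 h.2⟩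
    have hf : Function.Injective f := by
      intro a b hab
      cases a with
      | none =>
        cases b with
        | none => rfl
        | some h =>
          exfalso
          have : t = (h : G) := congrArg (Subtype.val : {u : G // u * u ∈ H} → G) hab
          exact htH (this ▸ h.2)
      | some h =>
        cases b with
        | none =>
          exfalso
          have : (h : G) = t := congrArg (Subtype.val : {u : G // u * u ∈ H} → G) hab
          exact htH (this ▸ h.2)
        | some h' =>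
          have : (h : G) = (h' : G) :=
            congrArg (Subtype.val : {u : G // u * u ∈ H} → G) hab
          rw [Subtype.ext this]
    have := Fintype.card_le_of_injective f hf
    rw [Fintype.card_option] at this
    rw [Nat.card_eq_fintype_card, Nat.card_eq_fintype_card]
    exact this
  -- integer data
  have hmult : ∀ χ : Cfsg.IrrCharacter G,
      (Cfsg.Agent.Lib.Helper83.irrMult (permChar H) χ : ℂ) =
        Cfsg.classInner (permChar H) (χ : G → ℂ) :=
    fun χ => Cfsg.Agent.Lib.Helper83.irrMult_cast (permChar_isCharacter H) χ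
  choose ν hν using fun χ : Cfsg.IrrCharacter G => exists_int_fsInd χ
  have hterm : ∀ χ : Cfsg.IrrCharacter G,
      ν χ * (Cfsg.Agent.Lib.Helper83.irrMult (permChar H) χ : ℤ) ≤
        if χ = Cfsg.Agent.Lib.Helper83.trivChar G then 1 else 0 := by
    intro χ
    by_cases hχ : χ = Cfsg.Agent.Lib.Helper83.trivChar G
    · rw [if_pos hχ]
      have h1 : (ν χ : ℂ) = 1 := by rw [(hν χ).2.1, hχ, fsInd_trivChar]
      have h2 : (Cfsg.Agent.Lib.Helper83.irrMult (permChar H) χ : ℂ) = 1 := by
        rw [hmult, hχ, classInner_permChar_trivChar]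
      have h1' : ν χ = 1 := by exact_mod_cast h1
      have h2' : Cfsg.Agent.Lib.Helper83.irrMult (permChar H) χ = 1 := by exact_mod_cast h2
      rw [h1', h2']
      norm_num
    · rw [if_neg hχ]
      by_cases hm : Cfsg.Agent.Lib.Helper83.irrMult (permChar H) χ = 0
      · rw [hm]; simp
      · have hne : Cfsg.classInner (permChar H) (χ : G → ℂ) ≠ 0 := by
          rw [← hmult]
          exact_mod_cast hm
        have hν1 : ν χ ≠ 1 := by
          intro h1
          apply hχ
          apply huniq χ hne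
          rw [← (hν χ).2.1, h1]
          simp
        have hνle : ν χ ≤ 0 := by
          rcases (hν χ).1 with h | h | h
          · rw [h]
          · exact absurd h hν1
          · rw [h]; norm_num
        have hmnn : (0 : ℤ) ≤ (Cfsg.Agent.Lib.Helper83.irrMult (permChar H) χ : ℤ) :=
          Int.natCast_nonneg _
        exact mul_nonpos_of_nonpos_of_nonneg hνle hmnn
  have hsum : ∑ χ : Cfsg.IrrCharacter G,
      ν χ * (Cfsg.Agent.Lib.Helper83.irrMult (permChar H) χ : ℤ) ≤ 1 := by
    calc ∑ χ : Cfsg.IrrCharacter G, ν χ * (Cfsg.Agent.Lib.Helper83.irrMult (permChar H) χ : ℤ)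
        ≤ ∑ χ : Cfsg.IrrCharacter G,
          (if χ = Cfsg.Agent.Lib.Helper83.trivChar G then (1 : ℤ) else 0) :=
          Finset.sum_le_sum fun χ _ => hterm χ
      _ = 1 := by simp
  have hformula := sum_fsInd_mul_permChar H
  have hcast : ((∑ χ : Cfsg.IrrCharacter G,
      ν χ * (Cfsg.Agent.Lib.Helper83.irrMult (permChar H) χ : ℤ) : ℤ) : ℂ) =
      (Nat.card H : ℂ)⁻¹ * (Nat.card {u : G // u * u ∈ H} : ℂ) := by
    rw [← hformula]
    push_cast
    refine Finset.sum_congr rfl fun χ _ => ?_
    rw [(hν χ).2.1, hmult]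
  have hH0 : (Nat.card H : ℂ) ≠ 0 := by
    have : Nat.card H ≠ 0 := Nat.card_pos.ne'
    exact_mod_cast this
  have hint : (Nat.card H : ℤ) * ∑ χ : Cfsg.IrrCharacter G,
      ν χ * (Cfsg.Agent.Lib.Helper83.irrMult (permChar H) χ : ℤ) =
      (Nat.card {u : G // u * u ∈ H} : ℤ) := by
    have : ((Nat.card H : ℤ) : ℂ) * ((∑ χ : Cfsg.IrrCharacter G,
      ν χ * (Cfsg.Agent.Lib.Helper83.irrMult (permChar H) χ : ℤ) : ℤ) : ℂ) =
      ((Nat.card {u : G // u * u ∈ H} : ℤ) : ℂ) := by
      rw [hcast]
      push_cast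
      field_simp
    exact_mod_cast this
  have hle : (Nat.card {u : G // u * u ∈ H} : ℤ) ≤ (Nat.card H : ℤ) := by
    rw [← hint]
    have hpos : (0 : ℤ) ≤ (Nat.card H : ℤ) := Int.natCast_nonneg _
    calc (Nat.card H : ℤ) * _ ≤ (Nat.card H : ℤ) * 1 := mul_le_mul_of_nonneg_left hsum hpos
      _ = Nat.card H := mul_one _
  have : (Nat.card H : ℤ) + 1 ≤ (Nat.card {u : G // u * u ∈ H} : ℤ) := by exact_mod_cast hlow
  omega

/-- the permutation character is constant on the core. -/
theorem permChar_core (H : Subgroup G) (k : G) (hk : k ∈ H.normalCore) :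
    permChar H k = permChar H 1 := by
  unfold permChar Cfsg.indFun
  congr 1
  refine Finset.sum_congr rfl fun x _ => ?_
  have h1 : x⁻¹ * k * x ∈ H := by
    have := hk x⁻¹
    rwa [inv_inv] at this
  have h2 : x⁻¹ * 1 * x ∈ H := by
    rw [mul_one, inv_mul_cancel]; exact H.one_mem
  rw [Cfsg.Agent.Lib.Helper34.extendByZero_apply_mem H _ h1,
    Cfsg.Agent.Lib.Helper34.extendByZero_apply_mem H _ h2]

/-- the core lies in the kernel of every constituent of the permutation character. -/
theorem core_le_ker (H : Subgroup G) (χ : Cfsg.IrrCharacter G)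
    (hχ : Cfsg.classInner (permChar H) (χ : G → ℂ) ≠ 0) (k : G) (hk : k ∈ H.normalCore) :
    (χ : G → ℂ) k = (χ : G → ℂ) 1 := by
  classical
  haveI : Fintype (Cfsg.IrrCharacter G) := Fintype.ofFinite _
  have hθ := permChar_isCharacter H
  have hexp := Cfsg.Agent.Lib.Helper83.char_eq_sum_irrMult hθ
  have hval : ∀ g : G, (permChar H g).re =
      ∑ ψ : Cfsg.IrrCharacter G,
        (Cfsg.Agent.Lib.Helper83.irrMult (permChar H) ψ : ℝ) * ((ψ : G → ℂ) g).re := by
    intro g
    conv_lhs => rw [hexp]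
    rw [Finset.sum_apply, Complex.re_sum]
    refine Finset.sum_congr rfl fun ψ _ => ?_
    rw [Pi.smul_apply, smul_eq_mul, Complex.mul_re, Complex.natCast_re, Complex.natCast_im,
      zero_mul, sub_zero]
  have hk1 := permChar_core H k hk
  have hsum : ∑ ψ : Cfsg.IrrCharacter G,
      (Cfsg.Agent.Lib.Helper83.irrMult (permChar H) ψ : ℝ) *
        (((ψ : G → ℂ) 1).re - ((ψ : G → ℂ) k).re) = 0 := by
    simp_rw [mul_sub]
    rw [Finset.sum_sub_distrib, ← hval 1, ← hval k, hk1, sub_self]
  have hnn : ∀ ψ ∈ (Finset.univ : Finset (Cfsg.IrrCharacter G)),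
      0 ≤ (Cfsg.Agent.Lib.Helper83.irrMult (permChar H) ψ : ℝ) *
        (((ψ : G → ℂ) 1).re - ((ψ : G → ℂ) k).re) := by
    intro ψ _
    apply mul_nonneg (Nat.cast_nonneg _)
    have := Cfsg.Agent.Lib.Helper33.char_re_le
      (Cfsg.Agent.Lib.Helper83.IrrCharacter_isCharacter ψ) k
    linarith
  have hzero := (Finset.sum_eq_zero_iff_of_nonneg hnn).mp hsum χ (Finset.mem_univ χ)
  have hm : (Cfsg.Agent.Lib.Helper83.irrMult (permChar H) χ : ℝ) ≠ 0 := by
    have h1 : (Cfsg.Agent.Lib.Helper83.irrMult (permChar H) χ : ℂ) ≠ 0 := by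
      rw [Cfsg.Agent.Lib.Helper83.irrMult_cast hθ χ]; exact hχ
    intro h0
    apply h1
    have : Cfsg.Agent.Lib.Helper83.irrMult (permChar H) χ = 0 := by exact_mod_cast h0
    rw [this]; simp
  have hre : ((χ : G → ℂ) k).re = ((χ : G → ℂ) 1).re := by
    rcases mul_eq_zero.mp hzero with h | h
    · exact absurd h hm
    · linarith
  exact Cfsg.Agent.Lib.Helper33.char_eq_of_re_eq
    (Cfsg.Agent.Lib.Helper83.IrrCharacter_isCharacter χ) hre

/-- with odd core index, a constituent of the permutation character of indicator `1` is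
trivial. -/
theorem eq_trivChar_of_odd_index (H : Subgroup G) (hodd : Odd H.normalCore.index)
    (χ : Cfsg.IrrCharacter G)
    (hχ : Cfsg.classInner (permChar H) (χ : G → ℂ) ≠ 0) (hν : fsInd (χ : G → ℂ) = 1) :
    χ = Cfsg.Agent.Lib.Helper83.trivChar G := by
  classical
  haveI : Fintype (G ⧸ H.normalCore) := Fintype.ofFinite _
  have hker := core_le_ker H χ hχ
  obtain ⟨ψ, -, hψ⟩ := Cfsg.Agent.Lib.Helper83.exists_isCharacter_quotient H.normalCore
    (Cfsg.Agent.Lib.Helper83.IrrCharacter_isCharacter χ) hker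
  have hcop : (Nat.card (G ⧸ H.normalCore)).Coprime 2 := by
    rw [← Subgroup.index_eq_card]
    exact Nat.coprime_two_right.mpr hodd
  have h1 : ∑ g : G, (χ : G → ℂ) (g * g) = ∑ g : G, (χ : G → ℂ) g := by
    have ha : ∑ g : G, (χ : G → ℂ) (g * g) =
        ∑ g : G, (fun q : G ⧸ H.normalCore => ψ (q * q)) (QuotientGroup.mk g) := by
      refine Finset.sum_congr rfl fun g _ => ?_
      rw [← hψ (g * g)]
      rfl
    have hb : ∑ g : G, (χ : G → ℂ) g = ∑ g : G, ψ (QuotientGroup.mk g) := by
      refine Finset.sum_congr rfl fun g _ => ?_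
      rw [hψ g]
    rw [ha, hb, Cfsg.Agent.Lib.Helper83.sum_comp_quotient_mk H.normalCore
        (fun q : G ⧸ H.normalCore => ψ (q * q)),
      Cfsg.Agent.Lib.Helper83.sum_comp_quotient_mk H.normalCore ψ]
    congr 1
    apply Fintype.sum_equiv (powCoprime hcop)
    intro q
    rw [powCoprime_apply, pow_two]
  have h2 : Cfsg.classInner (χ : G → ℂ)
      ((Cfsg.Agent.Lib.Helper83.trivChar G : Cfsg.IrrCharacter G) : G → ℂ) = 1 := by
    rw [← hν]
    unfold fsInd
    rw [Cfsg.Agent.Lib.Helper83.classInner_def, h1]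
    congr 1
    refine Finset.sum_congr rfl fun g _ => ?_
    rw [Cfsg.Agent.Lib.Helper83.trivChar_apply, map_one, mul_one]
  rw [Cfsg.Agent.Lib.Helper83.irr_orthonormal] at h2
  by_contra hne
  rw [if_neg hne] at h2
  exact zero_ne_one h2

end PermFS

end Cfsg.Agent.Lib.Helper79
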