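import Mathlib
import Cfsg.Prelude
import Cfsg.Agent.Lib.Helper58.Basic
import Cfsg.Agent.Lib.Helper06.CoprimePairs
import Cfsg.Agent.Lib.Helper32.Coprime

/-!
# `p`-solvable groups with a trivial-intersection Sylow `p`-subgroup: the group theory
(helper79, for S4748)

* `TIPS.exists_section`: a normal `p'`-subgroup below a normal subgroup with nontrivial `p`-factor
  (copied from `S3057`, helper of another seat).
* `TIPS.exists_normal_not_centralized`: if `P` is a TI Sylow `p`-subgroup of the `p`-solvable group `G`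
  which is not normal, some normal `p'`-subgroup `K` is not centralized by `P`.
* `TIPS.ti_centralizer`: elements of such a `K` commuting with one nonidentity element of `P` commute
  with all of `P`.
* `TIPS.exists_minimal`: a minimal `P`-invariant `q`-subgroup `Q` of `K` not centralized by `P`.
-/

set_option autoImplicit false

namespace Cfsg.Agent.Lib.Helper79

namespace TIPS

open Subgroup
open scoped Pointwise

variable {G : Type*} [Group G]

/-- From a `p`-solvable chain: a `p'`-normal subgroup `K` below a normal `L` with `L/K` a nontrivial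
`p`-group (when `p` divides the order). -/
theorem exists_section [Finite G] (p : ℕ) [Fact p.Prime] (hdiv : p ∣ Nat.card G)
    (hsol : Cfsg.IsPSolvable p G) :
    ∃ K L : Subgroup G, K.Normal ∧ L.Normal ∧ K ≤ L ∧ ¬ p ∣ Nat.card K ∧ p ∣ Nat.card L ∧
      ∃ m : ℕ, K.relIndex L = p ^ m := by
  have hp : p.Prime := Fact.out
  obtain ⟨n, Hc, h0, hlast, hmono, hnorm, hstep⟩ := hsol
  have key : ∀ k : ℕ, ∀ hk : k < n + 1, p ∣ Nat.card (Hc ⟨k, hk⟩) →
      ∃ i : Fin n, ¬ p ∣ Nat.card (Hc i.castSucc) ∧ p ∣ Nat.card (Hc i.succ) := by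
    intro k
    induction k with
    | zero =>
      intro hk hdvd
      exfalso
      have : Hc ⟨0, hk⟩ = ⊥ := h0
      rw [this, Subgroup.card_bot] at hdvd
      exact hp.one_lt.ne' (Nat.dvd_one.mp hdvd)
    | succ k ih =>
      intro hk hdvd
      by_cases hprev : p ∣ Nat.card (Hc ⟨k, by omega⟩)
      · exact ih (by omega) hprev
      · exact ⟨⟨k, by omega⟩, hprev, hdvd⟩
  have hlast' : p ∣ Nat.card (Hc ⟨n, by omega⟩) := by
    have : Hc ⟨n, by omega⟩ = ⊤ := hlast
    rw [this, Subgroup.card_top]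
    exact hdiv
  obtain ⟨i, hi1, hi2⟩ := key n (by omega) hlast'
  have hle : Hc i.castSucc ≤ Hc i.succ := hmono (Fin.castSucc_lt_succ.le)
  refine ⟨Hc i.castSucc, Hc i.succ, hnorm _, hnorm _, hle, hi1, hi2, ?_⟩
  rcases hstep i with h | h
  · exact h
  · exfalso
    have hmul : Nat.card (Hc i.castSucc) * (Hc i.castSucc).relIndex (Hc i.succ) = Nat.card (Hc i.succ) := by
      rw [← relIndex_bot_left, ← relIndex_bot_left]
      exact relIndex_mul_relIndex _ _ _ bot_le hle
    rw [← hmul] at hi2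
    rcases (Nat.Prime.dvd_mul hp).mp hi2 with h1 | h1
    · exact hi1 h1
    · have := Nat.Coprime.eq_one_of_dvd h.symm h1
      exact hp.one_lt.ne' this

/-- the trivial intersection property, elementwise -/
theorem ti_mem_normalizer {p : ℕ} (P : Sylow p G)
    (hTI : ∀ g : G, g ∉ Subgroup.normalizer ((P : Subgroup G) : Set G) →
      (P : Subgroup G) ⊓ (MulAut.conj g • (P : Subgroup G)) = ⊥)
    {g x : G} (hx : x ∈ (P : Subgroup G)) (hx1 : x ≠ 1) (hgx : g * x * g⁻¹ ∈ (P : Subgroup G)) :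
    g ∈ Subgroup.normalizer ((P : Subgroup G) : Set G) := by
  by_contra hg
  have h := hTI g hg
  have hmem : g * x * g⁻¹ ∈ (P : Subgroup G) ⊓ (MulAut.conj g • (P : Subgroup G)) := by
    refine Subgroup.mem_inf.mpr ⟨hgx, ?_⟩
    rw [Subgroup.mem_pointwise_smul_iff_inv_smul_mem]
    have : (MulAut.conj g)⁻¹ • (g * x * g⁻¹) = x := by
      simp [MulAut.smul_def, MulAut.conj_apply, mul_assoc]
    rw [this]
    exact hx
  rw [h, Subgroup.mem_bot] at hmem
  apply hx1
  have : x = g⁻¹ * (g * x * g⁻¹) * g := by group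
  rw [this, hmem]
  group

/-- In a `p`-solvable group with a TI Sylow `p`-subgroup `P` which is not normal, some normal
`p'`-subgroup is not centralized by `P`. -/
theorem exists_normal_not_centralized [Finite G] (p : ℕ) [Fact p.Prime]
    (hsolv : Cfsg.IsPSolvable p G) (P : Sylow p G)
    (hTI : ∀ g : G, g ∉ Subgroup.normalizer ((P : Subgroup G) : Set G) →
      (P : Subgroup G) ⊓ (MulAut.conj g • (P : Subgroup G)) = ⊥)
    (hnn : ¬ (P : Subgroup G).Normal) :
    ∃ K : Subgroup G, K.Normal ∧ (Nat.card K).Coprime p ∧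
      ∃ k ∈ K, ∃ x ∈ (P : Subgroup G), x * k ≠ k * x := by
  have hp : p.Prime := Fact.out
  have hPbot : (P : Subgroup G) ≠ ⊥ := by
    intro h
    apply hnn
    rw [h]
    infer_instance
  have hdiv : p ∣ Nat.card G := by
    rcases P.isPGroup'.card_eq_or_dvd with h1 | h1
    · exact absurd (Subgroup.card_eq_one.mp h1) hPbot
    · exact h1.trans (Subgroup.card_subgroup_dvd_card _)
  obtain ⟨K, L, hKn, hLn, hKL, hKp, hLp, m, hm⟩ := exists_section p hdiv hsolv
  have hKcop : (Nat.card K).Coprime p := (Nat.Prime.coprime_iff_not_dvd hp).mpr hKp |>.symm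
  refine ⟨K, hKn, hKcop, ?_⟩
  by_contra hcon
  push_neg at hcon
  apply hnn
  rw [← Subgroup.normalizer_eq_top_iff, eq_top_iff]
  set T := (P : Subgroup G) ⊓ L with hT
  have hTne : T ≠ ⊥ := Cfsg.Agent.Lib.Helper58.sylow_inf_normal_ne_bot P L hLp
  have hNT : Subgroup.normalizer (T : Set G) ≤ Subgroup.normalizer ((P : Subgroup G) : Set G) := by
    intro g hg
    obtain ⟨t, ht1⟩ := (Subgroup.ne_bot_iff_exists_ne_one).mp hTne
    have htT' : (t : G) ∈ T := t.2
    have ht1' : (t : G) ≠ 1 := fun h => ht1 (Subtype.ext h)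
    have h1 : g * (t : G) * g⁻¹ ∈ T := (Subgroup.mem_normalizer_iff.mp hg (t : G)).mp htT'
    exact ti_mem_normalizer P hTI (Subgroup.mem_inf.mp htT').1 ht1' (Subgroup.mem_inf.mp h1).1
  have hfr := Cfsg.Agent.Lib.Helper58.frattini_inf P L
  have hLKT : L ≤ K ⊔ T := by
    set X := K ⊔ T with hX
    have hXL : X ≤ L := sup_le hKL inf_le_right
    have h1 : X.relIndex L ∣ p ^ m := by
      rw [← hm, ← relIndex_mul_relIndex K X L le_sup_left hXL]
      exact dvd_mul_left _ _
    have h2 : X.relIndex L ∣ T.relIndex L := by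
      rw [← relIndex_mul_relIndex T X L le_sup_right hXL]
      exact dvd_mul_left _ _
    have h3 : ¬ p ∣ X.relIndex L := fun h =>
      Cfsg.Agent.Lib.Helper58.sylow_inf_normal_relIndex P L (h.trans h2)
    have h4 : X.relIndex L = 1 := by
      obtain ⟨j, hj, hjc⟩ := (Nat.dvd_prime_pow hp).mp h1
      rcases Nat.eq_zero_or_pos j with h0 | hpos
      · rw [hjc, h0, pow_zero]
      · exfalso
        apply h3
        rw [hjc]
        exact dvd_pow_self p (Nat.pos_iff_ne_zero.mp hpos)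
    exact Subgroup.relIndex_eq_one.mp h4
  have hKN : K ≤ Subgroup.normalizer ((P : Subgroup G) : Set G) := by
    intro k hk
    apply Subgroup.centralizer_le_normalizer
    rw [Subgroup.mem_centralizer_iff]
    intro x hx
    exact hcon k hk x hx
  have hTN : T ≤ Subgroup.normalizer ((P : Subgroup G) : Set G) :=
    inf_le_left.trans Subgroup.le_normalizer
  rw [← hfr]
  exact sup_le hNT (hLKT.trans (sup_le hKN hTN))

/-- elements of a normal `p'`-subgroup commuting with one nonidentity element of the TI Sylow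
subgroup `P` commute with all of `P` -/
theorem ti_centralizer [Finite G] {p : ℕ} [Fact p.Prime] (P : Sylow p G)
    (hTI : ∀ g : G, g ∉ Subgroup.normalizer ((P : Subgroup G) : Set G) →
      (P : Subgroup G) ⊓ (MulAut.conj g • (P : Subgroup G)) = ⊥)
    (K : Subgroup G) [hKn : K.Normal] (hK : (Nat.card K).Coprime p)
    {x k : G} (hx : x ∈ (P : Subgroup G)) (hx1 : x ≠ 1) (hk : k ∈ K) (hxk : x * k = k * x)
    {y : G} (hy : y ∈ (P : Subgroup G)) : y * k = k * y := by
  have hkN : k ∈ Subgroup.normalizer ((P : Subgroup G) : Set G) := by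
    apply ti_mem_normalizer P hTI hx hx1
    have : k * x * k⁻¹ = x := by rw [← hxk, mul_assoc, mul_inv_cancel, mul_one]
    rw [this]
    exact hx
  -- the commutator lies in `P ⊓ K`
  have h1 : k * y * k⁻¹ * y⁻¹ ∈ (P : Subgroup G) :=
    Subgroup.mul_mem _ ((Subgroup.mem_normalizer_iff.mp hkN y).mp hy) (Subgroup.inv_mem _ hy)
  have h2 : k * y * k⁻¹ * y⁻¹ ∈ K := by
    have : k * y * k⁻¹ * y⁻¹ = k * (y * k⁻¹ * y⁻¹) := by group
    rw [this]
    exact Subgroup.mul_mem _ hk (hKn.conj_mem _ (Subgroup.inv_mem _ hk) y)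
  have h3 : k * y * k⁻¹ * y⁻¹ = 1 :=
    Cfsg.Agent.Lib.Helper06.eq_one_of_mem_of_mem P K hK h1 h2
  have : k * y = (k * y * k⁻¹ * y⁻¹) * (y * k) := by group
  rw [this, h3, one_mul]

/-- a `P`-invariant `q`-subgroup of the normal `p'`-subgroup `K` which is not centralized by `P` -/
theorem exists_invariant_qgroup [Finite G] {p : ℕ} [Fact p.Prime] (P : Subgroup G)
    (hP : IsPGroup p P) (K : Subgroup G) [K.Normal] (hK : (Nat.card K).Coprime p)
    (hnc : ∃ k ∈ K, ∃ x ∈ P, x * k ≠ k * x) :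
    ∃ (q : ℕ) (_ : q.Prime) (S : Subgroup G), S ≤ K ∧ IsPGroup q S ∧
      (∀ x ∈ P, ∀ g ∈ S, x * g * x⁻¹ ∈ S) ∧ ∃ g ∈ S, ∃ x ∈ P, x * g ≠ g * x := by
  by_contra hcon
  push_neg at hcon
  set C := K ⊓ Subgroup.centralizer (P : Set G) with hC
  have hCK : C ≤ K := inf_le_left
  have hK0 : Nat.card K ≠ 0 := Nat.card_pos.ne'
  have hC0 : Nat.card C ≠ 0 := Nat.card_pos.ne'
  have hdvd : Nat.card K ∣ Nat.card C := by
    rw [← Nat.factorization_prime_le_iff_dvd hK0 hC0]
    intro q hq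
    haveI : Fact q.Prime := ⟨hq⟩
    obtain ⟨Q, hQK, hQinv, hQcard⟩ :=
      Cfsg.Agent.Lib.Helper06.exists_invariant_sylow P hP K hK q
    have hQq : IsPGroup q Q := IsPGroup.of_card hQcard
    have hQC : Q ≤ C := by
      intro g hg
      refine Subgroup.mem_inf.mpr ⟨hQK hg, ?_⟩
      rw [Subgroup.mem_centralizer_iff]
      intro x hx
      exact hcon q hq Q hQK hQq hQinv g hg x hx
    have h1 : q ^ (Nat.card K).factorization q ∣ Nat.card C := by
      rw [← hQcard]
      exact Subgroup.card_dvd_of_le hQC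
    exact (Nat.Prime.pow_dvd_iff_le_factorization hq hC0).mp h1
  have hCeq : C = K :=
    Subgroup.eq_of_le_of_card_ge hCK (Nat.le_of_dvd Nat.card_pos hdvd)
  obtain ⟨k, hk, x, hx, hne⟩ := hnc
  apply hne
  rw [← hCeq] at hk
  exact Subgroup.mem_centralizer_iff.mp (Subgroup.mem_inf.mp hk).2 x hx

/-- the minimal configuration: a `p`-group `P` normalizing a `q`-group `Q` (`q ≠ p`), not
centralizing it, centralizing every proper `P`-invariant subgroup of `Q`, and such that all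
nonidentity elements of `P` have the same fixed points on `Q`. -/
structure MinConf (p q : ℕ) (P Q : Subgroup G) : Prop where
  hP : IsPGroup p P
  hQ : IsPGroup q Q
  hpq : p ≠ q
  inv : ∀ x ∈ P, ∀ g ∈ Q, x * g * x⁻¹ ∈ Q
  nc : ∃ g ∈ Q, ∃ x ∈ P, x * g ≠ g * x
  min : ∀ R : Subgroup G, R ≤ Q → R ≠ Q → (∀ x ∈ P, ∀ g ∈ R, x * g * x⁻¹ ∈ R) →
    ∀ g ∈ R, ∀ x ∈ P, x * g = g * x
  unif : ∀ x ∈ P, x ≠ 1 → ∀ g ∈ Q, x * g = g * x → ∀ y ∈ P, y * g = g * y

theorem exists_minConf [Finite G] {p q : ℕ} (P S : Subgroup G) (hP : IsPGroup p P)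
    (hS : IsPGroup q S) (hpq : p ≠ q)
    (hinv : ∀ x ∈ P, ∀ g ∈ S, x * g * x⁻¹ ∈ S) (hnc : ∃ g ∈ S, ∃ x ∈ P, x * g ≠ g * x)
    (hunif : ∀ x ∈ P, x ≠ 1 → ∀ g ∈ S, x * g = g * x → ∀ y ∈ P, y * g = g * y) :
    ∃ Q : Subgroup G, Q ≤ S ∧ MinConf p q P Q := by
  obtain ⟨Q, ⟨hQS, hQinv, hQnc⟩, hQmin⟩ := exists_minimal_of_wellFoundedLT
    (fun R : Subgroup G => R ≤ S ∧ (∀ x ∈ P, ∀ g ∈ R, x * g * x⁻¹ ∈ R) ∧
      ∃ g ∈ R, ∃ x ∈ P, x * g ≠ g * x) ⟨S, le_rfl, hinv, hnc⟩
  refine ⟨Q, hQS, ⟨hP, hS.to_le hQS, hpq, hQinv, hQnc, ?_, ?_⟩⟩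
  · intro R hRQ hRne hRinv g hg x hx
    by_contra hne
    have hle : Q ≤ R := hQmin ⟨hRQ.trans hQS, hRinv, g, hg, x, hx, hne⟩ hRQ
    exact hRne (le_antisymm hRQ hle)
  · intro x hx hx1 g hg hxg y hy
    exact hunif x hx hx1 g (hQS hg) hxg y hy

end TIPS

end Cfsg.Agent.Lib.Helper79
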