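import Mathlib
import Cfsg.Agent.Lib.Helper79.TIPSolvA

/-!
# Consequences of the minimal configuration (helper79, for S4748)
-/

set_option autoImplicit false

namespace Cfsg.Agent.Lib.Helper79

namespace TIPS

open Subgroup
open scoped Pointwise commutatorElement

variable {G : Type*} [Group G] {p q : ℕ} {P Q : Subgroup G}

namespace MinConf

theorem coprime [Finite G] [hp : Fact p.Prime] [hq : Fact q.Prime] (M : MinConf p q P Q) :
    (Nat.card P).Coprime (Nat.card Q) := by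
  obtain ⟨a, ha⟩ := IsPGroup.iff_card.mp M.hP
  obtain ⟨b, hb⟩ := IsPGroup.iff_card.mp M.hQ
  rw [ha, hb]
  exact Nat.Coprime.pow _ _ ((Nat.coprime_primes hp.out hq.out).mpr M.hpq)

theorem coprime_orderOf [Finite G] [Fact p.Prime] [Fact q.Prime] (M : MinConf p q P Q)
    {x g : G} (hx : x ∈ P) (hg : g ∈ Q) : (orderOf x).Coprime (orderOf g) :=
  Nat.Coprime.coprime_dvd_left (Cfsg.Agent.Lib.Helper32.orderOf_dvd_card_of_mem hx)
    (Nat.Coprime.coprime_dvd_right (Cfsg.Agent.Lib.Helper32.orderOf_dvd_card_of_mem hg) M.coprime)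

/-- the inverse conjugate also lies in `Q` -/
theorem inv' (M : MinConf p q P Q) {x g : G} (hx : x ∈ P) (hg : g ∈ Q) : x⁻¹ * g * x ∈ Q := by
  have := M.inv x⁻¹ (P.inv_mem hx) g hg
  rwa [inv_inv] at this

theorem commutator_le (M : MinConf p q P Q) : ⁅Q, P⁆ ≤ Q := by
  rw [Subgroup.commutator_le]
  intro g hg x hx
  have : ⁅g, x⁆ = g * (x * g⁻¹ * x⁻¹) := by
    rw [commutatorElement_def]; group
  rw [this]
  exact Q.mul_mem hg (M.inv x hx _ (Q.inv_mem hg))

theorem commutator_inv (M : MinConf p q P Q) :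
    ∀ x ∈ P, ∀ r ∈ ⁅Q, P⁆, x * r * x⁻¹ ∈ ⁅Q, P⁆ := by
  intro x hx r hr
  have h1 : (⁅Q, P⁆).map (MulAut.conj x).toMonoidHom ≤ ⁅Q, P⁆ := by
    rw [Subgroup.map_commutator]
    apply Subgroup.commutator_mono
    · rintro _ ⟨g, hg, rfl⟩
      simpa [MulAut.conj_apply] using M.inv x hx g hg
    · rintro _ ⟨y, hy, rfl⟩
      simpa [MulAut.conj_apply] using P.mul_mem (P.mul_mem hx hy) (P.inv_mem hx)
  apply h1
  exact ⟨r, hr, by simp [MulAut.conj_apply]⟩

/-- `[Q, P] = Q` -/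
theorem commutator_eq [Finite G] [Fact p.Prime] [Fact q.Prime] (M : MinConf p q P Q) :
    ⁅Q, P⁆ = Q := by
  by_contra hne
  have hcent : ⁅Q, P⁆ ≤ Subgroup.centralizer (P : Set G) := by
    intro r hr
    rw [Subgroup.mem_centralizer_iff]
    intro x hx
    exact M.min _ M.commutator_le hne M.commutator_inv r hr x hx
  have hQ := Cfsg.Agent.Lib.Helper32.le_centralizer_of_stable Q ⁅Q, P⁆ P le_rfl hcent
    M.commutator_le M.coprime
  obtain ⟨g, hg, x, hx, hgx⟩ := M.nc
  exact hgx (Subgroup.mem_centralizer_iff.mp (hQ hg) x hx)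

end MinConf

end TIPS

end Cfsg.Agent.Lib.Helper79
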