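import Mathlib
import Cfsg.Agent.Lib.Helper79.TIPSolvB
import Cfsg.Agent.Lib.Helper01.Coprime
import Cfsg.Agent.Lib.Helper03.CoprimeAbelian
import Cfsg.Agent.Lib.Helper04.Basis
import Cfsg.Agent.Lib.Helper05.CharDecomp
import Cfsg.Agent.Lib.Helper05.CharSub
import Cfsg.Agent.Lib.Helper83.Linear
import Cfsg.Agent.Lib.Helper85.CliffordAbelian

/-!
# Character-theoretic tools and the abelian case (helper79, for S4748)
-/

set_option autoImplicit false

namespace Cfsg.Agent.Lib.Helper79

namespace TIPS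

open Subgroup Cfsg
open scoped Pointwise commutatorElement ComplexConjugate

section general

theorem charDegree_of_apply_one {H : Type*} [Group H] {χ : H → ℂ} {d : ℕ} (h : χ 1 = d) :
    charDegree χ = d := by
  simp [charDegree, h]

variable {H : Type*} [Group H] [Fintype H]

/-- a character not constant at `g₀` has an irreducible constituent not constant at `g₀` -/
theorem exists_constituent_ne {θ : H → ℂ} (hθ : IsCharacter H θ) {g₀ : H} (hg : θ g₀ ≠ θ 1) :
    ∃ ψ : IrrCharacter H, classInner θ (ψ : H → ℂ) ≠ 0 ∧ (ψ : H → ℂ) g₀ ≠ (ψ : H → ℂ) 1 := by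
  haveI : Finite (IrrCharacter H) := Cfsg.Agent.Lib.Helper05.finite_irrCharacter
  haveI : Fintype (IrrCharacter H) := Fintype.ofFinite _
  by_contra hcon
  push_neg at hcon
  apply hg
  have h := Cfsg.Agent.Lib.Helper05.eq_sum_classInner_smul hθ
  have hval : ∀ g : H, θ g = ∑ ψ : IrrCharacter H, classInner θ (ψ : H → ℂ) * (ψ : H → ℂ) g := by
    intro g
    conv_lhs => rw [h]
    simp [Finset.sum_apply, Pi.smul_apply, smul_eq_mul]
  rw [hval g₀, hval 1]
  apply Finset.sum_congr rfl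
  intro ψ _
  by_cases h0 : classInner θ (ψ : H → ℂ) = 0
  · rw [h0, zero_mul, zero_mul]
  · rw [hcon ψ h0]

/-- the degree of a constituent is at most the degree -/
theorem charDegree_le_of_constituent {θ φ : H → ℂ} (hθ : IsCharacter H θ)
    (hφ : IsIrrCharacter H φ) (h : classInner θ φ ≠ 0) : charDegree φ ≤ charDegree θ := by
  have hsub := Cfsg.Agent.Lib.Helper05.isCharacter_sub_of_classInner_ne_zero hθ hφ h
  obtain ⟨n, hn⟩ := Cfsg.Agent.Lib.Helper05.exists_nat_degree hsub
  obtain ⟨d, hd⟩ := Cfsg.Agent.Lib.Helper05.exists_nat_degree (Cfsg.Agent.Lib.Helper05.IsIrrCharacter.isCharacter hφ)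
  have h1 : θ 1 = ((d + n : ℕ) : ℂ) := by
    have : θ 1 = φ 1 + (θ - φ) 1 := by simp
    rw [this, hn, hd]; push_cast; ring
  rw [charDegree_of_apply_one h1,
    charDegree_of_apply_one hd]
  omega

/-- the degree is at least the number of distinct irreducible constituents -/
theorem card_le_charDegree {θ : H → ℂ} (hθ : IsCharacter H θ) {ι : Type*} [Fintype ι]
    (F : ι → IrrCharacter H) (hF : Function.Injective F)
    (hne : ∀ i, classInner θ (F i : H → ℂ) ≠ 0) : Fintype.card ι ≤ charDegree θ := by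
  classical
  haveI : Finite (IrrCharacter H) := Cfsg.Agent.Lib.Helper05.finite_irrCharacter
  haveI : Fintype (IrrCharacter H) := Fintype.ofFinite _
  obtain ⟨m, hm⟩ := Cfsg.Agent.Lib.Helper05.exists_nat_coeff hθ
  have hmi : ∀ ψ : IrrCharacter H, classInner θ (ψ : H → ℂ) = m ψ := by
    intro ψ
    conv_lhs => rw [hm]
    exact Cfsg.Agent.Lib.Helper05.classInner_sum_irr_left _ ψ
  choose d hdpos hd using fun ψ : IrrCharacter H =>
    Cfsg.Agent.Lib.Helper05.exists_pos_degree ψ.2
  have h1 : θ 1 = ((∑ ψ : IrrCharacter H, m ψ * d ψ : ℕ) : ℂ) := by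
    conv_lhs => rw [hm]
    simp only [Finset.sum_apply, Pi.smul_apply, smul_eq_mul]
    push_cast
    apply Finset.sum_congr rfl
    intro ψ _
    rw [hd ψ]
  rw [charDegree_of_apply_one h1]
  calc Fintype.card ι = (Finset.univ.image F).card := by
        rw [Finset.card_image_of_injective _ hF, Finset.card_univ]
    _ = ∑ ψ ∈ Finset.univ.image F, 1 := by simp
    _ ≤ ∑ ψ ∈ Finset.univ.image F, m ψ * d ψ := by
        apply Finset.sum_le_sum
        intro ψ hψ
        obtain ⟨i, _, rfl⟩ := Finset.mem_image.mp hψ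
        have h2 : m (F i) ≠ 0 := by
          intro h0
          apply hne i
          rw [hmi, h0]; simp
        exact Nat.one_le_iff_ne_zero.mpr (Nat.mul_ne_zero h2 (hdpos _).ne')
    _ ≤ ∑ ψ : IrrCharacter H, m ψ * d ψ :=
        Finset.sum_le_sum_of_subset (Finset.subset_univ _)

end general

section abelian

variable {G : Type*} [Group G] {p q : ℕ} {P Q : Subgroup G}

/-- conjugation by `x⁻¹` as an endomorphism of `Q` -/
def cjHom (Q : Subgroup G) (x : G) (hx : ∀ g ∈ Q, x⁻¹ * g * x ∈ Q) : ↥Q →* ↥Q where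
  toFun g := ⟨x⁻¹ * g * x, hx g g.2⟩
  map_one' := by ext; simp
  map_mul' a b := by ext; simp [mul_assoc]

@[simp] theorem cjHom_coe (Q : Subgroup G) (x : G) (hx : ∀ g ∈ Q, x⁻¹ * g * x ∈ Q) (g : ↥Q) :
    ((cjHom Q x hx g : ↥Q) : G) = x⁻¹ * g * x := rfl

theorem MinConf.le_normalizer (M : MinConf p q P Q) : P ≤ Subgroup.normalizer (Q : Set G) := by
  intro x hx
  rw [Subgroup.mem_normalizer_iff]
  intro h
  constructor
  · exact M.inv x hx h
  · intro hh
    have := M.inv' hx hh
    have e : x⁻¹ * (x * h * x⁻¹) * x = h := by group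
    rwa [e] at this

/-- in the abelian case `P` has no fixed points on `Q` -/
theorem MinConf.fixed_eq_one [Finite G] [Fact p.Prime] [Fact q.Prime] (M : MinConf p q P Q)
    (hab : ∀ a ∈ Q, ∀ b ∈ Q, a * b = b * a)
    {g : G} (hg : g ∈ Q) (hfix : ∀ y ∈ P, y * g = g * y) : g = 1 := by
  have hcard : Nat.card (P ⊔ Q : Subgroup G) = Nat.card Q * Nat.card P :=
    Cfsg.Agent.Lib.Helper01.card_sup_of_coprime_of_le_normalizer Q P M.le_normalizer M.coprime.symm
  have hrel : Q.relIndex (P ⊔ Q) = Nat.card P := by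
    have h1 : Nat.card Q * Q.relIndex (P ⊔ Q) = Nat.card (P ⊔ Q : Subgroup G) := by
      rw [← relIndex_bot_left, ← relIndex_bot_left]
      exact relIndex_mul_relIndex _ _ _ bot_le le_sup_right
    rw [hcard] at h1
    exact Nat.eq_of_mul_eq_mul_left Nat.card_pos h1
  have hc : IsMulCommutative Q := by
    rw [isMulCommutative_iff]
    intro a b
    exact Subtype.ext (hab a a.2 b b.2)
  have h := Cfsg.Agent.Lib.Helper03.commutator_inf_centralizer_inf_eq_bot_of_abelian_hall Q (P ⊔ Q)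
    le_sup_right hc (by rw [hrel]; exact M.coprime.symm)
  have hmem : g ∈ ⁅(P ⊔ Q : Subgroup G), (P ⊔ Q : Subgroup G)⁆ ⊓
      Subgroup.centralizer ((P ⊔ Q : Subgroup G) : Set G) ⊓ Q := by
    refine Subgroup.mem_inf.mpr ⟨Subgroup.mem_inf.mpr ⟨?_, ?_⟩, hg⟩
    · have h1 : g ∈ ⁅Q, P⁆ := by rw [M.commutator_eq]; exact hg
      exact Subgroup.commutator_mono le_sup_right le_sup_left h1
    · have hle : P ⊔ Q ≤ Subgroup.centralizer ({g} : Set G) := by
        apply sup_le
        · intro y hy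
          rw [Subgroup.mem_centralizer_iff]
          intro t ht
          rw [Set.mem_singleton_iff.mp ht]
          exact (hfix y hy).symm
        · intro b hb
          rw [Subgroup.mem_centralizer_iff]
          intro t ht
          rw [Set.mem_singleton_iff.mp ht]
          exact hab g hg b hb
      rw [Subgroup.mem_centralizer_iff]
      intro m hm
      have := Subgroup.mem_centralizer_iff.mp (hle hm) g (Set.mem_singleton g)
      exact this.symm
  rw [h, Subgroup.mem_bot] at hmem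
  exact hmem

/-- conjugation as a permutation of `Q` -/
def cjEquiv (Q : Subgroup G) (x : G) (hx : ∀ g ∈ Q, x⁻¹ * g * x ∈ Q)
    (hx' : ∀ g ∈ Q, x * g * x⁻¹ ∈ Q) : ↥Q ≃ ↥Q where
  toFun := cjHom Q x hx
  invFun g := ⟨x * g * x⁻¹, hx' g g.2⟩
  left_inv g := by
    apply Subtype.ext
    simp only [cjHom_coe]
    group
  right_inv g := by
    apply Subtype.ext
    simp only [cjHom_coe]
    group

/-- the abelian case: the degree of a character of `G` faithful on `Q` is at least `|P|` -/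
theorem MinConf.card_le_degree_of_abelian [Finite G] [Fact p.Prime] [Fact q.Prime]
    (M : MinConf p q P Q) (hab : ∀ a ∈ Q, ∀ b ∈ Q, a * b = b * a) {χ : G → ℂ}
    (hχ : IsCharacter G χ) (hf : ∀ g ∈ Q, χ g = χ 1 → g = 1) : Nat.card P ≤ charDegree χ := by
  classical
  haveI : Fintype ↥Q := Fintype.ofFinite _
  haveI : Fintype ↥P := Fintype.ofFinite _
  set θ : ↥Q → ℂ := fun g => χ g with hθdef
  have hθ : IsCharacter ↥Q θ := Cfsg.Agent.Lib.Helper05.isCharacter_restrict Q hχ
  have hcl := Cfsg.Agent.Lib.Helper04.isClassFunction_of_isCharacter hχ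
  obtain ⟨g₀, hg₀, x₀, hx₀, hne₀⟩ := M.nc
  have hg₀1 : g₀ ≠ 1 := by
    intro h
    apply hne₀
    rw [h, mul_one, one_mul]
  have hθne : θ ⟨g₀, hg₀⟩ ≠ θ 1 := by
    intro h
    exact hg₀1 (hf g₀ hg₀ h)
  obtain ⟨ψ, hψne, hψg₀⟩ := exists_constituent_ne hθ hθne
  have habQ : ∀ a b : ↥Q, a * b = b * a := fun a b => Subtype.ext (hab a a.2 b b.2)
  have hψc : IsCharacter ↥Q (ψ : ↥Q → ℂ) := Cfsg.Agent.Lib.Helper05.IsIrrCharacter.isCharacter ψ.2
  have hψ1 : (ψ : ↥Q → ℂ) 1 = 1 := Cfsg.Agent.Lib.Helper85.irr_apply_one_of_comm habQ ψ.2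
  have hmul := Cfsg.Agent.Lib.Helper83.char_deg_one_mul hψc hψ1
  have hinvmul := Cfsg.Agent.Lib.Helper83.char_deg_one_inv_mul hψc hψ1
  -- the conjugates of `ψ`
  let cj : ∀ y : ↥P, ↥Q →* ↥Q := fun y => cjHom Q (y : G) (fun g hg => M.inv' y.2 hg)
  let F : ↥P → IrrCharacter ↥Q := fun y =>
    ⟨fun g => (ψ : ↥Q → ℂ) (cj y g),
      Cfsg.Agent.Lib.Helper83.isIrrCharacter_of_deg_one
        (Cfsg.Agent.Lib.Helper05.isCharacter_comp (cj y) hψc) (by simp [hψ1])⟩
  have hFval : ∀ (y : ↥P) (g : ↥Q), (F y : ↥Q → ℂ) g = (ψ : ↥Q → ℂ) (cj y g) := fun _ _ => rfl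
  have hne : ∀ y : ↥P, classInner θ (F y : ↥Q → ℂ) ≠ 0 := by
    intro y
    have : classInner θ (F y : ↥Q → ℂ) = classInner θ (ψ : ↥Q → ℂ) := by
      unfold classInner
      congr 1
      let e : ↥Q ≃ ↥Q := cjEquiv Q (y : G) (fun g hg => M.inv' y.2 hg)
        (fun g hg => M.inv y y.2 g hg)
      apply Fintype.sum_equiv e
      intro g
      have h1 : θ (e g) = θ g := by
        change χ ((y : G)⁻¹ * g * y) = χ g
        have := hcl (g : G) (y : G)⁻¹
        rwa [inv_inv] at this
      rw [hFval]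
      change θ g * conj ((ψ : ↥Q → ℂ) (e g)) = θ (e g) * conj ((ψ : ↥Q → ℂ) (e g))
      rw [h1]
    rw [this]
    exact hψne
  have hFinj : Function.Injective F := by
    intro y y' hyy'
    by_contra hne'
    set x : G := (y : G)⁻¹ * y' with hxdef
    have hxP : x ∈ P := P.mul_mem (P.inv_mem y.2) y'.2
    have hx1 : x ≠ 1 := by
      intro h
      apply hne'
      apply Subtype.ext
      have : (y' : G) = y * x := by rw [hxdef]; group
      rw [this, h, mul_one]
    have hxinv : ∀ g ∈ Q, x⁻¹ * g * x ∈ Q := fun g hg => M.inv' hxP hg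
    -- `ψ` is fixed by `x`
    have hfixψ : ∀ h : ↥Q, (ψ : ↥Q → ℂ) (cjHom Q x hxinv h) = (ψ : ↥Q → ℂ) h := by
      intro h
      let g : ↥Q := ⟨y * h * (y : G)⁻¹, M.inv y y.2 h h.2⟩
      have h1 : cj y g = h := by
        apply Subtype.ext
        change (y : G)⁻¹ * (y * h * (y : G)⁻¹) * y = h
        group
      have h2 : cj y' g = cjHom Q x hxinv h := by
        apply Subtype.ext
        change (y' : G)⁻¹ * (y * h * (y : G)⁻¹) * y' = x⁻¹ * h * x
        rw [hxdef]
        group
      have h3 : (ψ : ↥Q → ℂ) (cj y g) = (ψ : ↥Q → ℂ) (cj y' g) :=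
        congrFun (congrArg Subtype.val hyy') g
      rw [h1, h2] at h3
      exact h3.symm
    -- the map `h ↦ h⁻¹ * h^x`
    let κ : ↥Q → ↥Q := fun h => h⁻¹ * cjHom Q x hxinv h
    have hκψ : ∀ h : ↥Q, (ψ : ↥Q → ℂ) (κ h) = 1 := by
      intro h
      change (ψ : ↥Q → ℂ) (h⁻¹ * cjHom Q x hxinv h) = 1
      rw [hmul, hfixψ, hinvmul]
    have hκinj : Function.Injective κ := by
      intro h h' hk
      have hk' : (h : G)⁻¹ * (x⁻¹ * h * x) = (h' : G)⁻¹ * (x⁻¹ * h' * x) := by
        have := congrArg (fun t : ↥Q => (t : G)) hk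
        simpa [κ] using this
      set u : G := (h : G) * (h' : G)⁻¹ with hu
      have huQ : u ∈ Q := Q.mul_mem h.2 (Q.inv_mem h'.2)
      have hxu : x * u = u * x := by
        have e1 : x⁻¹ * h * x = h * ((h' : G)⁻¹ * (x⁻¹ * h' * x)) := by
          rw [← hk']; group
        have e2 : x⁻¹ * u * x = u := by
          have : x⁻¹ * u * x = (x⁻¹ * h * x) * (x⁻¹ * h' * x)⁻¹ := by rw [hu]; group
          rw [this, e1, hu]
          group
        calc x * u = x * (x⁻¹ * u * x) := by rw [e2]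
          _ = u * x := by group
      have hu1 : u = 1 :=
        M.fixed_eq_one hab huQ (fun z hz => M.unif x hxP hx1 u huQ hxu z hz)
      apply Subtype.ext
      have : (h : G) = u * h' := by rw [hu]; group
      rw [this, hu1, one_mul]
    have hκsurj : Function.Surjective κ := Finite.injective_iff_surjective.mp hκinj
    obtain ⟨h, hh⟩ := hκsurj ⟨g₀, hg₀⟩
    apply hψg₀
    rw [← hh, hκψ, hψ1]
  have hmain := card_le_charDegree hθ F hFinj hne
  have hdeg : charDegree θ = charDegree χ := by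
    simp [charDegree, hθdef]
  rw [Nat.card_eq_fintype_card, ← hdeg]
  exact hmain

end abelian

end TIPS

end Cfsg.Agent.Lib.Helper79
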