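import Mathlib
import Cfsg.Agent.Lib.Helper79.TIPSolvC

/-!
# The nonabelian case: group theory (helper79, for S4748)

In the minimal configuration with `Q` nonabelian: `Z(Q) = C_Q(P)` and `Q' ≤ Z(Q)`.
-/

set_option autoImplicit false

namespace Cfsg.Agent.Lib.Helper79

namespace TIPS

open Subgroup Cfsg
open scoped Pointwise commutatorElement ComplexConjugate

variable {G : Type*} [Group G] {p q : ℕ} {P Q : Subgroup G}

namespace MinConf

/-- the centre of `Q` is centralized by `P` -/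
theorem center_cent (M : MinConf p q P Q) (hna : ∃ a ∈ Q, ∃ b ∈ Q, a * b ≠ b * a)
    {z : G} (hz : z ∈ Q) (hzc : ∀ h ∈ Q, h * z = z * h) {x : G} (hx : x ∈ P) : x * z = z * x := by
  set R := Q ⊓ Subgroup.centralizer (Q : Set G) with hR
  have hRQ : R ≤ Q := inf_le_left
  have hRne : R ≠ Q := by
    intro h
    obtain ⟨a, ha, b, hb, hab⟩ := hna
    have ha' : a ∈ R := by rw [h]; exact ha
    apply hab
    exact (Subgroup.mem_centralizer_iff.mp (Subgroup.mem_inf.mp ha').2 b hb).symm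
  have hRinv : ∀ y ∈ P, ∀ g ∈ R, y * g * y⁻¹ ∈ R := by
    intro y hy g hg
    obtain ⟨hgQ, hgc⟩ := Subgroup.mem_inf.mp hg
    refine Subgroup.mem_inf.mpr ⟨M.inv y hy g hgQ, ?_⟩
    rw [Subgroup.mem_centralizer_iff]
    intro h hh
    have h1 : y⁻¹ * h * y ∈ Q := M.inv' hy hh
    have h2 := Subgroup.mem_centralizer_iff.mp hgc _ h1
    calc h * (y * g * y⁻¹) = y * ((y⁻¹ * h * y) * g) * y⁻¹ := by group
      _ = y * (g * (y⁻¹ * h * y)) * y⁻¹ := by rw [h2]
      _ = y * g * y⁻¹ * h := by group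
  have hzR : z ∈ R := by
    refine Subgroup.mem_inf.mpr ⟨hz, ?_⟩
    rw [Subgroup.mem_centralizer_iff]
    exact hzc
  exact M.min R hRQ hRne hRinv z hzR x hx

/-- the derived subgroup of `Q` is centralized by `P` -/
theorem derived_cent [Finite G] [Fact p.Prime] [Fact q.Prime] (M : MinConf p q P Q) :
    ⁅Q, Q⁆ ≤ Subgroup.centralizer (P : Set G) := by
  have hDQ : ⁅Q, Q⁆ ≤ Q := Subgroup.commutator_le_self Q
  have hDne : ⁅Q, Q⁆ ≠ Q := by
    intro h
    haveI : Nontrivial ↥Q := by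
      obtain ⟨g, hg, x, hx, hgx⟩ := M.nc
      refine ⟨⟨⟨g, hg⟩, 1, ?_⟩⟩
      intro h1
      apply hgx
      have : g = 1 := congrArg Subtype.val h1
      rw [this, mul_one, one_mul]
    haveI : Group.IsNilpotent ↥Q := M.hQ.isNilpotent
    have hlt := Group.IsSolvable.commutator_lt_top_of_nontrivial ↥Q
    apply hlt.ne
    apply Subgroup.map_injective Q.subtype_injective
    rw [Subgroup.map_subtype_commutator, h, ← MonoidHom.range_eq_map, Subgroup.range_subtype]
  have hDinv : ∀ y ∈ P, ∀ g ∈ ⁅Q, Q⁆, y * g * y⁻¹ ∈ ⁅Q, Q⁆ := by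
    intro y hy r hr
    have h1 : (⁅Q, Q⁆).map (MulAut.conj y).toMonoidHom ≤ ⁅Q, Q⁆ := by
      rw [Subgroup.map_commutator]
      apply Subgroup.commutator_mono
      · rintro _ ⟨g, hg, rfl⟩
        simpa [MulAut.conj_apply] using M.inv y hy g hg
      · rintro _ ⟨g, hg, rfl⟩
        simpa [MulAut.conj_apply] using M.inv y hy g hg
    apply h1
    exact ⟨r, hr, by simp [MulAut.conj_apply]⟩
  intro d hd
  rw [Subgroup.mem_centralizer_iff]
  intro x hx
  exact M.min _ hDQ hDne hDinv d hd x hx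

/-- commutators of elements of `Q` are central in `Q` -/
theorem derived_central [Finite G] [Fact p.Prime] [Fact q.Prime] (M : MinConf p q P Q) :
    Q ≤ Subgroup.centralizer ((⁅Q, Q⁆ : Subgroup G) : Set G) := by
  have h0 : ⁅⁅Q, Q⁆, P⁆ = ⊥ := Subgroup.commutator_eq_bot_iff_le_centralizer.mpr M.derived_cent
  have h1 : ⁅⁅P, ⁅Q, Q⁆⁆, Q⁆ = ⊥ := by
    rw [Subgroup.commutator_comm P, h0, Subgroup.commutator_bot_left]
  have h2 : ⁅⁅⁅Q, Q⁆, Q⁆, P⁆ = ⊥ := by
    rw [eq_bot_iff, ← h0]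
    exact Subgroup.commutator_mono
      (Subgroup.commutator_mono (Subgroup.commutator_le_self Q) le_rfl) le_rfl
  have h3 := Subgroup.commutator_commutator_eq_bot_of_rotate h1 h2
  rw [M.commutator_eq] at h3
  exact Subgroup.commutator_eq_bot_iff_le_centralizer.mp h3

/-- fixed points of `P` on `Q` are central in `Q` -/
theorem fixed_central [Finite G] [Fact p.Prime] [Fact q.Prime] (M : MinConf p q P Q)
    {c : G} (hc : c ∈ Q) (hfix : ∀ x ∈ P, x * c = c * x) {h : G} (hh : h ∈ Q) :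
    h * c = c * h := by
  set C := Q ⊓ Subgroup.centralizer (P : Set G) with hC
  have h0 : ⁅⁅Q, Q⁆, P⁆ = ⊥ := Subgroup.commutator_eq_bot_iff_le_centralizer.mpr M.derived_cent
  have hCP : ⁅C, P⁆ = ⊥ := Subgroup.commutator_eq_bot_iff_le_centralizer.mpr inf_le_right
  have h1 : ⁅⁅P, C⁆, Q⁆ = ⊥ := by
    rw [Subgroup.commutator_comm P, hCP, Subgroup.commutator_bot_left]
  have h2 : ⁅⁅C, Q⁆, P⁆ = ⊥ := by
    rw [eq_bot_iff, ← h0]
    exact Subgroup.commutator_mono (Subgroup.commutator_mono inf_le_left le_rfl) le_rfl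
  have h3 := Subgroup.commutator_commutator_eq_bot_of_rotate h1 h2
  rw [M.commutator_eq] at h3
  have h4 : Q ≤ Subgroup.centralizer (C : Set G) :=
    Subgroup.commutator_eq_bot_iff_le_centralizer.mp h3
  have hcC : c ∈ C := by
    refine Subgroup.mem_inf.mpr ⟨hc, ?_⟩
    rw [Subgroup.mem_centralizer_iff]
    exact hfix
  exact (Subgroup.mem_centralizer_iff.mp (h4 hh) c hcC).symm

end MinConf

end TIPS

end Cfsg.Agent.Lib.Helper79
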