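import Mathlib
import Cfsg.Agent.Lib.Helper79.TIPSolvD
import Cfsg.Agent.Lib.Helper83.LinearCount
import Cfsg.Agent.Lib.Helper83.Quotient
import Cfsg.Agent.Lib.Helper05.CharOrtho

/-!
# The nonabelian case: characters (helper79, for S4748)
-/

set_option autoImplicit false

namespace Cfsg.Agent.Lib.Helper79

namespace TIPS

open Subgroup Cfsg
open scoped Pointwise commutatorElement ComplexConjugate

/-- an irreducible character vanishing off the centre has `χ(1)² |Z(H)| = |H|` -/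
theorem sq_mul_card_center_of_vanish {H : Type*} [Group H] [Fintype H] (ψ : IrrCharacter H)
    (hv : ∀ g : H, g ∉ Subgroup.center H → (ψ : H → ℂ) g = 0) :
    charDegree (ψ : H → ℂ) ^ 2 * Nat.card (Subgroup.center H) = Nat.card H := by
  classical
  obtain ⟨d, hdpos, hd⟩ := Cfsg.Agent.Lib.Helper05.exists_pos_degree ψ.2
  have hdeg : charDegree (ψ : H → ℂ) = d := charDegree_of_apply_one hd
  have h1 := Cfsg.Agent.Lib.Helper05.classInner_irr_self ψ.2
  unfold classInner at h1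
  have hsum : ∑ g : H, (ψ : H → ℂ) g * conj ((ψ : H → ℂ) g)
      = ∑ g : H, if g ∈ Subgroup.center H then (d : ℂ) * d else 0 := by
    apply Finset.sum_congr rfl
    intro g _
    by_cases hg : g ∈ Subgroup.center H
    · rw [if_pos hg, Cfsg.Agent.Lib.Helper83.irr_central_mul_conj ψ hg, hd]
    · rw [if_neg hg, hv g hg, zero_mul]
  rw [hsum, ← Finset.sum_filter, Finset.sum_const, nsmul_eq_mul] at h1
  have hcard : (Finset.univ.filter (fun g : H => g ∈ Subgroup.center H)).card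
      = Nat.card (Subgroup.center H) := by
    rw [Nat.card_eq_fintype_card, Fintype.card_subtype]
  rw [hcard] at h1
  have hH0 : (Nat.card H : ℂ) ≠ 0 := by
    exact_mod_cast (Nat.card_pos (α := H)).ne'
  have h2 : ((Nat.card (Subgroup.center H) : ℂ)) * ((d : ℂ) * d) = Nat.card H := by
    field_simp at h1
    rw [← h1]; ring
  rw [hdeg]
  have h3 : ((d ^ 2 * Nat.card (Subgroup.center H) : ℕ) : ℂ) = ((Nat.card H : ℕ) : ℂ) := by
    push_cast
    rw [← h2]
    ring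
  exact_mod_cast h3

variable {G : Type*} [Group G] {p q : ℕ} {P Q : Subgroup G}

/-- the nonabelian case: `|P| < χ(1)²` for a character of `G` faithful on `Q` -/
theorem MinConf.card_lt_degree_sq_of_nonabelian [Finite G] [Fact p.Prime] [Fact q.Prime]
    (M : MinConf p q P Q) (hna : ∃ a ∈ Q, ∃ b ∈ Q, a * b ≠ b * a) {χ : G → ℂ}
    (hχ : IsCharacter G χ) (hf : ∀ g ∈ Q, χ g = χ 1 → g = 1) :
    Nat.card P < charDegree χ ^ 2 := by
  classical
  haveI : Fintype ↥Q := Fintype.ofFinite _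
  haveI : Fintype ↥P := Fintype.ofFinite _
  set θ : ↥Q → ℂ := fun g => χ g with hθdef
  have hθ : IsCharacter ↥Q θ := Cfsg.Agent.Lib.Helper05.isCharacter_restrict Q hχ
  obtain ⟨a, ha, b, hb, hab⟩ := hna
  have hna' : ∃ a ∈ Q, ∃ b ∈ Q, a * b ≠ b * a := ⟨a, ha, b, hb, hab⟩
  -- commutators are central and fixed by `P`
  have hcomm_mem : ∀ g h : ↥Q, ((⁅g, h⁆ : ↥Q) : G) ∈ ⁅Q, Q⁆ := by
    intro g h
    have : ((⁅g, h⁆ : ↥Q) : G) = ⁅(g : G), (h : G)⁆ := by
      simp [commutatorElement_def]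
    rw [this]
    exact Subgroup.commutator_mem_commutator g.2 h.2
  have hcomm_central : ∀ g h k : ↥Q, k * ⁅g, h⁆ = ⁅g, h⁆ * k := by
    intro g h k
    apply Subtype.ext
    have h1 := Subgroup.mem_centralizer_iff.mp (M.derived_central k.2) _ (hcomm_mem g h)
    simpa using h1.symm
  have hcomm_fix : ∀ g h : ↥Q, ∀ x ∈ P, x * ((⁅g, h⁆ : ↥Q) : G) = ((⁅g, h⁆ : ↥Q) : G) * x := by
    intro g h x hx
    exact (Subgroup.mem_centralizer_iff.mp (M.derived_cent (hcomm_mem g h)) x hx)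
  -- the commutator of `a` and `b`
  set a' : ↥Q := ⟨a, ha⟩ with ha'
  set b' : ↥Q := ⟨b, hb⟩ with hb'
  set c₀ : ↥Q := ⁅a', b'⁆ with hc₀
  have hc₀1 : c₀ ≠ 1 := by
    intro h
    rw [hc₀, commutatorElement_eq_one_iff_mul_comm] at h
    apply hab
    exact congrArg Subtype.val h
  have hθne : θ c₀ ≠ θ 1 := by
    intro h
    apply hc₀1
    apply Subtype.ext
    exact hf c₀ c₀.2 h
  obtain ⟨ψ, hψne, hψc₀⟩ := exists_constituent_ne hθ hθne
  have hψc : IsCharacter ↥Q (ψ : ↥Q → ℂ) := Cfsg.Agent.Lib.Helper05.IsIrrCharacter.isCharacter ψ.2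
  set K := Cfsg.Agent.Lib.Helper83.charKer hψc with hK
  have hKmem : ∀ g : ↥Q, g ∈ K ↔ (ψ : ↥Q → ℂ) g = (ψ : ↥Q → ℂ) 1 :=
    fun g => Cfsg.Agent.Lib.Helper83.mem_charKer hψc g
  set R' : Subgroup ↥Q := (Subgroup.center (↥Q ⧸ K)).comap (QuotientGroup.mk' K) with hR'
  have hmemR : ∀ g : ↥Q, g ∈ R' ↔ ∀ h : ↥Q, ⁅g, h⁆ ∈ K := by
    intro g
    rw [hR', Subgroup.mem_comap, Subgroup.mem_center_iff]
    constructor
    · intro hg h
      have h1 := hg (QuotientGroup.mk' K h)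
      have h2 : ⁅QuotientGroup.mk' K g, QuotientGroup.mk' K h⁆ = 1 := by
        rw [commutatorElement_eq_one_iff_mul_comm]
        exact h1.symm
      rw [← map_commutatorElement] at h2
      exact (QuotientGroup.eq_one_iff _).mp h2
    · intro hg hbar
      obtain ⟨h, rfl⟩ := QuotientGroup.mk'_surjective K hbar
      have h2 : ⁅QuotientGroup.mk' K g, QuotientGroup.mk' K h⁆ = 1 := by
        rw [← map_commutatorElement]
        exact (QuotientGroup.eq_one_iff _).mpr (hg h)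
      rw [commutatorElement_eq_one_iff_mul_comm] at h2
      exact h2.symm
  set R : Subgroup G := R'.map Q.subtype with hR
  have hRQ : R ≤ Q := Subgroup.map_subtype_le _
  have hRne : R ≠ Q := by
    intro h
    have haR : a ∈ R := by rw [h]; exact ha
    obtain ⟨g, hg, hga⟩ := haR
    have : g = a' := Subtype.ext hga
    rw [this] at hg
    have := (hmemR a').mp hg b'
    rw [← hc₀, hKmem] at this
    exact hψc₀ this
  have hRinv : ∀ x ∈ P, ∀ r ∈ R, x * r * x⁻¹ ∈ R := by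
    rintro x hx _ ⟨g, hg, rfl⟩
    refine ⟨⟨x * g * x⁻¹, M.inv x hx g g.2⟩, ?_, rfl⟩
    rw [SetLike.mem_coe, hmemR]
    intro h
    set h' : ↥Q := ⟨x⁻¹ * h * x, M.inv' hx h.2⟩ with hh'
    have hkey : (⁅(⟨x * g * x⁻¹, M.inv x hx g g.2⟩ : ↥Q), h⁆ : ↥Q) = ⁅g, h'⁆ := by
      apply Subtype.ext
      have e1 : ((⁅(⟨x * g * x⁻¹, M.inv x hx g g.2⟩ : ↥Q), h⁆ : ↥Q) : G)
          = x * ((⁅g, h'⁆ : ↥Q) : G) * x⁻¹ := by
        simp only [commutatorElement_def, Subgroup.coe_mul, Subgroup.coe_inv, hh']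
        group
      rw [e1, hcomm_fix g h' x hx]
      group
    rw [hkey]
    exact (hmemR g).mp hg h'
  have hRcent := M.min R hRQ hRne hRinv
  have hRcentral : ∀ g ∈ R', ∀ h : ↥Q, h * g = g * h := by
    intro g hg h
    apply Subtype.ext
    exact M.fixed_central g.2
      (fun x hx => hRcent (g : G) (Subgroup.mem_map_of_mem Q.subtype hg) x hx) h.2
  -- `ψ` vanishes off the centre
  have hcl := Cfsg.Agent.Lib.Helper04.isClassFunction_of_isIrrCharacter ψ.2
  have hvanish : ∀ g : ↥Q, g ∉ Subgroup.center ↥Q → (ψ : ↥Q → ℂ) g = 0 := by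
    intro g hg
    have hgR : g ∉ R' := by
      intro hgR
      apply hg
      rw [Subgroup.mem_center_iff]
      exact hRcentral g hgR
    rw [hmemR] at hgR
    push_neg at hgR
    obtain ⟨h, hh⟩ := hgR
    set c : ↥Q := ⁅g, h⁆ with hc
    have hcinv : c⁻¹ ∉ K := fun h1 => hh (by simpa using K.inv_mem h1)
    have hccen : c⁻¹ ∈ Subgroup.center ↥Q := by
      apply Subgroup.inv_mem
      rw [Subgroup.mem_center_iff]
      intro k
      exact hcomm_central g h k
    have e1 : h * g * h⁻¹ = g * c⁻¹ := by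
      have : h * g * h⁻¹ = c⁻¹ * g := by
        rw [hc, commutatorElement_def]; group
      rw [this]
      exact (Subgroup.mem_center_iff.mp hccen g).symm
    have e2 : (ψ : ↥Q → ℂ) g = (ψ : ↥Q → ℂ) g * (ψ : ↥Q → ℂ) c⁻¹ / (ψ : ↥Q → ℂ) 1 := by
      have h1 := hcl g h
      rw [e1, Cfsg.Agent.Lib.Helper83.irr_mul_central ψ hccen g] at h1
      exact h1.symm
    by_contra hne
    apply hcinv
    rw [hKmem]
    have h10 : (ψ : ↥Q → ℂ) 1 ≠ 0 := Cfsg.Agent.Lib.Helper83.irr_degree_ne_zero ψ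
    field_simp at e2
    exact e2.symm
  have hsq := sq_mul_card_center_of_vanish ψ hvanish
  -- counting
  have hcenfix : ∀ z : ↥(Subgroup.center ↥Q), ∀ x ∈ P, x * ((z : ↥Q) : G) = ((z : ↥Q) : G) * x := by
    intro z x hx
    apply M.center_cent hna' (z : ↥Q).2 _ hx
    intro h hh
    have := Subgroup.mem_center_iff.mp z.2 ⟨h, hh⟩
    exact congrArg Subtype.val this
  have hanc : ¬ ∀ x ∈ P, x * a = a * x := by
    intro hfix
    apply hab
    exact (M.fixed_central ha hfix hb).symm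
  let f : ↥P × ↥(Subgroup.center ↥Q) → ↥Q := fun yz =>
    ⟨(yz.1 : G) * a * (yz.1 : G)⁻¹, M.inv _ yz.1.2 a ha⟩ * (yz.2 : ↥Q)
  have hfval : ∀ yz, ((f yz : ↥Q) : G) = (yz.1 : G) * a * (yz.1 : G)⁻¹ * ((yz.2 : ↥Q) : G) :=
    fun _ => rfl
  have hfinj : Function.Injective f := by
    rintro ⟨y, z⟩ ⟨y', z'⟩ hyz
    have h1 : (y : G) * a * (y : G)⁻¹ * ((z : ↥Q) : G) = (y' : G) * a * (y' : G)⁻¹ * ((z' : ↥Q) : G) := by
      have := congrArg (fun t : ↥Q => (t : G)) hyz
      simpa [hfval] using this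
    set x : G := (y' : G)⁻¹ * y with hx
    have hxP : x ∈ P := P.mul_mem (P.inv_mem y'.2) y.2
    set z₀ : G := ((z' : ↥Q) : G) * ((z : ↥Q) : G)⁻¹ with hz₀
    have hz₀Q : z₀ ∈ Q := Q.mul_mem (z' : ↥Q).2 (Q.inv_mem (z : ↥Q).2)
    have hzy' : (y' : G)⁻¹ * ((z : ↥Q) : G) = ((z : ↥Q) : G) * (y' : G)⁻¹ :=
      hcenfix z _ (P.inv_mem y'.2)
    have hz'y' : (y' : G)⁻¹ * ((z' : ↥Q) : G) = ((z' : ↥Q) : G) * (y' : G)⁻¹ :=
      hcenfix z' _ (P.inv_mem y'.2)
    have h2 : x * a * x⁻¹ = a * z₀ := by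
      have e1 : x * a * x⁻¹ * ((z : ↥Q) : G)
          = (y' : G)⁻¹ * ((y : G) * a * (y : G)⁻¹ * ((z : ↥Q) : G)) * y' := by
        have : (y' : G)⁻¹ * ((y : G) * a * (y : G)⁻¹ * ((z : ↥Q) : G)) * y'
            = (y' : G)⁻¹ * ((y : G) * a * (y : G)⁻¹) * ((y' : G) * ((y' : G)⁻¹ * ((z : ↥Q) : G)) * y') := by
          group
        rw [this, hzy', hx]
        group
      have e2 : (y' : G)⁻¹ * ((y' : G) * a * (y' : G)⁻¹ * ((z' : ↥Q) : G)) * y' = a * ((z' : ↥Q) : G) := by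
        have : (y' : G)⁻¹ * ((y' : G) * a * (y' : G)⁻¹ * ((z' : ↥Q) : G)) * y'
            = a * ((y' : G)⁻¹ * ((z' : ↥Q) : G)) * y' := by group
        rw [this, hz'y']
        group
      rw [h1, e2] at e1
      calc x * a * x⁻¹ = (x * a * x⁻¹ * ((z : ↥Q) : G)) * ((z : ↥Q) : G)⁻¹ := by group
        _ = a * ((z' : ↥Q) : G) * ((z : ↥Q) : G)⁻¹ := by rw [e1]
        _ = a * z₀ := by rw [hz₀]; group
    have hx1 : x = 1 := by
      by_contra hx1
      apply hanc
      have hcz : ⁅a⁻¹, x⁆ = z₀ := by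
        rw [commutatorElement_def, inv_inv]
        calc a⁻¹ * x * a * x⁻¹ = a⁻¹ * (x * a * x⁻¹) := by group
          _ = z₀ := by rw [h2]; group
      have hz₀x : Commute z₀ x := by
        have e1 := hcenfix z' x hxP
        have e2 := hcenfix z x hxP
        have e3 : x * ((z : ↥Q) : G)⁻¹ = ((z : ↥Q) : G)⁻¹ * x := by
          calc x * ((z : ↥Q) : G)⁻¹ = ((z : ↥Q) : G)⁻¹ * (((z : ↥Q) : G) * x) * ((z : ↥Q) : G)⁻¹ := by group
            _ = ((z : ↥Q) : G)⁻¹ * (x * ((z : ↥Q) : G)) * ((z : ↥Q) : G)⁻¹ := by rw [e2]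
            _ = ((z : ↥Q) : G)⁻¹ * x := by group
        change z₀ * x = x * z₀
        rw [hz₀, mul_assoc, ← e3, ← mul_assoc, ← e1, mul_assoc]
      have hcomm : Commute a⁻¹ x :=
        Cfsg.Agent.Lib.Helper32.commute_of_commutator a⁻¹ x (by rw [hcz]; exact hz₀x)
          (by rw [hcz]; exact M.coprime_orderOf hxP hz₀Q)
      have hax : x * a = a * x := by
        have h5 := hcomm.inv_left
        rw [inv_inv] at h5
        exact h5.eq.symm
      exact M.unif x hxP hx1 a ha hax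
    have hyy' : y = y' := by
      apply Subtype.ext
      have : (y : G) = y' * x := by rw [hx]; group
      rw [this, hx1, mul_one]
    subst hyy'
    have hzz' : z = z' := by
      apply Subtype.ext
      apply Subtype.ext
      exact mul_left_cancel h1
    rw [hzz']
  have hnot : (1 : ↥Q) ∉ Set.range f := by
    rintro ⟨⟨y, z⟩, hyz⟩
    have h1 : (y : G) * a * (y : G)⁻¹ * ((z : ↥Q) : G) = 1 := by
      have := congrArg (fun t : ↥Q => (t : G)) hyz
      simpa [hfval] using this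
    apply hanc
    -- `a` is the inverse of a central element
    have hzy : (y : G)⁻¹ * ((z : ↥Q) : G) = ((z : ↥Q) : G) * (y : G)⁻¹ :=
      hcenfix z _ (P.inv_mem y.2)
    have ha_eq : a = ((z : ↥Q) : G)⁻¹ := by
      have e1 : a * ((z : ↥Q) : G) = 1 := by
        calc a * ((z : ↥Q) : G) = a * (((z : ↥Q) : G) * (y : G)⁻¹) * y := by group
          _ = a * ((y : G)⁻¹ * ((z : ↥Q) : G)) * y := by rw [hzy]
          _ = (y : G)⁻¹ * ((y : G) * a * (y : G)⁻¹ * ((z : ↥Q) : G)) * y := by group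
          _ = 1 := by rw [h1]; group
      exact eq_inv_of_mul_eq_one_left e1
    intro x hx
    have e2 := hcenfix z x hx
    rw [ha_eq]
    calc x * ((z : ↥Q) : G)⁻¹ = ((z : ↥Q) : G)⁻¹ * (((z : ↥Q) : G) * x) * ((z : ↥Q) : G)⁻¹ := by group
      _ = ((z : ↥Q) : G)⁻¹ * (x * ((z : ↥Q) : G)) * ((z : ↥Q) : G)⁻¹ := by rw [e2]
      _ = ((z : ↥Q) : G)⁻¹ * x := by group
  have hcount := Fintype.card_lt_of_injective_of_notMem f hfinj hnot
  rw [Fintype.card_prod] at hcount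
  -- conclusion
  have hle : charDegree (ψ : ↥Q → ℂ) ≤ charDegree χ := by
    have h1 := charDegree_le_of_constituent hθ ψ.2 hψne
    have hdeg : charDegree θ = charDegree χ := by simp [charDegree, hθdef]
    rwa [hdeg] at h1
  have hZpos : 0 < Nat.card (Subgroup.center ↥Q) := Nat.card_pos
  have h3 : Nat.card P * Nat.card (Subgroup.center ↥Q)
      < charDegree (ψ : ↥Q → ℂ) ^ 2 * Nat.card (Subgroup.center ↥Q) := by
    rw [hsq, Nat.card_eq_fintype_card, Nat.card_eq_fintype_card, Nat.card_eq_fintype_card]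
    exact hcount
  have h4 : Nat.card P < charDegree (ψ : ↥Q → ℂ) ^ 2 := lt_of_mul_lt_mul_right h3 (Nat.zero_le _)
  exact lt_of_lt_of_le h4 (Nat.pow_le_pow_left hle 2)

end TIPS

end Cfsg.Agent.Lib.Helper79
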