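import Mathlib
import Cfsg.Agent.Lib.Helper79.TIPSolvE

/-!
# The weak minimal configuration (helper79, for S4468)

`MinConfW` is `TIPS.MinConf` without the uniformity condition; the structural lemmas are the same
(the proofs are those of `TIPSolvB`, `TIPSolvC`, `TIPSolvD`).
-/

set_option autoImplicit false

namespace Cfsg.Agent.Lib.Helper79

namespace ITO

open Subgroup Cfsg TIPS
open scoped Pointwise commutatorElement ComplexConjugate

variable {G : Type*} [Group G] {p q : ℕ} {P Q : Subgroup G}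

/-- the weak minimal configuration: a `p`-group `P` normalizing a `q`-group `Q` (`q ≠ p`), not
centralizing it, and centralizing every proper `P`-invariant subgroup of `Q`. -/
structure MinConfW (p q : ℕ) (P Q : Subgroup G) : Prop where
  hP : IsPGroup p P
  hQ : IsPGroup q Q
  hpq : p ≠ q
  inv : ∀ x ∈ P, ∀ g ∈ Q, x * g * x⁻¹ ∈ Q
  nc : ∃ g ∈ Q, ∃ x ∈ P, x * g ≠ g * x
  min : ∀ R : Subgroup G, R ≤ Q → R ≠ Q → (∀ x ∈ P, ∀ g ∈ R, x * g * x⁻¹ ∈ R) →
    ∀ g ∈ R, ∀ x ∈ P, x * g = g * x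

namespace MinConfW


theorem coprime [Finite G] [hp : Fact p.Prime] [hq : Fact q.Prime] (M : MinConfW p q P Q) :
    (Nat.card P).Coprime (Nat.card Q) := by
  obtain ⟨a, ha⟩ := IsPGroup.iff_card.mp M.hP
  obtain ⟨b, hb⟩ := IsPGroup.iff_card.mp M.hQ
  rw [ha, hb]
  exact Nat.Coprime.pow _ _ ((Nat.coprime_primes hp.out hq.out).mpr M.hpq)

theorem coprime_orderOf [Finite G] [Fact p.Prime] [Fact q.Prime] (M : MinConfW p q P Q)
    {x g : G} (hx : x ∈ P) (hg : g ∈ Q) : (orderOf x).Coprime (orderOf g) :=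
  Nat.Coprime.coprime_dvd_left (Cfsg.Agent.Lib.Helper32.orderOf_dvd_card_of_mem hx)
    (Nat.Coprime.coprime_dvd_right (Cfsg.Agent.Lib.Helper32.orderOf_dvd_card_of_mem hg) M.coprime)

/-- the inverse conjugate also lies in `Q` -/
theorem inv' (M : MinConfW p q P Q) {x g : G} (hx : x ∈ P) (hg : g ∈ Q) : x⁻¹ * g * x ∈ Q := by
  have := M.inv x⁻¹ (P.inv_mem hx) g hg
  rwa [inv_inv] at this

theorem commutator_le (M : MinConfW p q P Q) : ⁅Q, P⁆ ≤ Q := by
  rw [Subgroup.commutator_le]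
  intro g hg x hx
  have : ⁅g, x⁆ = g * (x * g⁻¹ * x⁻¹) := by
    rw [commutatorElement_def]; group
  rw [this]
  exact Q.mul_mem hg (M.inv x hx _ (Q.inv_mem hg))

theorem commutator_inv (M : MinConfW p q P Q) :
    ∀ x ∈ P, ∀ r ∈ ⁅Q, P⁆, x * r * x⁻¹ ∈ ⁅Q, P⁆ := by
  intro x hx r hr
  have h1 : (⁅Q, P⁆).map (MulAut.conj x).toMonoidHom ≤ ⁅Q, P⁆ := by
    rw [Subgroup.map_commutator]
    apply Subgroup.commutator_mono
    · rintro _ ⟨g, hg, rfl⟩
      simpa [MulAut.conj_apply] using M.inv x hx g hg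
    · rintro _ ⟨y, hy, rfl⟩
      simpa [MulAut.conj_apply] using P.mul_mem (P.mul_mem hx hy) (P.inv_mem hx)
  apply h1
  exact ⟨r, hr, by simp [MulAut.conj_apply]⟩

/-- `[Q, P] = Q` -/
theorem commutator_eq [Finite G] [Fact p.Prime] [Fact q.Prime] (M : MinConfW p q P Q) :
    ⁅Q, P⁆ = Q := by
  by_contra hne
  have hcent : ⁅Q, P⁆ ≤ Subgroup.centralizer (P : Set G) := by
    intro r hr
    rw [Subgroup.mem_centralizer_iff]
    intro x hx
    exact M.min _ M.commutator_le hne M.commutator_inv r hr x hx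
  have hQ := Cfsg.Agent.Lib.Helper32.le_centralizer_of_stable Q ⁅Q, P⁆ P le_rfl hcent
    M.commutator_le M.coprime
  obtain ⟨g, hg, x, hx, hgx⟩ := M.nc
  exact hgx (Subgroup.mem_centralizer_iff.mp (hQ hg) x hx)


theorem le_normalizer (M : MinConfW p q P Q) : P ≤ Subgroup.normalizer (Q : Set G) := by
  intro x hx
  rw [Subgroup.mem_normalizer_iff]
  intro h
  constructor
  · exact M.inv x hx h
  · intro hh
    have := M.inv' hx hh
    have e : x⁻¹ * (x * h * x⁻¹) * x = h := by group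
    rwa [e] at this

/-- in the abelian case `P` has no fixed points on `Q` -/
theorem fixed_eq_one [Finite G] [Fact p.Prime] [Fact q.Prime] (M : MinConfW p q P Q)
    (hab : ∀ a ∈ Q, ∀ b ∈ Q, a * b = b * a)
    {g : G} (hg : g ∈ Q) (hfix : ∀ y ∈ P, y * g = g * y) : g = 1 := by
  have hcard : Nat.card (P ⊔ Q : Subgroup G) = Nat.card Q * Nat.card P :=
    Cfsg.Agent.Lib.Helper01.card_sup_of_coprime_of_le_normalizer Q P M.le_normalizer M.coprime.symm
  have hrel : Q.relIndex (P ⊔ Q) = Nat.card P := by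
    have h1 : Nat.card Q * Q.relIndex (P ⊔ Q) = Nat.card (P ⊔ Q : Subgroup G) := by
      rw [← relIndex_bot_left, ← relIndex_bot_left]
      exact relIndex_mul_relIndex _ _ _ bot_le le_sup_right
    rw [hcard] at h1
    exact Nat.eq_of_mul_eq_mul_left Nat.card_pos h1
  have hc : IsMulCommutative Q := by
    rw [isMulCommutative_iff]
    intro a b
    exact Subtype.ext (hab a a.2 b b.2)
  have h := Cfsg.Agent.Lib.Helper03.commutator_inf_centralizer_inf_eq_bot_of_abelian_hall Q (P ⊔ Q)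
    le_sup_right hc (by rw [hrel]; exact M.coprime.symm)
  have hmem : g ∈ ⁅(P ⊔ Q : Subgroup G), (P ⊔ Q : Subgroup G)⁆ ⊓
      Subgroup.centralizer ((P ⊔ Q : Subgroup G) : Set G) ⊓ Q := by
    refine Subgroup.mem_inf.mpr ⟨Subgroup.mem_inf.mpr ⟨?_, ?_⟩, hg⟩
    · have h1 : g ∈ ⁅Q, P⁆ := by rw [M.commutator_eq]; exact hg
      exact Subgroup.commutator_mono le_sup_right le_sup_left h1
    · have hle : P ⊔ Q ≤ Subgroup.centralizer ({g} : Set G) := by
        apply sup_le
        · intro y hy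
          rw [Subgroup.mem_centralizer_iff]
          intro t ht
          rw [Set.mem_singleton_iff.mp ht]
          exact (hfix y hy).symm
        · intro b hb
          rw [Subgroup.mem_centralizer_iff]
          intro t ht
          rw [Set.mem_singleton_iff.mp ht]
          exact hab g hg b hb
      rw [Subgroup.mem_centralizer_iff]
      intro m hm
      have := Subgroup.mem_centralizer_iff.mp (hle hm) g (Set.mem_singleton g)
      exact this.symm
  rw [h, Subgroup.mem_bot] at hmem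
  exact hmem



/-- the centre of `Q` is centralized by `P` -/
theorem center_cent (M : MinConfW p q P Q) (hna : ∃ a ∈ Q, ∃ b ∈ Q, a * b ≠ b * a)
    {z : G} (hz : z ∈ Q) (hzc : ∀ h ∈ Q, h * z = z * h) {x : G} (hx : x ∈ P) : x * z = z * x := by
  set R := Q ⊓ Subgroup.centralizer (Q : Set G) with hR
  have hRQ : R ≤ Q := inf_le_left
  have hRne : R ≠ Q := by
    intro h
    obtain ⟨a, ha, b, hb, hab⟩ := hna
    have ha' : a ∈ R := by rw [h]; exact ha
    apply hab
    exact (Subgroup.mem_centralizer_iff.mp (Subgroup.mem_inf.mp ha').2 b hb).symm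
  have hRinv : ∀ y ∈ P, ∀ g ∈ R, y * g * y⁻¹ ∈ R := by
    intro y hy g hg
    obtain ⟨hgQ, hgc⟩ := Subgroup.mem_inf.mp hg
    refine Subgroup.mem_inf.mpr ⟨M.inv y hy g hgQ, ?_⟩
    rw [Subgroup.mem_centralizer_iff]
    intro h hh
    have h1 : y⁻¹ * h * y ∈ Q := M.inv' hy hh
    have h2 := Subgroup.mem_centralizer_iff.mp hgc _ h1
    calc h * (y * g * y⁻¹) = y * ((y⁻¹ * h * y) * g) * y⁻¹ := by group
      _ = y * (g * (y⁻¹ * h * y)) * y⁻¹ := by rw [h2]
      _ = y * g * y⁻¹ * h := by group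
  have hzR : z ∈ R := by
    refine Subgroup.mem_inf.mpr ⟨hz, ?_⟩
    rw [Subgroup.mem_centralizer_iff]
    exact hzc
  exact M.min R hRQ hRne hRinv z hzR x hx

/-- the derived subgroup of `Q` is centralized by `P` -/
theorem derived_cent [Finite G] [Fact p.Prime] [Fact q.Prime] (M : MinConfW p q P Q) :
    ⁅Q, Q⁆ ≤ Subgroup.centralizer (P : Set G) := by
  have hDQ : ⁅Q, Q⁆ ≤ Q := Subgroup.commutator_le_self Q
  have hDne : ⁅Q, Q⁆ ≠ Q := by
    intro h
    haveI : Nontrivial ↥Q := by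
      obtain ⟨g, hg, x, hx, hgx⟩ := M.nc
      refine ⟨⟨⟨g, hg⟩, 1, ?_⟩⟩
      intro h1
      apply hgx
      have : g = 1 := congrArg Subtype.val h1
      rw [this, mul_one, one_mul]
    haveI : Group.IsNilpotent ↥Q := M.hQ.isNilpotent
    have hlt := Group.IsSolvable.commutator_lt_top_of_nontrivial ↥Q
    apply hlt.ne
    apply Subgroup.map_injective Q.subtype_injective
    rw [Subgroup.map_subtype_commutator, h, ← MonoidHom.range_eq_map, Subgroup.range_subtype]
  have hDinv : ∀ y ∈ P, ∀ g ∈ ⁅Q, Q⁆, y * g * y⁻¹ ∈ ⁅Q, Q⁆ := by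
    intro y hy r hr
    have h1 : (⁅Q, Q⁆).map (MulAut.conj y).toMonoidHom ≤ ⁅Q, Q⁆ := by
      rw [Subgroup.map_commutator]
      apply Subgroup.commutator_mono
      · rintro _ ⟨g, hg, rfl⟩
        simpa [MulAut.conj_apply] using M.inv y hy g hg
      · rintro _ ⟨g, hg, rfl⟩
        simpa [MulAut.conj_apply] using M.inv y hy g hg
    apply h1
    exact ⟨r, hr, by simp [MulAut.conj_apply]⟩
  intro d hd
  rw [Subgroup.mem_centralizer_iff]
  intro x hx
  exact M.min _ hDQ hDne hDinv d hd x hx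

/-- commutators of elements of `Q` are central in `Q` -/
theorem derived_central [Finite G] [Fact p.Prime] [Fact q.Prime] (M : MinConfW p q P Q) :
    Q ≤ Subgroup.centralizer ((⁅Q, Q⁆ : Subgroup G) : Set G) := by
  have h0 : ⁅⁅Q, Q⁆, P⁆ = ⊥ := Subgroup.commutator_eq_bot_iff_le_centralizer.mpr M.derived_cent
  have h1 : ⁅⁅P, ⁅Q, Q⁆⁆, Q⁆ = ⊥ := by
    rw [Subgroup.commutator_comm P, h0, Subgroup.commutator_bot_left]
  have h2 : ⁅⁅⁅Q, Q⁆, Q⁆, P⁆ = ⊥ := by
    rw [eq_bot_iff, ← h0]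
    exact Subgroup.commutator_mono
      (Subgroup.commutator_mono (Subgroup.commutator_le_self Q) le_rfl) le_rfl
  have h3 := Subgroup.commutator_commutator_eq_bot_of_rotate h1 h2
  rw [M.commutator_eq] at h3
  exact Subgroup.commutator_eq_bot_iff_le_centralizer.mp h3

/-- fixed points of `P` on `Q` are central in `Q` -/
theorem fixed_central [Finite G] [Fact p.Prime] [Fact q.Prime] (M : MinConfW p q P Q)
    {c : G} (hc : c ∈ Q) (hfix : ∀ x ∈ P, x * c = c * x) {h : G} (hh : h ∈ Q) :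
    h * c = c * h := by
  set C := Q ⊓ Subgroup.centralizer (P : Set G) with hC
  have h0 : ⁅⁅Q, Q⁆, P⁆ = ⊥ := Subgroup.commutator_eq_bot_iff_le_centralizer.mpr M.derived_cent
  have hCP : ⁅C, P⁆ = ⊥ := Subgroup.commutator_eq_bot_iff_le_centralizer.mpr inf_le_right
  have h1 : ⁅⁅P, C⁆, Q⁆ = ⊥ := by
    rw [Subgroup.commutator_comm P, hCP, Subgroup.commutator_bot_left]
  have h2 : ⁅⁅C, Q⁆, P⁆ = ⊥ := by
    rw [eq_bot_iff, ← h0]
    exact Subgroup.commutator_mono (Subgroup.commutator_mono inf_le_left le_rfl) le_rfl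
  have h3 := Subgroup.commutator_commutator_eq_bot_of_rotate h1 h2
  rw [M.commutator_eq] at h3
  have h4 : Q ≤ Subgroup.centralizer (C : Set G) :=
    Subgroup.commutator_eq_bot_iff_le_centralizer.mp h3
  have hcC : c ∈ C := by
    refine Subgroup.mem_inf.mpr ⟨hc, ?_⟩
    rw [Subgroup.mem_centralizer_iff]
    exact hfix
  exact (Subgroup.mem_centralizer_iff.mp (h4 hh) c hcC).symm


end MinConfW

end ITO

end Cfsg.Agent.Lib.Helper79
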