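import Mathlib
import Cfsg.Agent.Lib.Helper79.ItoA

/-!
# The cyclic configuration and the abelian case (helper79, for S4468)

`CycConf p q x Q`: the `p`-element `x` normalizes the `q`-group `Q`, does not centralize it,
centralizes every proper `x`-invariant subgroup of `Q`, and `x ^ p` centralizes `Q`.
-/

set_option autoImplicit false

namespace Cfsg.Agent.Lib.Helper79

namespace ITO

open Subgroup Cfsg TIPS
open scoped Pointwise commutatorElement ComplexConjugate

variable {G : Type*} [Group G] {p q : ℕ} {x : G} {Q : Subgroup G}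

/-- the cyclic configuration -/
structure CycConf (p q : ℕ) (x : G) (Q : Subgroup G) : Prop where
  M : MinConfW p q (Subgroup.zpowers x) Q
  pow : ∀ g ∈ Q, x ^ p * g = g * x ^ p

namespace CycConf

theorem zpow_comm {g : G} (h : x * g = g * x) {y : G} (hy : y ∈ Subgroup.zpowers x) :
    y * g = g * y := by
  obtain ⟨k, rfl⟩ := Subgroup.mem_zpowers_iff.mp hy
  exact (Commute.zpow_left (show Commute x g from h) k).eq

theorem nc_x (C : CycConf p q x Q) : ∃ g ∈ Q, x * g ≠ g * x := by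
  obtain ⟨g, hg, y, hy, hne⟩ := C.M.nc
  exact ⟨g, hg, fun h => hne (zpow_comm h hy)⟩

/-- a power `x ^ k` with `p ∤ k` has the same fixed points on `Q` as `x` -/
theorem comm_of_zpow_comm [hp : Fact p.Prime] (C : CycConf p q x Q) {k : ℤ} (hk : ¬ (p : ℤ) ∣ k)
    {g : G} (hg : g ∈ Q) (h : x ^ k * g = g * x ^ k) : x * g = g * x := by
  have h1 : Nat.Coprime p k.natAbs :=
    (Nat.Prime.coprime_iff_not_dvd hp.out).mpr (fun h => hk (Int.natCast_dvd.mpr h))
  have h2 : IsCoprime (p : ℤ) k := by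
    rw [Int.isCoprime_iff_gcd_eq_one, Int.gcd, Int.natAbs_natCast]
    exact h1
  obtain ⟨a, b, hab⟩ := h2
  have c1 : Commute (x ^ (p : ℤ)) g := by
    rw [zpow_natCast]
    exact C.pow g hg
  have c2 : Commute (x ^ k) g := h
  have hx : x = (x ^ (p : ℤ)) ^ a * (x ^ k) ^ b := by
    rw [← zpow_mul, ← zpow_mul, ← zpow_add, mul_comm (p : ℤ) a, mul_comm k b, hab, zpow_one]
  have c3 : Commute x g := by
    rw [hx]
    exact (c1.zpow_left a).mul_left (c2.zpow_left b)
  exact c3.eq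

theorem inv_x (C : CycConf p q x Q) {g : G} (hg : g ∈ Q) : x * g * x⁻¹ ∈ Q :=
  C.M.inv x (Subgroup.mem_zpowers x) g hg

theorem inv_x' (C : CycConf p q x Q) {g : G} (hg : g ∈ Q) : x⁻¹ * g * x ∈ Q :=
  C.M.inv' (Subgroup.mem_zpowers x) hg

theorem inv_zpow' (C : CycConf p q x Q) (k : ℤ) {g : G} (hg : g ∈ Q) :
    (x ^ k)⁻¹ * g * x ^ k ∈ Q :=
  C.M.inv' (Subgroup.zpow_mem_zpowers x k) hg

theorem inv_zpow (C : CycConf p q x Q) (k : ℤ) {g : G} (hg : g ∈ Q) :
    x ^ k * g * (x ^ k)⁻¹ ∈ Q :=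
  C.M.inv _ (Subgroup.zpow_mem_zpowers x k) g hg

/-- the abelian case: the degree of a character of `G` faithful on `Q` is at least `p` -/
theorem le_degree_of_abelian [Finite G] [Fact p.Prime] [Fact q.Prime]
    (C : CycConf p q x Q) (hab : ∀ a ∈ Q, ∀ b ∈ Q, a * b = b * a) {χ : G → ℂ}
    (hχ : IsCharacter G χ) (hf : ∀ g ∈ Q, χ g = χ 1 → g = 1) : p ≤ charDegree χ := by
  classical
  haveI : Fintype ↥Q := Fintype.ofFinite _
  set θ : ↥Q → ℂ := fun g => χ g with hθdef
  have hθ : IsCharacter ↥Q θ := Cfsg.Agent.Lib.Helper05.isCharacter_restrict Q hχ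
  have hcl := Cfsg.Agent.Lib.Helper04.isClassFunction_of_isCharacter hχ
  obtain ⟨g₀, hg₀, hne₀⟩ := C.nc_x
  have hg₀1 : g₀ ≠ 1 := by
    intro h
    apply hne₀
    rw [h, mul_one, one_mul]
  have hθne : θ ⟨g₀, hg₀⟩ ≠ θ 1 := by
    intro h
    exact hg₀1 (hf g₀ hg₀ h)
  obtain ⟨ψ, hψne, hψg₀⟩ := exists_constituent_ne hθ hθne
  have habQ : ∀ a b : ↥Q, a * b = b * a := fun a b => Subtype.ext (hab a a.2 b b.2)
  have hψc : IsCharacter ↥Q (ψ : ↥Q → ℂ) := Cfsg.Agent.Lib.Helper05.IsIrrCharacter.isCharacter ψ.2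
  have hψ1 : (ψ : ↥Q → ℂ) 1 = 1 := Cfsg.Agent.Lib.Helper85.irr_apply_one_of_comm habQ ψ.2
  have hmul := Cfsg.Agent.Lib.Helper83.char_deg_one_mul hψc hψ1
  have hinvmul := Cfsg.Agent.Lib.Helper83.char_deg_one_inv_mul hψc hψ1
  -- the conjugates of `ψ`
  let pw : Fin p → G := fun i => x ^ ((i : ℕ) : ℤ)
  let cj : ∀ i : Fin p, ↥Q →* ↥Q := fun i => cjHom Q (pw i) (fun g hg => C.inv_zpow' _ hg)
  let F : Fin p → IrrCharacter ↥Q := fun i =>
    ⟨fun g => (ψ : ↥Q → ℂ) (cj i g),
      Cfsg.Agent.Lib.Helper83.isIrrCharacter_of_deg_one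
        (Cfsg.Agent.Lib.Helper05.isCharacter_comp (cj i) hψc) (by simp [hψ1])⟩
  have hFval : ∀ (i : Fin p) (g : ↥Q), (F i : ↥Q → ℂ) g = (ψ : ↥Q → ℂ) (cj i g) := fun _ _ => rfl
  have hne : ∀ i : Fin p, classInner θ (F i : ↥Q → ℂ) ≠ 0 := by
    intro i
    have : classInner θ (F i : ↥Q → ℂ) = classInner θ (ψ : ↥Q → ℂ) := by
      unfold classInner
      congr 1
      let e : ↥Q ≃ ↥Q := cjEquiv Q (pw i) (fun g hg => C.inv_zpow' _ hg)
        (fun g hg => C.inv_zpow _ hg)
      apply Fintype.sum_equiv e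
      intro g
      have h1 : θ (e g) = θ g := by
        change χ ((pw i)⁻¹ * g * pw i) = χ g
        have := hcl (g : G) (pw i)⁻¹
        rwa [inv_inv] at this
      rw [hFval]
      change θ g * conj ((ψ : ↥Q → ℂ) (e g)) = θ (e g) * conj ((ψ : ↥Q → ℂ) (e g))
      rw [h1]
    rw [this]
    exact hψne
  have hFinj : Function.Injective F := by
    intro i j hij
    by_contra hne'
    set k : ℤ := ((j : ℕ) : ℤ) - ((i : ℕ) : ℤ) with hkdef
    set y : G := x ^ k with hydef
    have hyeq : y = (pw i)⁻¹ * pw j := by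
      rw [hydef, hkdef, sub_eq_add_neg, add_comm, zpow_add, zpow_neg]
    have hkp : ¬ (p : ℤ) ∣ k := by
      intro hdvd
      have hi := i.2
      have hj := j.2
      have hk0 : k = 0 := by
        apply Int.eq_zero_of_abs_lt_dvd hdvd
        rw [abs_lt]
        constructor <;> omega
      apply hne'
      apply Fin.ext
      omega
    have hyinv : ∀ g ∈ Q, y⁻¹ * g * y ∈ Q := fun g hg => C.inv_zpow' k hg
    -- `ψ` is fixed by `y`
    have hfixψ : ∀ h : ↥Q, (ψ : ↥Q → ℂ) (cjHom Q y hyinv h) = (ψ : ↥Q → ℂ) h := by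
      intro h
      let g : ↥Q := ⟨pw i * h * (pw i)⁻¹, C.inv_zpow _ h.2⟩
      have h1 : cj i g = h := by
        apply Subtype.ext
        change (pw i)⁻¹ * (pw i * h * (pw i)⁻¹) * pw i = h
        group
      have h2 : cj j g = cjHom Q y hyinv h := by
        apply Subtype.ext
        change (pw j)⁻¹ * (pw i * h * (pw i)⁻¹) * pw j = y⁻¹ * h * y
        rw [hyeq]
        group
      have h3 : (ψ : ↥Q → ℂ) (cj i g) = (ψ : ↥Q → ℂ) (cj j g) :=
        congrFun (congrArg Subtype.val hij) g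
      rw [h1, h2] at h3
      exact h3.symm
    -- the map `h ↦ h⁻¹ * h^y`
    let κ : ↥Q → ↥Q := fun h => h⁻¹ * cjHom Q y hyinv h
    have hκψ : ∀ h : ↥Q, (ψ : ↥Q → ℂ) (κ h) = 1 := by
      intro h
      change (ψ : ↥Q → ℂ) (h⁻¹ * cjHom Q y hyinv h) = 1
      rw [hmul, hfixψ, hinvmul]
    have hκinj : Function.Injective κ := by
      intro h h' hk
      have hk' : (h : G)⁻¹ * (y⁻¹ * h * y) = (h' : G)⁻¹ * (y⁻¹ * h' * y) := by
        have := congrArg (fun t : ↥Q => (t : G)) hk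
        simpa [κ] using this
      set u : G := (h : G) * (h' : G)⁻¹ with hu
      have huQ : u ∈ Q := Q.mul_mem h.2 (Q.inv_mem h'.2)
      have hyu : y * u = u * y := by
        have e1 : y⁻¹ * h * y = h * ((h' : G)⁻¹ * (y⁻¹ * h' * y)) := by
          rw [← hk']; group
        have e2 : y⁻¹ * u * y = u := by
          have : y⁻¹ * u * y = (y⁻¹ * h * y) * (y⁻¹ * h' * y)⁻¹ := by rw [hu]; group
          rw [this, e1, hu]
          group
        calc y * u = y * (y⁻¹ * u * y) := by rw [e2]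
          _ = u * y := by group
      have hxu : x * u = u * x := C.comm_of_zpow_comm hkp huQ hyu
      have hu1 : u = 1 :=
        C.M.fixed_eq_one hab huQ (fun z hz => zpow_comm hxu hz)
      apply Subtype.ext
      have : (h : G) = u * h' := by rw [hu]; group
      rw [this, hu1, one_mul]
    have hκsurj : Function.Surjective κ := Finite.injective_iff_surjective.mp hκinj
    obtain ⟨h, hh⟩ := hκsurj ⟨g₀, hg₀⟩
    apply hψg₀
    rw [← hh, hκψ, hψ1]
  have hmain := card_le_charDegree hθ F hFinj hne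
  have hdeg : charDegree θ = charDegree χ := by
    simp [charDegree, hθdef]
  rw [Fintype.card_fin, hdeg] at hmain
  exact hmain

end CycConf

end ITO

end Cfsg.Agent.Lib.Helper79
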