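import Mathlib
import Cfsg.Agent.Lib.Helper79.ItoB
import Cfsg.Agent.Lib.Helper80.GlaubSub
import Cfsg.Agent.Lib.Helper80.CharMisc

/-!
# The nonabelian case of the cyclic configuration (helper79, for S4468)
-/

set_option autoImplicit false

namespace Cfsg.Agent.Lib.Helper79

namespace ITO

open Subgroup Cfsg TIPS
open scoped Pointwise commutatorElement ComplexConjugate

variable {G : Type*} [Group G] {p q : ℕ} {P Q : Subgroup G}

/-- in the nonabelian case, the restriction to `Q` of a character faithful on `Q` has a fully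
ramified irreducible constituent (the proof is that of `TIPSolvE`) -/
theorem MinConfW.exists_ramified [Finite G] [Fact p.Prime] [Fact q.Prime] [Fintype ↥Q]
    (M : MinConfW p q P Q) (hna : ∃ a ∈ Q, ∃ b ∈ Q, a * b ≠ b * a) {χ : G → ℂ}
    (hχ : IsCharacter G χ) (hf : ∀ g ∈ Q, χ g = χ 1 → g = 1) :
    ∃ ψ : IrrCharacter ↥Q, classInner (fun g : ↥Q => χ g) (ψ : ↥Q → ℂ) ≠ 0 ∧
      charDegree (ψ : ↥Q → ℂ) ^ 2 * Nat.card (Subgroup.center ↥Q) = Nat.card ↥Q := by
  classical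
  set θ : ↥Q → ℂ := fun g => χ g with hθdef
  have hθ : IsCharacter ↥Q θ := Cfsg.Agent.Lib.Helper05.isCharacter_restrict Q hχ
  obtain ⟨a, ha, b, hb, hab⟩ := hna
  have hna' : ∃ a ∈ Q, ∃ b ∈ Q, a * b ≠ b * a := ⟨a, ha, b, hb, hab⟩
  -- commutators are central and fixed by `P`
  have hcomm_mem : ∀ g h : ↥Q, ((⁅g, h⁆ : ↥Q) : G) ∈ ⁅Q, Q⁆ := by
    intro g h
    have : ((⁅g, h⁆ : ↥Q) : G) = ⁅(g : G), (h : G)⁆ := by
      simp [commutatorElement_def]
    rw [this]
    exact Subgroup.commutator_mem_commutator g.2 h.2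
  have hcomm_central : ∀ g h k : ↥Q, k * ⁅g, h⁆ = ⁅g, h⁆ * k := by
    intro g h k
    apply Subtype.ext
    have h1 := Subgroup.mem_centralizer_iff.mp (M.derived_central k.2) _ (hcomm_mem g h)
    simpa using h1.symm
  have hcomm_fix : ∀ g h : ↥Q, ∀ x ∈ P, x * ((⁅g, h⁆ : ↥Q) : G) = ((⁅g, h⁆ : ↥Q) : G) * x := by
    intro g h x hx
    exact (Subgroup.mem_centralizer_iff.mp (M.derived_cent (hcomm_mem g h)) x hx)
  -- the commutator of `a` and `b`
  set a' : ↥Q := ⟨a, ha⟩ with ha'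
  set b' : ↥Q := ⟨b, hb⟩ with hb'
  set c₀ : ↥Q := ⁅a', b'⁆ with hc₀
  have hc₀1 : c₀ ≠ 1 := by
    intro h
    rw [hc₀, commutatorElement_eq_one_iff_mul_comm] at h
    apply hab
    exact congrArg Subtype.val h
  have hθne : θ c₀ ≠ θ 1 := by
    intro h
    apply hc₀1
    apply Subtype.ext
    exact hf c₀ c₀.2 h
  obtain ⟨ψ, hψne, hψc₀⟩ := exists_constituent_ne hθ hθne
  have hψc : IsCharacter ↥Q (ψ : ↥Q → ℂ) := Cfsg.Agent.Lib.Helper05.IsIrrCharacter.isCharacter ψ.2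
  set K := Cfsg.Agent.Lib.Helper83.charKer hψc with hK
  have hKmem : ∀ g : ↥Q, g ∈ K ↔ (ψ : ↥Q → ℂ) g = (ψ : ↥Q → ℂ) 1 :=
    fun g => Cfsg.Agent.Lib.Helper83.mem_charKer hψc g
  set R' : Subgroup ↥Q := (Subgroup.center (↥Q ⧸ K)).comap (QuotientGroup.mk' K) with hR'
  have hmemR : ∀ g : ↥Q, g ∈ R' ↔ ∀ h : ↥Q, ⁅g, h⁆ ∈ K := by
    intro g
    rw [hR', Subgroup.mem_comap, Subgroup.mem_center_iff]
    constructor
    · intro hg h
      have h1 := hg (QuotientGroup.mk' K h)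
      have h2 : ⁅QuotientGroup.mk' K g, QuotientGroup.mk' K h⁆ = 1 := by
        rw [commutatorElement_eq_one_iff_mul_comm]
        exact h1.symm
      rw [← map_commutatorElement] at h2
      exact (QuotientGroup.eq_one_iff _).mp h2
    · intro hg hbar
      obtain ⟨h, rfl⟩ := QuotientGroup.mk'_surjective K hbar
      have h2 : ⁅QuotientGroup.mk' K g, QuotientGroup.mk' K h⁆ = 1 := by
        rw [← map_commutatorElement]
        exact (QuotientGroup.eq_one_iff _).mpr (hg h)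
      rw [commutatorElement_eq_one_iff_mul_comm] at h2
      exact h2.symm
  set R : Subgroup G := R'.map Q.subtype with hR
  have hRQ : R ≤ Q := Subgroup.map_subtype_le _
  have hRne : R ≠ Q := by
    intro h
    have haR : a ∈ R := by rw [h]; exact ha
    obtain ⟨g, hg, hga⟩ := haR
    have : g = a' := Subtype.ext hga
    rw [this] at hg
    have := (hmemR a').mp hg b'
    rw [← hc₀, hKmem] at this
    exact hψc₀ this
  have hRinv : ∀ x ∈ P, ∀ r ∈ R, x * r * x⁻¹ ∈ R := by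
    rintro x hx _ ⟨g, hg, rfl⟩
    refine ⟨⟨x * g * x⁻¹, M.inv x hx g g.2⟩, ?_, rfl⟩
    rw [SetLike.mem_coe, hmemR]
    intro h
    set h' : ↥Q := ⟨x⁻¹ * h * x, M.inv' hx h.2⟩ with hh'
    have hkey : (⁅(⟨x * g * x⁻¹, M.inv x hx g g.2⟩ : ↥Q), h⁆ : ↥Q) = ⁅g, h'⁆ := by
      apply Subtype.ext
      have e1 : ((⁅(⟨x * g * x⁻¹, M.inv x hx g g.2⟩ : ↥Q), h⁆ : ↥Q) : G)
          = x * ((⁅g, h'⁆ : ↥Q) : G) * x⁻¹ := by
        simp only [commutatorElement_def, Subgroup.coe_mul, Subgroup.coe_inv, hh']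
        group
      rw [e1, hcomm_fix g h' x hx]
      group
    rw [hkey]
    exact (hmemR g).mp hg h'
  have hRcent := M.min R hRQ hRne hRinv
  have hRcentral : ∀ g ∈ R', ∀ h : ↥Q, h * g = g * h := by
    intro g hg h
    apply Subtype.ext
    exact M.fixed_central g.2
      (fun x hx => hRcent (g : G) (Subgroup.mem_map_of_mem Q.subtype hg) x hx) h.2
  -- `ψ` vanishes off the centre
  have hcl := Cfsg.Agent.Lib.Helper04.isClassFunction_of_isIrrCharacter ψ.2
  have hvanish : ∀ g : ↥Q, g ∉ Subgroup.center ↥Q → (ψ : ↥Q → ℂ) g = 0 := by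
    intro g hg
    have hgR : g ∉ R' := by
      intro hgR
      apply hg
      rw [Subgroup.mem_center_iff]
      exact hRcentral g hgR
    rw [hmemR] at hgR
    push_neg at hgR
    obtain ⟨h, hh⟩ := hgR
    set c : ↥Q := ⁅g, h⁆ with hc
    have hcinv : c⁻¹ ∉ K := fun h1 => hh (by simpa using K.inv_mem h1)
    have hccen : c⁻¹ ∈ Subgroup.center ↥Q := by
      apply Subgroup.inv_mem
      rw [Subgroup.mem_center_iff]
      intro k
      exact hcomm_central g h k
    have e1 : h * g * h⁻¹ = g * c⁻¹ := by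
      have : h * g * h⁻¹ = c⁻¹ * g := by
        rw [hc, commutatorElement_def]; group
      rw [this]
      exact (Subgroup.mem_center_iff.mp hccen g).symm
    have e2 : (ψ : ↥Q → ℂ) g = (ψ : ↥Q → ℂ) g * (ψ : ↥Q → ℂ) c⁻¹ / (ψ : ↥Q → ℂ) 1 := by
      have h1 := hcl g h
      rw [e1, Cfsg.Agent.Lib.Helper83.irr_mul_central ψ hccen g] at h1
      exact h1.symm
    by_contra hne
    apply hcinv
    rw [hKmem]
    have h10 : (ψ : ↥Q → ℂ) 1 ≠ 0 := Cfsg.Agent.Lib.Helper83.irr_degree_ne_zero ψ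
    field_simp at e2
    exact e2.symm
  have hsq := sq_mul_card_center_of_vanish ψ hvanish
  exact ⟨ψ, hψne, hsq⟩

end ITO

end Cfsg.Agent.Lib.Helper79
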