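import Mathlib
import Cfsg.Agent.Lib.Helper79.ItoC

/-!
# Main theorem for the cyclic configuration (helper79, for S4468)
-/

set_option autoImplicit false

namespace Cfsg.Agent.Lib.Helper79

namespace ITO

open Subgroup Cfsg TIPS
open scoped Pointwise commutatorElement ComplexConjugate

variable {G : Type*} [Group G] {p q : ℕ} {x : G} {Q : Subgroup G}

/-- a constituent of the same degree is the whole character -/
theorem eq_of_constituent_of_degree {H : Type*} [Group H] [Fintype H] {θ : H → ℂ}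
    (hθ : IsCharacter H θ) (ψ : IrrCharacter H) (hne : classInner θ (ψ : H → ℂ) ≠ 0)
    (hdeg : charDegree (ψ : H → ℂ) = charDegree θ) : θ = (ψ : H → ℂ) := by
  have hsub := Cfsg.Agent.Lib.Helper05.isCharacter_sub_of_classInner_ne_zero hθ ψ.2 hne
  obtain ⟨n, hn⟩ := Cfsg.Agent.Lib.Helper05.exists_nat_degree hθ
  obtain ⟨d, -, hd⟩ := Cfsg.Agent.Lib.Helper05.exists_pos_degree ψ.2
  rw [charDegree_of_apply_one hn, charDegree_of_apply_one hd] at hdeg
  have h0 : (θ - (ψ : H → ℂ)) 1 = 0 := by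
    rw [Pi.sub_apply, hn, hd, hdeg, sub_self]
  have := Cfsg.Agent.Lib.Helper80.char_eq_zero_of_degree_zero hsub h0
  exact sub_eq_zero.mp this

namespace CycConf

/-- Itô's theorem in the cyclic configuration -/
theorem main [Finite G] [hp : Fact p.Prime] [hq : Fact q.Prime]
    (C : CycConf p q x Q) {χ : G → ℂ}
    (hχ : IsCharacter G χ) (hf : ∀ g ∈ Q, χ g = χ 1 → g = 1)
    (hdeg : charDegree χ + 1 ≤ p) :
    charDegree χ + 1 = p ∧ (∃ k : ℕ, charDegree χ = 2 ^ k) ∧ IsIrrCharacter G χ := by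
  classical
  by_cases hab : ∀ a ∈ Q, ∀ b ∈ Q, a * b = b * a
  · have := C.le_degree_of_abelian hab hχ hf
    omega
  push_neg at hab
  have hna : ∃ a ∈ Q, ∃ b ∈ Q, a * b ≠ b * a := hab
  haveI : Fintype G := Fintype.ofFinite G
  haveI : Fintype ↥Q := Fintype.ofFinite _
  obtain ⟨ψ, hψne, hsq⟩ := C.M.exists_ramified hna hχ hf
  set θ : ↥Q → ℂ := fun g => χ g with hθdef
  have hθ : IsCharacter ↥Q θ := Cfsg.Agent.Lib.Helper05.isCharacter_restrict Q hχ
  have hdegθ : charDegree θ = charDegree χ := by simp [charDegree, hθdef]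
  set d := charDegree (ψ : ↥Q → ℂ) with hd
  have hdle : d ≤ charDegree χ := by
    have h1 := charDegree_le_of_constituent hθ ψ.2 hψne
    rwa [hdegθ] at h1
  -- the permutation of `Q` induced by `x`
  let σ : Equiv.Perm ↥Q := cjEquiv Q x (fun g hg => C.inv_x' hg) (fun g hg => C.inv_x hg)
  have hσval : ∀ g : ↥Q, ((σ g : ↥Q) : G) = x⁻¹ * g * x := fun g => rfl
  have hσpow : ∀ k : ℕ, ∀ g : ↥Q, (((σ ^ k) g : ↥Q) : G) = (x ^ k)⁻¹ * g * x ^ k := by
    intro k
    induction k with
    | zero => intro g; simp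
    | succ k ih =>
      intro g
      rw [pow_succ', Equiv.Perm.mul_apply, hσval, ih, pow_succ]
      group
  have hσp : σ ^ p ^ 1 = 1 := by
    ext g
    rw [pow_one, hσpow, Equiv.Perm.one_apply]
    have := C.pow g g.2
    calc (x ^ p)⁻¹ * g * x ^ p = (x ^ p)⁻¹ * (g * x ^ p) := by group
      _ = (x ^ p)⁻¹ * (x ^ p * g) := by rw [this]
      _ = g := by group
  have hmod := Equiv.Perm.card_compl_support_modEq hσp
  have hfixset : σ.supportᶜ = Finset.univ.filter (fun g : ↥Q => g ∈ Subgroup.center ↥Q) := by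
    ext g
    simp only [Finset.mem_compl, Equiv.Perm.mem_support, not_not, Finset.mem_filter,
      Finset.mem_univ, true_and]
    constructor
    · intro hg
      have h1 : x⁻¹ * g * x = g := by rw [← hσval, hg]
      have hxg : x * (g : G) = g * x := by
        calc x * (g : G) = x * (x⁻¹ * g * x) := by rw [h1]
          _ = g * x := by group
      rw [Subgroup.mem_center_iff]
      intro h
      apply Subtype.ext
      exact C.M.fixed_central g.2 (fun y hy => zpow_comm hxg hy) h.2
    · intro hg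
      apply Subtype.ext
      rw [hσval]
      have hxg : x * (g : G) = g * x := by
        apply C.M.center_cent hna g.2 _ (Subgroup.mem_zpowers x)
        intro h hh
        have := Subgroup.mem_center_iff.mp hg ⟨h, hh⟩
        exact congrArg Subtype.val this
      calc x⁻¹ * g * x = x⁻¹ * (g * x) := by group
        _ = x⁻¹ * (x * g) := by rw [hxg]
        _ = g := by group
  have hfixcard : σ.supportᶜ.card = Nat.card (Subgroup.center ↥Q) := by
    rw [hfixset, Nat.card_eq_fintype_card, Fintype.card_subtype]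
  rw [hfixcard, ← Nat.card_eq_fintype_card, ← hsq] at hmod
  -- `p` does not divide `|Z(Q)|`
  have hQp : IsPGroup q ↥Q := C.M.hQ
  obtain ⟨b, hb⟩ := IsPGroup.iff_card.mp hQp
  obtain ⟨c, hc⟩ := IsPGroup.iff_card.mp (hQp.to_subgroup (Subgroup.center ↥Q))
  have hpq : Nat.Coprime p q := (Nat.coprime_primes hp.out hq.out).mpr C.M.hpq
  have hcop : Nat.gcd p (Nat.card (Subgroup.center ↥Q)) = 1 := by
    rw [hc]
    exact Nat.Coprime.pow_right c hpq
  have hmod1 : 1 ≡ d ^ 2 [MOD p] := by
    apply Nat.ModEq.cancel_right_of_coprime hcop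
    rw [one_mul]
    exact hmod
  -- `d ≠ 1`
  have hdpos : 0 < d := by
    obtain ⟨n, hnpos, hn⟩ := Cfsg.Agent.Lib.Helper05.exists_pos_degree ψ.2
    rw [hd, charDegree_of_apply_one hn]
    exact hnpos
  have hd1 : d ≠ 1 := by
    intro h1
    rw [h1, one_pow, one_mul] at hsq
    have htop : Subgroup.center ↥Q = ⊤ := Subgroup.eq_top_of_card_eq _ hsq
    obtain ⟨a, ha, b', hb', hne⟩ := hna
    apply hne
    have hmem : (⟨a, ha⟩ : ↥Q) ∈ Subgroup.center ↥Q := by rw [htop]; trivial
    have := Subgroup.mem_center_iff.mp hmem ⟨b', hb'⟩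
    exact (congrArg Subtype.val this).symm
  have hdvd : p ∣ d ^ 2 - 1 := (Nat.modEq_iff_dvd' (Nat.one_le_pow 2 d hdpos)).mp hmod1
  have hfac : d ^ 2 - 1 = (d - 1) * (d + 1) := by
    obtain ⟨e, he⟩ : ∃ e, d = e + 1 := ⟨d - 1, by omega⟩
    rw [he]
    have : (e + 1) ^ 2 = e * (e + 1 + 1) + 1 := by ring
    rw [this]
    simp
  rw [hfac] at hdvd
  have hdp : d + 1 = p := by
    rcases (Nat.Prime.dvd_mul hp.out).mp hdvd with h1 | h1
    · exfalso
      have : p ≤ d - 1 := Nat.le_of_dvd (by omega) h1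
      omega
    · have : p ≤ d + 1 := Nat.le_of_dvd (by omega) h1
      omega
  have hdn : d = charDegree χ := by omega
  -- `d` is a power of `q`
  have hdq : d ∣ q ^ b := by
    rw [← hb, ← hsq, pow_two, mul_assoc]
    exact dvd_mul_right _ _
  obtain ⟨m, -, hm⟩ := (Nat.dvd_prime_pow hq.out).mp hdq
  have hq2 : q = 2 := by
    by_contra hq2
    have hqodd : Odd q := hq.out.odd_of_ne_two hq2
    have hdodd : Odd d := by rw [hm]; exact hqodd.pow
    have hpeven : Even p := by
      rw [← hdp]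
      exact hdodd.add_one
    have hp2 : p = 2 := (Nat.Prime.even_iff hp.out).mp hpeven
    omega
  refine ⟨by omega, ⟨m, by rw [← hdn, hm, hq2]⟩, ?_⟩
  have hθψ : θ = (ψ : ↥Q → ℂ) :=
    eq_of_constituent_of_degree hθ ψ hψne (by rw [hdegθ, ← hdn])
  apply Cfsg.Agent.Lib.Helper80.isIrrCharacter_of_restrict_irr Q hχ
  change IsIrrCharacter ↥Q θ
  rw [hθψ]
  exact ψ.2

end CycConf

end ITO

end Cfsg.Agent.Lib.Helper79
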