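import Mathlib
import Cfsg.Agent.Lib.Helper79.ItoD
import Cfsg.Agent.Lib.Helper81.PSolvable
import Cfsg.Agent.Lib.Helper01.PPrimeCore
import Cfsg.Agent.Lib.Helper01.PCore

/-!
# Itô's theorem for `p`-solvable groups: the reduction (helper79, for S4468)
-/

set_option autoImplicit false

namespace Cfsg.Agent.Lib.Helper79

namespace ITO

open Subgroup Cfsg TIPS
open scoped Pointwise commutatorElement ComplexConjugate

variable {G : Type*} [Group G]

/-- a `p`-subgroup on which a faithful character of degree `< p` is given is abelian -/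
theorem abelian_of_small_degree [Finite G] {p : ℕ} [hp : Fact p.Prime] (P : Subgroup G)
    (hP : IsPGroup p P) {χ : G → ℂ} (hχ : IsCharacter G χ) (hf : ∀ g : G, χ g = χ 1 → g = 1)
    (hdeg : charDegree χ < p) : ∀ a ∈ P, ∀ b ∈ P, a * b = b * a := by
  classical
  intro a ha b hb
  haveI : Fintype ↥P := Fintype.ofFinite _
  set θ : ↥P → ℂ := fun g => χ g with hθdef
  have hθ : IsCharacter ↥P θ := Cfsg.Agent.Lib.Helper05.isCharacter_restrict P hχ
  have hdegθ : charDegree θ = charDegree χ := by simp [charDegree, hθdef]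
  set c : ↥P := ⁅(⟨a, ha⟩ : ↥P), (⟨b, hb⟩ : ↥P)⁆ with hc
  have hθc : θ c = θ 1 := by
    by_contra hne
    obtain ⟨ψ, hψne, hψc⟩ := exists_constituent_ne hθ hne
    have hle := charDegree_le_of_constituent hθ ψ.2 hψne
    rw [hdegθ] at hle
    have hdvd := Cfsg.Agent.Lib.Helper83.irr_charDegree_dvd_card ψ
    obtain ⟨m, hm⟩ := IsPGroup.iff_card.mp hP
    rw [hm] at hdvd
    obtain ⟨j, -, hj⟩ := (Nat.dvd_prime_pow hp.out).mp hdvd
    have hj0 : j = 0 := by
      by_contra hj0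
      have : p ≤ p ^ j := Nat.le_self_pow hj0 p
      omega
    obtain ⟨d, hdpos, hd⟩ := Cfsg.Agent.Lib.Helper05.exists_pos_degree ψ.2
    rw [charDegree_of_apply_one hd, hj0, pow_zero] at hj
    have hψ1 : (ψ : ↥P → ℂ) 1 = 1 := by rw [hd, hj]; simp
    have hψcc : IsCharacter ↥P (ψ : ↥P → ℂ) :=
      Cfsg.Agent.Lib.Helper05.IsIrrCharacter.isCharacter ψ.2
    apply hψc
    rw [hψ1]
    apply Cfsg.Agent.Lib.Helper83.char_deg_one_commutator hψcc hψ1
    rw [hc]
    exact Subgroup.commutator_mem_commutator (Subgroup.mem_top _) (Subgroup.mem_top _)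
  have hc1 : (c : G) = 1 := hf _ hθc
  have hc1' : c = 1 := Subtype.ext hc1
  rw [hc, commutatorElement_eq_one_iff_mul_comm] at hc1'
  exact congrArg Subtype.val hc1'

/-- a normal subgroup `L` with `L/K` a `p`-group is `K (P ∩ L)` -/
theorem le_sup_sylow_inf [Finite G] {p : ℕ} [hp : Fact p.Prime] (P : Sylow p G)
    (K L : Subgroup G) [L.Normal] (hKL : K ≤ L) {m : ℕ} (hm : K.relIndex L = p ^ m) :
    L ≤ K ⊔ ((P : Subgroup G) ⊓ L) := by
  set T := (P : Subgroup G) ⊓ L with hT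
  set X := K ⊔ T with hX
  have hXL : X ≤ L := sup_le hKL inf_le_right
  have h1 : X.relIndex L ∣ p ^ m := by
    rw [← hm, ← relIndex_mul_relIndex K X L le_sup_left hXL]
    exact dvd_mul_left _ _
  have h2 : X.relIndex L ∣ T.relIndex L := by
    rw [← relIndex_mul_relIndex T X L le_sup_right hXL]
    exact dvd_mul_left _ _
  have h3 : ¬ p ∣ X.relIndex L := fun h =>
    Cfsg.Agent.Lib.Helper58.sylow_inf_normal_relIndex P L (h.trans h2)
  have h4 : X.relIndex L = 1 := by
    obtain ⟨j, hj, hjc⟩ := (Nat.dvd_prime_pow hp.out).mp h1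
    rcases Nat.eq_zero_or_pos j with h0 | hpos
    · rw [hjc, h0, pow_zero]
    · exfalso
      apply h3
      rw [hjc]
      exact dvd_pow_self p (Nat.pos_iff_ne_zero.mp hpos)
  exact Subgroup.relIndex_eq_one.mp h4

/-- in a `p`-solvable group, a non-normal abelian Sylow `p`-subgroup does not centralize
`O_{p'}(G)` -/
theorem exists_not_centralized [Finite G] (p : ℕ) [hp : Fact p.Prime]
    (hsolv : IsPSolvable p G) (P : Sylow p G)
    (hab : ∀ a ∈ (P : Subgroup G), ∀ b ∈ (P : Subgroup G), a * b = b * a)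
    (hnn : ¬ (P : Subgroup G).Normal) :
    ∃ k ∈ Cfsg.pPrimeCore p G, ∃ x ∈ (P : Subgroup G), x * k ≠ k * x := by
  by_contra hcon
  push_neg at hcon
  apply hnn
  haveI hKn : (Cfsg.pPrimeCore p G).Normal := Cfsg.Agent.Lib.Helper01.pPrimeCore_normal p
  have hO := Cfsg.Agent.Lib.Helper01.pPrimeCore_quotient_eq_bot (G := G) p
  set K := Cfsg.pPrimeCore p G with hK
  have hsolv' : IsPSolvable p (G ⧸ K) :=
    Cfsg.Agent.Lib.Helper81.IsPSolvable.quotient hp.out hsolv K
  have hHH := Cfsg.Agent.Lib.Helper81.centralizer_pCore_le hsolv' hO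
  set R := Cfsg.pCore p (G ⧸ K) with hR
  haveI hRn : R.Normal := Cfsg.Agent.Lib.Helper01.pCore_normal p
  have hRp : IsPGroup p R := Cfsg.Agent.Lib.Helper01.pCore_isPGroup p
  set π := QuotientGroup.mk' K with hπ
  have hπs : Function.Surjective π := QuotientGroup.mk'_surjective K
  set L := R.comap π with hL
  haveI hLn : L.Normal := hRn.comap π
  have hKL : K ≤ L := by
    intro k hk
    change π k ∈ R
    have : π k = 1 := (QuotientGroup.eq_one_iff k).mpr hk
    rw [this]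
    exact R.one_mem
  obtain ⟨m, hm⟩ := IsPGroup.iff_card.mp hRp
  have hrel : K.relIndex L = p ^ m := by
    have hKker : K = (⊥ : Subgroup (G ⧸ K)).comap π := by
      rw [MonoidHom.comap_bot, hπ, QuotientGroup.ker_mk']
    have h1 : K.relIndex L = (⊥ : Subgroup (G ⧸ K)).relIndex (L.map π) := by
      conv_lhs => rw [hKker]
      exact Subgroup.relIndex_comap _ π L
    rw [h1, hL, Subgroup.map_comap_eq_self_of_surjective hπs, Subgroup.relIndex_bot_left, hm]
  have hLKT := le_sup_sylow_inf P K L hKL hrel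
  have hPL : (P : Subgroup G) ≤ L := by
    intro g hg
    change π g ∈ R
    apply hHH
    rw [Subgroup.mem_centralizer_iff]
    intro r hr
    obtain ⟨l, rfl⟩ := hπs r
    have hlL : l ∈ L := hr
    have hl := hLKT hlL
    have hl' : l ∈ ((K ⊔ ((P : Subgroup G) ⊓ L) : Subgroup G) : Set G) := hl
    rw [Subgroup.normal_mul] at hl'
    obtain ⟨k, hk, t, ht, rfl⟩ := Set.mem_mul.mp hl'
    have hk1 : π k = 1 := (QuotientGroup.eq_one_iff k).mpr hk
    have htP : t ∈ (P : Subgroup G) := (Subgroup.mem_inf.mp ht).1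
    rw [map_mul, hk1, one_mul, ← map_mul, ← map_mul, hab t htP g hg]
  have hT : (P : Subgroup G) ⊓ L = P := inf_eq_left.mpr hPL
  have hfr := Cfsg.Agent.Lib.Helper58.frattini_inf P L
  rw [hT] at hfr hLKT
  rw [← Subgroup.normalizer_eq_top_iff, eq_top_iff, ← hfr]
  apply sup_le le_rfl
  apply hLKT.trans
  apply sup_le
  · intro k hk
    apply Subgroup.centralizer_le_normalizer
    rw [Subgroup.mem_centralizer_iff]
    intro x hx
    exact hcon k hk x hx
  · exact Subgroup.le_normalizer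

/-- a minimal invariant subgroup not centralized gives the weak minimal configuration -/
theorem exists_minConfW [Finite G] {p q : ℕ} (P S : Subgroup G) (hP : IsPGroup p P)
    (hS : IsPGroup q S) (hpq : p ≠ q)
    (hinv : ∀ x ∈ P, ∀ g ∈ S, x * g * x⁻¹ ∈ S) (hnc : ∃ g ∈ S, ∃ x ∈ P, x * g ≠ g * x) :
    ∃ Q : Subgroup G, Q ≤ S ∧ MinConfW p q P Q := by
  obtain ⟨Q, ⟨hQS, hQinv, hQnc⟩, hQmin⟩ := exists_minimal_of_wellFoundedLT
    (fun R : Subgroup G => R ≤ S ∧ (∀ x ∈ P, ∀ g ∈ R, x * g * x⁻¹ ∈ R) ∧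
      ∃ g ∈ R, ∃ x ∈ P, x * g ≠ g * x) ⟨S, le_rfl, hinv, hnc⟩
  refine ⟨Q, hQS, ⟨hP, hS.to_le hQS, hpq, hQinv, hQnc, ?_⟩⟩
  intro R hRQ hRne hRinv g hg x hx
  by_contra hne
  have hle : Q ≤ R := hQmin ⟨hRQ.trans hQS, hRinv, g, hg, x, hx, hne⟩ hRQ
  exact hRne (le_antisymm hRQ hle)

/-- **Itô's theorem** for `p`-solvable groups: a faithful character of degree `≤ p - 1` and a
non-normal Sylow `p`-subgroup force the degree to be `p - 1`, a power of `2`, and the character
to be irreducible. -/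
theorem ito_main [Finite G] (p : ℕ) [hp : Fact p.Prime] (hsolv : IsPSolvable p G)
    {χ : G → ℂ} (hχ : IsCharacter G χ) (hf : ∀ g : G, χ g = χ 1 → g = 1)
    (hdeg : charDegree χ + 1 ≤ p) (P : Sylow p G) (hnn : ¬ (P : Subgroup G).Normal) :
    charDegree χ + 1 = p ∧ (∃ k : ℕ, charDegree χ = 2 ^ k) ∧ IsIrrCharacter G χ := by
  classical
  have hPab := abelian_of_small_degree (P : Subgroup G) P.isPGroup' hχ hf (by omega)
  obtain ⟨k₀, hk₀, x₀, hx₀, hne₀⟩ := exists_not_centralized p hsolv P hPab hnn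
  haveI hKn : (Cfsg.pPrimeCore p G).Normal := Cfsg.Agent.Lib.Helper01.pPrimeCore_normal p
  have hKcop := Cfsg.Agent.Lib.Helper01.pPrimeCore_card_coprime (G := G) p
  set K := Cfsg.pPrimeCore p G with hK
  -- an element of `P` of minimal order not centralizing `K`
  set S : Set G := {y | y ∈ (P : Subgroup G) ∧ ∃ k ∈ K, y * k ≠ k * y} with hS
  obtain ⟨x, hxS, hxmin⟩ := Set.exists_min_image S orderOf (Set.toFinite S)
    ⟨x₀, hx₀, k₀, hk₀, hne₀⟩
  obtain ⟨hxP, k₁, hk₁, hne₁⟩ := hxS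
  have hx1 : x ≠ 1 := by
    intro h
    apply hne₁
    rw [h, one_mul, mul_one]
  have hpow : ∀ k ∈ K, x ^ p * k = k * x ^ p := by
    intro k hk
    by_contra hne
    have hmem : x ^ p ∈ S := ⟨Subgroup.pow_mem _ hxP p, k, hk, hne⟩
    have h1 := hxmin _ hmem
    obtain ⟨j, hj⟩ : ∃ j, orderOf x = p ^ j := by
      obtain ⟨j, hj⟩ := (IsPGroup.iff_orderOf.mp P.isPGroup') ⟨x, hxP⟩
      rw [Subgroup.orderOf_mk] at hj
      exact ⟨j, hj⟩
    have hj0 : j ≠ 0 := by
      rintro rfl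
      rw [pow_zero, orderOf_eq_one_iff] at hj
      exact hx1 hj
    have hdvd : p ∣ orderOf x := by rw [hj]; exact dvd_pow_self p hj0
    have h2 : orderOf (x ^ p) = orderOf x / p := orderOf_pow_of_dvd hp.out.ne_zero hdvd
    have hpos : 0 < orderOf x := by rw [hj]; exact pow_pos hp.out.pos j
    have : orderOf x / p < orderOf x := Nat.div_lt_self hpos hp.out.one_lt
    omega
  -- the invariant `q`-subgroup
  set P₁ := Subgroup.zpowers x with hP₁def
  have hP₁P : P₁ ≤ (P : Subgroup G) := Subgroup.zpowers_le.mpr hxP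
  have hP₁ : IsPGroup p P₁ := P.isPGroup'.to_le hP₁P
  obtain ⟨q, hq, S', hS'K, hS'q, hS'inv, g₁, hg₁, y₁, hy₁, hne'⟩ :=
    TIPS.exists_invariant_qgroup P₁ hP₁ K hKcop ⟨k₁, hk₁, x, Subgroup.mem_zpowers x, hne₁⟩
  haveI : Fact q.Prime := ⟨hq⟩
  have hpq : p ≠ q := by
    intro hpq
    have h1 : Nat.card S' ∣ Nat.card K := Subgroup.card_dvd_of_le hS'K
    obtain ⟨c, hc⟩ := IsPGroup.iff_card.mp hS'q
    have h2 : (Nat.card S').Coprime p := Nat.Coprime.coprime_dvd_left h1 hKcop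
    rw [hc, ← hpq] at h2
    have hc0 : c = 0 := by
      by_contra hc0
      rw [Nat.coprime_pow_left_iff (Nat.pos_of_ne_zero hc0), Nat.coprime_self] at h2
      exact hp.out.one_lt.ne' h2
    rw [hc0, pow_zero] at hc
    have hg1 : g₁ = 1 := by
      have := (Subgroup.card_eq_one.mp hc)
      rw [this] at hg₁
      exact Subgroup.mem_bot.mp hg₁
    apply hne'
    rw [hg1, mul_one, one_mul]
  obtain ⟨Q, hQS', hM⟩ := exists_minConfW P₁ S' hP₁ hS'q hpq hS'inv ⟨g₁, hg₁, y₁, hy₁, hne'⟩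
  have C : CycConf p q x Q := ⟨hM, fun g hg => hpow g (hS'K (hQS' hg))⟩
  exact C.main hχ (fun g _ => hf g) hdeg

end ITO

end Cfsg.Agent.Lib.Helper79
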