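import Mathlib

set_option autoImplicit false
set_option linter.style.haveILetI false
set_option linter.unusedSectionVars false

namespace Cfsg.Agent.Lib.Helper79

open Subgroup
open scoped Pointwise commutatorElement

variable {G : Type*} [Group G]

/-- an element commuting with `x` lies in `zpowers x` -/
theorem mem_zpowers_of_comm {x : G}
    (hC : Subgroup.centralizer ({x} : Set G) = Subgroup.zpowers x) {g : G}
    (h : g * x = x * g) : g ∈ Subgroup.zpowers x := by
  rw [← hC]; exact Subgroup.mem_centralizer_singleton_iff.mpr h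

theorem card_zpowers_eq {p : ℕ} {x : G} (hx : orderOf x = p) :
    Nat.card (Subgroup.zpowers x) = p := by
  rw [Nat.card_zpowers, hx]

/-- a nonidentity element of `zpowers x` (x of prime order) has `x` among its powers -/
theorem mem_zpowers_of_mem_zpowers {p : ℕ} (hp : p.Prime) {x z : G} (hx : orderOf x = p)
    (hz : z ∈ Subgroup.zpowers x) (hz1 : z ≠ 1) : x ∈ Subgroup.zpowers z := by
  haveI : Fact p.Prime := ⟨hp⟩
  have hcard : Nat.card (Subgroup.zpowers x) = p := card_zpowers_eq hx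
  have h1 : (⟨z, hz⟩ : Subgroup.zpowers x) ≠ 1 := by
    intro h; apply hz1; simpa using congrArg Subtype.val h
  have := mem_zpowers_of_prime_card (G := Subgroup.zpowers x) hcard
    (g := ⟨z, hz⟩) (g' := ⟨x, Subgroup.mem_zpowers x⟩) h1
  obtain ⟨k, hk⟩ := Subgroup.mem_zpowers_iff.mp this
  refine Subgroup.mem_zpowers_iff.mpr ⟨k, ?_⟩
  simpa using congrArg Subtype.val hk

/-- if `z` commutes with `g` and `x` is a power of `z` then `x` commutes with `g`. -/
theorem comm_of_mem_zpowers {x z g : G} (hx : x ∈ Subgroup.zpowers z) (h : g * z = z * g) :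
    g * x = x * g := by
  obtain ⟨k, rfl⟩ := Subgroup.mem_zpowers_iff.mp hx
  exact ((Commute.zpow_right (show Commute g z from h) k)).eq

variable [Finite G]

/-- `zpowers x` is a Sylow `p`-subgroup -/
theorem exists_sylow_eq_zpowers {p : ℕ} (hp : p.Prime) {x : G} (hx : orderOf x = p)
    (hC : Subgroup.centralizer ({x} : Set G) = Subgroup.zpowers x) :
    ∃ Q : Sylow p G, (Q : Subgroup G) = Subgroup.zpowers x := by
  haveI : Fact p.Prime := ⟨hp⟩
  have hPp : IsPGroup p (Subgroup.zpowers x) :=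
    IsPGroup.of_card (n := 1) (by rw [card_zpowers_eq hx, pow_one])
  obtain ⟨Q, hQ⟩ := hPp.exists_le_sylow
  refine ⟨Q, le_antisymm ?_ hQ⟩
  have hxQ : x ∈ (Q : Subgroup G) := hQ (Subgroup.mem_zpowers x)
  haveI : Nontrivial (Q : Subgroup G) := by
    refine ⟨⟨⟨x, hxQ⟩, 1, ?_⟩⟩
    intro h
    have hx1 : x = 1 := by simpa using congrArg Subtype.val h
    rw [hx1, orderOf_one] at hx
    exact hp.one_lt.ne hx
  haveI : Nontrivial (Subgroup.center (Q : Subgroup G)) := IsPGroup.center_nontrivial Q.isPGroup'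
  obtain ⟨⟨z, hzc⟩, hz1⟩ := exists_ne (1 : Subgroup.center (Q : Subgroup G))
  have hz1' : (z : G) ≠ 1 := by
    intro h; apply hz1; ext; simpa using h
  have hzx : (z : G) * x = x * (z : G) := by
    have := Subgroup.mem_center_iff.mp hzc ⟨x, hxQ⟩
    have := congrArg Subtype.val this
    simpa using this.symm
  have hzP : (z : G) ∈ Subgroup.zpowers x := mem_zpowers_of_comm hC hzx
  have hxz : x ∈ Subgroup.zpowers (z : G) := mem_zpowers_of_mem_zpowers hp hx hzP hz1'
  intro q hq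
  apply mem_zpowers_of_comm hC
  apply comm_of_mem_zpowers hxz
  have := Subgroup.mem_center_iff.mp hzc ⟨q, hq⟩
  have := congrArg Subtype.val this
  simpa using this


/-- every element of order `p` is conjugate into `zpowers x` -/
theorem exists_conj_mem_zpowers {p : ℕ} (hp : p.Prime) {x : G} (hx : orderOf x = p)
    (hC : Subgroup.centralizer ({x} : Set G) = Subgroup.zpowers x) {y : G} (hy : orderOf y = p) :
    ∃ g : G, g * y * g⁻¹ ∈ Subgroup.zpowers x := by
  haveI : Fact p.Prime := ⟨hp⟩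
  obtain ⟨Q, hQ⟩ := exists_sylow_eq_zpowers hp hx hC
  have hPp : IsPGroup p (Subgroup.zpowers y) :=
    IsPGroup.of_card (n := 1) (by rw [card_zpowers_eq hy, pow_one])
  obtain ⟨Q', hQ'⟩ := hPp.exists_le_sylow
  obtain ⟨g, hg⟩ := MulAction.exists_smul_eq G Q' Q
  refine ⟨g, ?_⟩
  rw [← hQ, ← hg]
  rw [Sylow.smul_def]
  change g * y * g⁻¹ ∈ (MulAut.conj g • (Q' : Subgroup G))
  rw [Subgroup.mem_pointwise_smul_iff_inv_smul_mem]
  have : (MulAut.conj g)⁻¹ • (g * y * g⁻¹) = y := by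
    simp [MulAut.smul_def, mul_assoc]
  rw [this]
  exact hQ' (Subgroup.mem_zpowers y)


/-- a nonidentity element of `zpowers x` is self-centralizing too -/
theorem centralizer_eq_of_mem_zpowers {p : ℕ} (hp : p.Prime) {x z : G} (hx : orderOf x = p)
    (hC : Subgroup.centralizer ({x} : Set G) = Subgroup.zpowers x)
    (hz : z ∈ Subgroup.zpowers x) (hz1 : z ≠ 1) :
    Subgroup.centralizer ({z} : Set G) = Subgroup.zpowers x := by
  apply le_antisymm
  · intro g hg
    rw [Subgroup.mem_centralizer_singleton_iff] at hg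
    exact mem_zpowers_of_comm hC (comm_of_mem_zpowers (mem_zpowers_of_mem_zpowers hp hx hz hz1) hg)
  · intro g hg
    rw [Subgroup.mem_centralizer_singleton_iff]
    obtain ⟨k, rfl⟩ := Subgroup.mem_zpowers_iff.mp hg
    obtain ⟨l, rfl⟩ := Subgroup.mem_zpowers_iff.mp hz
    rw [← zpow_add, ← zpow_add, add_comm]

/-- if `x ∉ S` for a subgroup `S` with `zpowers x ⊓ S` nontrivial, contradiction: -/
theorem zpowers_inf_eq_bot {p : ℕ} (hp : p.Prime) {x : G} (hx : orderOf x = p)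
    (S : Subgroup G) (hxS : x ∉ S) : Subgroup.zpowers x ⊓ S = ⊥ := by
  rw [Subgroup.eq_bot_iff_forall]
  intro z hz
  by_contra hz1
  exact hxS ((Subgroup.zpowers_le.mpr hz.2) (mem_zpowers_of_mem_zpowers hp hx hz.1 hz1))

theorem not_mem_of_not_dvd_card {p : ℕ} {x : G} (hx : orderOf x = p)
    (S : Subgroup G) (hS : ¬ p ∣ Nat.card S) : x ∉ S := by
  intro hxS
  apply hS
  have := Subgroup.orderOf_dvd_natCard S hxS
  rwa [hx] at this

/-- a normal subgroup of order divisible by `p` contains `x` -/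
theorem mem_of_dvd_card {p : ℕ} (hp : p.Prime) {x : G} (hx : orderOf x = p)
    (hC : Subgroup.centralizer ({x} : Set G) = Subgroup.zpowers x)
    (S : Subgroup G) [S.Normal] (hS : p ∣ Nat.card S) : x ∈ S := by
  haveI : Fact p.Prime := ⟨hp⟩
  obtain ⟨⟨y, hyS⟩, hy⟩ := exists_prime_orderOf_dvd_card' (G := S) p hS
  have hy' : orderOf y = p := by
    rw [← hy]; exact (Subgroup.orderOf_mk y hyS).symm
  obtain ⟨g, hg⟩ := exists_conj_mem_zpowers hp hx hC hy'
  have hgS : g * y * g⁻¹ ∈ S := ‹S.Normal›.conj_mem y hyS g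
  have h1 : g * y * g⁻¹ ≠ 1 := by
    intro h
    have : y = 1 := by
      have := congrArg (fun t => g⁻¹ * t * g) h
      simpa [mul_assoc] using this
    rw [this, orderOf_one] at hy'
    exact hp.one_lt.ne hy'
  exact (Subgroup.zpowers_le.mpr hgS) (mem_zpowers_of_mem_zpowers hp hx hg h1)


/-- elements of the normalizer of `zpowers x` have commutators centralizing `x` -/
theorem commutator_comm_of_mem_normalizer {x : G} {a b : G}
    (ha : a ∈ Subgroup.normalizer (Subgroup.zpowers x : Set G))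
    (hb : b ∈ Subgroup.normalizer (Subgroup.zpowers x : Set G)) :
    ⁅a, b⁆ * x = x * ⁅a, b⁆ := by
  -- conjugation by a⁻¹ and b⁻¹ act as powers
  have key : ∀ c ∈ Subgroup.normalizer (Subgroup.zpowers x : Set G),
      ∃ k : ℤ, c * x * c⁻¹ = x ^ k := by
    intro c hc
    have := (Subgroup.mem_normalizer_iff.mp hc x).mp (Subgroup.mem_zpowers x)
    obtain ⟨k, hk⟩ := Subgroup.mem_zpowers_iff.mp this
    exact ⟨k, hk.symm⟩
  obtain ⟨k, hk⟩ := key a⁻¹ (Subgroup.inv_mem _ ha)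
  obtain ⟨l, hl⟩ := key b⁻¹ (Subgroup.inv_mem _ hb)
  rw [inv_inv] at hk hl
  have h1 : (b⁻¹ * a⁻¹) * x * (b⁻¹ * a⁻¹)⁻¹ = x ^ (k * l) := by
    have : (b⁻¹ * a⁻¹) * x * (b⁻¹ * a⁻¹)⁻¹ = b⁻¹ * (a⁻¹ * x * a) * b := by
      simp [mul_assoc]
    rw [this, hk]
    have : b⁻¹ * x ^ k * b = (b⁻¹ * x * b) ^ k := by
      have := (MulAut.conj b⁻¹).toMonoidHom.map_zpow x k
      simpa [MulAut.conj_apply] using this
    rw [this, hl, ← zpow_mul, mul_comm]
  have h2 : (a⁻¹ * b⁻¹) * x * (a⁻¹ * b⁻¹)⁻¹ = x ^ (k * l) := by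
    have : (a⁻¹ * b⁻¹) * x * (a⁻¹ * b⁻¹)⁻¹ = a⁻¹ * (b⁻¹ * x * b) * a := by
      simp [mul_assoc]
    rw [this, hl]
    have : a⁻¹ * x ^ l * a = (a⁻¹ * x * a) ^ l := by
      have := (MulAut.conj a⁻¹).toMonoidHom.map_zpow x l
      simpa [MulAut.conj_apply] using this
    rw [this, hk, ← zpow_mul]
  have h3 := h1.trans h2.symm
  -- (b⁻¹a⁻¹) x (b⁻¹a⁻¹)⁻¹ = (a⁻¹b⁻¹) x (a⁻¹b⁻¹)⁻¹  ⟹ ⁅a,b⁆ = a b a⁻¹ b⁻¹ = (b⁻¹a⁻¹)⁻¹... 
  rw [commutatorElement_def]
  have h4 : x = (b⁻¹ * a⁻¹)⁻¹ * ((a⁻¹ * b⁻¹) * x * (a⁻¹ * b⁻¹)⁻¹) * (b⁻¹ * a⁻¹) := by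
    rw [← h3]; simp [mul_assoc]
  have h5 : a * b * a⁻¹ * b⁻¹ = (b⁻¹ * a⁻¹)⁻¹ * (a⁻¹ * b⁻¹) := by simp [mul_assoc]
  rw [h5]
  calc (b⁻¹ * a⁻¹)⁻¹ * (a⁻¹ * b⁻¹) * x
      = ((b⁻¹ * a⁻¹)⁻¹ * ((a⁻¹ * b⁻¹) * x * (a⁻¹ * b⁻¹)⁻¹) * (b⁻¹ * a⁻¹)) *
          ((b⁻¹ * a⁻¹)⁻¹ * (a⁻¹ * b⁻¹)) := by simp [mul_assoc]
    _ = x * ((b⁻¹ * a⁻¹)⁻¹ * (a⁻¹ * b⁻¹)) := by rw [← h4]


/-- a normal subgroup containing `x` contains the commutator subgroup -/
theorem commutator_le_of_mem {p : ℕ} (hp : p.Prime) {x : G} (hx : orderOf x = p)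
    (hC : Subgroup.centralizer ({x} : Set G) = Subgroup.zpowers x)
    (S : Subgroup G) [S.Normal] (hxS : x ∈ S) : commutator G ≤ S := by
  haveI : Fact p.Prime := ⟨hp⟩
  obtain ⟨Q, hQ⟩ := exists_sylow_eq_zpowers hp hx hC
  have hQS : (Q : Subgroup G) ≤ S := by rw [hQ]; exact Subgroup.zpowers_le.mpr hxS
  have hfr := Sylow.normalizer_sup_eq_top' Q hQS
  rw [← Sylow.coe_coe, hQ] at hfr
  rw [commutator_def, Subgroup.commutator_le]
  intro a _ b _
  have ha : a ∈ Subgroup.normalizer (Subgroup.zpowers x : Set G) ⊔ S := by rw [hfr]; trivial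
  have hb : b ∈ Subgroup.normalizer (Subgroup.zpowers x : Set G) ⊔ S := by rw [hfr]; trivial
  obtain ⟨n₁, hn₁, s₁, hs₁, rfl⟩ := Subgroup.mem_sup_of_normal_right.mp ha
  obtain ⟨n₂, hn₂, s₂, hs₂, rfl⟩ := Subgroup.mem_sup_of_normal_right.mp hb
  have hc : ⁅n₁, n₂⁆ ∈ S := by
    have := mem_zpowers_of_comm hC (commutator_comm_of_mem_normalizer hn₁ hn₂)
    exact (Subgroup.zpowers_le.mpr hxS) this
  rw [← QuotientGroup.eq_one_iff] at hc ⊢
  rw [← hc]
  have e1 : ((n₁ * s₁ : G) : G ⧸ S) = (n₁ : G ⧸ S) := by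
    rw [QuotientGroup.mk_mul, (QuotientGroup.eq_one_iff s₁).mpr hs₁, mul_one]
  have e2 : ((n₂ * s₂ : G) : G ⧸ S) = (n₂ : G ⧸ S) := by
    rw [QuotientGroup.mk_mul, (QuotientGroup.eq_one_iff s₂).mpr hs₂, mul_one]
  simp only [commutatorElement_def, QuotientGroup.mk_mul, QuotientGroup.mk_inv] at e1 e2 ⊢
  rw [e1, e2]

theorem commutator_le_of_dvd_card {p : ℕ} (hp : p.Prime) {x : G} (hx : orderOf x = p)
    (hC : Subgroup.centralizer ({x} : Set G) = Subgroup.zpowers x)
    (S : Subgroup G) [S.Normal] (hS : p ∣ Nat.card S) : commutator G ≤ S :=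
  commutator_le_of_mem hp hx hC S (mem_of_dvd_card hp hx hC S hS)


/-- the map `s ↦ s⁻¹ x s x⁻¹` on a normal subgroup `S` with `x ∉ S`. -/
theorem exists_conj_eq_mul {p : ℕ} (hp : p.Prime) {x : G} (hx : orderOf x = p)
    (hC : Subgroup.centralizer ({x} : Set G) = Subgroup.zpowers x)
    (S : Subgroup G) [hS : S.Normal] (hxS : x ∉ S) {u : G} (hu : u ∈ S) :
    ∃ s ∈ S, s⁻¹ * x * s * x⁻¹ = u := by
  have hbot := zpowers_inf_eq_bot hp hx S hxS
  let φ : S → S := fun s => ⟨(s : G)⁻¹ * x * s * x⁻¹, by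
    have h1 : x * (s : G) * x⁻¹ ∈ S := hS.conj_mem s s.2 x
    have h2 : (s : G)⁻¹ * (x * (s : G) * x⁻¹) ∈ S := S.mul_mem (S.inv_mem s.2) h1
    simpa [mul_assoc] using h2⟩
  have hinj : Function.Injective φ := by
    intro s r h
    have h' : (s : G)⁻¹ * x * s * x⁻¹ = (r : G)⁻¹ * x * r * x⁻¹ := congrArg Subtype.val h
    have h'' : (s : G)⁻¹ * x * s = (r : G)⁻¹ * x * r := mul_right_cancel h'
    have hcomm : ((r : G) * (s : G)⁻¹) * x = x * ((r : G) * (s : G)⁻¹) := by
      have e1 : x * (s : G) = (s : G) * ((r : G)⁻¹ * x * r) := by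
        rw [← h'']; simp [mul_assoc]
      have e2 : x * ((r : G) * (s : G)⁻¹) = (r : G) * ((r : G)⁻¹ * x * r) * (s : G)⁻¹ := by
        simp [mul_assoc]
      rw [e2]
      have e3 : ((r : G)⁻¹ * x * r) = (s : G)⁻¹ * (x * s) := by rw [e1]; simp [mul_assoc]
      rw [e3]; simp [mul_assoc]
    have hmem : (r : G) * (s : G)⁻¹ ∈ Subgroup.zpowers x ⊓ S :=
      ⟨mem_zpowers_of_comm hC hcomm, S.mul_mem r.2 (S.inv_mem s.2)⟩
    rw [hbot, Subgroup.mem_bot] at hmem
    ext
    exact (mul_inv_eq_one.mp hmem).symm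
  have hsurj : Function.Surjective φ := Finite.injective_iff_surjective.mp hinj
  obtain ⟨s, hs⟩ := hsurj ⟨u, hu⟩
  exact ⟨s, s.2, congrArg Subtype.val hs⟩

/-- in the quotient by a normal subgroup not containing `x`, the image of `x` is still
self-centralizing -/
theorem centralizer_mk_eq {p : ℕ} (hp : p.Prime) {x : G} (hx : orderOf x = p)
    (hC : Subgroup.centralizer ({x} : Set G) = Subgroup.zpowers x)
    (S : Subgroup G) [hS : S.Normal] (hxS : x ∉ S) :
    Subgroup.centralizer ({(QuotientGroup.mk x : G ⧸ S)} : Set (G ⧸ S)) =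
      Subgroup.zpowers (QuotientGroup.mk x : G ⧸ S) := by
  apply le_antisymm
  · intro q hq
    obtain ⟨g, rfl⟩ := QuotientGroup.mk_surjective q
    rw [Subgroup.mem_centralizer_singleton_iff] at hq
    have hu : g * x * g⁻¹ * x⁻¹ ∈ S := by
      rw [← QuotientGroup.eq_one_iff]
      simp only [QuotientGroup.mk_mul, QuotientGroup.mk_inv]
      rw [hq]; simp
    obtain ⟨s, hsS, hs⟩ := exists_conj_eq_mul hp hx hC S hxS hu
    have hcomm : (s * g) * x = x * (s * g) := by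
      have h1 : s⁻¹ * x * s = g * x * g⁻¹ := mul_right_cancel hs
      have h2 : x * s = s * (g * x * g⁻¹) := by rw [← h1]; simp [mul_assoc]
      calc (s * g) * x = s * (g * x * g⁻¹) * g := by simp [mul_assoc]
        _ = x * s * g := by rw [← h2]
        _ = x * (s * g) := by simp [mul_assoc]
    obtain ⟨k, hk⟩ := Subgroup.mem_zpowers_iff.mp (mem_zpowers_of_comm hC hcomm)
    refine Subgroup.mem_zpowers_iff.mpr ⟨k, ?_⟩
    have : (g : G ⧸ S) = ((s * g : G) : G ⧸ S) := by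
      rw [QuotientGroup.mk_mul, (QuotientGroup.eq_one_iff s).mpr hsS, one_mul]
    rw [this, ← hk]; simp
  · rw [Subgroup.zpowers_le, Subgroup.mem_centralizer_singleton_iff]

theorem orderOf_mk_eq {p : ℕ} (hp : p.Prime) {x : G} (hx : orderOf x = p)
    (S : Subgroup G) [hS : S.Normal] (hxS : x ∉ S) :
    orderOf (QuotientGroup.mk x : G ⧸ S) = p := by
  haveI : Fact p.Prime := ⟨hp⟩
  apply orderOf_eq_prime
  · rw [← QuotientGroup.mk_pow, ← hx, pow_orderOf_eq_one]; rfl
  · intro h; exact hxS ((QuotientGroup.eq_one_iff x).mp h)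


/-- general: a normal subgroup meeting `N` trivially has order dividing the index of `N`. -/
theorem card_dvd_index_of_inf_eq_bot (S N : Subgroup G) [hS : S.Normal] (h : S ⊓ N = ⊥) :
    Nat.card S ∣ N.index := by
  have h1 : S.relIndex (N ⊔ S) = Nat.card N := by
    rw [Subgroup.relIndex_sup_right, ← Subgroup.inf_relIndex_right, h, Subgroup.relIndex_bot_left]
  have h2 : S.relIndex (N ⊔ S) * (N ⊔ S).index = S.index :=
    Subgroup.relIndex_mul_index le_sup_right
  have h3 : N.relIndex (N ⊔ S) * (N ⊔ S).index = N.index :=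
    Subgroup.relIndex_mul_index le_sup_left
  have h4 : Nat.card S * S.index = Nat.card G := S.card_mul_index
  have h5 : Nat.card N * N.index = Nat.card G := N.card_mul_index
  rw [h1] at h2
  have h6 : Nat.card N * (Nat.card S * (N ⊔ S).index) = Nat.card N * N.index := by
    rw [h5, ← h4, ← h2]; ring
  have hpos : 0 < Nat.card N := Nat.card_pos
  have h7 := Nat.eq_of_mul_eq_mul_left hpos h6
  exact ⟨_, h7.symm⟩

/-- `S ⊓ N_G(⟨x⟩) = ⊥` for `S` normal not containing `x`. -/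
theorem inf_normalizer_eq_bot {p : ℕ} (hp : p.Prime) {x : G} (hx : orderOf x = p)
    (hC : Subgroup.centralizer ({x} : Set G) = Subgroup.zpowers x)
    (S : Subgroup G) [hS : S.Normal] (hxS : x ∉ S) :
    S ⊓ Subgroup.normalizer (Subgroup.zpowers x : Set G) = ⊥ := by
  have hbot := zpowers_inf_eq_bot hp hx S hxS
  rw [Subgroup.eq_bot_iff_forall]
  rintro s ⟨hsS, hsN⟩
  have h1 : s * x * s⁻¹ ∈ Subgroup.zpowers x :=
    (Subgroup.mem_normalizer_iff.mp hsN x).mp (Subgroup.mem_zpowers x)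
  have h2 : s * x * s⁻¹ * x⁻¹ ∈ Subgroup.zpowers x :=
    Subgroup.mul_mem _ h1 (Subgroup.inv_mem _ (Subgroup.mem_zpowers x))
  have h3 : s * x * s⁻¹ * x⁻¹ ∈ S := by
    have : x * s⁻¹ * x⁻¹ ∈ S := hS.conj_mem _ (S.inv_mem hsS) x
    have := S.mul_mem hsS this
    simpa [mul_assoc] using this
  have h4 : s * x * s⁻¹ * x⁻¹ ∈ Subgroup.zpowers x ⊓ S := ⟨h2, h3⟩
  rw [hbot, Subgroup.mem_bot] at h4
  have hcomm : s * x = x * s := by
    have := mul_inv_eq_one.mp h4
    have := mul_inv_eq_iff_eq_mul.mp this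
    exact this
  have h5 : s ∈ Subgroup.zpowers x ⊓ S := ⟨mem_zpowers_of_comm hC hcomm, hsS⟩
  rwa [hbot, Subgroup.mem_bot] at h5

/-- the number of subgroups of order `p` is the number of Sylow `p`-subgroups. -/
theorem card_subgroups_eq_card_sylow {p : ℕ} (hp : p.Prime) {x : G} (hx : orderOf x = p)
    (hC : Subgroup.centralizer ({x} : Set G) = Subgroup.zpowers x) :
    Nat.card {H : Subgroup G // Nat.card H = p} = Nat.card (Sylow p G) := by
  haveI : Fact p.Prime := ⟨hp⟩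
  obtain ⟨Q₀, hQ₀⟩ := exists_sylow_eq_zpowers hp hx hC
  have hcard : ∀ Q : Sylow p G, Nat.card (Q : Subgroup G) = p := by
    intro Q
    have h1 := Q.card_eq_multiplicity
    have h2 := Q₀.card_eq_multiplicity
    have h3 : Nat.card (Q₀ : Subgroup G) = p := by rw [hQ₀]; exact card_zpowers_eq hx
    exact h1.trans (h2.symm.trans h3)
  symm
  apply Nat.card_eq_of_bijective (fun Q : Sylow p G => (⟨(Q : Subgroup G), hcard Q⟩ :
    {H : Subgroup G // Nat.card H = p}))
  constructor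
  · intro Q Q' h
    exact Sylow.ext (congrArg Subtype.val h)
  · rintro ⟨H, hH⟩
    have hHp : IsPGroup p H := IsPGroup.of_card (n := 1) (by rw [hH, pow_one])
    obtain ⟨Q, hQ⟩ := hHp.exists_le_sylow
    refine ⟨Q, ?_⟩
    apply Subtype.ext
    symm
    exact Subgroup.eq_of_le_of_card_ge hQ (by rw [hcard Q, hH])

theorem card_dvd_card_subgroups {p : ℕ} (hp : p.Prime) {x : G} (hx : orderOf x = p)
    (hC : Subgroup.centralizer ({x} : Set G) = Subgroup.zpowers x)
    (S : Subgroup G) [hS : S.Normal] (hxS : x ∉ S) :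
    Nat.card S ∣ Nat.card {H : Subgroup G // Nat.card H = p} := by
  haveI : Fact p.Prime := ⟨hp⟩
  obtain ⟨Q₀, hQ₀⟩ := exists_sylow_eq_zpowers hp hx hC
  rw [card_subgroups_eq_card_sylow hp hx hC, Sylow.card_eq_index_normalizer Q₀,
    ← Sylow.coe_coe, hQ₀]
  exact card_dvd_index_of_inf_eq_bot S _ (inf_normalizer_eq_bot hp hx hC S hxS)


/-- conjugation action of a subgroup `H` on a normal subgroup `S`. -/
@[reducible] def conjActOn (H S : Subgroup G) [hS : S.Normal] : MulAction H S where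
  smul h s := ⟨(h : G) * s * (h : G)⁻¹, hS.conj_mem s s.2 h⟩
  one_smul s := by
    apply Subtype.ext
    change ((1 : H) : G) * s * ((1 : H) : G)⁻¹ = s
    simp
  mul_smul a b s := by
    apply Subtype.ext
    change ((a * b : H) : G) * s * ((a * b : H) : G)⁻¹ = (a : G) * ((b : G) * s * (b : G)⁻¹) * (a : G)⁻¹
    simp [mul_assoc]

theorem card_mod_eq_one {p : ℕ} (hp : p.Prime) {x : G} (hx : orderOf x = p)
    (hC : Subgroup.centralizer ({x} : Set G) = Subgroup.zpowers x)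
    (S : Subgroup G) [hS : S.Normal] (hxS : x ∉ S) :
    Nat.card S % p = 1 := by
  haveI : Fact p.Prime := ⟨hp⟩
  have hbot := zpowers_inf_eq_bot hp hx S hxS
  letI : MulAction (Subgroup.zpowers x) S := conjActOn (Subgroup.zpowers x) S
  have hPp : IsPGroup p (Subgroup.zpowers x) :=
    IsPGroup.of_card (n := 1) (by rw [card_zpowers_eq hx, pow_one])
  have h := hPp.card_modEq_card_fixedPoints S
  have hfix : MulAction.fixedPoints (Subgroup.zpowers x) S = {1} := by
    ext s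
    simp only [MulAction.mem_fixedPoints, Set.mem_singleton_iff]
    constructor
    · intro hs
      have h1 := hs ⟨x, Subgroup.mem_zpowers x⟩
      have h2 : x * (s : G) * x⁻¹ = s := congrArg Subtype.val h1
      have hcomm : (s : G) * x = x * s := by
        have := mul_inv_eq_iff_eq_mul.mp h2
        exact this.symm
      have h5 : (s : G) ∈ Subgroup.zpowers x ⊓ S := ⟨mem_zpowers_of_comm hC hcomm, s.2⟩
      rw [hbot, Subgroup.mem_bot] at h5
      ext; exact h5
    · rintro rfl h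
      apply Subtype.ext
      change (h : G) * ((1 : S) : G) * (h : G)⁻¹ = ((1 : S) : G)
      simp
  rw [hfix] at h
  have h1 : Nat.card ({1} : Set S) = 1 := by simp
  rw [h1] at h
  have := h
  unfold Nat.ModEq at this
  rw [this, Nat.mod_eq_of_lt hp.one_lt]

end Cfsg.Agent.Lib.Helper79
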