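import Mathlib
import Cfsg.Agent.Lib.Helper79.SelfCent

set_option autoImplicit false
set_option linter.style.haveILetI false
set_option linter.unusedSectionVars false

namespace Cfsg.Agent.Lib.Helper79

open Subgroup
open scoped Pointwise commutatorElement

variable {G : Type*} [Group G]

/-- conjugation action of a subgroup `H` on `G`. -/
@[reducible] def conjActG (H : Subgroup G) : MulAction H G where
  smul h g := (h : G) * g * (h : G)⁻¹
  one_smul g := by
    change ((1 : H) : G) * g * ((1 : H) : G)⁻¹ = g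
    simp
  mul_smul a b g := by
    change ((a * b : H) : G) * g * ((a * b : H) : G)⁻¹ = (a : G) * ((b : G) * g * (b : G)⁻¹) * (a : G)⁻¹
    simp [mul_assoc]

theorem orderOf_eq_of_mem_zpowers {p : ℕ} (hp : p.Prime) {x y : G} (hx : orderOf x = p)
    (hy : y ∈ Subgroup.zpowers x) (hy1 : y ≠ 1) : orderOf y = p := by
  have h1 : orderOf y ∣ p := by
    have := Subgroup.orderOf_dvd_natCard _ hy
    rwa [card_zpowers_eq hx] at this
  rcases (Nat.dvd_prime hp).mp h1 with h | h
  · exact absurd (orderOf_eq_one_iff.mp h) hy1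
  · exact h

theorem zpowers_eq_of_mem_zpowers {p : ℕ} (hp : p.Prime) {x y : G} (hx : orderOf x = p)
    (hy : y ∈ Subgroup.zpowers x) (hy1 : y ≠ 1) : Subgroup.zpowers y = Subgroup.zpowers x :=
  le_antisymm (Subgroup.zpowers_le.mpr hy)
    (Subgroup.zpowers_le.mpr (mem_zpowers_of_mem_zpowers hp hx hy hy1))

/-- conjugating a nonidentity element of `⟨x⟩` into `⟨x⟩` forces the conjugator to normalize. -/
theorem mem_normalizer_of_conj_mem {p : ℕ} (hp : p.Prime) {x y g : G} (hx : orderOf x = p)
    (hy : y ∈ Subgroup.zpowers x) (hy1 : y ≠ 1) (hg : g * y * g⁻¹ ∈ Subgroup.zpowers x) :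
    g ∈ Subgroup.normalizer (Subgroup.zpowers x : Set G) := by
  have hgy1 : g * y * g⁻¹ ≠ 1 := by
    intro h
    apply hy1
    have := congrArg (fun t => g⁻¹ * t * g) h
    simpa [mul_assoc] using this
  have hxy : x ∈ Subgroup.zpowers y := mem_zpowers_of_mem_zpowers hp hx hy hy1
  have hxgy : x ∈ Subgroup.zpowers (g * y * g⁻¹) := mem_zpowers_of_mem_zpowers hp hx hg hgy1
  -- g x g⁻¹ ∈ zpowers x and g⁻¹ x g ∈ zpowers x
  have h1 : g * x * g⁻¹ ∈ Subgroup.zpowers x := by
    obtain ⟨k, hk⟩ := Subgroup.mem_zpowers_iff.mp hxy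
    have : g * x * g⁻¹ = (g * y * g⁻¹) ^ k := by rw [conj_zpow, hk]
    rw [this]
    exact Subgroup.zpow_mem _ hg k
  have h2 : g⁻¹ * x * g ∈ Subgroup.zpowers x := by
    obtain ⟨k, hk⟩ := Subgroup.mem_zpowers_iff.mp hxgy
    have : g⁻¹ * x * g = y ^ k := by
      rw [← hk, conj_zpow]; simp [mul_assoc]
    rw [this]
    exact Subgroup.zpow_mem _ hy k
  rw [Subgroup.mem_normalizer_iff]
  intro h
  constructor
  · intro hh
    obtain ⟨k, rfl⟩ := Subgroup.mem_zpowers_iff.mp hh
    rw [← conj_zpow]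
    exact Subgroup.zpow_mem _ h1 k
  · intro hh
    obtain ⟨k, hk⟩ := Subgroup.mem_zpowers_iff.mp hh
    have : h = (g⁻¹ * x * g) ^ k := by
      have e := conj_zpow (a := g⁻¹) (b := x) (i := k)
      rw [inv_inv] at e
      rw [e, hk]; simp [mul_assoc]
    rw [this]
    exact Subgroup.zpow_mem _ h2 k


theorem card_fiber_mul [Finite G] {p : ℕ} (hp : p.Prime) {x : G} (hx : orderOf x = p)
    (hC : Subgroup.centralizer ({x} : Set G) = Subgroup.zpowers x) {y₀ : G}
    (hy₀ : y₀ ∈ Subgroup.zpowers x) (hy₀1 : y₀ ≠ 1) :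
    Nat.card {y : G // y ∈ Subgroup.zpowers x ∧ y ≠ 1 ∧ IsConj y₀ y} * p =
      Nat.card (Subgroup.normalizer (Subgroup.zpowers x : Set G)) := by
  set N := Subgroup.normalizer (Subgroup.zpowers x : Set G) with hN
  letI : MulAction N G := conjActG N
  have hsmul : ∀ (n : N) (g : G), n • g = (n : G) * g * (n : G)⁻¹ := fun _ _ => rfl
  have e := MulAction.orbitProdStabilizerEquivGroup N y₀
  have h1 : Nat.card (MulAction.orbit N y₀) * Nat.card (MulAction.stabilizer N y₀) = Nat.card N := by
    rw [← Nat.card_prod]; exact Nat.card_congr e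
  have hPN : Subgroup.zpowers x ≤ N := Subgroup.le_normalizer
  have h2 : Nat.card (MulAction.stabilizer N y₀) = p := by
    have : MulAction.stabilizer N y₀ = (Subgroup.zpowers x).subgroupOf N := by
      ext n
      rw [MulAction.mem_stabilizer_iff, hsmul, Subgroup.mem_subgroupOf,
        ← centralizer_eq_of_mem_zpowers hp hx hC hy₀ hy₀1, Subgroup.mem_centralizer_singleton_iff]
      exact mul_inv_eq_iff_eq_mul
    rw [this, Nat.card_congr (Subgroup.subgroupOfEquivOfLe hPN).toEquiv, card_zpowers_eq hx]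
  have h3 : MulAction.orbit N y₀ = {y : G | y ∈ Subgroup.zpowers x ∧ y ≠ 1 ∧ IsConj y₀ y} := by
    ext y
    simp only [MulAction.mem_orbit_iff, Set.mem_ofPred_eq]
    constructor
    · rintro ⟨n, rfl⟩
      rw [hsmul]
      refine ⟨(Subgroup.mem_normalizer_iff.mp n.2 y₀).mp hy₀, ?_, isConj_iff.mpr ⟨n, rfl⟩⟩
      intro h
      apply hy₀1
      have := congrArg (fun t => (n : G)⁻¹ * t * n) h
      simpa [mul_assoc] using this
    · rintro ⟨hy, _, hconj⟩
      obtain ⟨c, hc⟩ := isConj_iff.mp hconj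
      have hcN : c ∈ N := mem_normalizer_of_conj_mem hp hx hy₀ hy₀1 (by rw [hc]; exact hy)
      exact ⟨⟨c, hcN⟩, hc⟩
  rw [← h1, h2, h3]
  rfl


theorem card_nonidentity_zpowers [Finite G] {p : ℕ} {x : G} (hx : orderOf x = p) :
    Nat.card {y : G // y ∈ Subgroup.zpowers x ∧ y ≠ 1} = p - 1 := by
  classical
  have h1 : {y : G | y ∈ Subgroup.zpowers x ∧ y ≠ 1} = ((Subgroup.zpowers x : Set G) \ {1}) := by
    ext y; simp
  have h2 : Nat.card {y : G // y ∈ Subgroup.zpowers x ∧ y ≠ 1} =
      Set.ncard {y : G | y ∈ Subgroup.zpowers x ∧ y ≠ 1} := rfl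
  rw [h2, h1, Set.ncard_sdiff_singleton_of_mem (Subgroup.one_mem _)]
  have : Set.ncard (Subgroup.zpowers x : Set G) = Nat.card (Subgroup.zpowers x) := rfl
  rw [this, card_zpowers_eq hx]

theorem card_classes_mul_card_normalizer [Finite G] {p : ℕ} (hp : p.Prime) {x : G}
    (hx : orderOf x = p) (hC : Subgroup.centralizer ({x} : Set G) = Subgroup.zpowers x) :
    Nat.card {C : ConjClasses G // ∃ g ∈ C.carrier, orderOf g = p} *
      Nat.card (Subgroup.normalizer (Subgroup.zpowers x : Set G)) = p * (p - 1) := by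
  classical
  set N := Subgroup.normalizer (Subgroup.zpowers x : Set G) with hN
  let X := {y : G // y ∈ Subgroup.zpowers x ∧ y ≠ 1}
  let T := {C : ConjClasses G // ∃ g ∈ C.carrier, orderOf g = p}
  haveI : Fintype T := Fintype.ofFinite T
  have hX : Nat.card X = p - 1 := card_nonidentity_zpowers hx
  let f : X → T := fun y => ⟨ConjClasses.mk y.1, y.1, ConjClasses.mem_carrier_mk,
    orderOf_eq_of_mem_zpowers hp hx y.2.1 y.2.2⟩
  have hfib : ∀ C : T, Nat.card {y : X // f y = C} * p = Nat.card N := by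
    intro C
    obtain ⟨g, hgC, hg⟩ := C.2
    obtain ⟨a, ha⟩ := exists_conj_mem_zpowers hp hx hC hg
    have hy₀1 : a * g * a⁻¹ ≠ 1 := by
      intro h
      have h' : g = 1 := by
        have := congrArg (fun t => a⁻¹ * t * a) h
        simpa [mul_assoc] using this
      rw [h', orderOf_one] at hg
      exact hp.one_lt.ne hg
    have hCmk : C.1 = ConjClasses.mk (a * g * a⁻¹) := by
      rw [← ConjClasses.mem_carrier_iff_mk_eq.mp hgC]
      exact ConjClasses.mk_eq_mk_iff_isConj.mpr (isConj_iff.mpr ⟨a, rfl⟩)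
    rw [← card_fiber_mul hp hx hC ha hy₀1]
    congr 1
    apply Nat.card_congr
    refine ⟨fun y => ⟨y.1.1, y.1.2.1, y.1.2.2, ?_⟩, fun y => ⟨⟨y.1, y.2.1, y.2.2.1⟩, ?_⟩, ?_, ?_⟩
    · have := congrArg Subtype.val y.2
      change ConjClasses.mk y.1.1 = C.1 at this
      rw [hCmk] at this
      exact (ConjClasses.mk_eq_mk_iff_isConj.mp this).symm
    · apply Subtype.ext
      change ConjClasses.mk y.1 = C.1
      rw [hCmk]
      exact ConjClasses.mk_eq_mk_iff_isConj.mpr y.2.2.2.symm
    · intro y; rfl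
    · intro y; rfl
  have hsum : Nat.card X = ∑ C : T, Nat.card {y : X // f y = C} := by
    rw [← Nat.card_sigma]
    exact Nat.card_congr (Equiv.sigmaFiberEquiv f).symm
  have : Nat.card X * p = Nat.card T * Nat.card N := by
    rw [hsum, Finset.sum_mul]
    simp only [hfib]
    rw [Finset.sum_const, Finset.card_univ, smul_eq_mul, Nat.card_eq_fintype_card (α := T)]
  rw [← this, hX, mul_comm]


theorem card_zpowers_mul_relIndex_normalizer [Finite G] {p : ℕ} {x : G} (hx : orderOf x = p) :
    p * (Subgroup.zpowers x).relIndex (Subgroup.normalizer (Subgroup.zpowers x : Set G)) =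
      Nat.card (Subgroup.normalizer (Subgroup.zpowers x : Set G)) := by
  have h := Subgroup.relIndex_mul_relIndex (⊥ : Subgroup G) (Subgroup.zpowers x)
    (Subgroup.normalizer (Subgroup.zpowers x : Set G)) bot_le Subgroup.le_normalizer
  rw [Subgroup.relIndex_bot_left, Subgroup.relIndex_bot_left, card_zpowers_eq hx] at h
  exact h

/-- (F2) if `x ∉ G'` then `|G : G'| = p` and `|N_G(⟨x⟩)| = p`. -/
theorem index_commutator_of_not_mem [Finite G] {p : ℕ} (hp : p.Prime) {x : G}
    (hx : orderOf x = p) (hC : Subgroup.centralizer ({x} : Set G) = Subgroup.zpowers x)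
    (hxG : x ∉ commutator G) :
    (commutator G).index = p ∧
      Nat.card (Subgroup.normalizer (Subgroup.zpowers x : Set G)) = p := by
  have hcent := centralizer_mk_eq hp hx hC (commutator G) hxG
  have hord := orderOf_mk_eq hp hx (commutator G) hxG
  have htop : Subgroup.centralizer ({(QuotientGroup.mk x : G ⧸ commutator G)} :
      Set (G ⧸ commutator G)) = ⊤ := by
    rw [eq_top_iff]
    intro q _
    rw [Subgroup.mem_centralizer_singleton_iff]
    obtain ⟨g, rfl⟩ := QuotientGroup.mk_surjective q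
    rw [← QuotientGroup.mk_mul, ← QuotientGroup.mk_mul, QuotientGroup.eq]
    have : (g * x)⁻¹ * (x * g) = ⁅x⁻¹, g⁻¹⁆ := by
      simp [commutatorElement_def, mul_assoc]
    rw [this]
    exact Subgroup.commutator_mem_commutator (Subgroup.mem_top _) (Subgroup.mem_top _)
  have hidx : (commutator G).index = p := by
    rw [Subgroup.index_eq_card, ← Nat.card_congr (Subgroup.topEquiv (G := G ⧸ commutator G)).toEquiv,
      ← htop, hcent, Nat.card_zpowers, hord]
  refine ⟨hidx, ?_⟩
  have hbot := inf_normalizer_eq_bot hp hx hC (commutator G) hxG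
  have h1 : (commutator G).relIndex (Subgroup.normalizer (Subgroup.zpowers x : Set G)) =
      Nat.card (Subgroup.normalizer (Subgroup.zpowers x : Set G)) := by
    rw [← Subgroup.inf_relIndex_right, hbot, Subgroup.relIndex_bot_left]
  have h2 : Nat.card (Subgroup.normalizer (Subgroup.zpowers x : Set G)) ∣ p := by
    rw [← h1, ← hidx]; exact Subgroup.relIndex_dvd_index_of_normal _ _
  have h3 : p ∣ Nat.card (Subgroup.normalizer (Subgroup.zpowers x : Set G)) :=
    ⟨_, (card_zpowers_mul_relIndex_normalizer hx).symm⟩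
  exact Nat.dvd_antisymm h2 h3

/-- (F3) if `x ∈ G'` then `|G : G'| * p` divides `|N_G(⟨x⟩)|`. -/
theorem index_commutator_mul_dvd [Finite G] {p : ℕ} (hp : p.Prime) {x : G}
    (hx : orderOf x = p) (hC : Subgroup.centralizer ({x} : Set G) = Subgroup.zpowers x)
    (hxG : x ∈ commutator G) :
    (commutator G).index * p ∣
      Nat.card (Subgroup.normalizer (Subgroup.zpowers x : Set G)) := by
  haveI : Fact p.Prime := ⟨hp⟩
  obtain ⟨Q, hQ⟩ := exists_sylow_eq_zpowers hp hx hC
  have hPS : Subgroup.zpowers x ≤ commutator G := Subgroup.zpowers_le.mpr hxG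
  have hQS : (Q : Subgroup G) ≤ commutator G := by rw [hQ]; exact hPS
  have hfr := Sylow.normalizer_sup_eq_top' Q hQS
  rw [← Sylow.coe_coe, hQ] at hfr
  have h1 : (commutator G).index =
      (commutator G).relIndex (Subgroup.normalizer (Subgroup.zpowers x : Set G)) := by
    rw [← Subgroup.relIndex_top_right, ← hfr, Subgroup.relIndex_sup_right]
  have h2 : (commutator G).relIndex (Subgroup.normalizer (Subgroup.zpowers x : Set G)) ∣
      (Subgroup.zpowers x).relIndex (Subgroup.normalizer (Subgroup.zpowers x : Set G)) :=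
    Subgroup.relIndex_dvd_of_le_left _ hPS
  rw [← card_zpowers_mul_relIndex_normalizer hx, h1, mul_comm]
  exact Nat.mul_dvd_mul_left p h2

/-- (F4) Burnside: if `N_G(⟨x⟩) = ⟨x⟩` then `x ∉ G'`. -/
theorem not_mem_commutator_of_card_normalizer [Finite G] {p : ℕ} (hp : p.Prime) {x : G}
    (hx : orderOf x = p) (hC : Subgroup.centralizer ({x} : Set G) = Subgroup.zpowers x)
    (hN : Nat.card (Subgroup.normalizer (Subgroup.zpowers x : Set G)) = p) :
    x ∉ commutator G := by
  haveI : Fact p.Prime := ⟨hp⟩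
  obtain ⟨Q, hQ⟩ := exists_sylow_eq_zpowers hp hx hC
  have hNP : Subgroup.normalizer (Subgroup.zpowers x : Set G) = Subgroup.zpowers x := by
    symm
    apply Subgroup.eq_of_le_of_card_ge Subgroup.le_normalizer
    rw [hN, card_zpowers_eq hx]
  have hcomm : ∀ u ∈ Subgroup.zpowers x, ∀ v ∈ Subgroup.zpowers x, u * v = v * u := by
    intro u hu v hv
    obtain ⟨k, rfl⟩ := Subgroup.mem_zpowers_iff.mp hu
    obtain ⟨l, rfl⟩ := Subgroup.mem_zpowers_iff.mp hv
    rw [← zpow_add, ← zpow_add, add_comm]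
  have hP : Subgroup.normalizer (Q : Set G) ≤ Subgroup.centralizer (Q : Set G) := by
    rw [← Sylow.coe_coe, hQ, hNP]
    intro u hu
    rw [Subgroup.mem_centralizer_iff]
    intro v hv
    exact hcomm v hv u hu
  have hcompl := MonoidHom.ker_transferSylow_isComplement' Q hP
  set K := (MonoidHom.transferSylow Q hP).ker with hK
  intro hxG
  have hGK : commutator G ≤ K := by
    rw [commutator_def, Subgroup.commutator_le]
    intro a _ b _
    rw [hK, MonoidHom.mem_ker, commutatorElement_def]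
    simp only [map_mul, map_inv]
    have h1 : (MonoidHom.transferSylow Q hP) a * (MonoidHom.transferSylow Q hP) b =
        (MonoidHom.transferSylow Q hP) b * (MonoidHom.transferSylow Q hP) a := by
      apply Subtype.ext
      have ha : (((MonoidHom.transferSylow Q hP) a : (Q : Subgroup G)) : G) ∈ (Q : Subgroup G) :=
        ((MonoidHom.transferSylow Q hP) a).2
      have hb : (((MonoidHom.transferSylow Q hP) b : (Q : Subgroup G)) : G) ∈ (Q : Subgroup G) :=
        ((MonoidHom.transferSylow Q hP) b).2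
      exact hcomm _ (hQ.le ha) _ (hQ.le hb)
    rw [h1]; simp
  have hxK : x ∈ K := hGK hxG
  have hxQ : x ∈ (Q : Subgroup G) := by rw [hQ]; exact Subgroup.mem_zpowers x
  have hdisj := hcompl.disjoint
  have hx1 : x = 1 := by
    have : x ∈ K ⊓ (Q : Subgroup G) := ⟨hxK, hxQ⟩
    rw [hdisj.eq_bot] at this
    exact Subgroup.mem_bot.mp this
  rw [hx1, orderOf_one] at hx
  exact hp.one_lt.ne hx

end Cfsg.Agent.Lib.Helper79
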