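import Mathlib
import Cfsg.Prelude.Def_Solvable
import Cfsg.Agent.Lib.Helper42.PPrimeCore
import Cfsg.Agent.Lib.Helper79.SelfCentCount

set_option autoImplicit false
set_option linter.style.haveILetI false
set_option linter.unusedSectionVars false

namespace Cfsg.Agent.Lib.Helper79

open Subgroup
open scoped Pointwise commutatorElement

variable {G : Type*} [Group G]

/-- `O_{p'}` is characteristic. -/
theorem pPrimeCore_characteristic (p : ℕ) (H : Type*) [Group H] [Finite H] :
    (Cfsg.pPrimeCore p H).Characteristic := by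
  rw [Subgroup.characteristic_iff_map_le]
  intro φ
  haveI := Cfsg.Agent.Lib.Helper42.pPrimeCore_normal p H
  haveI : ((Cfsg.pPrimeCore p H).map φ.toMonoidHom).Normal :=
    Subgroup.Normal.map inferInstance _ φ.surjective
  apply Cfsg.Agent.Lib.Helper42.le_pPrimeCore
  rw [Subgroup.card_map_of_injective φ.injective]
  exact Cfsg.Agent.Lib.Helper42.pPrimeCore_card_coprime p H

/-- a normal subgroup not containing `x` lies in the commutator subgroup. -/
theorem le_commutator_of_not_mem [Finite G] {p : ℕ} (hp : p.Prime) {x : G} (hx : orderOf x = p)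
    (hC : Subgroup.centralizer ({x} : Set G) = Subgroup.zpowers x)
    (S : Subgroup G) [hS : S.Normal] (hxS : x ∉ S) : S ≤ commutator G := by
  intro u hu
  obtain ⟨s, _, hs⟩ := exists_conj_eq_mul hp hx hC S hxS hu
  have : u = ⁅s⁻¹, x⁆ := by
    rw [commutatorElement_def, ← hs]; simp
  rw [this, commutator_def]
  exact Subgroup.commutator_mem_commutator (Subgroup.mem_top _) (Subgroup.mem_top _)

theorem not_mem_pPrimeCore [Finite G] {p : ℕ} (hp : p.Prime) {x : G} (hx : orderOf x = p) :
    x ∉ Cfsg.pPrimeCore p G := by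
  apply not_mem_of_not_dvd_card hx
  intro h
  have := Cfsg.Agent.Lib.Helper42.pPrimeCore_card_coprime p G
  have h2 : p ∣ Nat.gcd (Nat.card (Cfsg.pPrimeCore p G)) p := Nat.dvd_gcd h (dvd_refl p)
  rw [this] at h2
  exact hp.one_lt.ne' (Nat.dvd_one.mp h2)

theorem pPrimeCore_le_commutator [Finite G] {p : ℕ} (hp : p.Prime) {x : G} (hx : orderOf x = p)
    (hC : Subgroup.centralizer ({x} : Set G) = Subgroup.zpowers x) :
    Cfsg.pPrimeCore p G ≤ commutator G := by
  haveI := Cfsg.Agent.Lib.Helper42.pPrimeCore_normal p G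
  exact le_commutator_of_not_mem hp hx hC _ (not_mem_pPrimeCore hp hx)

/-- if `x ∉ G'` then `G' = O_{p'}(G)`. -/
theorem commutator_eq_pPrimeCore_of_not_mem [Finite G] {p : ℕ} (hp : p.Prime) {x : G}
    (hx : orderOf x = p) (hC : Subgroup.centralizer ({x} : Set G) = Subgroup.zpowers x)
    (hxG : x ∉ commutator G) : commutator G = Cfsg.pPrimeCore p G := by
  apply le_antisymm _ (pPrimeCore_le_commutator hp hx hC)
  apply Cfsg.Agent.Lib.Helper42.le_pPrimeCore
  rw [Nat.coprime_comm, hp.coprime_iff_not_dvd]
  intro h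
  exact hxG (mem_of_dvd_card hp hx hC _ h)

/-- the hypotheses pass to a normal subgroup containing `x`. -/
theorem centralizer_subtype_eq {x : G}
    (hC : Subgroup.centralizer ({x} : Set G) = Subgroup.zpowers x) (H : Subgroup G) (hxH : x ∈ H) :
    Subgroup.centralizer ({(⟨x, hxH⟩ : H)} : Set H) = Subgroup.zpowers (⟨x, hxH⟩ : H) := by
  apply le_antisymm
  · intro h hh
    rw [Subgroup.mem_centralizer_singleton_iff] at hh
    have h1 : (h : G) * x = x * (h : G) := congrArg Subtype.val hh
    obtain ⟨k, hk⟩ := Subgroup.mem_zpowers_iff.mp (mem_zpowers_of_comm hC h1)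
    refine Subgroup.mem_zpowers_iff.mpr ⟨k, ?_⟩
    apply Subtype.ext
    rw [← hk]; simp
  · rw [Subgroup.zpowers_le, Subgroup.mem_centralizer_singleton_iff]


theorem normal_subgroup_dichotomy [Finite G] {p : ℕ} (hp : p.Prime) {x : G} (hx : orderOf x = p)
    (hC : Subgroup.centralizer ({x} : Set G) = Subgroup.zpowers x) (hxG : x ∈ commutator G)
    (M' : Subgroup (commutator G)) [hM : M'.Normal]
    (hle : (Cfsg.pPrimeCore p G).subgroupOf (commutator G) ≤ M') :
    M' = (Cfsg.pPrimeCore p G).subgroupOf (commutator G) ∨ M' = ⊤ := by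
  have hx' : orderOf (⟨x, hxG⟩ : commutator G) = p := by rw [Subgroup.orderOf_mk]; exact hx
  have hC' := centralizer_subtype_eq hC (commutator G) hxG
  by_cases hdvd : p ∣ Nat.card M'
  · right
    have hxM : (⟨x, hxG⟩ : commutator G) ∈ M' := mem_of_dvd_card hp hx' hC' M' hdvd
    have hconj : ∀ g : G, ∃ m ∈ M', (m : G) = g * x * g⁻¹ := by
      intro g
      have hz : g * x * g⁻¹ ∈ commutator G :=
        (inferInstance : (commutator G).Normal).conj_mem x hxG g
      have hz' : orderOf (⟨g * x * g⁻¹, hz⟩ : commutator G) = p := by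
        rw [Subgroup.orderOf_mk]
        have := (MulAut.conj g).orderOf_eq x
        rw [MulAut.conj_apply] at this
        rw [this, hx]
      obtain ⟨h, hh⟩ := exists_conj_mem_zpowers hp hx' hC' hz'
      have h1 : h * (⟨g * x * g⁻¹, hz⟩ : commutator G) * h⁻¹ ∈ M' :=
        (Subgroup.zpowers_le.mpr hxM) hh
      have h2 : (⟨g * x * g⁻¹, hz⟩ : commutator G) ∈ M' := by
        have := hM.conj_mem _ h1 h⁻¹
        simpa [mul_assoc] using this
      exact ⟨_, h2, rfl⟩
    have hR : Subgroup.normalClosure ({x} : Set G) ≤ M'.map (commutator G).subtype := by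
      unfold Subgroup.normalClosure
      rw [Subgroup.closure_le]
      intro a ha
      obtain ⟨b, hb, hab⟩ := Group.mem_conjugatesOfSet_iff.mp ha
      rw [Set.mem_singleton_iff] at hb
      subst hb
      obtain ⟨c, hc⟩ := isConj_iff.mp hab
      obtain ⟨m, hm, hmc⟩ := hconj c
      exact ⟨m, hm, by rw [← hc]; exact hmc⟩
    have hG' : commutator G ≤ Subgroup.normalClosure ({x} : Set G) :=
      commutator_le_of_mem hp hx hC _ (Subgroup.subset_normalClosure (Set.mem_singleton x))
    rw [eq_top_iff]
    intro h _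
    obtain ⟨m, hm, hmh⟩ := hR (hG' h.2)
    have : m = h := Subtype.ext hmh
    rwa [← this]
  · left
    apply le_antisymm _ hle
    have h1 : M' ≤ Cfsg.pPrimeCore p (commutator G) := by
      apply Cfsg.Agent.Lib.Helper42.le_pPrimeCore
      rw [Nat.coprime_comm, hp.coprime_iff_not_dvd]
      exact hdvd
    haveI := pPrimeCore_characteristic p (commutator G)
    haveI : ((Cfsg.pPrimeCore p (commutator G)).map (commutator G).subtype).Normal :=
      inferInstance
    have h2 : (Cfsg.pPrimeCore p (commutator G)).map (commutator G).subtype ≤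
        Cfsg.pPrimeCore p G := by
      apply Cfsg.Agent.Lib.Helper42.le_pPrimeCore
      rw [Subgroup.card_map_of_injective (Subgroup.subtype_injective _)]
      exact Cfsg.Agent.Lib.Helper42.pPrimeCore_card_coprime p _
    intro m hm
    rw [Subgroup.mem_subgroupOf]
    exact h2 ⟨m, h1 hm, rfl⟩

theorem isSimpleGroup_quotient [Finite G] {p : ℕ} (hp : p.Prime) {x : G} (hx : orderOf x = p)
    (hC : Subgroup.centralizer ({x} : Set G) = Subgroup.zpowers x) (hxG : x ∈ commutator G)
    (h : ((Cfsg.pPrimeCore p G).subgroupOf (commutator G)).Normal) :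
    IsSimpleGroup (↥(commutator G) ⧸ (Cfsg.pPrimeCore p G).subgroupOf (commutator G)) := by
  refine { exists_pair_ne := ?_, eq_bot_or_eq_top_of_normal := ?_ }
  · refine ⟨QuotientGroup.mk (⟨x, hxG⟩ : commutator G), 1, ?_⟩
    intro h1
    rw [QuotientGroup.eq_one_iff, Subgroup.mem_subgroupOf] at h1
    exact not_mem_pPrimeCore hp hx h1
  · intro L hL
    set K := (Cfsg.pPrimeCore p G).subgroupOf (commutator G) with hK
    have hle : K ≤ L.comap (QuotientGroup.mk' K) := by
      intro k hk
      rw [Subgroup.mem_comap, QuotientGroup.mk'_apply, (QuotientGroup.eq_one_iff k).mpr hk]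
      exact L.one_mem
    haveI : (L.comap (QuotientGroup.mk' K)).Normal := Subgroup.Normal.comap hL _
    rcases normal_subgroup_dichotomy hp hx hC hxG (L.comap (QuotientGroup.mk' K)) hle with h1 | h1
    · left
      rw [Subgroup.eq_bot_iff_forall]
      intro q hq
      obtain ⟨m, rfl⟩ := QuotientGroup.mk_surjective q
      have : m ∈ L.comap (QuotientGroup.mk' K) := hq
      rw [h1] at this
      exact (QuotientGroup.eq_one_iff m).mpr this
    · right
      rw [eq_top_iff]
      intro q _
      obtain ⟨m, rfl⟩ := QuotientGroup.mk_surjective q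
      have : m ∈ L.comap (QuotientGroup.mk' K) := by rw [h1]; trivial
      exact this

end Cfsg.Agent.Lib.Helper79
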