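import Mathlib
import Cfsg.Prelude.Def_Characters
import Cfsg.Agent.Lib.Helper79.FrobSchurCount

set_option autoImplicit false
set_option linter.style.haveILetI false
set_option linter.unusedSectionVars false

namespace Cfsg.Agent.Lib.Helper79

open Matrix
open scoped ComplexConjugate

section MatRep

variable {G : Type*} [Group G] {k : Type*} [Field k] {n : ℕ}

/-- a representation on `Fin n → k` from a multiplicative family of matrices. -/
noncomputable def matRep (Y : G → Matrix (Fin n) (Fin n) k) (h1 : Y 1 = 1)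
    (hmul : ∀ g h, Y (g * h) = Y g * Y h) : Representation k G (Fin n → k) where
  toFun g := Matrix.toLin' (Y g)
  map_one' := by rw [h1, Matrix.toLin'_one]; rfl
  map_mul' g h := by rw [hmul, Matrix.toLin'_mul]; rfl

theorem toMatrix'_matRep (Y : G → Matrix (Fin n) (Fin n) k) (h1 : Y 1 = 1)
    (hmul : ∀ g h, Y (g * h) = Y g * Y h) (g : G) :
    LinearMap.toMatrix' (matRep Y h1 hmul g) = Y g := by
  change LinearMap.toMatrix' (Matrix.toLin' (Y g)) = Y g
  rw [LinearMap.toMatrix'_toLin']

theorem trace_matRep (Y : G → Matrix (Fin n) (Fin n) k) (h1 : Y 1 = 1)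
    (hmul : ∀ g h, Y (g * h) = Y g * Y h) (g : G) :
    LinearMap.trace k (Fin n → k) (matRep Y h1 hmul g) = (Y g).trace := by
  rw [LinearMap.trace_eq_matrix_trace k (Pi.basisFun k (Fin n)), LinearMap.toMatrix_eq_toMatrix',
    toMatrix'_matRep]

end MatRep

section RealToComplex

universe u
variable {G : Type u} [Group G] [Fintype G]

/-- a real representation affording an irreducible character forces indicator one. -/
theorem fsInd_eq_one_of_real_rep (χ : Cfsg.IrrCharacter G) (m : ℕ)
    (σ : Representation ℝ G (Fin m → ℝ))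
    (hσ : ∀ g : G, ((LinearMap.trace ℝ (Fin m → ℝ) (σ g) : ℝ) : ℂ) = (χ : G → ℂ) g) :
    fsInd (χ : G → ℂ) = 1 := by
  classical
  set Y : G → Matrix (Fin m) (Fin m) ℝ := fun g => LinearMap.toMatrix' (σ g) with hY
  have hY1 : Y 1 = 1 := by rw [hY]; simp only; rw [map_one, LinearMap.toMatrix'_one]
  have hYmul : ∀ g h, Y (g * h) = Y g * Y h := by
    intro g h; rw [hY]; simp only; rw [map_mul, LinearMap.toMatrix'_mul]
  set Yc : G → Matrix (Fin m) (Fin m) ℂ := fun g => (Y g).map Complex.ofRealHom with hYc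
  have hYc1 : Yc 1 = 1 := by
    rw [hYc]; simp only; rw [hY1, Matrix.map_one _ (map_zero _) (map_one _)]
  have hYcmul : ∀ g h, Yc (g * h) = Yc g * Yc h := by
    intro g h; rw [hYc]; simp only; rw [hYmul, Matrix.map_mul]
  set σc := matRep Yc hYc1 hYcmul with hσc
  have hrep : ∀ g, repMat σc g = Yc g := fun g => toMatrix'_matRep Yc hYc1 hYcmul g
  have hchar : σc.character = (χ : G → ℂ) := by
    ext g
    rw [← hσ g, ← trace_repMat, hrep]
    rw [hYc]; simp only
    rw [LinearMap.trace_eq_matrix_trace ℝ (Pi.basisFun ℝ (Fin m)), LinearMap.toMatrix_eq_toMatrix']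
    exact (AddMonoidHom.map_trace Complex.ofRealHom.toAddMonoidHom (Y g)).symm
  -- irreducibility
  obtain ⟨n, ρ, hirr, hρ⟩ := χ.2
  obtain ⟨φ⟩ := Cfsg.Agent.Lib.Helper05.nonempty_equiv_of_char_eq _ ρ _ σc (hρ.trans hchar.symm)
  haveI : σc.IsIrreducible := Cfsg.Agent.Lib.Helper05.isIrreducible_of_equiv φ hirr
  have hreal : ∀ g : G, (σc.character g).im = 0 := by
    intro g
    rw [hchar, ← hσ g]
    exact Complex.ofReal_im _
  -- the invariant symmetric form
  set S : Matrix (Fin m) (Fin m) ℝ := ∑ u : G, (Y u)ᵀ * Y u with hS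
  set Sc : Matrix (Fin m) (Fin m) ℂ := S.map Complex.ofRealHom with hSc
  have hSt : Sᵀ = S := by
    rw [hS, Matrix.transpose_sum]
    refine Finset.sum_congr rfl fun u _ => ?_
    rw [Matrix.transpose_mul, Matrix.transpose_transpose]
  have hSinv : ∀ g, (Y g)ᵀ * S * Y g = S := by
    intro g
    rw [hS, Finset.mul_sum, Finset.sum_mul]
    rw [← Equiv.sum_comp (Equiv.mulRight g) (fun u => (Y u)ᵀ * Y u)]
    refine Finset.sum_congr rfl fun u _ => ?_
    simp only [Equiv.coe_mulRight, hYmul, Matrix.transpose_mul, Matrix.mul_assoc]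
  have hScinv : ∀ g, (repMat σc g)ᵀ * Sc * repMat σc g = Sc := by
    intro g
    rw [hrep, hSc, hYc]
    simp only
    rw [← Matrix.transpose_map, ← Matrix.map_mul, ← Matrix.map_mul, hSinv]
  have hSct : Scᵀ = Sc := by
    rw [hSc, ← Matrix.transpose_map, hSt]
  have hm : m ≠ 0 := by
    intro h0
    have := card_ne_zero_of_irr σc
    apply this
    rw [h0]; simp
  have hSc0 : Sc ≠ 0 := by
    intro h0
    have h1 : S = 0 := by
      ext i j
      have := congrFun (congrFun h0 i) j
      rw [hSc] at this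
      simpa using this
    have h2 : S ⟨0, Nat.pos_of_ne_zero hm⟩ ⟨0, Nat.pos_of_ne_zero hm⟩ = 0 := by rw [h1]; rfl
    rw [hS, Matrix.sum_apply] at h2
    have h3 : ∀ u ∈ (Finset.univ : Finset G),
        0 ≤ ((Y u)ᵀ * Y u) ⟨0, Nat.pos_of_ne_zero hm⟩ ⟨0, Nat.pos_of_ne_zero hm⟩ := by
      intro u _
      rw [Matrix.mul_apply]
      apply Finset.sum_nonneg
      intro k _
      rw [Matrix.transpose_apply]
      exact mul_self_nonneg _
    have h4 := (Finset.sum_eq_zero_iff_of_nonneg h3).mp h2 1 (Finset.mem_univ 1)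
    rw [hY1, Matrix.transpose_one, Matrix.one_mul, Matrix.one_apply_eq] at h4
    exact one_ne_zero h4
  have key := transpose_eq_indicator_smul σc hreal Sc hScinv
  rw [hSct, hchar] at key
  change Sc = fsInd (χ : G → ℂ) • Sc at key
  have h5 : (1 - fsInd (χ : G → ℂ)) • Sc = 0 := by
    rw [sub_smul, one_smul, ← key, sub_self]
  rcases smul_eq_zero.mp h5 with h6 | h6
  · exact (sub_eq_zero.mp h6).symm
  · exact absurd h6 hSc0

end RealToComplex

end Cfsg.Agent.Lib.Helper79
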