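import Mathlib

set_option autoImplicit false
set_option linter.style.haveILetI false
set_option linter.unusedSectionVars false

namespace Cfsg.Agent.Lib.Helper79

open Matrix Polynomial
open scoped ComplexConjugate

section H90

variable {n : ℕ}

/-- entrywise complex conjugate of a matrix. -/
noncomputable def cbar (M : Matrix (Fin n) (Fin n) ℂ) : Matrix (Fin n) (Fin n) ℂ :=
  M.map (starRingEnd ℂ)

theorem cbar_mul (M N : Matrix (Fin n) (Fin n) ℂ) : cbar (M * N) = cbar M * cbar N := by
  unfold cbar; rw [Matrix.map_mul]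

theorem cbar_one : cbar (1 : Matrix (Fin n) (Fin n) ℂ) = 1 := by
  unfold cbar; rw [Matrix.map_one _ (map_zero _) (map_one _)]

theorem cbar_add (M N : Matrix (Fin n) (Fin n) ℂ) : cbar (M + N) = cbar M + cbar N := by
  unfold cbar; rw [Matrix.map_add _ (map_add _)]

theorem cbar_smul (c : ℂ) (M : Matrix (Fin n) (Fin n) ℂ) : cbar (c • M) = conj c • cbar M := by
  unfold cbar
  ext i j
  simp

theorem cbar_cbar (M : Matrix (Fin n) (Fin n) ℂ) : cbar (cbar M) = M := by
  unfold cbar
  ext i j
  simp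

theorem cbar_transpose (M : Matrix (Fin n) (Fin n) ℂ) : cbar Mᵀ = (cbar M)ᵀ := by
  unfold cbar; rw [Matrix.transpose_map]

theorem conjTranspose_eq_cbar (M : Matrix (Fin n) (Fin n) ℂ) : Mᴴ = cbar Mᵀ := by
  unfold cbar
  ext i j
  simp [Matrix.conjTranspose_apply]

/-- there is a real `s` for which `(1 + s i) + (1 - s i) A` is invertible. -/
theorem exists_real_det_ne_zero (A : Matrix (Fin n) (Fin n) ℂ) :
    ∃ s : ℝ, ((1 + (s : ℂ) * Complex.I) • (1 : Matrix (Fin n) (Fin n) ℂ) +
      (1 - (s : ℂ) * Complex.I) • A).det ≠ 0 := by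
  -- the polynomial matrix
  let M : Matrix (Fin n) (Fin n) ℂ[X] :=
    (1 + A).map Polynomial.C + (Polynomial.X : ℂ[X]) • (Complex.I • (1 - A)).map Polynomial.C
  let p : ℂ[X] := M.det
  have heval : ∀ z : ℂ, p.eval z = ((1 + A) + z • (Complex.I • (1 - A))).det := by
    intro z
    have h1 : p.eval z = (M.map (Polynomial.evalRingHom z)).det := by
      change (Polynomial.evalRingHom z) M.det = _
      rw [RingHom.map_det]
      rfl
    rw [h1]
    congr 1
    ext i j
    simp [M, Matrix.map_apply, Matrix.add_apply, Matrix.smul_apply]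
  have hp : p ≠ 0 := by
    intro h0
    have h1 := heval (-Complex.I)
    rw [h0, Polynomial.eval_zero] at h1
    have h2 : (1 + A) + (-Complex.I) • (Complex.I • (1 - A)) = (2 : ℂ) • (1 : Matrix (Fin n) (Fin n) ℂ) := by
      rw [smul_smul]
      have : -Complex.I * Complex.I = 1 := by
        rw [neg_mul, Complex.I_mul_I, neg_neg]
      rw [this, one_smul, two_smul]
      abel
    rw [h2, Matrix.det_smul, Matrix.det_one, mul_one] at h1
    exact pow_ne_zero _ two_ne_zero h1.symm
  by_contra hcon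
  push Not at hcon
  apply hp
  apply Polynomial.eq_zero_of_infinite_isRoot
  apply Set.Infinite.mono (s := Set.range (fun s : ℝ => (s : ℂ)))
  · rintro _ ⟨s, rfl⟩
    change p.eval (s : ℂ) = 0
    rw [heval, ← hcon s]
    congr 1
    rw [add_smul, sub_smul, one_smul, one_smul, smul_smul, smul_sub, mul_smul]
    abel
  · exact Set.infinite_range_of_injective Complex.ofReal_injective

/-- Hilbert 90 for `GL_n(ℂ)` over `ℝ`. -/
theorem hilbert90 (A : Matrix (Fin n) (Fin n) ℂ) (hA : A * cbar A = 1) :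
    ∃ P Pi : Matrix (Fin n) (Fin n) ℂ, P * Pi = 1 ∧ Pi * P = 1 ∧ A * cbar P = P := by
  obtain ⟨s, hs⟩ := exists_real_det_ne_zero A
  set P := (1 + (s : ℂ) * Complex.I) • (1 : Matrix (Fin n) (Fin n) ℂ) +
      (1 - (s : ℂ) * Complex.I) • A with hP
  have hunit : IsUnit P.det := isUnit_iff_ne_zero.mpr hs
  refine ⟨P, P⁻¹, Matrix.mul_nonsing_inv P hunit, Matrix.nonsing_inv_mul P hunit, ?_⟩
  have hc1 : conj (1 + (s : ℂ) * Complex.I) = 1 - (s : ℂ) * Complex.I := by
    simp [Complex.conj_ofReal]
    ring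
  have hc2 : conj (1 - (s : ℂ) * Complex.I) = 1 + (s : ℂ) * Complex.I := by
    simp [Complex.conj_ofReal]
  rw [hP, cbar_add, cbar_smul, cbar_smul, cbar_one, hc1, hc2, Matrix.mul_add, Matrix.mul_smul,
    Matrix.mul_smul, Matrix.mul_one, hA, add_comm]

end H90

end Cfsg.Agent.Lib.Helper79

namespace Cfsg.Agent.Lib.Helper79

open Matrix
open scoped ComplexConjugate

section RealForm

variable {n : ℕ} {G : Type*} [Group G]

theorem cbar_eq_self_iff (M : Matrix (Fin n) (Fin n) ℂ) :
    cbar M = M ↔ (M.map Complex.re).map Complex.ofRealHom = M := by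
  unfold cbar
  constructor
  · intro h
    ext i j
    have := congrFun (congrFun h i) j
    simp only [Matrix.map_apply] at this ⊢
    exact Complex.conj_eq_iff_re.mp this
  · intro h
    rw [← h]
    ext i j
    simp

/-- if `A * cbar A = 1` and `A` intertwines `X̄` with `X`, then `X` is conjugate to a real
matrix representation. -/
theorem exists_real_form (X : G → Matrix (Fin n) (Fin n) ℂ) (hX1 : X 1 = 1)
    (hXmul : ∀ g h, X (g * h) = X g * X h)
    (A : Matrix (Fin n) (Fin n) ℂ) (hA : A * cbar A = 1)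
    (hAX : ∀ g, A * cbar (X g) = X g * A) :
    ∃ R : G → Matrix (Fin n) (Fin n) ℝ, R 1 = 1 ∧ (∀ g h, R (g * h) = R g * R h) ∧
      ∀ g, (((R g).trace : ℝ) : ℂ) = (X g).trace := by
  obtain ⟨P, Pi, hPPi, hPiP, hAP⟩ := hilbert90 A hA
  have hA' : cbar A * A = 1 := by
    have := congrArg cbar hA
    rw [cbar_mul, cbar_cbar, cbar_one] at this
    exact this
  -- cbar P = cbar A * P
  have hPb : cbar P = cbar A * P := by
    conv_rhs => rw [← hAP]
    rw [← Matrix.mul_assoc, hA', Matrix.one_mul]
  have hPib : cbar Pi = Pi * A := by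
    have h1 : cbar Pi * cbar P = 1 := by rw [← cbar_mul, hPiP, cbar_one]
    have h2 : cbar P * (Pi * A) = 1 := by
      rw [hPb, Matrix.mul_assoc, ← Matrix.mul_assoc P, hPPi, Matrix.one_mul, hA']
    calc cbar Pi = cbar Pi * (cbar P * (Pi * A)) := by rw [h2, Matrix.mul_one]
      _ = (cbar Pi * cbar P) * (Pi * A) := by rw [Matrix.mul_assoc]
      _ = Pi * A := by rw [h1, Matrix.one_mul]
  set Rc : G → Matrix (Fin n) (Fin n) ℂ := fun g => Pi * X g * P with hRc
  have hRc1 : Rc 1 = 1 := by
    rw [hRc]; simp only; rw [hX1, Matrix.mul_one, hPiP]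
  have hRcmul : ∀ g h, Rc (g * h) = Rc g * Rc h := by
    intro g h
    rw [hRc]; simp only
    rw [hXmul]
    calc Pi * (X g * X h) * P = Pi * X g * (P * Pi) * X h * P := by
          rw [hPPi, Matrix.mul_one]; simp only [Matrix.mul_assoc]
      _ = Pi * X g * P * (Pi * X h * P) := by simp only [Matrix.mul_assoc]
  have hRcbar : ∀ g, cbar (Rc g) = Rc g := by
    intro g
    rw [hRc]; simp only
    rw [cbar_mul, cbar_mul, hPib, hPb]
    calc Pi * A * cbar (X g) * (cbar A * P) = Pi * (A * cbar (X g)) * cbar A * P := by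
          simp only [Matrix.mul_assoc]
      _ = Pi * (X g * A) * cbar A * P := by rw [hAX]
      _ = Pi * X g * (A * cbar A) * P := by simp only [Matrix.mul_assoc]
      _ = Pi * X g * P := by rw [hA, Matrix.mul_one]
  have hreal : ∀ g, ((Rc g).map Complex.re).map Complex.ofRealHom = Rc g :=
    fun g => (cbar_eq_self_iff _).mp (hRcbar g)
  have hinj : Function.Injective
      (fun M : Matrix (Fin n) (Fin n) ℝ => M.map Complex.ofRealHom) :=
    Matrix.map_injective Complex.ofReal_injective
  refine ⟨fun g => (Rc g).map Complex.re, ?_, ?_, ?_⟩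
  · apply hinj
    simp only
    rw [hreal, hRc1, Matrix.map_one _ (map_zero _) (map_one _)]
  · intro g h
    apply hinj
    simp only
    rw [hreal, Matrix.map_mul, hreal, hreal, hRcmul]
  · intro g
    have h1 : (((Rc g).map Complex.re).trace : ℂ) =
        (((Rc g).map Complex.re).map Complex.ofRealHom).trace :=
      AddMonoidHom.map_trace Complex.ofRealHom.toAddMonoidHom _
    rw [h1, hreal, hRc]; simp only
    rw [Matrix.mul_assoc, Matrix.trace_mul_comm, Matrix.mul_assoc, hPPi, Matrix.mul_one]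

end RealForm

end Cfsg.Agent.Lib.Helper79
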