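import Mathlib
import Cfsg.Prelude.Def_Characters
import Cfsg.Agent.Lib.Helper79.FrobSchurCount
import Cfsg.Agent.Lib.Helper79.Hilbert90

set_option autoImplicit false
set_option linter.style.haveILetI false
set_option linter.unusedSectionVars false

namespace Cfsg.Agent.Lib.Helper79

open Matrix
open scoped ComplexConjugate ComplexOrder

section RS

variable {n : ℕ}

theorem mulVec_injective_of_mul_eq_one (M N : Matrix (Fin n) (Fin n) ℂ) (h : N * M = 1) :
    Function.Injective M.mulVec := by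
  intro v w hvw
  have := congrArg N.mulVec hvw
  rwa [Matrix.mulVec_mulVec, Matrix.mulVec_mulVec, h, Matrix.one_mulVec, Matrix.one_mulVec] at this

/-- if `c • H` and `H` are both positive definite then `c` is a positive real. -/
theorem pos_of_posDef_smul (hn : 0 < n) (H : Matrix (Fin n) (Fin n) ℂ) (c : ℂ)
    (hH : H.PosDef) (hcH : (c • H).PosDef) : 0 < c.re ∧ c.im = 0 := by
  have h1 := hH.diag_pos (i := ⟨0, hn⟩)
  have h2 := hcH.diag_pos (i := ⟨0, hn⟩)
  rw [Matrix.smul_apply, smul_eq_mul] at h2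
  set h := H ⟨0, hn⟩ ⟨0, hn⟩ with hh
  rw [Complex.pos_iff] at h1 h2
  obtain ⟨h1r, h1i⟩ := h1
  obtain ⟨h2r, h2i⟩ := h2
  rw [Complex.mul_re, ← h1i, mul_zero, sub_zero] at h2r
  rw [Complex.mul_im, ← h1i, mul_zero, zero_add] at h2i
  constructor
  · by_contra hneg
    push Not at hneg
    have : c.re * h.re ≤ 0 := mul_nonpos_of_nonpos_of_nonneg hneg h1r.le
    linarith
  · rcases mul_eq_zero.mp h2i.symm with h | h
    · exact h
    · exact absurd h h1r.ne'


end RS

section Main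

universe u
variable {G : Type u} [Group G] [Fintype G] {n : ℕ}

theorem exists_real_rep_of_fsInd_eq_one (ρ : Representation ℂ G (Fin n → ℂ)) [ρ.IsIrreducible]
    (hν : fsInd ρ.character = 1) :
    ∃ R : G → Matrix (Fin n) (Fin n) ℝ, R 1 = 1 ∧ (∀ g h, R (g * h) = R g * R h) ∧
      ∀ g, (((R g).trace : ℝ) : ℂ) = ρ.character g := by
  classical
  have hreal : ∀ g : G, (ρ.character g).im = 0 :=
    (fsInd_rep_cases ρ).2 (by rw [hν]; exact one_ne_zero)
  obtain ⟨W, W', hW, hW', hinv⟩ := exists_invariant_of_real ρ hreal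
  have hWt : Wᵀ = W := by
    have := transpose_eq_indicator_smul ρ hreal W hinv
    change Wᵀ = fsInd ρ.character • W at this
    rw [hν, one_smul] at this
    exact this
  have hn : 0 < n := by
    have := card_ne_zero_of_irr ρ
    rcases Nat.eq_zero_or_pos n with h | h
    · exfalso; apply this; rw [h]; simp
    · exact h
  set X : G → Matrix (Fin n) (Fin n) ℂ := repMat ρ with hX
  have hXmul : ∀ g h, X (g * h) = X g * X h := repMat_mul ρ
  have hX1 : X 1 = 1 := repMat_one ρ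
  have hXinv : ∀ g, X g⁻¹ * X g = 1 := repMat_inv_mul ρ
  have hXinv' : ∀ g, X g * X g⁻¹ = 1 := repMat_mul_inv ρ
  -- the Hermitian form
  set H : Matrix (Fin n) (Fin n) ℂ := ∑ u : G, (X u)ᴴ * X u with hH
  have hHpd : H.PosDef := by
    rw [hH]
    apply Matrix.posDef_sum Finset.univ_nonempty
    intro u _
    exact Matrix.PosDef.conjTranspose_mul_self (X u)
      (mulVec_injective_of_mul_eq_one (X u) (X u⁻¹) (hXinv u))
  have hHinv : ∀ g, (X g)ᴴ * H * X g = H := by
    intro g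
    rw [hH, Finset.mul_sum, Finset.sum_mul]
    rw [← Equiv.sum_comp (Equiv.mulRight g) (fun u => (X u)ᴴ * X u)]
    refine Finset.sum_congr rfl fun u _ => ?_
    simp only [Equiv.coe_mulRight, hXmul, Matrix.conjTranspose_mul, Matrix.mul_assoc]
  have hHunit : IsUnit H.det := (Matrix.isUnit_iff_isUnit_det H).mp hHpd.isUnit
  have hHHi : H * H⁻¹ = 1 := Matrix.mul_nonsing_inv H hHunit
  have hHiH : H⁻¹ * H = 1 := Matrix.nonsing_inv_mul H hHunit
  obtain ⟨Hi, hHi⟩ : ∃ Hi : Matrix (Fin n) (Fin n) ℂ, Hi = H⁻¹ := ⟨_, rfl⟩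
  rw [← hHi] at hHHi hHiH
  have hHipd : Hi.PosDef := by rw [hHi]; exact hHpd.inv
  -- the antilinear structure
  obtain ⟨A, hA⟩ : ∃ A : Matrix (Fin n) (Fin n) ℂ, A = Hi * cbar W := ⟨_, rfl⟩
  have hAX : ∀ g, A * cbar (X g) = X g * A := by
    intro g
    have h1 : (X g)ᴴ * cbar W * cbar (X g) = cbar W := by
      have := congrArg cbar (hinv g)
      rw [cbar_mul, cbar_mul, ← conjTranspose_eq_cbar] at this
      exact this
    have h2 : (X g⁻¹)ᴴ * (X g)ᴴ = 1 := by
      rw [← Matrix.conjTranspose_mul, hXinv', Matrix.conjTranspose_one]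
    have h3 : cbar W * cbar (X g) = (X g⁻¹)ᴴ * cbar W := by
      calc cbar W * cbar (X g) = ((X g⁻¹)ᴴ * (X g)ᴴ) * (cbar W * cbar (X g)) := by
            rw [h2, Matrix.one_mul]
        _ = (X g⁻¹)ᴴ * ((X g)ᴴ * cbar W * cbar (X g)) := by simp only [Matrix.mul_assoc]
        _ = (X g⁻¹)ᴴ * cbar W := by rw [h1]
    have h4 : (X g⁻¹)ᴴ * H = H * X g := by
      have := hHinv g⁻¹
      calc (X g⁻¹)ᴴ * H = (X g⁻¹)ᴴ * H * (X g⁻¹ * X g) := by rw [hXinv, Matrix.mul_one]
        _ = ((X g⁻¹)ᴴ * H * X g⁻¹) * X g := by simp only [Matrix.mul_assoc]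
        _ = H * X g := by rw [this]
    have h5 : Hi * (X g⁻¹)ᴴ = X g * Hi := by
      calc Hi * (X g⁻¹)ᴴ = Hi * (X g⁻¹)ᴴ * (H * Hi) := by rw [hHHi, Matrix.mul_one]
        _ = Hi * ((X g⁻¹)ᴴ * H) * Hi := by simp only [Matrix.mul_assoc]
        _ = Hi * (H * X g) * Hi := by rw [h4]
        _ = (Hi * H) * X g * Hi := by simp only [Matrix.mul_assoc]
        _ = X g * Hi := by rw [hHiH, Matrix.one_mul]
    calc A * cbar (X g) = Hi * (cbar W * cbar (X g)) := by rw [hA, Matrix.mul_assoc]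
      _ = Hi * ((X g⁻¹)ᴴ * cbar W) := by rw [h3]
      _ = (Hi * (X g⁻¹)ᴴ) * cbar W := by rw [Matrix.mul_assoc]
      _ = X g * Hi * cbar W := by rw [h5]
      _ = X g * A := by rw [hA, Matrix.mul_assoc]
  have hcomm : ∀ g, (A * cbar A) * X g = X g * (A * cbar A) := by
    intro g
    have h1 : cbar A * X g = cbar (X g) * cbar A := by
      have := congrArg cbar (hAX g)
      rw [cbar_mul, cbar_mul, cbar_cbar] at this
      exact this
    calc (A * cbar A) * X g = A * (cbar A * X g) := by rw [Matrix.mul_assoc]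
      _ = A * (cbar (X g) * cbar A) := by rw [h1]
      _ = (A * cbar (X g)) * cbar A := by rw [Matrix.mul_assoc]
      _ = X g * A * cbar A := by rw [hAX]
      _ = X g * (A * cbar A) := by rw [Matrix.mul_assoc]
  have hschur := matrix_schur ρ (A * cbar A) hcomm
  obtain ⟨lam, hlam⟩ : ∃ lam : ℂ, lam = (A * cbar A).trace / (n : ℂ) := ⟨_, rfl⟩
  rw [← hlam] at hschur
  -- positivity of lam
  have hWb : cbar W = Wᴴ := by rw [conjTranspose_eq_cbar, hWt]
  have hHib : cbar Hi = Hiᵀ := by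
    have h1 : Hiᴴ = Hi := hHipd.isHermitian
    rw [conjTranspose_eq_cbar, cbar_transpose] at h1
    have := congrArg Matrix.transpose h1
    rw [Matrix.transpose_transpose] at this
    exact this
  have hlamH : lam • H = Wᴴ * Hiᵀ * W := by
    calc lam • H = H * (lam • (1 : Matrix (Fin n) (Fin n) ℂ)) := by
          rw [Matrix.mul_smul, Matrix.mul_one]
      _ = H * (A * cbar A) := by rw [← hschur]
      _ = H * (Hi * cbar W * (cbar Hi * cbar (cbar W))) := by rw [hA, cbar_mul]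
      _ = (H * Hi) * cbar W * cbar Hi * W := by rw [cbar_cbar]; simp only [Matrix.mul_assoc]
      _ = Wᴴ * Hiᵀ * W := by rw [hHHi, Matrix.one_mul, hWb, hHib]
  have hlampd : (lam • H).PosDef := by
    rw [hlamH]
    exact Matrix.PosDef.conjTranspose_mul_mul_same hHipd.transpose
      (mulVec_injective_of_mul_eq_one W W' hW')
  obtain ⟨hlre, hlim⟩ := pos_of_posDef_smul hn H lam hHpd hlampd
  have hlam_eq : lam = ((lam.re : ℝ) : ℂ) := by
    apply Complex.ext
    · simp
    · simp [hlim]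
  -- normalize
  set c : ℝ := (Real.sqrt lam.re)⁻¹ with hc
  have hcsq : (c : ℂ) * (c : ℂ) * lam = 1 := by
    rw [hlam_eq]
    have h1 : c * c * lam.re = 1 := by
      rw [hc]
      have hs : Real.sqrt lam.re * Real.sqrt lam.re = lam.re := Real.mul_self_sqrt hlre.le
      have hs0 : Real.sqrt lam.re ≠ 0 := (Real.sqrt_pos.mpr hlre).ne'
      calc (Real.sqrt lam.re)⁻¹ * (Real.sqrt lam.re)⁻¹ * lam.re
          = (Real.sqrt lam.re)⁻¹ * (Real.sqrt lam.re)⁻¹ *
              (Real.sqrt lam.re * Real.sqrt lam.re) := by rw [hs]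
        _ = ((Real.sqrt lam.re)⁻¹ * Real.sqrt lam.re) *
              ((Real.sqrt lam.re)⁻¹ * Real.sqrt lam.re) := by ring
        _ = 1 := by rw [inv_mul_cancel₀ hs0, one_mul]
    have : ((c * c * lam.re : ℝ) : ℂ) = 1 := by rw [h1]; simp
    push_cast at this
    simpa using this
  obtain ⟨A', hA'⟩ : ∃ A' : Matrix (Fin n) (Fin n) ℂ, A' = (c : ℂ) • A := ⟨_, rfl⟩
  have hA'bar : cbar A' = (c : ℂ) • cbar A := by
    rw [hA', cbar_smul, Complex.conj_ofReal]
  have hA'A' : A' * cbar A' = 1 := by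
    rw [hA'bar, hA', Matrix.smul_mul, Matrix.mul_smul, smul_smul, hschur, smul_smul, hcsq,
      one_smul]
  have hA'X : ∀ g, A' * cbar (X g) = X g * A' := by
    intro g
    rw [hA', Matrix.smul_mul, hAX, Matrix.mul_smul]
  obtain ⟨R, hR1, hRmul, hRtr⟩ := exists_real_form X hX1 hXmul A' hA'A' hA'X
  refine ⟨R, hR1, hRmul, fun g => ?_⟩
  rw [hRtr g, hX, trace_repMat]

end Main

end Cfsg.Agent.Lib.Helper79
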