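import Mathlib
import Cfsg.Prelude.Def_GeometricClasses
import Cfsg.Agent.Lib.Helper09.AnisoExt
import Cfsg.Agent.Lib.Helper42.AschOB2a
import Cfsg.Agent.Lib.Helper49.SemisimpleKer

/-!
# K-SpU tools T1, T2 (helper79): quadratic field subalgebras of a matrix algebra

* `exists_quad_rel`: every element of a quadratic field subalgebra satisfies a monic quadratic equation over `F`.
* `commute_of_mem_normalizer_of_odd` (T1): an element of odd order normalising `K` centralises `K` (`2 ≠ 0`).
* `even_finrank_of_invariant` (T2): a `K`-invariant subspace has even dimension.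
-/

set_option autoImplicit false

namespace Cfsg.Agent.Lib.Helper79.SpU

open Cfsg Cfsg.Geo Module Polynomial
open scoped Matrix MatrixGroups

variable {F : Type*} [Field F] {ι : Type} [Fintype ι] [DecidableEq ι]

/-- a field subalgebra has no zero divisors (any index type) -/
theorem eq_zero_of_mul_eq_zero' {r : ℕ} {E : Subalgebra F (Matrix ι ι F)} (hE : IsFieldSubalgebra r E) {a b : Matrix ι ι F}
    (ha : a ∈ E) (hab : a * b = 0) : a = 0 ∨ b = 0 := by
  by_cases h0 : a = 0
  · exact Or.inl h0
  · right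
    obtain ⟨y, hy, hay⟩ := hE.inv a ha h0
    have hya : y * a = 1 := by rw [← hE.comm a ha y hy]; exact hay
    calc b = (y * a) * b := by rw [hya, one_mul]
      _ = y * (a * b) := by rw [mul_assoc]
      _ = 0 := by rw [hab, mul_zero]

/-- Cayley–Hamilton in a two-dimensional algebra -/
theorem exists_quad_rel (K : Subalgebra F (Matrix ι ι F)) (hK : IsFieldSubalgebra 2 K) (a : Matrix ι ι F) (ha : a ∈ K) :
    ∃ s d' : F, a * a = s • a - d' • (1 : Matrix ι ι F) := by
  classical
  haveI : Module.Finite F K := Module.finite_of_finrank_pos (by rw [hK.finrank_eq]; norm_num)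
  have hnt : Nontrivial K := Module.nontrivial_of_finrank_pos (R := F) (by rw [hK.finrank_eq]; norm_num)
  let a' : K := ⟨a, ha⟩
  let v : Fin 3 → K := ![1, a', a' * a']
  have hdep : ¬ LinearIndependent F v := by
    intro h
    have := h.fintype_card_le_finrank
    rw [hK.finrank_eq, Fintype.card_fin] at this
    omega
  obtain ⟨g, hg, i, hi⟩ := Fintype.not_linearIndependent_iff.1 hdep
  rw [Fin.sum_univ_three] at hg
  have hg' : g 0 • (1 : Matrix ι ι F) + g 1 • a + g 2 • (a * a) = 0 := by
    have := congrArg Subtype.val hg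
    simpa [v, a'] using this
  by_cases h2 : g 2 = 0
  · rw [h2, zero_smul, add_zero] at hg'
    have h1 : g 1 ≠ 0 := by
      intro h1
      rw [h1, zero_smul, add_zero] at hg'
      have h0 : g 0 = 0 := by
        by_contra h0
        have h1K : (1 : K) = 0 := by
          apply Subtype.ext
          have := congrArg (fun M => (g 0)⁻¹ • M) hg'
          simpa [smul_smul, inv_mul_cancel₀ h0] using this
        exact one_ne_zero h1K
      fin_cases i
      · exact hi h0
      · exact hi h1
      · exact hi h2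
    -- `a` is scalar
    have hac : a = (-(g 0) / g 1) • (1 : Matrix ι ι F) := by
      have := congrArg (fun M => (g 1)⁻¹ • M) hg'
      simp only [smul_add, smul_smul, inv_mul_cancel₀ h1, one_smul, smul_zero] at this
      rw [neg_div, neg_smul, div_eq_inv_mul, mul_comm]
      rw [mul_comm] at this
      exact eq_neg_of_add_eq_zero_right this
    set c := -(g 0) / g 1 with hc
    refine ⟨2 * c, c * c, ?_⟩
    rw [hac, smul_mul_smul_comm, mul_one, smul_smul, ← sub_smul]
    congr 1
    ring
  · refine ⟨-(g 1) / g 2, g 0 / g 2, ?_⟩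
    have := congrArg (fun M => (g 2)⁻¹ • M) hg'
    simp only [smul_add, smul_smul, inv_mul_cancel₀ h2, one_smul, smul_zero] at this
    rw [neg_div, neg_smul, div_eq_inv_mul, div_eq_inv_mul]
    rw [eq_sub_iff_add_eq, eq_neg_iff_add_eq_zero]
    rw [← this]
    abel

/-- **K-SpU-T1.**  An element of odd order normalising a quadratic field subalgebra centralises it. -/
theorem commute_of_mem_normalizer_of_odd (K : Subalgebra F (Matrix ι ι F))
    (hK : IsFieldSubalgebra 2 K) (y : GL ι F) (hy : y ∈ subalgebraNormalizer K) (r : ℕ) (hr : Odd r) (hyr : y ^ r = 1) :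
    ∀ a ∈ K, (y : Matrix ι ι F) * a = a * (y : Matrix ι ι F) := by
  intro a ha
  have hyi : ((y : GL ι F) : Matrix ι ι F) * ((y⁻¹ : GL ι F) : Matrix ι ι F) = 1 := by
    rw [← Units.val_mul, mul_inv_cancel, Units.val_one]
  have hiy : ((y⁻¹ : GL ι F) : Matrix ι ι F) * ((y : GL ι F) : Matrix ι ι F) = 1 := by
    rw [← Units.val_mul, inv_mul_cancel, Units.val_one]
  set Y : Matrix ι ι F := (y : Matrix ι ι F) with hY
  set Yi : Matrix ι ι F := ((y⁻¹ : GL ι F) : Matrix ι ι F) with hYi
  obtain ⟨s, d', hrel⟩ := exists_quad_rel K hK a ha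
  obtain ⟨b, hb⟩ : ∃ b, b = Y * a * Yi := ⟨_, rfl⟩
  have hbK : b ∈ K := by rw [hb]; exact (hy a).1 ha
  have hab : a * b = b * a := hK.comm a ha b hbK
  -- `b` satisfies the same quadratic relation
  have hrelb : b * b = s • b - d' • (1 : Matrix ι ι F) := by
    calc b * b = Y * (a * ((Yi * Y) * a)) * Yi := by rw [hb]; simp only [mul_assoc]
      _ = Y * (a * a) * Yi := by rw [hiy, one_mul]
      _ = s • b - d' • (1 : Matrix ι ι F) := by
          rw [hrel, mul_sub, sub_mul, Matrix.mul_smul, Matrix.smul_mul, Matrix.mul_smul, Matrix.smul_mul, mul_one, hyi, hb]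
  -- so `b = a` or `b = s - a`
  have hprod : (b - a) * (b - (s • (1 : Matrix ι ι F) - a)) = 0 := by
    have e1 : (b - a) * (b - (s • (1 : Matrix ι ι F) - a)) = b * b - s • b + (s • a - a * a) + (b * a - a * b) := by
      simp only [sub_mul, mul_sub, Matrix.mul_smul, Matrix.smul_mul, mul_one, one_mul]
      abel
    rw [e1, hrelb, hrel, hab]
    abel
  have hcomm_of : b = a → Y * a = a * Y := by
    intro h
    calc Y * a = Y * a * (Yi * Y) := by rw [hiy, mul_one]
      _ = (Y * a * Yi) * Y := by simp only [mul_assoc]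
      _ = a * Y := by rw [← hb, h]
  rcases eq_zero_of_mul_eq_zero' hK (K.sub_mem hbK ha) hprod with h | h
  · exact hcomm_of (sub_eq_zero.1 h)
  · -- `b = s - a`: then `y²` commutes with `a`
    have hb' : b = s • (1 : Matrix ι ι F) - a := sub_eq_zero.1 h
    have hYb : Y * b * Yi = a := by
      rw [hb', mul_sub, sub_mul, Matrix.mul_smul, Matrix.smul_mul, mul_one, hyi, ← hb, hb']
      abel
    have hYa : Y * a = b * Y := by
      calc Y * a = Y * a * (Yi * Y) := by rw [hiy, mul_one]
        _ = (Y * a * Yi) * Y := by simp only [mul_assoc]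
        _ = b * Y := by rw [← hb]
    have hYb' : Y * b = a * Y := by
      calc Y * b = Y * b * (Yi * Y) := by rw [hiy, mul_one]
        _ = (Y * b * Yi) * Y := by simp only [mul_assoc]
        _ = a * Y := by rw [hYb]
    have h2 : (Y * Y) * a = a * (Y * Y) := by
      calc (Y * Y) * a = Y * (Y * a) := by rw [mul_assoc]
        _ = (Y * b) * Y := by rw [hYa, mul_assoc]
        _ = a * (Y * Y) := by rw [hYb', mul_assoc]
    obtain ⟨k, hk⟩ := hr
    have h2k : ∀ j : ℕ, (Y * Y) ^ j * a = a * (Y * Y) ^ j := by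
      intro j
      induction j with
      | zero => simp
      | succ j ih => rw [pow_succ, mul_assoc, h2, ← mul_assoc, ih, mul_assoc]
    have hYr : (Y * Y) ^ k * Y = 1 := by
      have := congrArg (fun g : GL ι F => (g : Matrix ι ι F)) hyr
      simp only [Units.val_pow_eq_pow_val, Units.val_one] at this
      rw [← this, hk, pow_succ, pow_mul, pow_two]
    have hYr' : Y * (Y * Y) ^ k = 1 := by
      rw [← hYr]
      exact ((Commute.refl Y).mul_right (Commute.refl Y)).pow_right k |>.eq
    -- `Y = ((Y Y)^k)⁻¹`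
    calc Y * a = Y * a * ((Y * Y) ^ k * Y) := by rw [hYr, mul_one]
      _ = Y * (a * (Y * Y) ^ k) * Y := by simp only [mul_assoc]
      _ = Y * ((Y * Y) ^ k * a) * Y := by rw [h2k]
      _ = (Y * (Y * Y) ^ k) * a * Y := by simp only [mul_assoc]
      _ = a * Y := by rw [hYr', one_mul]

/-- a non-scalar element -/
theorem exists_nonscalar (K : Subalgebra F (Matrix ι ι F)) (hK : IsFieldSubalgebra 2 K) :
    ∃ θ ∈ K, ∀ c : F, θ ≠ c • (1 : Matrix ι ι F) := by
  classical
  by_contra hcon
  push Not at hcon
  haveI : Module.Finite F K := Module.finite_of_finrank_pos (by rw [hK.finrank_eq]; norm_num)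
  let φ : F →ₗ[F] K := LinearMap.toSpanSingleton F K 1
  have hsurj : Function.Surjective φ := by
    rintro ⟨x, hx⟩
    obtain ⟨c, hc⟩ := hcon x hx
    refine ⟨c, Subtype.ext ?_⟩
    show ((c • (1 : K) : K) : Matrix ι ι F) = x
    rw [hc]
    rfl
  have := LinearMap.finrank_le_finrank_of_surjective hsurj
  rw [hK.finrank_eq, Module.finrank_self] at this
  omega

/-- **K-SpU-T2.**  A `K`-invariant subspace has even dimension. -/
theorem even_finrank_of_invariant [Finite F] (K : Subalgebra F (Matrix ι ι F)) (hK : IsFieldSubalgebra 2 K)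
    (W : Submodule F (ι → F)) (hW : ∀ a ∈ K, ∀ w ∈ W, a *ᵥ w ∈ W) : Even (Module.finrank F W) := by
  classical
  obtain ⟨θ, hθK, hθns⟩ := exists_nonscalar K hK
  obtain ⟨s, d', hrel⟩ := exists_quad_rel K hK θ hθK
  -- no root in `F`
  have hnoroot : ∀ t : F, t ^ 2 + (-s) * t + d' ≠ 0 := by
    intro t ht
    have hprod : (θ - t • (1 : Matrix ι ι F)) * (θ - (s - t) • (1 : Matrix ι ι F)) = 0 := by
      have e1 : (θ - t • (1 : Matrix ι ι F)) * (θ - (s - t) • (1 : Matrix ι ι F)) =
          θ * θ - s • θ + (t * (s - t)) • (1 : Matrix ι ι F) := by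
        simp only [sub_mul, mul_sub, Matrix.mul_smul, Matrix.smul_mul, mul_one, one_mul, smul_smul]
        module
      rw [e1, hrel]
      have : t * (s - t) = d' := by linear_combination -ht
      rw [this]
      abel
    rcases eq_zero_of_mul_eq_zero' hK
      (K.sub_mem hθK (K.smul_mem K.one_mem t)) hprod with h | h
    · exact hθns t (sub_eq_zero.1 h)
    · exact hθns (s - t) (sub_eq_zero.1 h)
  have hirr := Cfsg.Agent.Lib.Helper09.AnisoExt.qpoly_irreducible (-s) d' hnoroot
  -- the restriction of `θ` to `W`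
  let T : (ι → F) →ₗ[F] (ι → F) := Matrix.toLin' θ
  have hTW : ∀ w ∈ W, T w ∈ W := by
    intro w hw
    show Matrix.toLin' θ w ∈ W
    rw [Matrix.toLin'_apply]
    exact hW θ hθK w hw
  let φ : W →ₗ[F] W := T.restrict hTW
  have hφ : aeval φ (Cfsg.Agent.Lib.Helper09.AnisoExt.qpoly (-s) d') = 0 := by
    unfold Cfsg.Agent.Lib.Helper09.AnisoExt.qpoly
    apply LinearMap.ext
    intro w
    apply Subtype.ext
    simp only [map_add, map_mul, map_pow, aeval_X, aeval_C, LinearMap.add_apply, LinearMap.zero_apply,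
      Submodule.coe_add, ZeroMemClass.coe_zero, Module.algebraMap_end_apply, Module.End.mul_apply, pow_two]
    show T (T w) + (-s) • T w + d' • (w : ι → F) = 0
    show Matrix.toLin' θ (Matrix.toLin' θ w) + (-s) • Matrix.toLin' θ w + d' • (w : ι → F) = 0
    rw [Matrix.toLin'_apply, Matrix.toLin'_apply, Matrix.mulVec_mulVec, hrel, Matrix.sub_mulVec, Matrix.smul_mulVec,
      Matrix.smul_mulVec, Matrix.one_mulVec, neg_smul]
    abel
  have hdvd := Cfsg.Agent.Lib.Helper49.natDegree_dvd_finrank_of_irreducible φ _ hirr hφ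
  rw [Cfsg.Agent.Lib.Helper09.AnisoExt.qpoly_natDegree] at hdvd
  exact even_iff_two_dvd.2 hdvd

end Cfsg.Agent.Lib.Helper79.SpU
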