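import Mathlib
import Cfsg.Prelude.Def_Blocks
import Cfsg.Prelude.Def_BlockRank
import Cfsg.Agent.S4425
import Cfsg.Agent.Lib.Helper82.BlockRank
import Cfsg.Agent.Lib.Helper82.CharBasic
import Cfsg.Agent.Lib.Helper83.Decompose
import Cfsg.Agent.Lib.Helper83.LinearCount
import Cfsg.Agent.Lib.Helper05.CharOrtho

set_option autoImplicit false
set_option linter.unusedSectionVars false
set_option linter.style.haveILetI false

namespace Cfsg.Agent.Lib.Helper79

open Cfsg
open Cfsg.Agent.Lib.Helper82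
open scoped ComplexConjugate

section CentralDefect

universe u
variable {G : Type u} [Group G] [Fintype G] {p : ℕ} [Fact p.Prime]

/-- the product map `D × G_{p'} → G` is injective for a central `p`-subgroup `D`. -/
theorem mul_regular_injective (D : Subgroup G) (hDp : IsPGroup p D)
    (hDZ : D ≤ Subgroup.center G) :
    Function.Injective (fun zy : D × {y : G // ¬ p ∣ orderOf y} => (zy.1 : G) * (zy.2 : G)) := by
  have hp : p.Prime := Fact.out
  rintro ⟨z, y⟩ ⟨z', y'⟩ h
  simp only at h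
  have hw : ((z'⁻¹ * z : D) : G) * (y : G) = (y' : G) := by
    push_cast
    rw [mul_assoc, h, ← mul_assoc, inv_mul_cancel, one_mul]
  set w : D := z'⁻¹ * z with hwdef
  have hcomm : Commute (w : G) (y : G) := by
    have := hDZ w.2
    rw [Subgroup.mem_center_iff] at this
    exact (this (y : G)).symm
  obtain ⟨k, hk⟩ := (IsPGroup.iff_orderOf.1 hDp) w
  have hk' : orderOf (w : G) = p ^ k := by rw [← hk, Subgroup.orderOf_coe]
  have hk0 : k = 0 := by
    by_contra hk0
    have hco : (orderOf (w : G)).Coprime (orderOf (y : G)) := by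
      rw [hk']
      exact Nat.Coprime.pow_left k ((Nat.Prime.coprime_iff_not_dvd hp).2 y.2)
    have hord := hcomm.orderOf_mul_eq_mul_orderOf_of_coprime hco
    rw [hw, hk'] at hord
    apply y'.2
    rw [hord]
    exact dvd_mul_of_dvd_left (dvd_pow_self p hk0) _
  rw [hk0, pow_zero, orderOf_eq_one_iff] at hk
  have hzz : z = z' := by
    have : z'⁻¹ * z = 1 := hk
    rw [inv_mul_eq_one] at this
    exact this.symm
  subst hzz
  have hyy : (y : G) = (y' : G) := mul_left_cancel h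
  rw [Prod.mk.injEq]
  exact ⟨rfl, Subtype.ext hyy⟩

/-- the sum of `|ψ|²` over the `p`-regular elements. -/
noncomputable def regNormSq (p : ℕ) (ψ : G → ℂ) : ℝ := by
  classical
  exact ∑ y : G, if p ∣ orderOf y then 0 else Complex.normSq (ψ y)

theorem regNormSq_eq (ψ : G → ℂ) [DecidablePred fun y : G => p ∣ orderOf y] :
    regNormSq p ψ = ∑ y : G, if p ∣ orderOf y then 0 else Complex.normSq (ψ y) := by
  unfold regNormSq
  refine Finset.sum_congr rfl fun y _ => ?_
  split_ifs <;> rfl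

theorem regNormSq_pos (ψ : IrrCharacter G) : 0 < regNormSq p (ψ : G → ℂ) := by
  classical
  have hp : p.Prime := Fact.out
  rw [regNormSq_eq]
  have h1 : ¬ p ∣ orderOf (1 : G) := by
    rw [orderOf_one]
    intro h
    exact hp.one_lt.ne' (Nat.dvd_one.1 h)
  have hterm : 0 < (if p ∣ orderOf (1 : G) then (0 : ℝ) else Complex.normSq ((ψ : G → ℂ) 1)) := by
    rw [if_neg h1, Complex.normSq_pos]
    have hdeg := IsCharacter.charDegree_cast (IsIrrCharacter.isCharacter ψ.2)
    rw [← hdeg]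
    exact Nat.cast_ne_zero.2 (IsIrrCharacter.charDegree_pos ψ.2).ne'
  refine lt_of_lt_of_le hterm ?_
  refine Finset.single_le_sum (f := fun y : G => if p ∣ orderOf y then (0 : ℝ) else
    Complex.normSq ((ψ : G → ℂ) y)) (fun y _ => ?_) (Finset.mem_univ (1 : G))
  split_ifs
  · exact le_refl _
  · exact Complex.normSq_nonneg _

theorem classInner_pRegularPart_self (ψ : G → ℂ) :
    classInner (pRegularPart p ψ) ψ = ((regNormSq p ψ : ℝ) : ℂ) / (Nat.card G : ℂ) := by
  classical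
  rw [classInner_pRegularPart_left, regNormSq_eq, inv_mul_eq_div]
  congr 1
  push_cast
  refine Finset.sum_congr rfl fun y _ => ?_
  split_ifs
  · rfl
  · rw [Complex.mul_conj]

theorem sum_normSq_irr (ψ : IrrCharacter G) :
    ∑ g : G, Complex.normSq ((ψ : G → ℂ) g) = (Nat.card G : ℝ) := by
  have h1 := Cfsg.Agent.Lib.Helper05.classInner_irr_self ψ.2
  rw [Cfsg.Agent.Lib.Helper83.classInner_def] at h1
  have hG0 : (Nat.card G : ℂ) ≠ 0 := Nat.cast_ne_zero.2 Nat.card_pos.ne'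
  have h2 : ∑ g : G, (ψ : G → ℂ) g * conj ((ψ : G → ℂ) g) = (Nat.card G : ℂ) := by
    field_simp at h1
    exact h1
  have h3 : ((∑ g : G, Complex.normSq ((ψ : G → ℂ) g) : ℝ) : ℂ) = ((Nat.card G : ℝ) : ℂ) := by
    push_cast
    rw [← h2]
    refine Finset.sum_congr rfl fun g _ => ?_
    rw [Complex.mul_conj]
  exact_mod_cast h3

theorem normSq_mul_central (ψ : IrrCharacter G) {z : G} (hz : z ∈ Subgroup.center G) (g : G) :
    Complex.normSq ((ψ : G → ℂ) (z * g)) = Complex.normSq ((ψ : G → ℂ) g) := by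
  have hzg : z * g = g * z := by
    rw [Subgroup.mem_center_iff] at hz
    exact (hz g).symm
  rw [hzg, Cfsg.Agent.Lib.Helper83.irr_mul_central ψ hz g, map_div₀, map_mul,
    Cfsg.Agent.Lib.Helper83.irr_central_normSq ψ hz,
    ← Cfsg.Agent.Lib.Helper83.irr_central_normSq ψ (Subgroup.one_mem _)]
  have h1 : Complex.normSq ((ψ : G → ℂ) 1) ≠ 0 := by
    rw [Ne, Complex.normSq_eq_zero]
    have hdeg := IsCharacter.charDegree_cast (IsIrrCharacter.isCharacter ψ.2)
    rw [← hdeg]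
    exact Nat.cast_ne_zero.2 (IsIrrCharacter.charDegree_pos ψ.2).ne'
  field_simp

/-- the image of `D × G_{p'}` in `G`. -/
noncomputable def regImage (p : ℕ) (D : Subgroup G) : Finset G := by
  classical
  exact Finset.univ.image
    (fun zy : D × {y : G // ¬ p ∣ orderOf y} => (zy.1 : G) * (zy.2 : G))

theorem mem_regImage (D : Subgroup G) (g : G) :
    g ∈ regImage p D ↔ ∃ z ∈ D, ∃ y : G, ¬ p ∣ orderOf y ∧ z * y = g := by
  classical
  unfold regImage
  rw [Finset.mem_image]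
  constructor
  · rintro ⟨⟨z, y⟩, -, h⟩
    exact ⟨z, z.2, y, y.2, h⟩
  · rintro ⟨z, hz, y, hy, h⟩
    exact ⟨(⟨z, hz⟩, ⟨y, hy⟩), Finset.mem_univ _, h⟩

theorem sum_regImage (D : Subgroup G) (hDp : IsPGroup p D) (hDZ : D ≤ Subgroup.center G)
    (ψ : IrrCharacter G) :
    ∑ g ∈ regImage p D, Complex.normSq ((ψ : G → ℂ) g) =
      (Nat.card D : ℝ) * regNormSq p (ψ : G → ℂ) := by
  classical
  unfold regImage
  rw [Finset.sum_image (fun a _ b _ h => mul_regular_injective D hDp hDZ h),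
    Fintype.sum_prod_type, regNormSq_eq]
  have h1 : ∀ z : D, ∑ y : {y : G // ¬ p ∣ orderOf y},
      Complex.normSq ((ψ : G → ℂ) ((z : G) * (y : G))) =
      ∑ y : G, if p ∣ orderOf y then 0 else Complex.normSq ((ψ : G → ℂ) y) := by
    intro z
    have h2 : ∀ y : {y : G // ¬ p ∣ orderOf y},
        Complex.normSq ((ψ : G → ℂ) ((z : G) * (y : G))) =
        Complex.normSq ((ψ : G → ℂ) (y : G)) := fun y => normSq_mul_central ψ (hDZ z.2) _
    rw [Finset.sum_congr rfl fun y _ => h2 y]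
    have h3 : ∑ y : G, (if p ∣ orderOf y then (0 : ℝ) else Complex.normSq ((ψ : G → ℂ) y)) =
        ∑ y ∈ Finset.univ.filter (fun y : G => ¬ p ∣ orderOf y),
          Complex.normSq ((ψ : G → ℂ) y) := by
      rw [Finset.sum_filter]
      refine Finset.sum_congr rfl fun y _ => ?_
      by_cases hy : p ∣ orderOf y
      · rw [if_pos hy, if_neg (not_not.2 hy)]
      · rw [if_neg hy, if_pos hy]
    rw [h3, Finset.sum_subtype (Finset.univ.filter (fun y : G => ¬ p ∣ orderOf y))
      (p := fun y : G => ¬ p ∣ orderOf y)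
      (fun x => by rw [Finset.mem_filter]; exact ⟨fun h => h.2, fun h => ⟨Finset.mem_univ _, h⟩⟩)]
  rw [Finset.sum_congr rfl fun z _ => h1 z, Finset.sum_const, Finset.card_univ, nsmul_eq_mul,
    Nat.card_eq_fintype_card]

/-- `|D| · Σ_{p-regular} |ψ|² ≤ |G|` for a central `p`-subgroup `D`. -/
theorem card_mul_regNormSq_le (D : Subgroup G) (hDp : IsPGroup p D)
    (hDZ : D ≤ Subgroup.center G) (ψ : IrrCharacter G) :
    (Nat.card D : ℝ) * regNormSq p (ψ : G → ℂ) ≤ (Nat.card G : ℝ) := by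
  rw [← sum_regImage D hDp hDZ ψ, ← sum_normSq_irr ψ]
  exact Finset.sum_le_sum_of_subset_of_nonneg (Finset.subset_univ _)
    (fun g _ _ => Complex.normSq_nonneg _)

/-- `p ^ (a - ν_p(ψ(1))) · Σ_{p-regular} |ψ|² / |G|` is a positive integer. -/
theorem exists_int_pow_mul_regNormSq (ψ : IrrCharacter G) :
    ∃ k : ℤ, 0 < k ∧ ((p : ℝ) ^ ((Nat.card G).factorization p -
      (charDegree (ψ : G → ℂ)).factorization p)) * regNormSq p (ψ : G → ℂ) =
      (k : ℝ) * (Nat.card G : ℝ) := by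
  classical
  set e := (Nat.card G).factorization p - (charDegree (ψ : G → ℂ)).factorization p with he
  obtain ⟨α, β, hα, hβ, hθ⟩ := (Cfsg.Agent.S4425.result p ψ).1
  have hψc := IsIrrCharacter.isCharacter ψ.2
  obtain ⟨na, hna⟩ := Cfsg.Agent.Lib.Helper83.classInner_char_nat hα hψc
  obtain ⟨nb, hnb⟩ := Cfsg.Agent.Lib.Helper83.classInner_char_nat hβ hψc
  have h1 : classInner (fun x : G => if p ∣ orderOf x then (0 : ℂ) else
      ((p ^ e : ℕ) : ℂ) * (ψ : G → ℂ) x) (ψ : G → ℂ) = classInner (α - β) (ψ : G → ℂ) :=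
    congrArg (fun f => classInner f (ψ : G → ℂ)) hθ
  rw [Cfsg.Agent.Lib.Helper83.classInner_sub_left, hna, hnb] at h1
  have hG0 : (Nat.card G : ℂ) ≠ 0 := Nat.cast_ne_zero.2 Nat.card_pos.ne'
  have h2 : classInner (fun x : G => if p ∣ orderOf x then (0 : ℂ) else
      ((p ^ e : ℕ) : ℂ) * (ψ : G → ℂ) x) (ψ : G → ℂ) =
      ((p : ℂ) ^ e) * (((regNormSq p (ψ : G → ℂ) : ℝ) : ℂ) / (Nat.card G : ℂ)) := by
    rw [← classInner_pRegularPart_self, classInner_pRegularPart_left,
      Cfsg.Agent.Lib.Helper83.classInner_def]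
    have h3 : (p : ℂ) ^ e * ((Nat.card G : ℂ)⁻¹ * ∑ x : G,
        (if p ∣ orderOf x then 0 else (ψ : G → ℂ) x * conj ((ψ : G → ℂ) x))) =
        (Nat.card G : ℂ)⁻¹ * ∑ x : G, (p : ℂ) ^ e *
        (if p ∣ orderOf x then 0 else (ψ : G → ℂ) x * conj ((ψ : G → ℂ) x)) := by
      rw [← Finset.mul_sum]
      ring
    rw [h3]
    refine congrArg _ (Finset.sum_congr rfl fun x _ => ?_)
    split_ifs
    · simp
    · push_cast
      ring
  rw [h2] at h1
  have h3 : (((p : ℝ) ^ e * regNormSq p (ψ : G → ℂ) : ℝ) : ℂ) =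
      ((((na : ℤ) - (nb : ℤ) : ℤ) : ℝ) * (Nat.card G : ℝ) : ℝ) := by
    push_cast
    field_simp at h1
    linear_combination h1
  have h4 : (p : ℝ) ^ e * regNormSq p (ψ : G → ℂ) =
      (((na : ℤ) - (nb : ℤ) : ℤ) : ℝ) * (Nat.card G : ℝ) := by exact_mod_cast h3
  refine ⟨(na : ℤ) - (nb : ℤ), ?_, h4⟩
  have hpos : 0 < (p : ℝ) ^ e * regNormSq p (ψ : G → ℂ) :=
    mul_pos (pow_pos (Nat.cast_pos.2 (Fact.out : p.Prime).pos) e) (regNormSq_pos ψ)
  rw [h4] at hpos
  have hGpos : (0 : ℝ) < (Nat.card G : ℝ) := Nat.cast_pos.2 Nat.card_pos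
  have := (mul_pos_iff_of_pos_right hGpos).1 hpos
  exact_mod_cast this

/-- a central `p`-subgroup has order at most `p ^ (a - ν_p(ψ(1)))`, for every irreducible `ψ`. -/
theorem card_le_pow_of_central (D : Subgroup G) (hDp : IsPGroup p D)
    (hDZ : D ≤ Subgroup.center G) (ψ : IrrCharacter G) :
    Nat.card D ≤ p ^ ((Nat.card G).factorization p - (charDegree (ψ : G → ℂ)).factorization p) := by
  obtain ⟨k, hk, hke⟩ := exists_int_pow_mul_regNormSq (p := p) ψ
  have h1 := card_mul_regNormSq_le D hDp hDZ ψ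
  have hR := regNormSq_pos (p := p) ψ
  have hGpos : (0 : ℝ) < (Nat.card G : ℝ) := Nat.cast_pos.2 Nat.card_pos
  have hk1 : (1 : ℝ) ≤ (k : ℝ) := by exact_mod_cast hk
  have h2 : (Nat.card D : ℝ) * regNormSq p (ψ : G → ℂ) ≤
      (p : ℝ) ^ ((Nat.card G).factorization p - (charDegree (ψ : G → ℂ)).factorization p) *
        regNormSq p (ψ : G → ℂ) := by
    rw [hke]
    calc (Nat.card D : ℝ) * regNormSq p (ψ : G → ℂ) ≤ (Nat.card G : ℝ) := h1
      _ = 1 * (Nat.card G : ℝ) := (one_mul _).symm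
      _ ≤ (k : ℝ) * (Nat.card G : ℝ) := by
        exact mul_le_mul_of_nonneg_right hk1 hGpos.le
  have h3 := le_of_mul_le_mul_right h2 hR
  exact_mod_cast h3

/-- if the central `p`-subgroup `D` has order exactly `p ^ (a - ν_p(ψ(1)))`, then
`|D| · Σ_{p-regular} |ψ|² = |G|`. -/
theorem card_mul_regNormSq_eq (D : Subgroup G) (hDp : IsPGroup p D)
    (hDZ : D ≤ Subgroup.center G) (ψ : IrrCharacter G)
    (hcard : Nat.card D =
      p ^ ((Nat.card G).factorization p - (charDegree (ψ : G → ℂ)).factorization p)) :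
    (Nat.card D : ℝ) * regNormSq p (ψ : G → ℂ) = (Nat.card G : ℝ) := by
  obtain ⟨k, hk, hke⟩ := exists_int_pow_mul_regNormSq (p := p) ψ
  have h1 := card_mul_regNormSq_le D hDp hDZ ψ
  have hGpos : (0 : ℝ) < (Nat.card G : ℝ) := Nat.cast_pos.2 Nat.card_pos
  have hk1 : (1 : ℝ) ≤ (k : ℝ) := by exact_mod_cast hk
  have hcard' : (Nat.card D : ℝ) =
      (p : ℝ) ^ ((Nat.card G).factorization p - (charDegree (ψ : G → ℂ)).factorization p) := by
    rw [hcard]
    push_cast
    rfl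
  rw [hcard'] at h1 ⊢
  rw [hke] at h1 ⊢
  have h2 : (k : ℝ) ≤ 1 := by
    by_contra hlt
    rw [not_le] at hlt
    have := mul_lt_mul_of_pos_right hlt hGpos
    linarith
  have : (k : ℝ) = 1 := le_antisymm h2 hk1
  rw [this, one_mul]

/-- in the equality case, `ψ` vanishes off the image of `D × G_{p'}`. -/
theorem eq_zero_of_not_mem_regImage (D : Subgroup G) (hDp : IsPGroup p D)
    (hDZ : D ≤ Subgroup.center G) (ψ : IrrCharacter G)
    (hcard : Nat.card D =
      p ^ ((Nat.card G).factorization p - (charDegree (ψ : G → ℂ)).factorization p))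
    (g : G) (hg : g ∉ regImage p D) : (ψ : G → ℂ) g = 0 := by
  classical
  have h1 := card_mul_regNormSq_eq D hDp hDZ ψ hcard
  rw [← sum_regImage D hDp hDZ ψ, ← sum_normSq_irr ψ,
    ← Finset.sum_sdiff (Finset.subset_univ (regImage p D))] at h1
  have h2 : ∑ x ∈ Finset.univ \ regImage p D, Complex.normSq ((ψ : G → ℂ) x) = 0 := by linarith
  have h3 := (Finset.sum_eq_zero_iff_of_nonneg (fun x _ => Complex.normSq_nonneg _)).1 h2 g
    (Finset.mem_sdiff.2 ⟨Finset.mem_univ _, hg⟩)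
  exact Complex.normSq_eq_zero.1 h3

end CentralDefect

end Cfsg.Agent.Lib.Helper79
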