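import Mathlib
import Cfsg.Agent.Lib.Helper41.InvBDefs

/-!
# K-IB-10 (keystone 392815, pack S3928, architect helper41): abelian minimal normal subgroups have
prime exponent.
-/

set_option autoImplicit false

namespace Cfsg.Agent.Lib.Helper79.InvB

open Cfsg.Agent.Lib.Helper41.InvB

variable {Γ : Type*} [Group Γ] [Finite Γ]

/-- LEAF 10 (392815) abelian minimal normal subgroups have prime exponent. -/
theorem exists_prime_exponent (N : Subgroup Γ) (hN : IsMinNormal N)
    (hab : ∀ x ∈ N, ∀ y ∈ N, x * y = y * x) : ∃ p : ℕ, p.Prime ∧ ∀ x ∈ N, x ^ p = 1 := by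
  obtain ⟨hNn, hN1, hmin⟩ := hN
  have hcard : Nat.card N ≠ 1 := fun h => hN1 (Subgroup.card_eq_one.mp h)
  obtain ⟨p, hp, hpd⟩ := Nat.exists_prime_and_dvd hcard
  refine ⟨p, hp, ?_⟩
  haveI := Fact.mk hp
  obtain ⟨x, hx⟩ := exists_prime_orderOf_dvd_card' p hpd
  let M : Subgroup Γ :=
    { carrier := {y | y ∈ N ∧ y ^ p = 1}
      mul_mem' := by
        rintro y z ⟨hy, hy1⟩ ⟨hz, hz1⟩
        refine ⟨N.mul_mem hy hz, ?_⟩
        rw [(show Commute y z from hab y hy z hz).mul_pow, hy1, hz1, one_mul]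
      one_mem' := ⟨N.one_mem, one_pow p⟩
      inv_mem' := by
        rintro y ⟨hy, hy1⟩
        exact ⟨N.inv_mem hy, by rw [inv_pow, hy1, inv_one]⟩ }
  have hMn : M.Normal := ⟨fun y hy g => ⟨hNn.conj_mem y hy.1 g, by
    rw [conj_pow, hy.2, mul_one, mul_inv_cancel]⟩⟩
  have hMN : M ≤ N := fun y hy => hy.1
  have hxM : (x : Γ) ∈ M := by
    refine ⟨x.2, ?_⟩
    have h1 : x ^ p = 1 := by rw [← hx]; exact pow_orderOf_eq_one x
    have h2 := congrArg (Subtype.val : ↥N → Γ) h1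
    simpa using h2
  rcases hmin M hMn hMN with h | h
  · exfalso
    rw [h, Subgroup.mem_bot] at hxM
    have hx1 : x = 1 := Subtype.ext hxM
    rw [hx1, orderOf_one] at hx
    exact hp.one_lt.ne hx
  · intro y hy
    have : y ∈ M := h ▸ hy
    exact this.2

end Cfsg.Agent.Lib.Helper79.InvB
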