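import Mathlib
import Cfsg.Agent.Lib.Helper41.InvBDefs

/-!
# K-IB-17b (keystone 392829, pack S3928, architect helper41): a minimal normal subgroup is the product of
the conjugates of a subnormal piece, `|N| ≤ |S| ^ (#conjugates)`.
-/

set_option autoImplicit false

namespace Cfsg.Agent.Lib.Helper79.InvB

open Cfsg.Agent.Lib.Helper41.InvB

open scoped Pointwise

variable {Γ : Type*} [Group Γ] [Finite Γ]

/-- `|H ⊔ K| ≤ |H| |K|` when `H` normalises `K`. -/
theorem card_sup_le_of_le_normalizer (H K : Subgroup Γ) (h : H ≤ Subgroup.normalizer (K : Set Γ)) :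
    Nat.card ↥(H ⊔ K) ≤ Nat.card H * Nat.card K := by
  have h1 : Nat.card ↥(H ⊔ K) = Nat.card ((H : Set Γ) * (K : Set Γ) : Set Γ) := by
    rw [← Subgroup.coe_mul_of_left_le_normalizer_right H K h]
    rfl
  rw [h1]
  exact Set.natCard_mul_le

/-- join of a finite family of subgroups of `N`, all normalised by `N` -/
theorem card_finset_sup_le (N : Subgroup Γ) (s : Finset (Subgroup Γ))
    (hs : ∀ R ∈ s, R ≤ N ∧ N ≤ Subgroup.normalizer (R : Set Γ)) :
    N ≤ Subgroup.normalizer ((s.sup id : Subgroup Γ) : Set Γ) ∧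
      Nat.card ↥(s.sup id) ≤ ∏ R ∈ s, Nat.card R := by
  classical
  induction s using Finset.induction_on with
  | empty =>
    refine ⟨?_, ?_⟩
    · intro g _
      rw [Finset.sup_empty, Subgroup.mem_normalizer_iff]
      intro h
      simp [Subgroup.mem_bot]
    · simp
  | insert R s hR ih =>
    obtain ⟨ih1, ih2⟩ := ih (fun R' hR' => hs R' (Finset.mem_insert_of_mem hR'))
    obtain ⟨hRN, hNR⟩ := hs R (Finset.mem_insert_self R s)
    rw [Finset.sup_insert, Finset.prod_insert hR]
    refine ⟨?_, ?_⟩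
    · exact le_trans (le_inf hNR ih1) (Subgroup.normalizer_inf_normalizer_le_normalizer_sup R _)
    · calc Nat.card ↥(id R ⊔ s.sup id) ≤ Nat.card R * Nat.card ↥(s.sup id) :=
            card_sup_le_of_le_normalizer R (s.sup id) (le_trans hRN ih1)
        _ ≤ Nat.card R * ∏ R ∈ s, Nat.card R := Nat.mul_le_mul_left _ ih2

/-- LEAF 17b (392829). -/
theorem card_le_pow_orbit (N : Subgroup Γ) (hN : IsMinNormal N) (S : Subgroup Γ) (hSN : S ≤ N)
    (hS1 : S ≠ ⊥) (hnorm : N ≤ Subgroup.normalizer (S : Set Γ)) :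
    Nat.card N ≤ Nat.card S ^ Set.ncard {R : Subgroup Γ | ∃ γ : Γ, R = conjS γ S} := by
  classical
  obtain ⟨hNn, hN1, hmin⟩ := hN
  obtain ⟨O, hO⟩ : ∃ O : Set (Subgroup Γ), O = {R : Subgroup Γ | ∃ γ : Γ, R = conjS γ S} := ⟨_, rfl⟩
  rw [← hO]
  have hfin : O.Finite := Set.toFinite O
  -- members of the orbit
  have hmem : ∀ R ∈ hfin.toFinset, R ≤ N ∧ N ≤ Subgroup.normalizer (R : Set Γ) := by
    intro R hR
    rw [Set.Finite.mem_toFinset, hO] at hR
    obtain ⟨γ, rfl⟩ := hR
    constructor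
    · intro x hx
      rw [mem_conjS_iff] at hx
      have h1 := hNn.conj_mem _ (hSN hx) γ
      have h2 : γ * (γ⁻¹ * x * γ) * γ⁻¹ = x := by group
      rwa [h2] at h1
    · intro n hn
      rw [Subgroup.mem_normalizer_iff]
      intro x
      rw [mem_conjS_iff, mem_conjS_iff]
      have h1 : γ⁻¹ * n * γ ∈ N := by
        have := hNn.conj_mem n hn γ⁻¹
        simpa using this
      have h2 := (Subgroup.mem_normalizer_iff.mp (hnorm h1)) (γ⁻¹ * x * γ)
      have h3 : γ⁻¹ * n * γ * (γ⁻¹ * x * γ) * (γ⁻¹ * n * γ)⁻¹ = γ⁻¹ * (n * x * n⁻¹) * γ := by group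
      rw [h3] at h2
      exact h2
  obtain ⟨-, hcard⟩ := card_finset_sup_le N hfin.toFinset hmem
  -- the join contains the normal closure of `S`, which is `N`
  have hSle : S ≤ Subgroup.normalClosure (S : Set Γ) := Subgroup.le_normalClosure
  have hncN : Subgroup.normalClosure (S : Set Γ) ≤ N := Subgroup.normalClosure_le_normal hSN
  have hnc : Subgroup.normalClosure (S : Set Γ) = N := by
    rcases hmin _ Subgroup.normalClosure_normal hncN with h | h
    · exfalso
      apply hS1
      rw [eq_bot_iff, ← h]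
      exact hSle
    · exact h
  have hle : N ≤ hfin.toFinset.sup id := by
    rw [← hnc]
    unfold Subgroup.normalClosure
    rw [Subgroup.closure_le]
    intro x hx
    rw [Group.mem_conjugatesOfSet_iff] at hx
    obtain ⟨y, hy, hxy⟩ := hx
    rw [isConj_iff] at hxy
    obtain ⟨c, rfl⟩ := hxy
    have hR : conjS c S ∈ hfin.toFinset := by
      rw [Set.Finite.mem_toFinset, hO]
      exact ⟨c, rfl⟩
    have hle' : conjS c S ≤ hfin.toFinset.sup id := Finset.le_sup (f := id) hR
    apply hle'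
    rw [mem_conjS_iff]
    have h4 : c⁻¹ * (c * y * c⁻¹) * c = y := by group
    rw [h4]
    exact hy
  have hprod : ∏ R ∈ hfin.toFinset, Nat.card R = Nat.card S ^ hfin.toFinset.card := by
    apply Finset.prod_eq_pow_card
    intro R hR
    rw [Set.Finite.mem_toFinset, hO] at hR
    obtain ⟨γ, rfl⟩ := hR
    exact Subgroup.card_map_of_injective (MulAut.conj γ).injective
  rw [Set.ncard_eq_toFinset_card O hfin]
  calc Nat.card N ≤ Nat.card ↥(hfin.toFinset.sup id) := Subgroup.card_le_of_le hle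
    _ ≤ ∏ R ∈ hfin.toFinset, Nat.card R := hcard
    _ = Nat.card S ^ hfin.toFinset.card := hprod

end Cfsg.Agent.Lib.Helper79.InvB
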