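import Mathlib
import Cfsg.Prelude.Def_Solvable
import Cfsg.Prelude.Def_Local
import Cfsg.Prelude.Def_SolvableStructure
import Cfsg.Agent.Lib.Helper41.SchmidtPLDefs
import Cfsg.Agent.Lib.Helper87.SPLSA2

/-!
# K-SPL-SA3a (keystone 439403, architect helper41): `Z(P) ≤ P'` for operator data.

`⁅K, P⁆ = P` (coprime stability), and the norm map of the `K`-action on `P / P'` kills `[P/P', K] = P/P'`,
while it is the `|K|`-th power map on the image of `C_P(K) = Z(P)`.
-/

set_option autoImplicit false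

namespace Cfsg.Agent.Lib.Helper79.SPL

open Cfsg Cfsg.Agent.Lib.Helper41.SchmidtPL
open scoped commutatorElement

/-- `[K, P] = P` for operator data. -/
theorem commutator_eq_of_opData {X : Type*} [Group X] {p r : ℕ} [Fact p.Prime] {P K : Subgroup X}
    (h : OpData p r P K) : ⁅K, P⁆ = P := by
  have hKPle : ⁅K, P⁆ ≤ P := by
    rw [Subgroup.commutator_le]
    intro k hk x hx
    rw [commutatorElement_def]
    exact P.mul_mem (h.norm k hk x hx) (P.inv_mem hx)
  have hinv : ∀ k ∈ K, ∀ x ∈ ⁅K, P⁆, k * x * k⁻¹ ∈ ⁅K, P⁆ := by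
    intro k hk x hx
    have hmap : (⁅K, P⁆).map (MulAut.conj k).toMonoidHom ≤ ⁅K, P⁆ := by
      rw [Subgroup.map_commutator]
      apply Subgroup.commutator_mono
      · rintro _ ⟨a, ha, rfl⟩
        exact K.mul_mem (K.mul_mem hk ha) (K.inv_mem hk)
      · rintro _ ⟨b, hb, rfl⟩
        exact h.norm k hk b hb
    exact hmap ⟨x, hx, rfl⟩
  by_contra hne
  have hcent := h.sub ⁅K, P⁆ K hKPle le_rfl hinv (Or.inl hne)
  obtain ⟨k, hk, x, hx, hkx⟩ := h.nontriv
  apply hkx
  have hm : ⁅k, x⁆ ∈ ⁅K, P⁆ := Subgroup.commutator_mem_commutator hk hx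
  have hm1 : ⁅k, x⁆ = 1 := by
    apply Cfsg.Agent.Lib.Helper87.SPL.eq_one_of_conj_eq_mul h.hr h.hrp h.hP h.hK hk (hKPle hm)
      (hcent k hk _ hm) (x := x)
    rw [commutatorElement_def]; group
  rw [commutatorElement_def] at hm1
  have := congrArg (· * x * k) hm1
  simpa [mul_assoc] using this

theorem zIn_le_commutator {X : Type*} [Group X] [Finite X] {p r : ℕ} [Fact p.Prime] {P K : Subgroup X}
    (h : OpData p r P K) (hnab : ∃ x ∈ P, ∃ y ∈ P, x * y ≠ y * x)
    (hfix : ∀ x ∈ P, (∀ k ∈ K, k * x = x * k) ↔ x ∈ zIn P)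
    (hcl : ∀ x ∈ P, ∀ y ∈ P, ⁅x, y⁆ ∈ zIn P) :
    zIn P ≤ ⁅P, P⁆ := by
  classical
  have hKP := commutator_eq_of_opData h
  letI : Fintype ↥K := Fintype.ofFinite ↥K
  -- the conjugation action of `K` on `P`
  let φ : ↥K → (↥P →* ↥P) := fun k =>
    { toFun := fun x => ⟨(k : X) * x * (k : X)⁻¹, h.norm k k.2 x x.2⟩
      map_one' := by ext; simp
      map_mul' := by intro x y; ext; simp [mul_assoc] }
  have hφ : ∀ (k : ↥K) (x : ↥P), ((φ k x : ↥P) : X) = (k : X) * x * (k : X)⁻¹ := fun _ _ => rfl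
  have hφmul : ∀ (k k' : ↥K) (x : ↥P), φ k (φ k' x) = φ (k * k') x := by
    intro k k' x
    apply Subtype.ext
    rw [hφ, hφ, hφ]
    simp [mul_assoc]
  -- the norm map on the abelianization
  let ψ : ↥K → (Abelianization ↥P →* Abelianization ↥P) := fun k => Abelianization.map (φ k)
  let N : Abelianization ↥P →* Abelianization ↥P := ∏ k : ↥K, ψ k
  have hN : ∀ x : ↥P, N (Abelianization.of x) = ∏ k : ↥K, Abelianization.of (φ k x) := by
    intro x
    show (∏ k : ↥K, ψ k) (Abelianization.of x) = _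
    rw [MonoidHom.finset_prod_apply]
    apply Finset.prod_congr rfl
    intro k _
    exact Abelianization.map_of (φ k) x
  have hNinv : ∀ (k' : ↥K) (x : ↥P), N (Abelianization.of (φ k' x)) = N (Abelianization.of x) := by
    intro k' x
    rw [hN, hN]
    refine Fintype.prod_equiv (Equiv.mulRight k') _ _ ?_
    intro k
    rw [hφmul]
    rfl
  -- the kernel contains all `⁅k, x⁆`
  let T : Subgroup X := ((N.comp Abelianization.of).ker).map P.subtype
  have hT : ⁅K, P⁆ ≤ T := by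
    rw [Subgroup.commutator_le]
    intro k hk x hx
    refine ⟨φ ⟨k, hk⟩ ⟨x, hx⟩ * (⟨x, hx⟩ : ↥P)⁻¹, ?_, ?_⟩
    · rw [SetLike.mem_coe, MonoidHom.mem_ker, MonoidHom.comp_apply, map_mul, map_mul, map_inv, map_inv,
        hNinv, mul_inv_cancel]
    · rw [commutatorElement_def]
      simp [hφ]
  rw [hKP] at hT
  have hker : ∀ z : ↥P, N (Abelianization.of z) = 1 := by
    intro z
    obtain ⟨w, hw, hwz⟩ := hT z.2
    have : w = z := Subtype.ext hwz
    rw [← this]
    exact hw
  intro z hz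
  have hzP : z ∈ P := (mem_zIn.1 hz).1
  have hzfix : ∀ k ∈ K, k * z = z * k := (hfix z hzP).2 hz
  set z' : ↥P := ⟨z, hzP⟩ with hz'
  have hφz : ∀ k : ↥K, φ k z' = z' := by
    intro k
    apply Subtype.ext
    rw [hφ]
    show (k : X) * z * (k : X)⁻¹ = z
    rw [hzfix k k.2, mul_inv_cancel_right]
  have hpowK : (Abelianization.of z') ^ (Fintype.card ↥K) = 1 := by
    have h1 := hN z'
    rw [hker z'] at h1
    rw [h1]
    rw [Finset.prod_congr rfl (fun k _ => by rw [hφz k]), Finset.prod_const, Finset.card_univ]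
  haveI : Fact r.Prime := ⟨h.hr⟩
  obtain ⟨b, hb⟩ := (IsPGroup.iff_card (p := r) (G := ↥K)).1 h.hK
  obtain ⟨a, ha⟩ := h.hP z'
  have hpowP : (Abelianization.of z') ^ (p ^ a) = 1 := by
    rw [← map_pow, ha, map_one]
  have hone : Abelianization.of z' = 1 := by
    have hd1 : orderOf (Abelianization.of z') ∣ r ^ b := by
      rw [← hb, Nat.card_eq_fintype_card]
      exact orderOf_dvd_of_pow_eq_one hpowK
    have hd2 : orderOf (Abelianization.of z') ∣ p ^ a := orderOf_dvd_of_pow_eq_one hpowP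
    have hcop : Nat.Coprime (p ^ a) (r ^ b) :=
      Nat.Coprime.pow _ _ ((Nat.coprime_primes (Fact.out : p.Prime) h.hr).2 (Ne.symm h.hrp))
    have : orderOf (Abelianization.of z') = 1 := Nat.eq_one_of_dvd_coprimes hcop hd2 hd1
    exact orderOf_eq_one_iff.1 this
  have hzc : z' ∈ commutator ↥P := by
    rw [← Abelianization.ker_of, MonoidHom.mem_ker]
    exact hone
  rw [← Subgroup.map_subtype_commutator]
  exact ⟨z', hzc, rfl⟩

end Cfsg.Agent.Lib.Helper79.SPL
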