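import Mathlib
import Cfsg.Prelude.Def_GeometricClasses
import Cfsg.Agent.Lib.Helper61.AschDefs
import Cfsg.Agent.Lib.Helper43.SpAschDefs
import Cfsg.Agent.Lib.Helper43.SpAschDefs2
import Cfsg.Agent.Lib.Helper42.AschC5
import Cfsg.Agent.Lib.Helper34.AschUR8
import Cfsg.Agent.Lib.Helper22.AschC4

/-!
# K-SpAsch-R2 (keystone 566230, architect helper43)

An absolutely irreducible group of isometries of a symplectic form fixing also a unitary form (for `σ`) is realisable over
the fixed field of `σ`.  Proof: `tr x⁻¹ = tr x` (bilinear form, `Helper34.AschU.trace_inv_eq_of_fixes`) and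
`tr x⁻¹ = σ (tr x)` (unitary form, Gram matrix computation as in `Helper66.AschO.trace_fixed_of_fixes_unitary`), so the
traces are fixed by `σ`; conclude with `Helper42.Asch.realisableOver_of_trace_mem`.
-/

set_option autoImplicit false
set_option linter.unusedSectionVars false

namespace Cfsg.Agent.Lib.Helper79.SpAsch

open Cfsg Cfsg.Geo Cfsg.Agent.Lib.Helper61.Asch Cfsg.Agent.Lib.Helper43.SpAsch
open scoped Matrix Kronecker MatrixGroups

variable {F : Type*} [Field F] [Fintype F] {n : ℕ}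

local notation "V" => (Fin n → F)
local notation "Mat" => Matrix (Fin n) (Fin n) F

theorem trace_tw' (σ : F ≃+* F) (A : Mat) :
    Matrix.trace (Cfsg.Agent.Lib.Helper22.Asch.tw σ A) = σ (Matrix.trace A) := by
  unfold Cfsg.Agent.Lib.Helper22.Asch.tw
  simp only [Matrix.trace, Matrix.diag_apply, Matrix.map_apply, map_sum]

/-- a matrix fixing a unitary form for `σ` has `tr x⁻¹ = σ (tr x)` -/
theorem trace_inv_eq_of_fixes_unitary (σ : F ≃+* F) (h : V → V → F) (hh : IsUnitaryForm σ h)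
    (x : GL (Fin n) F) (hx : ∀ u v, h ((x : Mat) *ᵥ u) ((x : Mat) *ᵥ v) = h u v) :
    Matrix.trace ((x⁻¹ : GL (Fin n) F) : Mat) = σ (Matrix.trace ((x : GL (Fin n) F) : Mat)) := by
  have hs := Cfsg.Agent.Lib.Helper22.Asch.isSesq_of_unitary σ h hh
  have hU : IsUnit (Cfsg.Agent.Lib.Helper22.Asch.gram h) :=
    Cfsg.Agent.Lib.Helper22.Asch.isUnit_gram σ h hs (fun v hv => (hh.nondegenerate v hv).1)
  have hUd : IsUnit (Cfsg.Agent.Lib.Helper22.Asch.gram h).det := (Matrix.isUnit_iff_isUnit_det _).mp hU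
  have hfx : ((x : GL (Fin n) F) : Mat)ᵀ * Cfsg.Agent.Lib.Helper22.Asch.gram h *
      Cfsg.Agent.Lib.Helper22.Asch.tw σ (x : Mat) = Cfsg.Agent.Lib.Helper22.Asch.gram h :=
    Cfsg.Agent.Lib.Helper22.Asch.gram_fix σ h hs _ hx
  set U := Cfsg.Agent.Lib.Helper22.Asch.gram h with hUdef
  set A : Mat := ((x : GL (Fin n) F) : Mat) with hA
  set Ai : Mat := ((x⁻¹ : GL (Fin n) F) : Mat) with hAi
  have h2 : Cfsg.Agent.Lib.Helper22.Asch.tw σ A = U⁻¹ * Aiᵀ * U := by
    have h3 : Aiᵀ * Aᵀ = 1 := by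
      rw [← Matrix.transpose_mul]
      have : A * Ai = 1 := by
        rw [hAi, hA, ← Units.val_mul, mul_inv_cancel, Units.val_one]
      rw [this, Matrix.transpose_one]
    calc Cfsg.Agent.Lib.Helper22.Asch.tw σ A
        = U⁻¹ * (Aiᵀ * Aᵀ) * U * Cfsg.Agent.Lib.Helper22.Asch.tw σ A := by
          rw [h3, mul_one, Matrix.nonsing_inv_mul _ hUd, one_mul]
      _ = U⁻¹ * Aiᵀ * (Aᵀ * U * Cfsg.Agent.Lib.Helper22.Asch.tw σ A) := by
          simp only [mul_assoc]
      _ = U⁻¹ * Aiᵀ * U := by rw [hfx]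
  have h4 : Matrix.trace (Cfsg.Agent.Lib.Helper22.Asch.tw σ A) = Matrix.trace Ai := by
    rw [h2, Matrix.trace_mul_comm, ← mul_assoc, Matrix.mul_nonsing_inv _ hUd, one_mul,
      Matrix.trace_transpose]
  rw [← trace_tw', h4]

/-- **K-SpAsch-R2**. -/
theorem realisable_of_fixes_unitary {f : V → V → F} (hf : IsSymplecticForm f) (X : Subgroup (GL (Fin n) F))
    (hX : spanAlg X = ⊤) (hXf : X ≤ isoGL f) (σ : F ≃+* F) (h : V → V → F) (hh : IsUnitaryForm σ h)
    (hfix : FixesForm (matrixSet X) h) : ∃ F₀ : Subfield F, F₀ ≠ ⊤ ∧ RealisableOver F₀ (matrixSet X) := by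
  classical
  refine ⟨((σ : F ≃+* F) : F →+* F).eqLocusField (RingHom.id F), ?_, ?_⟩
  · intro htop
    apply hh.ne_refl
    ext a
    have ha : a ∈ ((σ : F ≃+* F) : F →+* F).eqLocusField (RingHom.id F) := by
      rw [htop]; exact Subfield.mem_top a
    exact ha
  · apply Cfsg.Agent.Lib.Helper42.Asch.realisableOver_of_trace_mem X hX
    intro x hx
    have h1 := Cfsg.Agent.Lib.Helper34.AschU.trace_inv_eq_of_fixes f hf.bilinear hf.nondegenerate x
      (fun u v => (mem_isoGL_iff f x).mp (hXf hx) u v)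
    have h2 := trace_inv_eq_of_fixes_unitary σ h hh x (fun u v => hfix (x : Mat) ⟨x, hx, rfl⟩ u v)
    show σ (Matrix.trace ((x : GL (Fin n) F) : Mat)) = Matrix.trace ((x : GL (Fin n) F) : Mat)
    rw [← h2, h1]

end Cfsg.Agent.Lib.Helper79.SpAsch
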