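import Mathlib
import Cfsg.Agent.Lib.Helper48.StODefs
import Cfsg.Agent.Lib.Helper61.StOR0c
import Cfsg.Agent.Lib.Helper97.StOR1

/-!
# K-StO pack (S2547, architect helper48), leaf R2 (keystone 254705): `xZ_pow_char`, `yZ_pow_char`

`xZ k s * xZ k t = xZ k (s + t)`, hence `xZ k t ^ n = xZ k (n • t)` and `xZ k t ^ p = 1` in characteristic `p`.
-/

set_option autoImplicit false
set_option linter.unusedSectionVars false

namespace Cfsg.Agent.Lib.Helper79.StO

open Cfsg Cfsg.Agent.Lib.Helper48.StO Cfsg.Agent.Lib.Helper61.StO Cfsg.Agent.Lib.Helper97.StO Matrix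

variable {m : ℕ} {F : Type*} [Field F]

theorem xZMat_mul (k : Fin m) (s t : F) : xZMat m F k s * xZMat m F k t = xZMat m F k (s + t) := by
  rw [Matrix.ext_iff_mulVec]
  intro u
  rw [← Matrix.mulVec_mulVec, xZMat_mulVec, xZMat_mulVec, xZMat_mulVec]
  funext a
  rcases a with a | a | a
  · simp; ring
  · by_cases h : a = k
    · subst h; simp; ring
    · simp [h]
  · simp

theorem yZMat_mul (k : Fin m) (s t : F) : yZMat m F k s * yZMat m F k t = yZMat m F k (s + t) := by
  rw [Matrix.ext_iff_mulVec]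
  intro u
  rw [← Matrix.mulVec_mulVec, yZMat_mulVec, yZMat_mulVec, yZMat_mulVec]
  funext a
  rcases a with a | a | a
  · simp; ring
  · simp
  · by_cases h : a = k
    · subst h; simp; ring
    · simp [h]

theorem xZ_mul (k : Fin m) (s t : F) : xZ m F k s * xZ m F k t = xZ m F k (s + t) := by
  apply mat_injective
  rw [mat_mul, mat_xZ, mat_xZ, mat_xZ, xZMat_mul]

theorem yZ_mul (k : Fin m) (s t : F) : yZ m F k s * yZ m F k t = yZ m F k (s + t) := by
  apply mat_injective
  rw [mat_mul, mat_yZ, mat_yZ, mat_yZ, yZMat_mul]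

theorem yZ_zero (k : Fin m) : yZ m F k 0 = 1 := by
  unfold yZ yZMat
  rw [mul_zero, zero_pow two_ne_zero, Matrix.single_zero, Matrix.single_zero,
    Matrix.single_zero, add_zero, sub_zero, sub_zero]
  exact ofMat_one

theorem xZ_pow (k : Fin m) (t : F) (n : ℕ) : xZ m F k t ^ n = xZ m F k (n • t) := by
  induction n with
  | zero => rw [pow_zero, zero_smul, xZ_zero]
  | succ n ih => rw [pow_succ, ih, xZ_mul, succ_nsmul]

theorem yZ_pow (k : Fin m) (t : F) (n : ℕ) : yZ m F k t ^ n = yZ m F k (n • t) := by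
  induction n with
  | zero => rw [pow_zero, zero_smul, yZ_zero]
  | succ n ih => rw [pow_succ, ih, yZ_mul, succ_nsmul]

theorem xZ_pow_char (p : ℕ) [CharP F p] (k : Fin m) (t : F) : xZ m F k t ^ p = 1 := by
  rw [xZ_pow, nsmul_eq_mul, CharP.cast_eq_zero, zero_mul, xZ_zero]

theorem yZ_pow_char (p : ℕ) [CharP F p] (k : Fin m) (t : F) : yZ m F k t ^ p = 1 := by
  rw [yZ_pow, nsmul_eq_mul, CharP.cast_eq_zero, zero_mul, yZ_zero]

end Cfsg.Agent.Lib.Helper79.StO
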