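import Mathlib
import Cfsg.Agent.Lib.Helper49.RSU3Defs

/-!
# K-RSU3 pack (S2283), leaf L11: `borel_conj`

An upper triangular element `g` of `GJ 3 F q` conjugates the root element `xM q a b` to
`xM q (g00 / g11 * a) b'`.
-/

set_option autoImplicit false
set_option linter.unusedSectionVars false
set_option linter.unusedVariables false

namespace Cfsg.Agent.Lib.Helper79.RSU3

open Matrix Cfsg.Agent.Lib.Helper49.StSU Cfsg.Agent.Lib.Helper49.RSU3

variable {F : Type*} [Field F] [Fintype F] {q : ℕ}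

/-- L11 -/
theorem borel_conj (hF : Fintype.card F = q ^ 2) (g x : GJ 3 F q) (a b : F)
    (hx : mat x = xM q a b) (h10 : mat g 1 0 = 0) (h20 : mat g 2 0 = 0) (h21 : mat g 2 1 = 0) :
    ∃ b' : F, mat (g * x * g⁻¹) = xM q (mat g 0 0 / mat g 1 1 * a) b' := by
  have hq0 : q ≠ 0 := by
    rintro rfl
    have : 0 < Fintype.card F := Fintype.card_pos
    rw [hF] at this
    simp at this
  -- `g` and `g⁻¹` are upper triangular
  have hB : (mat g).BlockTriangular (fun a : Fin 3 => a) := by
    intro i j hij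
    fin_cases i <;> fin_cases j <;> first | exact h10 | exact h20 | exact h21 | (exfalso; revert hij; decide)
  have hBi := blockTriangular_inv (fun a : Fin 3 => a) g hB
  have i10 : mat g⁻¹ 1 0 = 0 := hBi (show (0 : Fin 3) < 1 by decide)
  have i20 : mat g⁻¹ 2 0 = 0 := hBi (show (0 : Fin 3) < 2 by decide)
  have i21 : mat g⁻¹ 2 1 = 0 := hBi (show (1 : Fin 3) < 2 by decide)
  -- entries of `G * G⁻¹ = 1`
  have hmi := mat_mul_inv g
  have e00 : mat g 0 0 * mat g⁻¹ 0 0 = 1 := by
    have := congrFun (congrFun hmi 0) 0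
    simpa [Matrix.mul_apply, Fin.sum_univ_three, i10, i20] using this
  have e11 : mat g 1 1 * mat g⁻¹ 1 1 = 1 := by
    have := congrFun (congrFun hmi 1) 1
    simpa [Matrix.mul_apply, Fin.sum_univ_three, h10, i21] using this
  have e22 : mat g 2 2 * mat g⁻¹ 2 2 = 1 := by
    have := congrFun (congrFun hmi 2) 2
    simpa [Matrix.mul_apply, Fin.sum_univ_three, h20, h21] using this
  have e01 : mat g 0 0 * mat g⁻¹ 0 1 + mat g 0 1 * mat g⁻¹ 1 1 = 0 := by
    have := congrFun (congrFun hmi 0) 1
    simpa [Matrix.mul_apply, Fin.sum_univ_three, i21] using this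
  have hg11 : mat g 1 1 ≠ 0 := by
    intro h0
    rw [h0, zero_mul] at e11
    exact zero_ne_one e11
  -- the conjugate
  obtain ⟨M, hM⟩ : ∃ M : GJ 3 F q, M = g * x * g⁻¹ := ⟨_, rfl⟩
  rw [← hM]
  have hMeq : mat M = mat g * xM q a b * mat g⁻¹ := by
    rw [hM, mat_mul, mat_mul, hx]
  have m00 : mat M 0 0 = 1 := by
    rw [hMeq]
    simp [Matrix.mul_apply, Fin.sum_univ_three, xM, i10, i20]
    linear_combination e00
  have m01 : mat M 0 1 = mat g 0 0 / mat g 1 1 * a := by
    rw [hMeq]
    simp [Matrix.mul_apply, Fin.sum_univ_three, xM, i21]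
    field_simp
    linear_combination (mat g 1 1) * e01 + (mat g 0 0 * a) * e11
  have m10 : mat M 1 0 = 0 := by
    rw [hMeq]
    simp [Matrix.mul_apply, Fin.sum_univ_three, xM, h10, i10, i20]
  have m11 : mat M 1 1 = 1 := by
    rw [hMeq]
    simp [Matrix.mul_apply, Fin.sum_univ_three, xM, h10, i21]
    linear_combination e11
  have m20 : mat M 2 0 = 0 := by
    rw [hMeq]
    simp [Matrix.mul_apply, Fin.sum_univ_three, xM, h20, h21, i20]
  have m21 : mat M 2 1 = 0 := by
    rw [hMeq]
    simp [Matrix.mul_apply, Fin.sum_univ_three, xM, h20, h21, i21]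
  have m22 : mat M 2 2 = 1 := by
    rw [hMeq]
    simp [Matrix.mul_apply, Fin.sum_univ_three, xM, h20, h21]
    linear_combination e22
  -- unitarity gives entry `1 2`
  have m12 : mat M 1 2 = -((mat g 0 0 / mat g 1 1 * a) ^ q) := by
    have hu := hJ_mat M (Pi.single (2 : Fin 3) (1 : F)) (Pi.single (1 : Fin 3) (1 : F))
    have c2 : mat M *ᵥ (Pi.single (2 : Fin 3) (1 : F))
        = ![mat M 0 2, mat M 1 2, 1] := by
      ext i
      fin_cases i <;> simp [Matrix.mulVec, dotProduct, Fin.sum_univ_three, Pi.single_apply, m22]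
    have c1 : mat M *ᵥ (Pi.single (1 : Fin 3) (1 : F))
        = ![mat g 0 0 / mat g 1 1 * a, 1, 0] := by
      ext i
      fin_cases i <;> simp [Matrix.mulVec, dotProduct, Fin.sum_univ_three, Pi.single_apply, m01, m11, m21]
    rw [c2, c1] at hu
    simp [hJ, Fin.sum_univ_three, Fin.rev, Pi.single_apply, zero_pow hq0] at hu
    linear_combination hu
  refine ⟨mat M 0 2, ?_⟩
  ext i j
  fin_cases i <;> fin_cases j
  · simpa [xM] using m00
  · simpa [xM] using m01
  · simp [xM]
  · simpa [xM] using m10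
  · simpa [xM] using m11
  · simpa [xM] using m12
  · simpa [xM] using m20
  · simpa [xM] using m21
  · simpa [xM] using m22

end Cfsg.Agent.Lib.Helper79.RSU3
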