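import Mathlib
import Cfsg.Agent.Lib.Helper53.StOmDefs

/-!
K-StOm-C9 (254923, S2549 pack, architect helper53): for `p` odd, the block diagonal group `T` of
`O⁻_{2m+2}(F)` is a `p'`-group.
-/

set_option autoImplicit false
set_option linter.unusedSectionVars false
set_option linter.unusedVariables false

namespace Cfsg.Agent.Lib.Helper79.StOm

open Cfsg Cfsg.Agent.Lib.Helper53.StOm Matrix

variable {m : ℕ} {F : Type*} [Field F] {a b : F}

theorem c9_mat_pow (g : OG m F a b) (k : ℕ) : mat (g ^ k) = mat g ^ k := by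
  induction k with
  | zero => simp
  | succ k ih => rw [pow_succ, pow_succ, mat_mul, ih]

/-- an index of position `≠ m` is alone in its `pos`-class -/
theorem c9_eq_of_pos_eq (x y : MI m) (hx : pos m x ≠ m) (h : pos m y = pos m x) : y = x := by
  rcases pos_eq_imp m y x h with h1 | ⟨_, h2⟩
  · exact h1
  · exact absurd h2 hx

/-- an index of position `m` is a `z` -/
theorem c9_exists_zI (x : MI m) (hx : pos m x = m) : ∃ j : Fin 2, x = zI j := by
  rcases x with (x | x) | x
  · have := x.2
    simp only [pos] at hx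
    omega
  · have := x.2
    simp only [pos] at hx
    omega
  · exact ⟨x, rfl⟩

/-- the embedding of the plane -/
def c9iota (c : Fin 2 → F) : MI m → F := Sum.elim 0 c

theorem c9_quad_iota (c : Fin 2 → F) :
    Cfsg.quadFormMinus m F a b (c9iota c) = c 0 ^ 2 + a * c 0 * c 1 + b * c 1 ^ 2 := by
  unfold Cfsg.quadFormMinus c9iota
  simp

/-- the `z`-block -/
def c9Z (M : Matrix (MI m) (MI m) F) : Matrix (Fin 2) (Fin 2) F := M.submatrix zI zI

theorem c9_mulVec_iota (M : Matrix (MI m) (MI m) F)
    (hT : ∀ x y, pos m x ≠ pos m y → M x y = 0) (c : Fin 2 → F) :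
    M *ᵥ (c9iota c) = c9iota (c9Z M *ᵥ c) := by
  ext y
  simp only [mulVec, dotProduct, c9iota, Fintype.sum_sum_type, Sum.elim_inl, Sum.elim_inr,
    Pi.zero_apply, mul_zero, Finset.sum_const_zero, zero_add]
  rcases y with y | y
  · simp only [Sum.elim_inl, Pi.zero_apply]
    apply Finset.sum_eq_zero
    intro j _
    have hne : pos m (Sum.inl y : MI m) ≠ pos m (zI j) := by
      rcases y with y | y
      · have := y.2
        simp only [pos]
        omega
      · have := y.2
        simp only [pos]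
        omega
    rw [hT _ _ hne, zero_mul]
  · simp only [Sum.elim_inr, c9Z, mulVec, dotProduct, submatrix_apply]

/-- the key fact on the anisotropic plane: a `φ`-isometry `Z` with `(Z - 1)^p = 0` is `1` (`2 ≠ 0`) -/
theorem c9_plane (h2 : (2 : F) ≠ 0)
    (hab : ∀ z₁ z₂ : F, z₁ ^ 2 + a * z₁ * z₂ + b * z₂ ^ 2 = 0 → z₁ = 0 ∧ z₂ = 0)
    (Z : Matrix (Fin 2) (Fin 2) F)
    (hZ : ∀ c : Fin 2 → F, (Z *ᵥ c) 0 ^ 2 + a * (Z *ᵥ c) 0 * (Z *ᵥ c) 1 + b * (Z *ᵥ c) 1 ^ 2 =
      c 0 ^ 2 + a * c 0 * c 1 + b * c 1 ^ 2)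
    (hnil : ∃ k : ℕ, (Z - 1) ^ k = 0) : Z = 1 := by
  classical
  set N := Z - 1 with hN
  have hZN : Z = 1 + N := by rw [hN]; abel
  set k0 := Nat.find hnil with hk0
  have hk0z : N ^ k0 = 0 := Nat.find_spec hnil
  have hk0min : ∀ k, k < k0 → N ^ k ≠ 0 := fun k hk => Nat.find_min hnil hk
  have hk0pos : k0 ≠ 0 := by
    intro h
    rw [h, pow_zero] at hk0z
    exact one_ne_zero hk0z
  by_cases hk1 : k0 = 1
  · rw [hk1, pow_one] at hk0z
    rw [hZN, hk0z, add_zero]
  exfalso
  have hk2 : 2 ≤ k0 := by omega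
  have hne := hk0min (k0 - 1) (by omega)
  -- a vector not killed by `N^(k0-1)`
  obtain ⟨i, j, hij⟩ : ∃ i j, (N ^ (k0 - 1)) i j ≠ 0 := by
    by_contra hcon
    push_neg at hcon
    apply hne
    ext i j
    exact hcon i j
  set c' : Fin 2 → F := Pi.single j 1 with hc'
  set c : Fin 2 → F := N ^ (k0 - 2) *ᵥ c' with hc
  set v : Fin 2 → F := N *ᵥ c with hv
  have hv1 : v = N ^ (k0 - 1) *ᵥ c' := by
    rw [hv, hc, mulVec_mulVec, ← pow_succ']
    congr 2
    omega
  have hvne : v ≠ 0 := by
    intro h
    apply hij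
    have := congrFun h i
    rw [hv1, hc', mulVec_single_one] at this
    simpa using this
  have hNv : N *ᵥ v = 0 := by
    rw [hv1, mulVec_mulVec, ← pow_succ']
    have : k0 - 1 + 1 = k0 := by omega
    rw [this, hk0z, zero_mulVec]
  have hZc : Z *ᵥ c = c + v := by
    rw [hZN, add_mulVec, one_mulVec]
  have hZv : Z *ᵥ v = v := by
    rw [hZN, add_mulVec, one_mulVec, hNv, add_zero]
  have hZcv : Z *ᵥ (c + v) = c + v + v := by
    rw [mulVec_add, hZc, hZv]
  have e1 := hZ c
  have e2 := hZ (c + v)
  rw [hZc] at e1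
  rw [hZcv] at e2
  simp only [Pi.add_apply] at e1 e2
  have hphi : 2 * (v 0 ^ 2 + a * v 0 * v 1 + b * v 1 ^ 2) = 0 := by
    linear_combination e2 - e1
  have hphi' := (mul_eq_zero.mp hphi).resolve_left h2
  obtain ⟨h0, h1⟩ := hab _ _ hphi'
  apply hvne
  ext l
  fin_cases l
  · exact h0
  · exact h1

/-- an element of `T` of `p`-power-like order (`t^p = 1`) is trivial, `p` odd -/
theorem c9_eq_one [Fintype F] (p : ℕ) [Fact p.Prime] [CharP F p] (hp2 : p ≠ 2)
    (hab : ∀ z₁ z₂ : F, z₁ ^ 2 + a * z₁ * z₂ + b * z₂ ^ 2 = 0 → z₁ = 0 ∧ z₂ = 0)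
    (t : OG m F a b) (ht : t ∈ Tsub m F a b) (htp : t ^ p = 1) : t = 1 := by
  classical
  have hT := (mem_Tsub_iff t).1 ht
  set M := mat t with hM
  have hMp : M ^ p = 1 := by
    rw [hM, ← c9_mat_pow, htp, mat_one]
  have h2 : (2 : F) ≠ 0 := by
    apply Ring.two_ne_zero
    rw [ringChar.eq F p]
    exact hp2
  -- all powers are block diagonal
  have hTk : ∀ k : ℕ, ∀ x y, pos m x ≠ pos m y → (M ^ k) x y = 0 := by
    intro k
    induction k with
    | zero =>
      intro x y hxy
      rw [pow_zero, one_apply_ne]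
      intro h
      exact hxy (by rw [h])
    | succ k ih =>
      intro x y hxy
      rw [pow_succ, mul_apply]
      apply Finset.sum_eq_zero
      intro w _
      by_cases hw : pos m x = pos m w
      · rw [hT w y (by rw [← hw]; exact hxy), mul_zero]
      · rw [ih x w hw, zero_mul]
  -- diagonal entries off the plane
  have hdiag : ∀ x : MI m, pos m x ≠ m → M x x = 1 := by
    intro x hx
    have hpow : ∀ k : ℕ, (M ^ k) x x = (M x x) ^ k := by
      intro k
      induction k with
      | zero => simp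
      | succ k ih =>
        rw [pow_succ, mul_apply, Finset.sum_eq_single x, ih, pow_succ]
        · intro w _ hw
          have : pos m w ≠ pos m x := fun h => hw (c9_eq_of_pos_eq x w hx h)
          rw [hT w x this, mul_zero]
        · intro h
          exact absurd (Finset.mem_univ _) h
    have h1 : (M x x) ^ p = 1 := by
      rw [← hpow, hMp, one_apply_eq]
    have h3 : (M x x - 1) ^ p = 0 := by
      rw [sub_pow_char, h1, one_pow, sub_self]
    have h4 := pow_eq_zero_iff (Fact.out : p.Prime).ne_zero |>.mp h3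
    exact sub_eq_zero.mp h4
  -- the plane
  have hZ1 : c9Z M = 1 := by
    apply c9_plane h2 hab
    · intro c
      have hq := quad_mulVec t (c9iota c)
      rw [← hM, c9_mulVec_iota M hT c, c9_quad_iota, c9_quad_iota] at hq
      exact hq
    · refine ⟨p, ?_⟩
      have hZk : ∀ k : ℕ, c9Z (M ^ k) = (c9Z M) ^ k := by
        intro k
        induction k with
        | zero =>
          ext i j
          simp [c9Z, one_apply]
        | succ k ih =>
          rw [pow_succ, pow_succ, ← ih]
          ext i j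
          simp only [c9Z, submatrix_apply, mul_apply, Fintype.sum_sum_type]
          have hz : ∀ w : Fin m ⊕ Fin m, M (Sum.inl w) (zI j) = 0 := by
            intro w
            apply hT
            rcases w with w | w
            · have := w.2
              simp only [pos]
              omega
            · have := w.2
              simp only [pos]
              omega
          simp [hz]
      have hcomm : Commute (c9Z M) (1 : Matrix (Fin 2) (Fin 2) F) := Commute.one_right _
      rw [sub_pow_char_of_commute p hcomm, ← hZk, hMp, one_pow]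
      ext i j
      simp [c9Z, one_apply]
  -- conclusion
  apply mat_injective
  rw [mat_one, ← hM]
  ext x y
  by_cases hxy : pos m x = pos m y
  · by_cases hx : pos m x = m
    · obtain ⟨i, rfl⟩ := c9_exists_zI x hx
      obtain ⟨j, rfl⟩ := c9_exists_zI y (by rw [← hxy]; exact hx)
      have := congrFun (congrFun hZ1 i) j
      simp only [c9Z, submatrix_apply] at this
      rw [this, one_apply, one_apply]
      simp
    · have hyx : y = x := c9_eq_of_pos_eq x y hx hxy.symm
      rw [hyx, hdiag x hx, one_apply_eq]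
  · rw [hT x y hxy, one_apply_ne]
    intro h
    exact hxy (by rw [h])

theorem not_dvd_card_T [Fintype F] (p : ℕ) [Fact p.Prime] [CharP F p] (hp2 : p ≠ 2)
    (hab : ∀ z₁ z₂ : F, z₁ ^ 2 + a * z₁ * z₂ + b * z₂ ^ 2 = 0 → z₁ = 0 ∧ z₂ = 0) :
    ¬ p ∣ Nat.card (Tsub m F a b) := by
  intro hdvd
  obtain ⟨t, ht⟩ := exists_prime_orderOf_dvd_card' p hdvd
  have h1 : (t : OG m F a b) ^ p = 1 := by
    have := pow_orderOf_eq_one t
    rw [ht] at this
    have h := congrArg (Subtype.val) this
    simpa using h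
  have h2 := c9_eq_one p hp2 hab (t : OG m F a b) t.2 h1
  have h3 : t = 1 := Subtype.ext h2
  rw [h3, orderOf_one] at ht
  exact (Fact.out : p.Prime).one_lt.ne ht

end Cfsg.Agent.Lib.Helper79.StOm
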