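import Mathlib
import Cfsg.Agent.Lib.Helper53.StOmDefs

/-!
K-StOm-M4 (254912, S2549 pack, architect helper53): a block monomial and block upper triangular
isometry is block diagonal.
-/

set_option autoImplicit false
set_option linter.unusedSectionVars false
set_option linter.unusedVariables false

namespace Cfsg.Agent.Lib.Helper79.StOm

open Cfsg Cfsg.Agent.Lib.Helper53.StOm

variable {m : ℕ} {F : Type*} [Field F] {a b : F}

/-- every column of the matrix of an isometry has a non-zero entry -/
theorem exists_ne_zero_col (g : OG m F a b) (y : MI m) : ∃ x, mat g x y ≠ 0 := by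
  by_contra hcon
  push_neg at hcon
  have h1 : (mat g⁻¹ * mat g) y y = 1 := by
    rw [mat_inv_mul_mat, Matrix.one_apply_eq]
  rw [Matrix.mul_apply] at h1
  rw [Finset.sum_eq_zero (fun x _ => by rw [hcon x, mul_zero])] at h1
  exact zero_ne_one h1

/-- a permutation which does not increase positions preserves positions -/
theorem pos_perm_eq_of_le (σ : Equiv.Perm (MI m))
    (h : ∀ y, pos m (σ y) ≤ pos m y) : ∀ y, pos m (σ y) = pos m y := by
  have hsum : ∑ y, pos m (σ y) = ∑ y, pos m y := Equiv.sum_comp σ (pos m)
  have heq := (Finset.sum_eq_sum_iff_of_le (s := Finset.univ) (f := fun y => pos m (σ y))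
    (g := fun y => pos m y) (fun y _ => h y)).mp hsum
  intro y
  exact heq y (Finset.mem_univ y)

theorem mem_T_of_monWith (g : OG m F a b) (σ : Equiv.Perm (MI m)) (h : MonWith m F a b g σ)
    (hg : g ∈ Bsub m F a b) : g ∈ Tsub m F a b := by
  obtain ⟨hmon, -, -⟩ := h
  have hB := (mem_Bsub_iff g).1 hg
  have hle : ∀ y, pos m (σ y) ≤ pos m y := by
    intro y
    obtain ⟨x, hx⟩ := exists_ne_zero_col g y
    rw [← hmon x y hx]
    by_contra hlt
    exact hx (hB x y (not_le.mp hlt))
  have hσ := pos_perm_eq_of_le σ hle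
  rw [mem_Tsub_iff]
  intro x y hxy
  by_contra hne
  have := hmon x y hne
  rw [hσ y] at this
  exact hxy this

end Cfsg.Agent.Lib.Helper79.StOm
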