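import Mathlib

set_option autoImplicit false
set_option linter.unusedSectionVars false
set_option linter.unusedVariables false

/-!
# K-PG2 leaf PGLa (keystone 345201, row S3452, architect helper59): element orders of `PGL₂(F)`, odd characteristic

`g ∈ GL₂(F)`, `t = tr g`, `d = det g`, `Δ = t² - 4d`.  `Δ` a non-zero square: `g^(q-1) = 1`; `Δ = 0`: `g^p` scalar;
`Δ` a non-square: `g^(q+1) = d`.
-/

namespace Cfsg.Agent.Lib.Helper79.PG2

open Matrix

/-- `PGL₂(F)` as in the statement S3452 -/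
abbrev PGL2 (F : Type*) [Field F] : Type _ :=
  Matrix.GeneralLinearGroup (Fin 2) F ⧸ Subgroup.center (Matrix.GeneralLinearGroup (Fin 2) F)

variable {F : Type*} [Field F]

/-- `2 × 2` Cayley–Hamilton -/
theorem a_ch (M : Matrix (Fin 2) (Fin 2) F) :
    M * M = M.trace • M - M.det • (1 : Matrix (Fin 2) (Fin 2) F) := by
  ext i j
  fin_cases i <;> fin_cases j <;>
    simp [Matrix.mul_apply, Fin.sum_univ_two, Matrix.trace_fin_two, Matrix.det_fin_two] <;> ring

/-- reduction: a scalar power of the matrix kills the class -/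
theorem a_red (g : Matrix.GeneralLinearGroup (Fin 2) F) (N : ℕ) (c : F)
    (h : (g : Matrix (Fin 2) (Fin 2) F) ^ N = c • (1 : Matrix (Fin 2) (Fin 2) F)) :
    orderOf (QuotientGroup.mk g : PGL2 F) ∣ N := by
  apply orderOf_dvd_of_pow_eq_one
  rw [← QuotientGroup.mk_pow, QuotientGroup.eq_one_iff, Subgroup.mem_center_iff]
  intro k
  apply Units.ext
  rw [Units.val_mul, Units.val_mul, Units.val_pow_eq_pow_val, h]
  simp

/-- eigen-relation propagates to powers -/
theorem a_pow_mul (M : Matrix (Fin 2) (Fin 2) F) (l μ : F)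
    (h : M * (M - μ • (1 : Matrix (Fin 2) (Fin 2) F)) = l • (M - μ • (1 : Matrix (Fin 2) (Fin 2) F)))
    (k : ℕ) :
    M ^ k * (M - μ • (1 : Matrix (Fin 2) (Fin 2) F)) = l ^ k • (M - μ • (1 : Matrix (Fin 2) (Fin 2) F)) := by
  induction k with
  | zero => simp
  | succ k ih =>
    rw [pow_succ, Matrix.mul_assoc, h, Matrix.mul_smul, ih, smul_smul, pow_succ, mul_comm]

/-- split case -/
theorem a_split [Fintype F] (M : Matrix (Fin 2) (Fin 2) F) (hd : M.det ≠ 0) (c : F) (hc : c ≠ 0)
    (h2 : (2 : F) ≠ 0) (hΔ : M.trace ^ 2 - 4 * M.det = c ^ 2) :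
    M ^ (Fintype.card F - 1) = 1 := by
  set t := M.trace with ht
  set d := M.det with hdd
  set l : F := (t + c) / 2 with hl
  set μ : F := (t - c) / 2 with hμ
  have hsum : l + μ = t := by rw [hl, hμ]; field_simp; ring
  have hprod : l * μ = d := by
    have : 4 * d = t ^ 2 - c ^ 2 := by rw [← hΔ]; ring
    rw [hl, hμ]; field_simp; linear_combination -this
  have hlne : l ≠ 0 := by
    rintro h0; rw [h0, zero_mul] at hprod; exact hd hprod.symm
  have hμne : μ ≠ 0 := by
    rintro h0; rw [h0, mul_zero] at hprod; exact hd hprod.symm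
  have hdiff : l - μ = c := by rw [hl, hμ]; field_simp; ring
  have hCH := a_ch M
  have e1 : M * (M - μ • (1 : Matrix (Fin 2) (Fin 2) F)) = l • (M - μ • (1 : Matrix (Fin 2) (Fin 2) F)) := by
    rw [Matrix.mul_sub, hCH, ← ht, ← hdd, ← hsum, ← hprod]
    simp only [Matrix.mul_smul, Matrix.mul_one, smul_sub, smul_smul, add_smul]
    abel
  have e2 : M * (M - l • (1 : Matrix (Fin 2) (Fin 2) F)) = μ • (M - l • (1 : Matrix (Fin 2) (Fin 2) F)) := by
    rw [Matrix.mul_sub, hCH, ← ht, ← hdd, ← hsum, ← hprod]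
    simp only [Matrix.mul_smul, Matrix.mul_one, smul_sub, smul_smul, add_smul, mul_comm μ l]
    abel
  have p1 := a_pow_mul M l μ e1 (Fintype.card F - 1)
  have p2 := a_pow_mul M μ l e2 (Fintype.card F - 1)
  rw [FiniteField.pow_card_sub_one_eq_one l hlne, one_smul] at p1
  rw [FiniteField.pow_card_sub_one_eq_one μ hμne, one_smul] at p2
  have p3 : M ^ (Fintype.card F - 1) * ((l - μ) • (1 : Matrix (Fin 2) (Fin 2) F)) =
      (l - μ) • (1 : Matrix (Fin 2) (Fin 2) F) := by
    have e : (l - μ) • (1 : Matrix (Fin 2) (Fin 2) F) =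
        (M - μ • (1 : Matrix (Fin 2) (Fin 2) F)) - (M - l • (1 : Matrix (Fin 2) (Fin 2) F)) := by
      rw [sub_smul]; abel
    rw [e, Matrix.mul_sub, p1, p2]
  rw [hdiff, Matrix.mul_smul, Matrix.mul_one] at p3
  have := congrArg (fun X => c⁻¹ • X) p3
  simpa [smul_smul, inv_mul_cancel₀ hc] using this

/-- unipotent case -/
theorem a_unip (p : ℕ) [Fact p.Prime] [CharP F p] (M : Matrix (Fin 2) (Fin 2) F)
    (h2 : (2 : F) ≠ 0) (hΔ : M.trace ^ 2 - 4 * M.det = 0) :
    M ^ p = (M.trace / 2) ^ p • (1 : Matrix (Fin 2) (Fin 2) F) := by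
  have hpp : p.Prime := Fact.out
  set r : F := M.trace / 2 with hr
  set n : Matrix (Fin 2) (Fin 2) F := M - r • (1 : Matrix (Fin 2) (Fin 2) F) with hn
  have hCH := a_ch M
  have htr : M.trace = 2 * r := by rw [hr]; field_simp
  have hdet : M.det = r ^ 2 := by
    have : 4 * M.det = M.trace ^ 2 := by linear_combination -hΔ
    rw [hr]; field_simp; linear_combination this
  have hsq : n ^ 2 = 0 := by
    rw [pow_two, hn, Matrix.sub_mul, Matrix.mul_sub, Matrix.mul_sub, hCH, htr, hdet]
    simp only [Matrix.mul_smul, Matrix.smul_mul, Matrix.mul_one, Matrix.one_mul, smul_smul]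
    rw [show (2 * r) • M = r • M + r • M by rw [two_mul, add_smul], pow_two]
    abel
  have hNp : n ^ p = 0 := by
    have h2p : 2 + (p - 2) = p := by have := hpp.two_le; omega
    rw [← h2p, pow_add, hsq, zero_mul]
  have hcomm : Commute n (r • (1 : Matrix (Fin 2) (Fin 2) F)) :=
    Commute.smul_right (Commute.one_right _) _
  have hM : M = n + r • (1 : Matrix (Fin 2) (Fin 2) F) := by rw [hn]; abel
  conv_lhs => rw [hM]
  rw [add_pow_char_of_commute p hcomm, hNp, zero_add, smul_pow, one_pow]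

/-- non-split case -/
theorem a_nonsplit [Fintype F] (p : ℕ) [Fact p.Prime] [CharP F p] (hp : p ≠ 2)
    (M : Matrix (Fin 2) (Fin 2) F) (hns : ¬ IsSquare (M.trace ^ 2 - 4 * M.det)) :
    M ^ (Fintype.card F + 1) = M.det • (1 : Matrix (Fin 2) (Fin 2) F) := by
  have hrc : ringChar F ≠ 2 := by rw [ringChar.eq F p]; exact hp
  have h2 : (2 : F) ≠ 0 := Ring.two_ne_zero hrc
  set t := M.trace with ht
  set d := M.det with hdd
  set Δ : F := t ^ 2 - 4 * d with hΔ
  have hΔne : Δ ≠ 0 := by
    intro h0; exact hns (h0 ▸ ⟨0, by simp⟩)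
  have hpowΔ : Δ ^ (Fintype.card F / 2) = -1 := by
    rcases FiniteField.pow_dichotomy hrc hΔne with h | h
    · exact absurd ((FiniteField.isSquare_iff hrc hΔne).mpr h) hns
    · exact h
  have hodd : Fintype.card F = 2 * (Fintype.card F / 2) + 1 := by
    have := FiniteField.odd_card_of_char_ne_two hrc
    omega
  obtain ⟨k, -, hk⟩ := FiniteField.card F p
  have hCH := a_ch M
  set h : Matrix (Fin 2) (Fin 2) F := (2 : F) • M - t • (1 : Matrix (Fin 2) (Fin 2) F) with hh
  have hsq : h ^ 2 = Δ • (1 : Matrix (Fin 2) (Fin 2) F) := by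
    rw [pow_two, hh, Matrix.sub_mul, Matrix.mul_sub, Matrix.mul_sub]
    simp only [Matrix.mul_smul, Matrix.smul_mul, Matrix.mul_one, Matrix.one_mul, hCH]
    rw [hΔ]
    module
  have hq1 : h ^ Fintype.card F = -h := by
    conv_lhs => rw [hodd]
    rw [pow_succ, pow_mul, hsq, smul_pow, one_pow, hpowΔ]
    simp
  have hq2 : h ^ Fintype.card F = (2 : F) • M ^ Fintype.card F - t • (1 : Matrix (Fin 2) (Fin 2) F) := by
    have hcomm : Commute ((2 : F) • M) (t • (1 : Matrix (Fin 2) (Fin 2) F)) :=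
      Commute.smul_right (Commute.one_right _) _
    rw [hh, hk, sub_pow_char_pow_of_commute p k hcomm, ← hk, smul_pow, smul_pow, one_pow,
      FiniteField.pow_card, FiniteField.pow_card]
  have hMq : M ^ Fintype.card F = t • (1 : Matrix (Fin 2) (Fin 2) F) - M := by
    have e : (2 : F) • M ^ Fintype.card F = (2 : F) • (t • (1 : Matrix (Fin 2) (Fin 2) F) - M) := by
      have := hq1.symm.trans hq2
      rw [hh] at this
      linear_combination (norm := module) -this
    have := congrArg (fun X => (2 : F)⁻¹ • X) e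
    simpa [smul_smul, inv_mul_cancel₀ h2] using this
  rw [pow_succ, hMq, Matrix.sub_mul, hCH, ← ht, ← hdd]
  simp only [Matrix.smul_mul, Matrix.one_mul]
  abel

/-- **LEAF PGLa** -/
theorem pgl2_orderOf_dvd {F : Type*} [Field F] [Fintype F] (p : ℕ) [Fact p.Prime] [CharP F p] (hp : p ≠ 2)
    (x : PGL2 F) :
    orderOf x ∣ p ∨ orderOf x ∣ Fintype.card F - 1 ∨ orderOf x ∣ Fintype.card F + 1 := by
  classical
  obtain ⟨g, rfl⟩ := QuotientGroup.mk_surjective x
  have hrc : ringChar F ≠ 2 := by rw [ringChar.eq F p]; exact hp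
  have h2 : (2 : F) ≠ 0 := Ring.two_ne_zero hrc
  set M : Matrix (Fin 2) (Fin 2) F := (g : Matrix (Fin 2) (Fin 2) F) with hM
  have hd : M.det ≠ 0 := by
    have := Matrix.GeneralLinearGroup.det_ne_zero g
    exact this
  by_cases h0 : M.trace ^ 2 - 4 * M.det = 0
  · left
    exact a_red g p _ (a_unip p M h2 h0)
  · right
    by_cases hsq : IsSquare (M.trace ^ 2 - 4 * M.det)
    · left
      obtain ⟨c, hc⟩ := hsq
      have hcne : c ≠ 0 := by
        rintro rfl; exact h0 (by rw [hc]; ring)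
      have := a_split M hd c hcne h2 (by rw [hc]; ring)
      exact a_red g _ 1 (by rw [this, one_smul])
    · right
      exact a_red g _ _ (a_nonsplit p hp M hsq)

end Cfsg.Agent.Lib.Helper79.PG2
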