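import Cfsg.Agent.Lib.Helper67.ExpPLen3
import Cfsg.Agent.Lib.Helper03.PGroupFrattini

/-!
# Hall–Higman: `p`-length at most the derived length of the Sylow `p`-subgroups — the reduction
(helper79, for helper67's S3789)

The reduction takes the core statement `DerKey p` as a hypothesis.
-/

set_option autoImplicit false

namespace Cfsg.Agent.Lib.Helper79

namespace DerRed

open Cfsg
open Cfsg.Agent.Lib.Helper67
open scoped commutatorElement
open Cfsg.Agent.Lib.Helper81 (le_pCore le_pPrimeCore isPGroup_pCore card_pPrimeCore_coprime)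

universe u

/-- the core statement (to be proved separately) -/
def DerKey (p : ℕ) : Prop :=
  ∀ {Γ V : Type u} [Group Γ] [Finite Γ] [CommGroup V] [Finite V],
    (∀ v : V, v ^ p = 1) → Cfsg.IsPSolvable p Γ → Cfsg.pCore p Γ = ⊥ →
    ∀ (act : Γ →* MulAut V), Function.Injective act →
    ∀ (B : Subgroup Γ), IsPGroup p B → ∀ (W₀ : Subgroup V),
    (∀ b ∈ B, ∀ c ∈ B, ∀ v : V, act c (act b v * v⁻¹) * (act b v * v⁻¹)⁻¹ ∈ W₀) →
    (∀ a ∈ ⁅B, B⁆, ∀ v : V, act a v * v⁻¹ ∈ W₀) →
    (∀ a ∈ ⁅B, B⁆, ∀ w ∈ W₀, act a w = w) → ⁅B, B⁆ = ⊥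

section der

variable {G : Type*} [Group G]

/-- the derived series of a subgroup, as subgroups of the ambient group -/
def der (P : Subgroup G) : ℕ → Subgroup G
  | 0 => P
  | n + 1 => ⁅der P n, der P n⁆

@[simp] theorem der_zero (P : Subgroup G) : der P 0 = P := rfl

theorem der_succ (P : Subgroup G) (n : ℕ) : der P (n + 1) = ⁅der P n, der P n⁆ := rfl

theorem der_map {H : Type*} [Group H] (f : G →* H) (P : Subgroup G) (n : ℕ) :
    (der P n).map f = der (P.map f) n := by
  induction n with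
  | zero => rfl
  | succ n ih => rw [der_succ, der_succ, Subgroup.map_commutator, ih]

theorem der_mono {P Q : Subgroup G} (h : P ≤ Q) (n : ℕ) : der P n ≤ der Q n := by
  induction n with
  | zero => exact h
  | succ n ih => exact Subgroup.commutator_mono ih ih

theorem der_le (P : Subgroup G) (n : ℕ) : der P n ≤ P := by
  induction n with
  | zero => exact le_rfl
  | succ n ih =>
    rw [der_succ]
    exact (Subgroup.commutator_mono ih ih).trans (Subgroup.commutator_le_self P)

theorem der_eq_map_derivedSeries (P : Subgroup G) (n : ℕ) :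
    der P n = (derivedSeries ↥P n).map P.subtype := by
  induction n with
  | zero =>
    rw [der_zero, derivedSeries_zero, ← MonoidHom.range_eq_map, Subgroup.range_subtype]
  | succ n ih =>
    rw [der_succ, derivedSeries_succ, Subgroup.map_commutator, ih]

/-- `der P n` is normalized by `P` -/
theorem der_conj_mem (P : Subgroup G) (n : ℕ) {x y : G} (hx : x ∈ P) (hy : y ∈ der P n) :
    x * y * x⁻¹ ∈ der P n := by
  have h1 : P.map (MulAut.conj x).toMonoidHom = P := by
    ext z
    constructor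
    · rintro ⟨w, hw, rfl⟩
      simpa [MulAut.conj_apply] using P.mul_mem (P.mul_mem hx hw) (P.inv_mem hx)
    · intro hz
      refine ⟨x⁻¹ * z * x, P.mul_mem (P.mul_mem (P.inv_mem hx) hz) hx, ?_⟩
      simp [MulAut.conj_apply, mul_assoc]
  have h2 := der_map (MulAut.conj x).toMonoidHom P n
  rw [h1] at h2
  rw [← h2]
  exact ⟨y, hy, by simp [MulAut.conj_apply]⟩

end der

/-- every `p`-subgroup has derived length at most `d` -/
def DerLE (p d : ℕ) (G : Type*) [Group G] : Prop :=
  ∀ P : Subgroup G, IsPGroup p P → der P d = ⊥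

theorem DerLE.of_sylow {G : Type*} [Group G] [Finite G] {p : ℕ} [Fact p.Prime] (d : ℕ)
    (h : ∀ P : Sylow p G, derivedSeries ↥(P : Subgroup G) d = ⊥) : DerLE p d G := by
  intro Q hQ
  obtain ⟨P, hQP⟩ := hQ.exists_le_sylow
  rw [eq_bot_iff]
  refine (der_mono hQP d).trans ?_
  rw [der_eq_map_derivedSeries, h P, Subgroup.map_bot]

theorem DerLE.of_surjective {G₁ G₂ : Type*} [Group G₁] [Group G₂] [Finite G₁] {p : ℕ}
    [Fact p.Prime] (f : G₁ →* G₂) (hf : Function.Surjective f) (d : ℕ) (h : DerLE p d G₁) :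
    DerLE p d G₂ := by
  intro Q hQ
  obtain ⟨T, g, hT⟩ := exists_sylow_lift f hf Q hQ
  have hle : Q ≤ ((T : Subgroup G₁).map f).map (MulAut.conj g).toMonoidHom := by
    intro a ha
    obtain ⟨α, hα, rfl⟩ := hT a ha
    exact ⟨f α, ⟨α, hα, rfl⟩, by simp [MulAut.conj_apply]⟩
  rw [eq_bot_iff]
  refine (der_mono hle d).trans ?_
  rw [← der_map, ← der_map, h (T : Subgroup G₁) T.isPGroup', Subgroup.map_bot, Subgroup.map_bot]

/-- the derived length of the `p`-subgroups drops when factoring out `O_p` -/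
theorem der_quotient_pCore {p : ℕ} [hp : Fact p.Prime] (hkey : DerKey.{u} p)
    {G : Type u} [Group G] [Finite G]
    (hG : IsPSolvable p G) (hO : pPrimeCore p G = ⊥) (d : ℕ)
    (hder : DerLE p (d + 1) G) : DerLE p d (G ⧸ pCore p G) := by
  have hRp : IsPGroup p (pCore p G) := isPGroup_pCore p
  have hcent : Subgroup.centralizer (pCore p G : Set G) ≤ pCore p G :=
    Helper81.centralizer_pCore_le hG hO
  set R := pCore p G with hR
  have hRn : R.Normal := inferInstance
  intro Pbar hPbar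
  set P : Subgroup G := Pbar.comap (QuotientGroup.mk' R) with hP
  have hPp : IsPGroup p P := by
    apply hPbar.comap_of_ker_isPGroup
    rw [QuotientGroup.ker_mk']
    exact hRp
  have hRP : R ≤ P := by
    intro r hr
    change QuotientGroup.mk' R r ∈ Pbar
    have h1 : QuotientGroup.mk' R r = 1 := (QuotientGroup.eq_one_iff r).mpr hr
    rw [h1]
    exact Pbar.one_mem
  have hPmap : P.map (QuotientGroup.mk' R) = Pbar :=
    Subgroup.map_comap_eq_self_of_surjective (QuotientGroup.mk'_surjective R) Pbar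
  rcases d with _ | d'
  · -- `P` is abelian, hence inside `R`
    rw [der_zero]
    have h1 : ⁅P, P⁆ = ⊥ := hder P hPp
    have hPR : P ≤ R := by
      intro x hx
      apply hcent
      rw [Subgroup.mem_centralizer_iff]
      intro r hr
      have : ⁅r, x⁆ ∈ ⁅P, P⁆ := Subgroup.commutator_mem_commutator (hRP hr) hx
      rw [h1, Subgroup.mem_bot, commutatorElement_eq_one_iff_mul_comm] at this
      exact this
    rw [← hPmap, eq_bot_iff]
    rintro _ ⟨x, hx, rfl⟩
    rw [Subgroup.mem_bot]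
    exact (QuotientGroup.eq_one_iff x).mpr (hPR hx)
  · set Bt := der P d' with hBt
    set At := der P (d' + 1) with hAt
    have hAtB : At = ⁅Bt, Bt⁆ := rfl
    have hAtab : ⁅At, At⁆ = ⊥ := hder P hPp
    have hBtP : Bt ≤ P := der_le P d'
    have hAtP : At ≤ P := der_le P (d' + 1)
    let _ : CommGroup (↥R ⧸ frattini ↥R) :=
      { (inferInstance : Group (↥R ⧸ frattini ↥R)) with
        mul_comm := Helper75.frattini_quotient_comm hRp }
    have hVexp : ∀ v : ↥R ⧸ frattini ↥R, v ^ p = 1 := by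
      intro v
      obtain ⟨u, rfl⟩ := QuotientGroup.mk_surjective v
      rw [← QuotientGroup.mk_pow, QuotientGroup.eq_one_iff]
      exact Cfsg.Agent.Lib.Helper03.pow_mem_frattini_of_isPGroup hRp u
    let a₀ : G →* MulAut (↥R ⧸ frattini ↥R) := (frattAct ↥R).comp MulAut.conjNormal
    have ha₀ : ∀ (g : G) (u : ↥R), a₀ g (QuotientGroup.mk u) =
        QuotientGroup.mk ⟨g * u * g⁻¹, hRn.conj_mem _ u.2 g⟩ := fun g u => rfl
    have hker : ∀ g : G, (∀ v, a₀ g v = v) → g ∈ R := by
      intro g hg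
      apply Helper75.mem_pCore_of_trivial_on_frattini_quotient R hRp hcent g
      intro y hy
      have h1 := hg (QuotientGroup.mk ⟨y, hy⟩)
      have h2 : (QuotientGroup.mk (MulAut.conjNormal g ⟨y, hy⟩) :
          ↥R ⧸ frattini ↥R) = QuotientGroup.mk ⟨y, hy⟩ := h1
      rw [QuotientGroup.eq_iff_div_mem] at h2
      refine ⟨_, h2, ?_⟩
      simp [div_eq_mul_inv, MulAut.conjNormal_apply]
    have hRker : R ≤ a₀.ker := by
      intro g hg
      rw [MonoidHom.mem_ker]
      ext v
      obtain ⟨u, rfl⟩ := QuotientGroup.mk_surjective v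
      rw [ha₀]
      have : (⟨g * u * g⁻¹, hRn.conj_mem _ u.2 g⟩ : ↥R) = ⟨g, hg⟩ * u * ⟨g, hg⟩⁻¹ := rfl
      rw [this, QuotientGroup.mk_mul, QuotientGroup.mk_mul, QuotientGroup.mk_inv,
        mul_inv_cancel_comm]
      rfl
    let act : G ⧸ R →* MulAut (↥R ⧸ frattini ↥R) := QuotientGroup.lift R a₀ hRker
    have hact_mk : ∀ g : G, act (g : G ⧸ R) = a₀ g := fun g => rfl
    have hinj : Function.Injective act := by
      rw [injective_iff_map_eq_one]
      intro x hx
      obtain ⟨g, rfl⟩ := QuotientGroup.mk_surjective x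
      rw [QuotientGroup.eq_one_iff]
      apply hker
      intro v
      rw [← hact_mk, hx]
      rfl
    have hΓsol : IsPSolvable p (G ⧸ R) := Helper81.IsPSolvable.quotient hp.out hG R
    have hΓOp : pCore p (G ⧸ R) = ⊥ := by
      rw [Helper54.pCore_quotient_of_isPGroup R hRp]
      exact QuotientGroup.map_mk'_self _
    set B : Subgroup (G ⧸ R) := Bt.map (QuotientGroup.mk' R) with hB
    have hBp : IsPGroup p B := by
      apply hPbar.to_le
      rw [← hPmap]
      exact Subgroup.map_mono hBtP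
    have hBB : ⁅B, B⁆ = At.map (QuotientGroup.mk' R) := by
      rw [hB, ← Subgroup.map_commutator, ← hAtB]
    set W₀ : Subgroup (↥R ⧸ frattini ↥R) :=
      ((At ⊓ R).subgroupOf R).map (QuotientGroup.mk' (frattini ↥R)) with hW₀
    have hW₀mem : ∀ (w : G) (hw : w ∈ R), w ∈ At →
        (QuotientGroup.mk (⟨w, hw⟩ : ↥R) : ↥R ⧸ frattini ↥R) ∈ W₀ := by
      intro w hw hwA
      refine ⟨⟨w, hw⟩, ?_, rfl⟩
      rw [SetLike.mem_coe, Subgroup.mem_subgroupOf]
      exact Subgroup.mem_inf.mpr ⟨hwA, hw⟩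
    -- elementwise formula
    have hformula : ∀ (g : G) (u : ↥R), act (g : G ⧸ R) (QuotientGroup.mk u) *
        (QuotientGroup.mk u : ↥R ⧸ frattini ↥R)⁻¹ =
        QuotientGroup.mk (⟨g * u * g⁻¹ * (u : G)⁻¹,
          R.mul_mem (hRn.conj_mem _ u.2 g) (R.inv_mem u.2)⟩ : ↥R) := by
      intro g u
      rw [hact_mk, ha₀, ← QuotientGroup.mk_inv, ← QuotientGroup.mk_mul]
      rfl
    have hkeyapp := hkey (Γ := G ⧸ R) (V := ↥R ⧸ frattini ↥R) hVexp hΓsol hΓOp act hinj B hBp W₀
    have hBBbot : ⁅B, B⁆ = ⊥ := by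
      apply hkeyapp
      · -- (1)
        rintro _ ⟨b₀, hb₀, rfl⟩ _ ⟨c₀, hc₀, rfl⟩ v
        obtain ⟨u, rfl⟩ := QuotientGroup.mk_surjective v
        change act (c₀ : G ⧸ R) (act (b₀ : G ⧸ R) (QuotientGroup.mk u) * (QuotientGroup.mk u)⁻¹) *
          (act (b₀ : G ⧸ R) (QuotientGroup.mk u) * (QuotientGroup.mk u)⁻¹)⁻¹ ∈ W₀
        rw [hformula b₀ u, hformula c₀]
        apply hW₀mem
        -- the inner commutator lies in `Bt`
        have hw : b₀ * u * b₀⁻¹ * (u : G)⁻¹ ∈ Bt := by
          have h1 : (u : G) * b₀⁻¹ * (u : G)⁻¹ ∈ Bt :=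
            der_conj_mem P d' (hRP u.2) (Bt.inv_mem hb₀)
          have : b₀ * u * b₀⁻¹ * (u : G)⁻¹ = b₀ * ((u : G) * b₀⁻¹ * (u : G)⁻¹) := by group
          rw [this]
          exact Bt.mul_mem hb₀ h1
        have : c₀ * (b₀ * u * b₀⁻¹ * (u : G)⁻¹) * c₀⁻¹ * (b₀ * u * b₀⁻¹ * (u : G)⁻¹)⁻¹
            = ⁅c₀, b₀ * u * b₀⁻¹ * (u : G)⁻¹⁆ := by
          rw [commutatorElement_def]
        change c₀ * (b₀ * u * b₀⁻¹ * (u : G)⁻¹) * c₀⁻¹ * (b₀ * u * b₀⁻¹ * (u : G)⁻¹)⁻¹ ∈ At
        rw [this, hAtB]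
        exact Subgroup.commutator_mem_commutator hc₀ hw
      · -- (2)
        intro a ha v
        rw [hBB] at ha
        obtain ⟨a₀', ha₀', rfl⟩ := ha
        obtain ⟨u, rfl⟩ := QuotientGroup.mk_surjective v
        change act (a₀' : G ⧸ R) (QuotientGroup.mk u) * (QuotientGroup.mk u)⁻¹ ∈ W₀
        rw [hformula a₀' u]
        apply hW₀mem
        have h1 : (u : G) * a₀'⁻¹ * (u : G)⁻¹ ∈ At :=
          der_conj_mem P (d' + 1) (hRP u.2) (At.inv_mem ha₀')
        have : a₀' * u * a₀'⁻¹ * (u : G)⁻¹ = a₀' * ((u : G) * a₀'⁻¹ * (u : G)⁻¹) := by group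
        change a₀' * u * a₀'⁻¹ * (u : G)⁻¹ ∈ At
        rw [this]
        exact At.mul_mem ha₀' h1
      · -- (3)
        intro a ha w hw
        rw [hBB] at ha
        obtain ⟨a₀', ha₀', rfl⟩ := ha
        obtain ⟨u, hu, rfl⟩ := hw
        rw [SetLike.mem_coe, Subgroup.mem_subgroupOf] at hu
        have huA : (u : G) ∈ At := (Subgroup.mem_inf.mp hu).1
        change act (a₀' : G ⧸ R) (QuotientGroup.mk u) = QuotientGroup.mk u
        rw [hact_mk, ha₀]
        congr 1
        apply Subtype.ext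
        change a₀' * (u : G) * a₀'⁻¹ = u
        have hc : ⁅a₀', (u : G)⁆ ∈ ⁅At, At⁆ := Subgroup.commutator_mem_commutator ha₀' huA
        rw [hAtab, Subgroup.mem_bot, commutatorElement_eq_one_iff_mul_comm] at hc
        rw [hc, mul_assoc, mul_inv_cancel, mul_one]
    -- conclusion
    rw [← hPmap, ← der_map, ← hAt, ← hBB]
    exact hBBbot

/-- Hall–Higman, reduction: given the core statement, the `p`-length is at most the derived
length of the `p`-subgroups -/
theorem pLengthLE_of_derLE {p : ℕ} [hp : Fact p.Prime] (hkey : DerKey.{u} p) (d : ℕ) :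
    ∀ {G : Type u} [Group G] [Finite G], IsPSolvable p G → DerLE p d G → PLengthLE p d G := by
  induction d with
  | zero =>
    intro G _ _ hG hder
    apply pLengthLE_zero_of_coprime
    rw [Nat.coprime_comm, Nat.Prime.coprime_iff_not_dvd hp.out]
    intro hdvd
    obtain ⟨x, hx⟩ := exists_prime_orderOf_dvd_card' p hdvd
    have hxp : IsPGroup p (Subgroup.zpowers x) :=
      isPGroup_zpowers_of_pow_eq_one x 1 (by rw [pow_one, ← hx, pow_orderOf_eq_one])
    have h1 := hder _ hxp
    rw [der_zero, Subgroup.zpowers_eq_bot] at h1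
    rw [h1, orderOf_one] at hx
    exact hp.out.one_lt.ne hx
  | succ n ih =>
    intro G _ _ hG hder
    have hN₀ : (pPrimeCore p G).Normal := pPrimeCore_normal p G
    have hG₁ : IsPSolvable p (G ⧸ pPrimeCore p G) :=
      Helper81.IsPSolvable.quotient hp.out hG _
    have hO₁ : pPrimeCore p (G ⧸ pPrimeCore p G) = ⊥ := Helper81.pPrimeCore_quotient_eq_bot p
    have hder₁ : DerLE p (n + 1) (G ⧸ pPrimeCore p G) :=
      DerLE.of_surjective (QuotientGroup.mk' _) (QuotientGroup.mk'_surjective _) _ hder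
    have h2 := der_quotient_pCore hkey hG₁ hO₁ n hder₁
    have h3 : PLengthLE p n ((G ⧸ pPrimeCore p G) ⧸ pCore p (G ⧸ pPrimeCore p G)) :=
      ih (Helper81.IsPSolvable.quotient hp.out hG₁ _) h2
    have h4 : PLengthLE p 1 ↥(pCore p (G ⧸ pPrimeCore p G)) :=
      pLengthLE_one_of_isPGroup p (isPGroup_pCore p)
    have h5 : PLengthLE p (1 + n) (G ⧸ pPrimeCore p G) := pLengthLE_add p _ 1 n h4 h3
    have h0 : PLengthLE p 0 ↥(pPrimeCore p G) :=
      pLengthLE_zero_of_coprime p (card_pPrimeCore_coprime p)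
    have h6 := pLengthLE_add p (pPrimeCore p G) 0 (1 + n) h0 h5
    rw [zero_add, add_comm] at h6
    exact h6

/-- the statement in the form requested: Sylow `p`-subgroups of derived length `≤ d` -/
theorem pLengthLE_of_der {p : ℕ} [Fact p.Prime] (hkey : DerKey.{u} p) (d : ℕ) :
    ∀ {G : Type u} [Group G] [Finite G], IsPSolvable p G →
      (∀ P : Sylow p G, derivedSeries ↥(P : Subgroup G) d = ⊥) → PLengthLE p d G := by
  intro G _ _ hG h
  exact pLengthLE_of_derLE hkey d hG (DerLE.of_sylow d h)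

end DerRed

end Cfsg.Agent.Lib.Helper79
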