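import Mathlib
import Cfsg.Agent.Lib.Helper69.StNDefs
import Cfsg.Agent.Lib.Helper07.SLGen

set_option autoImplicit false

/-!
K-StN-D0 (240109, S2401 pack, architect helper69): the matrices of `φ (w X i j u)` and `φ (hh X i j u)`.
-/

namespace Cfsg.Agent.Lib.Helper79.StN

open Cfsg.Agent.Lib.Helper69.StN Matrix

variable {n : ℕ} {K : Type*} [Field K] {S : Type*} [Group S] {X : Fin n → Fin n → K → S}

/-- the matrix of `φ (w X i j u)` as a sum of elementary matrices -/
theorem phi_w_sum {φ : S →* SpecialLinearGroup (Fin n) K} (hφ : IsPhi X φ) {i j : Fin n} (hij : i ≠ j)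
    {u : K} (hu : u ≠ 0) :
    ((φ (w X i j u) : SpecialLinearGroup (Fin n) K) : Matrix (Fin n) (Fin n) K) =
      (1 : Matrix (Fin n) (Fin n) K) + single i j u + single j i (-u⁻¹) + single i i (-1)
        + single j j (-1) := by
  have e : φ (w X i j u) = SpecialLinearGroup.transvection hij u *
      SpecialLinearGroup.transvection hij.symm (-u⁻¹) * SpecialLinearGroup.transvection hij u := by
    unfold w
    rw [map_mul, map_mul, hφ i j hij, hφ j i hij.symm]
  rw [e]
  change ((1 : Matrix (Fin n) (Fin n) K) + single i j u) * (1 + single j i (-u⁻¹)) *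
    (1 + single i j u) = _
  rw [Cfsg.Agent.Lib.Helper07.W_eq hij]
  have h1 : u + u + u * -u⁻¹ * u = u := by
    field_simp
    ring
  have h2 : u * -u⁻¹ = -1 := by
    field_simp
  have h3 : -u⁻¹ * u = -1 := by
    field_simp
  rw [h1, h2, h3]

theorem phi_w {φ : S →* SpecialLinearGroup (Fin n) K} (hφ : IsPhi X φ) {i j : Fin n} (hij : i ≠ j)
    {u : K} (hu : u ≠ 0) :
    ((φ (w X i j u) : SpecialLinearGroup (Fin n) K) : Matrix (Fin n) (Fin n) K) =
      Matrix.of (fun r c => if r = i ∧ c = j then u else if r = j ∧ c = i then -u⁻¹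
        else if r = c ∧ r ≠ i ∧ r ≠ j then 1 else 0) := by
  rw [phi_w_sum hφ hij hu]
  ext k l
  have hs : ∀ (p q : Fin n) (c : K), single p q c k l = if k = p ∧ l = q then c else 0 := by
    intro p q c; rw [single_apply]; simp only [eq_comm]
  have ho : (1 : Matrix (Fin n) (Fin n) K) k l = if l = k then 1 else 0 := by
    rw [one_apply]; simp only [eq_comm]
  simp only [Matrix.add_apply, hs, ho, of_apply]
  have hji := hij.symm
  by_cases hki : k = i <;> by_cases hkj : k = j <;> by_cases hli : l = i <;>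
    by_cases hlj : l = j <;> simp_all [eq_comm]

theorem phi_hh {φ : S →* SpecialLinearGroup (Fin n) K} (hφ : IsPhi X φ) {i j : Fin n} (hij : i ≠ j)
    {u : K} (hu : u ≠ 0) :
    ((φ (hh X i j u) : SpecialLinearGroup (Fin n) K) : Matrix (Fin n) (Fin n) K) =
      Matrix.diagonal (fun m => if m = i then u else if m = j then u⁻¹ else 1) := by
  have e : φ (hh X i j u) = φ (w X i j u) * φ (w X i j (-1)) := by
    unfold hh
    rw [map_mul]
  rw [e]
  change ((φ (w X i j u) : SpecialLinearGroup (Fin n) K) : Matrix (Fin n) (Fin n) K) *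
    ((φ (w X i j (-1)) : SpecialLinearGroup (Fin n) K) : Matrix (Fin n) (Fin n) K) = _
  rw [phi_w_sum hφ hij hu,
    phi_w_sum hφ hij (neg_ne_zero.mpr one_ne_zero), ← Cfsg.Agent.Lib.Helper07.WW_eq hij u]
  have h1 : -(-1 : K)⁻¹ = 1 := by
    rw [inv_neg, inv_one, neg_neg]
  rw [h1]

end Cfsg.Agent.Lib.Helper79.StN
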