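import Mathlib
import Cfsg.Prelude.Def_Blocks
import Cfsg.Agent.Lib.Helper83.SecondOrth
import Cfsg.Agent.Lib.Helper83.Abelian

/-!
# S4463 (Isaacs-Passman `(b!)^2`): the averaging leaf.

A nontrivial finite group all of whose irreducible character degrees are at most `b` has a
non-identity element whose centralizer has index at most `b ^ 2`.
-/

set_option autoImplicit false

namespace Cfsg.Agent.Lib.Helper79.IP4463

open Cfsg Cfsg.Agent.Lib.Helper83

universe u

/-- the sum of the centralizer orders is the class number times the group order -/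
theorem ip_sum_centralizer {X : Type u} [Group X] [Fintype X] :
    ∑ g : X, Nat.card (Subgroup.centralizer ({g} : Set X))
      = Nat.card (ConjClasses X) * Nat.card X := by
  classical
  have h3 : ∑ g : X, Nat.card (Subgroup.centralizer ({g} : Set X))
      = Nat.card {p : X × X // Commute p.1 p.2} := by
    rw [Nat.card_congr (Equiv.subtypeProdEquivSigmaSubtype (fun a b : X => Commute a b)),
      Nat.card_sigma]
    apply Finset.sum_congr rfl
    intro g _
    apply Nat.card_congr
    refine Equiv.subtypeEquivRight ?_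
    intro x
    rw [Subgroup.mem_centralizer_iff]
    simp only [Set.mem_singleton_iff, forall_eq]
    exact ⟨fun h => h, fun h => h⟩
  rw [card_comm_eq_card_conjClasses_mul_card] at h3
  exact h3

/-- the order is at most `1 + (k - 1) b^2` -/
theorem ip_card_le {X : Type u} [Group X] [Finite X] (b : ℕ)
    (hb : ∀ χ : IrrCharacter X, charDegree (χ : X → ℂ) ≤ b) :
    Nat.card X ≤ 1 + (Nat.card (ConjClasses X) - 1) * b ^ 2 := by
  classical
  haveI := Fintype.ofFinite X
  haveI : Fintype (IrrCharacter X) := Fintype.ofFinite _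
  rw [← sum_charDegree_sq (G := X),
    ← Finset.add_sum_erase Finset.univ _ (Finset.mem_univ (trivChar X)), charDegree_trivChar]
  have h : ∑ χ ∈ Finset.univ.erase (trivChar X), charDegree (χ : X → ℂ) ^ 2
      ≤ (Finset.univ.erase (trivChar X)).card • b ^ 2 :=
    Finset.sum_le_card_nsmul _ _ _ (fun χ _ => Nat.pow_le_pow_left (hb χ) 2)
  rw [Finset.card_erase_of_mem (Finset.mem_univ _), Finset.card_univ, ← Nat.card_eq_fintype_card,
    card_irr_eq_card_conjClasses, smul_eq_mul] at h
  omega

theorem exists_small_class {X : Type u} [Group X] [Finite X] [Nontrivial X] (b : ℕ)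
    (hb : ∀ χ : IrrCharacter X, charDegree (χ : X → ℂ) ≤ b) :
    ∃ x : X, x ≠ 1 ∧ (Subgroup.centralizer ({x} : Set X)).index ≤ b ^ 2 := by
  classical
  haveI := Fintype.ofFinite X
  by_contra hcon
  push Not at hcon
  have h1 := ip_card_le b hb
  have hs := ip_sum_centralizer (X := X)
  have hn2 : 2 ≤ Nat.card X := Finite.one_lt_card_iff_nontrivial.2 inferInstance
  have hk1 : 1 ≤ Nat.card (ConjClasses X) := Nat.card_pos
  generalize hk : Nat.card (ConjClasses X) = k at *
  generalize hn : Nat.card X = n at *
  -- split off g = 1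
  rw [← Finset.add_sum_erase Finset.univ _ (Finset.mem_univ (1 : X))] at hs
  have hc1 : Nat.card (Subgroup.centralizer ({(1 : X)} : Set X)) = n := by
    have : Subgroup.centralizer ({(1 : X)} : Set X) = ⊤ := by
      rw [eq_top_iff]
      intro x _
      rw [Subgroup.mem_centralizer_iff]
      intro y hy
      rw [Set.mem_singleton_iff] at hy
      rw [hy, one_mul, mul_one]
    rw [this, Subgroup.card_top, hn]
  rw [hc1] at hs
  have hle : (b ^ 2 + 1) * ∑ g ∈ Finset.univ.erase (1 : X),
      Nat.card (Subgroup.centralizer ({g} : Set X)) ≤ (n - 1) * n := by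
    rw [Finset.mul_sum]
    have : ∑ g ∈ Finset.univ.erase (1 : X),
        (b ^ 2 + 1) * Nat.card (Subgroup.centralizer ({g} : Set X))
        ≤ (Finset.univ.erase (1 : X)).card • n := by
      apply Finset.sum_le_card_nsmul
      intro g hg
      have hg1 : g ≠ 1 := (Finset.mem_erase.1 hg).1
      have hi := hcon g hg1
      have hm := Subgroup.card_mul_index (Subgroup.centralizer ({g} : Set X))
      rw [hn] at hm
      calc (b ^ 2 + 1) * Nat.card (Subgroup.centralizer ({g} : Set X))
          ≤ (Subgroup.centralizer ({g} : Set X)).index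
              * Nat.card (Subgroup.centralizer ({g} : Set X)) :=
            Nat.mul_le_mul_right _ hi
        _ = n := by rw [mul_comm, hm]
    rw [Finset.card_erase_of_mem (Finset.mem_univ _), Finset.card_univ,
      ← Nat.card_eq_fintype_card, hn, smul_eq_mul] at this
    exact this
  -- the erased sum is (k - 1) * n
  have hS : ∑ g ∈ Finset.univ.erase (1 : X),
      Nat.card (Subgroup.centralizer ({g} : Set X)) = (k - 1) * n := by
    have : k * n = n + (k - 1) * n := by
      obtain ⟨k', rfl⟩ : ∃ k', k = k' + 1 := ⟨k - 1, by omega⟩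
      simp only [Nat.add_sub_cancel]
      ring
    omega
  rw [hS] at hle
  have h2 : (b ^ 2 + 1) * (k - 1) ≤ n - 1 := by
    have : (b ^ 2 + 1) * (k - 1) * n ≤ (n - 1) * n := by rw [mul_assoc]; exact hle
    exact Nat.le_of_mul_le_mul_right this (by omega)
  -- combine
  rcases Nat.eq_or_lt_of_le hk1 with h | h
  · rw [← h] at h1
    simp at h1
    omega
  · have h3 : (k - 1) * b ^ 2 + (k - 1) ≤ (k - 1) * b ^ 2 := by
      calc (k - 1) * b ^ 2 + (k - 1) = (b ^ 2 + 1) * (k - 1) := by ring
        _ ≤ n - 1 := h2
        _ ≤ (k - 1) * b ^ 2 := by omega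
    omega

end Cfsg.Agent.Lib.Helper79.IP4463
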