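import Mathlib
import Cfsg.Prelude.Def_Blocks
import Cfsg.Agent.Lib.Helper70.IPDefs
import Cfsg.Agent.Lib.Helper79.IP4463Avg

/-!
# Pack K-IP (S4463) leaf 446307 IP-AVG: averaging over the conjugacy classes.
-/

set_option autoImplicit false

namespace Cfsg.Agent.Lib.Helper79.IP

open Cfsg Cfsg.Agent.Lib.Helper70.IP

universe u

theorem exists_small_class {Q : Type u} [Group Q] [Finite Q] [Nontrivial Q] (B : ℕ)
    (hB : DegLE Q B) :
    ∃ x : Q, x ≠ 1 ∧ (Subgroup.centralizer ({x} : Set Q)).index ≤ B ^ 2 :=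
  Cfsg.Agent.Lib.Helper79.IP4463.exists_small_class B hB

end Cfsg.Agent.Lib.Helper79.IP
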