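import Mathlib
import Cfsg.Prelude.Def_Blocks
import Cfsg.Agent.S4464
import Cfsg.Agent.S0144

/-!
# S4463 (Isaacs-Passman `(b!)^2`): a group with all irreducible degrees at most 4 and no
nontrivial abelian normal subgroup is solvable (S4464 for every prime `p ≥ 5`, then Burnside).
-/

set_option autoImplicit false

namespace Cfsg.Agent.Lib.Helper79.IP4463

open Cfsg

universe u

/-- a positive integer whose prime divisors are 2 or 3 is `2 ^ a * 3 ^ b` -/
theorem ip_two_three {n : ℕ} (hn : n ≠ 0) (h : ∀ p : ℕ, p.Prime → p ∣ n → p = 2 ∨ p = 3) :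
    ∃ a b : ℕ, n = 2 ^ a * 3 ^ b := by
  obtain ⟨a, m, hm2, hnm⟩ := Nat.exists_eq_pow_mul_and_not_dvd hn 2 (by norm_num)
  have hm0 : m ≠ 0 := by
    rintro rfl
    simp at hnm
    exact hn hnm
  obtain ⟨b, m', hm3, hmm⟩ := Nat.exists_eq_pow_mul_and_not_dvd hm0 3 (by norm_num)
  have hm'1 : m' = 1 := by
    rw [Nat.eq_one_iff_not_exists_prime_dvd]
    intro p hp hpm
    have hpm1 : p ∣ m := by rw [hmm]; exact Dvd.dvd.mul_left hpm _
    have hpn : p ∣ n := by rw [hnm]; exact Dvd.dvd.mul_left hpm1 _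
    rcases h p hp hpn with rfl | rfl
    · exact hm2 hpm1
    · exact hm3 hpm
  refine ⟨a, b, ?_⟩
  rw [hnm, hmm, hm'1, mul_one]

theorem solvable_of_degLE_four {X : Type u} [Group X] [Finite X]
    (hdeg : ∀ χ : IrrCharacter X, charDegree (χ : X → ℂ) ≤ 4)
    (hab : ∀ A : Subgroup X, A.Normal → (∀ x ∈ A, ∀ y ∈ A, x * y = y * x) → A = ⊥) :
    Group.IsSolvable X := by
  have hp : ∀ p : ℕ, p.Prime → p ∣ Nat.card X → p = 2 ∨ p = 3 := by
    intro p hp hpd
    by_contra hne
    push Not at hne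
    have h5 : 5 ≤ p := by
      have h2 := hp.two_le
      rcases Nat.lt_or_ge p 5 with h | h
      · exfalso
        have : p = 4 := by omega
        rw [this] at hp
        norm_num at hp
      · exact h
    obtain ⟨P, hPn, hPab, _, hPi⟩ := Cfsg.Agent.S4464.result (G := X) p hp
      (fun χ => lt_of_le_of_lt (hdeg χ) (by omega))
    have hbot := hab P hPn hPab
    rw [hbot, Subgroup.index_bot] at hPi
    exact hPi hpd
  obtain ⟨a, b, hab'⟩ := ip_two_three (Nat.card_pos (α := X)).ne' hp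
  exact Cfsg.Agent.S0144.result 2 3 a b Nat.prime_two Nat.prime_three hab'

end Cfsg.Agent.Lib.Helper79.IP4463
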