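import Mathlib
import Cfsg.Prelude.Def_Blocks
import Cfsg.Agent.Lib.Helper70.IPDefs
import Cfsg.Agent.Lib.Helper79.IP4463Five

/-!
# Pack K-IP (S4463) leaf 446306 IP-FIVE: a nonsolvable group without nontrivial abelian normal
subgroups has an irreducible degree at least 5.
-/

set_option autoImplicit false

namespace Cfsg.Agent.Lib.Helper79.IP

open Cfsg Cfsg.Agent.Lib.Helper70.IP

universe u

theorem five_le {Q : Type u} [Group Q] [Finite Q]
    (hab : ∀ N : Subgroup Q, N.Normal → (∀ x ∈ N, ∀ y ∈ N, x * y = y * x) → N = ⊥)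
    (hns : ¬ Group.IsSolvable Q) (B : ℕ) (hB : DegLE Q B) : 5 ≤ B := by
  by_contra h
  apply hns
  apply Cfsg.Agent.Lib.Helper79.IP4463.solvable_of_degLE_four _ hab
  intro χ
  have := hB χ
  omega

end Cfsg.Agent.Lib.Helper79.IP
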