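import Mathlib
import Cfsg.Prelude.Def_GeometricClasses
import Cfsg.Prelude.Def_ClassicalGeometry
import Cfsg.Agent.Lib.Helper72.OQFDefs
import Cfsg.Agent.Lib.Helper79.SpUTools
import Cfsg.Agent.Lib.Helper59.SpUD
import Cfsg.Agent.Lib.Helper49.OrthCountPM
import Cfsg.Agent.Lib.Helper50.SpinorIndex
import Cfsg.Agent.Lib.Helper50.GeoBridge
import Cfsg.Agent.Lib.Helper50.PlusForm
import Cfsg.Agent.Lib.Helper50.StdForms
import Cfsg.Agent.Lib.Helper46.UnitaryField2
import Cfsg.Agent.S2568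

/-!
# K-OQF-D (keystone 597719, architect helper72): derangements of order `r` with `ord_r(q) ≡ 2 (mod 4)` for the
normaliser of an `O`-type quadratic field subalgebra in `Ω⁺_{2d}(q)` (orthogonal twin of `Helper59.SpU.derange_four`).
-/

set_option autoImplicit false
set_option linter.style.haveILetI false
set_option linter.unusedVariables false
set_option maxHeartbeats 1600000

namespace Cfsg.Agent.Lib.Helper79.OQF

open Polynomial Module Cfsg.Agent.Lib.Helper49

section Core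

variable {F : Type*} [Field F] {V : Type*} [AddCommGroup V] [Module F V]

/-- the adjoint argument: on the kernel `U` of an irreducible factor of degree `dim U`, the adjoint `a'` of an
operator `a` commuting with `A` is the `q^m`-th power of `a`, if `A⁻¹ = A^(q^m)` -/
theorem adjoint_eq_pow_on_ker [Fintype F] [FiniteDimensional F V]
    (ω : LinearMap.BilinForm F V) (hN : ω.Nondegenerate)
    (A B : Module.End F V) (hAB : ∀ v, A (B v) = v) (hI : FormInv ω A)
    (s : F[X]) (hs : Squarefree s) (hsA : aeval A s = 0)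
    (m : ℕ) (hBm : B = A ^ (Fintype.card F ^ m))
    (P : F[X]) (hP : Irreducible P) (hdim : finrank F (LinearMap.ker (aeval A P)) = P.natDegree)
    (hPB : LinearMap.ker (aeval A P) ≤ LinearMap.ker (aeval B P))
    (a a' : Module.End F V) (haA : a * A = A * a) (ha'A : a' * A = A * a')
    (hadj : ∀ u v, ω (a u) v = ω u (a' v)) :
    ∀ u ∈ LinearMap.ker (aeval A P), a' u = (a ^ (Fintype.card F ^ m)) u := by
  classical
  set U := LinearMap.ker (aeval A P) with hU
  have hUpos : 0 < finrank F U := by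
    rw [hdim]; exact hP.natDegree_pos
  obtain ⟨⟨u₀, hu₀⟩, hu₀ne⟩ := (Module.finrank_pos_iff_exists_ne_zero).mp hUpos
  have hu₀ne' : u₀ ≠ 0 := fun h => hu₀ne (Subtype.ext h)
  have hinv : ∀ b : Module.End F V, b * A = A * b → ∀ u ∈ U, b u ∈ U := by
    intro b hb u hu
    rw [hU, LinearMap.mem_ker] at hu ⊢
    rw [← Cfsg.Agent.Lib.Helper59.SpU.comm_aeval_apply b A hb, hu, map_zero]
  have hinvT : ∀ g : F[X], ∀ u ∈ U, aeval A g u ∈ U := by
    intro g u hu
    rw [hU, LinearMap.mem_ker] at hu ⊢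
    rw [Cfsg.Agent.Lib.Helper59.SpU.aeval_comm_apply, hu, map_zero]
  obtain ⟨g, hg⟩ := Cfsg.Agent.Lib.Helper59.SpU.exists_aeval_eq A P hP hdim u₀ hu₀ hu₀ne' (a u₀)
    (hinv a haA u₀ hu₀)
  have haT : ∀ u ∈ U, a u = aeval A g u := by
    intro u hu
    obtain ⟨h, rfl⟩ := Cfsg.Agent.Lib.Helper59.SpU.exists_aeval_eq A P hP hdim u₀ hu₀ hu₀ne' u hu
    rw [Cfsg.Agent.Lib.Helper59.SpU.comm_aeval_apply a A haA, hg,
      Cfsg.Agent.Lib.Helper59.SpU.aeval_comm_apply]
  have hpowT : ∀ k : ℕ, ∀ u ∈ U, (a ^ k) u = ((aeval A g) ^ k) u := by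
    intro k
    induction k with
    | zero => intro u _; simp
    | succ k ih =>
      intro u hu
      rw [pow_succ, pow_succ, Module.End.mul_apply, Module.End.mul_apply, haT u hu]
      exact ih _ (hinvT g u hu)
  have hself : ∀ u ∈ U, ∀ u' ∈ U, ω (a u) u' = ω u ((a ^ (Fintype.card F ^ m)) u') := by
    intro u hu u' hu'
    rw [haT u hu, hI.adj_aeval hAB g u u', hBm, Cfsg.Agent.Lib.Helper59.SpU.aeval_pow_card_pow_end,
      ← hpowT _ u' hu']
  have hapow : (a ^ (Fintype.card F ^ m)) * A = A * (a ^ (Fintype.card F ^ m)) :=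
    ((show Commute a A from haA).pow_left _).eq
  have hc := isCompl_ker_range_aeval A s hs hsA P
  intro u' hu'
  have hzU : a' u' - (a ^ (Fintype.card F ^ m)) u' ∈ U :=
    U.sub_mem (hinv a' ha'A u' hu') (hinv _ hapow u' hu')
  have hz : a' u' - (a ^ (Fintype.card F ^ m)) u' = 0 := by
    apply hN.2
    intro v
    have hv := Submodule.projection_add_projection_eq_self hc v
    rw [← hv, map_add, LinearMap.add_apply]
    have h1 : ω (Submodule.projection _ _ hc v) (a' u' - (a ^ (Fintype.card F ^ m)) u') = 0 := by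
      have hpu : (Submodule.projection _ _ hc v) ∈ U := Submodule.projection_apply_mem hc v
      rw [map_sub, ← hadj, hself _ hpu u' hu', sub_self]
    have h2 : ω (Submodule.projection _ _ hc.symm v) (a' u' - (a ^ (Fintype.card F ^ m)) u') = 0 := by
      obtain ⟨w, hw⟩ := Submodule.projection_apply_mem hc.symm v
      rw [← hw, hI.adj_aeval hAB P w _, LinearMap.mem_ker.mp (hPB hzU), map_zero]
    rw [h1, h2, add_zero]
  exact sub_eq_zero.mp hz

end Core

section FieldSub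

variable {F : Type*} [Field F]

/-- some element of a quadratic field subalgebra is moved by the `q`-th power map -/
theorem exists_pow_card_ne {ι : Type} [Fintype ι] [DecidableEq ι] [Nonempty ι] [Fintype F]
    (K : Subalgebra F (Matrix ι ι F)) (hK : Cfsg.Geo.IsFieldSubalgebra 2 K) :
    ∃ b ∈ K, b ^ (Fintype.card F) ≠ b := by
  classical
  have hfield : IsField ↥K :=
    { exists_pair_ne := ⟨0, 1, by
        intro h
        have := congrArg Subtype.val h
        simp at this⟩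
      mul_comm := fun a b => Subtype.ext (hK.comm a.1 a.2 b.1 b.2)
      mul_inv_cancel := by
        intro a ha
        obtain ⟨y, hy, hxy⟩ := hK.inv a.1 a.2 (fun h => ha (Subtype.ext h))
        exact ⟨⟨y, hy⟩, Subtype.ext hxy⟩ }
  letI : Field ↥K := hfield.toField
  haveI : Fintype ↥K := Fintype.ofFinite _
  have h1 : Fintype.card ↥K = Fintype.card F ^ 2 := by
    rw [Module.card_eq_pow_finrank (K := F) (V := ↥K), hK.finrank_eq]
  obtain ⟨z, hz⟩ := Cfsg.Agent.Lib.Helper46.exists_frobRing_ne h1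
  rw [Cfsg.Agent.Lib.Helper46.frobRing_apply] at hz
  refine ⟨z.1, z.2, fun h => hz ?_⟩
  apply Subtype.ext
  simpa using h

end FieldSub

section Main

open Cfsg Cfsg.Geo Cfsg.Agent.Lib.Helper72.OQF
open scoped Matrix MatrixGroups

variable {F : Type*} [Field F]

/-- elements of odd order of `GO` lie in `Ω` -/
theorem coe_mem_omegaGL_of_odd_pow {ι : Type} [Fintype ι] [DecidableEq ι] [Fintype F] (h2 : (2 : F) ≠ 0)
    (Q : QuadraticForm F (ι → F)) (hQ : (QuadraticMap.polarBilin Q).Nondegenerate)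
    (hdim : 2 ≤ Fintype.card ι) (g : ↥(Cfsg.isometryGroup F (⇑Q))) (k : ℕ) (hk : Odd k)
    (hgk : g ^ k = 1) : (g : GL ι F) ∈ omegaGL (⇑Q) := by
  apply Cfsg.Agent.Lib.Helper50.coe_mem_omegaGL
  have h4 : g ^ 4 ∈ commutator ↥(Cfsg.isometryGroup F (⇑Q)) := by
    have := Subgroup.pow_index_mem (commutator ↥(Cfsg.isometryGroup F (⇑Q))) g
    rwa [Cfsg.Agent.Lib.Helper50.index_commutator h2 Q hQ hdim] at this
  obtain ⟨t, ht⟩ := hk
  rcases Nat.even_or_odd' t with ⟨s, hs | hs⟩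
  · -- k = 4 s + 1
    have h1 : (g ^ 4) ^ s * g = 1 := by
      rw [← pow_mul, ← pow_succ, ← hgk, ht, hs]
      congr 1
      ring
    have h3 : g = ((g ^ 4) ^ s)⁻¹ := eq_inv_of_mul_eq_one_right h1
    rw [h3]
    exact Subgroup.inv_mem _ (Subgroup.pow_mem _ h4 s)
  · -- k = 4 s + 3
    have h1 : (g ^ 4) ^ (s + 1) = g := by
      have : (g ^ 4) ^ (s + 1) = g ^ k * g := by
        rw [← pow_mul, ← pow_succ, ht, hs]
        congr 1
        ring
      rw [this, hgk, one_mul]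
    rw [← h1]
    exact Subgroup.pow_mem _ h4 (s + 1)

/-- the statement of leaf O1 (597703), kept here as a fallback -/
theorem mem_omegaGL_of_pow_eq_one' {ι : Type} [Fintype ι] [DecidableEq ι] [Fintype F] (h2 : (2 : F) ≠ 0)
    (Q : QuadraticForm F (ι → F)) (hQ : (QuadraticMap.polarBilin Q).Nondegenerate)
    (hdim : 2 ≤ Fintype.card ι) (g : GL ι F) (hg : g ∈ Cfsg.isometryGroup F (⇑Q)) (k : ℕ) (hk : Odd k)
    (hgk : g ^ k = 1) : g ∈ omegaGL (⇑Q) :=
  coe_mem_omegaGL_of_odd_pow h2 Q hQ hdim ⟨g, hg⟩ k hk (Subtype.ext (by simpa using hgk))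

/-- **K-OQF-D** (keystone 597719). -/
theorem derange_two [Fintype F] {p : ℕ} [Fact p.Prime] [CharP F p] {q : ℕ} (hq : Fintype.card F = q) (hodd : Odd q)
    (d : ℕ) (hd : 2 ≤ d) (K : Subalgebra F (Matrix (Fin d ⊕ Fin d) (Fin d ⊕ Fin d) F)) (hK : IsOType (quadFormPlus d F) K)
    (r : ℕ) [Fact r.Prime] (hr2 : r ≠ 2) (hrp : r ≠ p)
    (h4 : orderOf (q : ZMod r) % 4 = 2) (hed : orderOf (q : ZMod r) + 2 ≤ 2 * d) :
    ∃ x ∈ omegaGL (quadFormPlus d F), ((x ^ r : GL (Fin d ⊕ Fin d) F) : Matrix (Fin d ⊕ Fin d) (Fin d ⊕ Fin d) F) = 1 ∧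
      (∀ z : F, (x : Matrix (Fin d ⊕ Fin d) (Fin d ⊕ Fin d) F) ≠ z • (1 : Matrix (Fin d ⊕ Fin d) (Fin d ⊕ Fin d) F)) ∧
      ∀ g ∈ omegaGL (quadFormPlus d F), g⁻¹ * x * g ∉ subalgebraNormalizer K := by
  classical
  have hr : r.Prime := Fact.out
  have hp : p.Prime := Fact.out
  have h2F : (2 : F) ≠ 0 := Cfsg.Agent.Lib.Helper50.two_ne_zero_of_odd_card hq hodd
  obtain ⟨f, _, hqf⟩ := FiniteField.card F p
  rw [hq] at hqf
  have hKc : Fintype.card F = p ^ (f : ℕ) := by rw [hq, hqf]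
  obtain ⟨i, hi⟩ : ∃ i, i = orderOf ((q : ℕ) : ZMod r) := ⟨_, rfl⟩
  have hi' : i = orderOf ((p ^ (f : ℕ) : ℕ) : ZMod r) := by rw [hi, hqf]
  have D := Cfsg.Agent.S2568.factorData hKc r i hrp hi'
  rw [← hi] at h4 hed
  have hrF : (r : F) ≠ 0 := by
    intro h0
    rw [CharP.cast_eq_zero_iff F p] at h0
    exact hrp ((Nat.prime_dvd_prime_iff_eq hp hr).mp h0).symm
  have hmon : ∀ P ∈ (UniqueFactorizationMonoid.normalizedFactors
      (Polynomial.cyclotomic r F)).toFinset, P.Monic := by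
    intro P hP
    have hP1 := Multiset.mem_toFinset.mp hP
    rw [← UniqueFactorizationMonoid.normalize_normalized_factor P hP1]
    exact Polynomial.monic_normalize
      (UniqueFactorizationMonoid.irreducible_of_normalized_factor P hP1).ne_zero
  have hi2 : i = orderOf ((Fintype.card F : ℕ) : ZMod r) := by rw [hi, hq]
  have hi1 : 1 ≤ i := D.hi
  obtain ⟨e', he'⟩ : ∃ e', i = 2 * e' := ⟨i / 2, by omega⟩
  have he'odd : Odd e' := by
    rw [Nat.odd_iff]; omega
  have he'0 : 0 < e' := he'odd.pos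
  have hev : Even i := ⟨e', by omega⟩
  -- a factor
  have hne : (UniqueFactorizationMonoid.normalizedFactors
      (Polynomial.cyclotomic r F)).toFinset.Nonempty := by
    rw [Finset.nonempty_iff_ne_empty]
    intro hempty
    have h1 := D.prod
    rw [hempty, Finset.prod_empty, mul_one] at h1
    have h2 := congrArg Polynomial.natDegree h1
    have e1 : (Polynomial.X - 1 : Polynomial F).natDegree = 1 := by
      rw [← Polynomial.C_1]; exact Polynomial.natDegree_X_sub_C 1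
    have e2 : (Polynomial.X ^ r - 1 : Polynomial F).natDegree = r := by
      rw [← Polynomial.C_1]; exact Polynomial.natDegree_X_pow_sub_C
    rw [e1, e2] at h2
    have := hr.two_le
    omega
  obtain ⟨P₀, hP₀⟩ := hne
  let a : ↥(UniqueFactorizationMonoid.normalizedFactors
      (Polynomial.cyclotomic r F)).toFinset → ℕ := fun P => if P = ⟨P₀, hP₀⟩ then 1 else 0
  have hsum : ∑ P, a P = 1 := by
    rw [Finset.sum_ite_eq' Finset.univ (⟨P₀, hP₀⟩ : ↥(UniqueFactorizationMonoid.normalizedFactors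
      (Polynomial.cyclotomic r F)).toFinset) (fun _ => 1)]
    simp
  have ha1 : i * ∑ P, a P ≤ 2 * d := by rw [hsum, mul_one]; omega
  have hfull : i * ∑ P, a P = 2 * d → ¬ Odd (∑ P, a P) := by
    intro h
    rw [hsum, mul_one] at h
    omega
  obtain ⟨g₀, hg₀, hκ⟩ := (D.orth_plus_even_iff p hmon hr2 hrF hi2 hev d a).mpr ⟨ha1, hfull⟩
  have hκ₀ : Cfsg.Agent.Lib.Helper49.kdim
      (Matrix.toLin' (omat (Cfsg.Agent.Lib.Helper50.QPlus d F) g₀)) P₀ = i := by
    have := hκ ⟨P₀, hP₀⟩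
    simp only [a, if_true, mul_one] at this
    exact this
  -- the GL element
  set x : GL (Fin d ⊕ Fin d) F := (g₀ : GL (Fin d ⊕ Fin d) F) with hxdef
  have hxr : x ^ r = 1 := by
    have h2 := congrArg Subtype.val hg₀
    simpa using h2
  have hcard : 2 ≤ Fintype.card (Fin d ⊕ Fin d) := by
    rw [card_plus_index]; omega
  have hxΩ : x ∈ omegaGL (quadFormPlus d F) :=
    coe_mem_omegaGL_of_odd_pow h2F (Cfsg.Agent.Lib.Helper50.QPlus d F)
      Cfsg.Agent.Lib.Helper50.QPlus_nondegenerate hcard g₀ r (hr.odd_of_ne_two hr2) hg₀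
  haveI : Nonempty (Fin d ⊕ Fin d) := ⟨Sum.inl ⟨0, by omega⟩⟩
  have hrdvd : r ∣ Fintype.card F ^ e' + 1 := by
    rw [hq]
    exact Cfsg.Agent.Lib.Helper59.SpU.dvd_pow_half_add_one q r i hi e' he'0 he'
  have hmul : ∀ M N : Matrix (Fin d ⊕ Fin d) (Fin d ⊕ Fin d) F,
      (Matrix.toLin' M : Module.End F (Fin d ⊕ Fin d → F)) * Matrix.toLin' N = Matrix.toLin' (M * N) :=
    fun M N => (Matrix.toLin'_mul M N).symm
  -- the derangement property
  have hder : ∀ g ∈ omegaGL (quadFormPlus d F), g⁻¹ * x * g ∉ subalgebraNormalizer K := by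
    intro g hg hy
    have hgO : g ∈ Cfsg.isometryGroup F (quadFormPlus d F) :=
      ((Cfsg.Agent.Lib.Helper50.mem_omegaGL_iff _ g).mp hg).1
    set y : GL (Fin d ⊕ Fin d) F := g⁻¹ * x * g with hydef
    have hyr : y ^ r = 1 := by
      have h1 : y = g⁻¹ * x * g⁻¹⁻¹ := by rw [inv_inv]
      rw [h1, conj_pow, hxr, mul_one, inv_inv, inv_mul_cancel]
    have hyO : y ∈ Cfsg.isometryGroup F (quadFormPlus d F) :=
      Subgroup.mul_mem _ (Subgroup.mul_mem _ (Subgroup.inv_mem _ hgO) g₀.2) hgO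
    have hcomm := Cfsg.Agent.Lib.Helper79.SpU.commute_of_mem_normalizer_of_odd K hK.field y hy r
      (hr.odd_of_ne_two hr2) hyr
    set ym : Matrix (Fin d ⊕ Fin d) (Fin d ⊕ Fin d) F := (y : Matrix (Fin d ⊕ Fin d) (Fin d ⊕ Fin d) F) with hym
    set yim : Matrix (Fin d ⊕ Fin d) (Fin d ⊕ Fin d) F :=
      ((y⁻¹ : GL (Fin d ⊕ Fin d) F) : Matrix (Fin d ⊕ Fin d) (Fin d ⊕ Fin d) F) with hyim
    have hyyi : ym * yim = 1 := by
      rw [hym, hyim, ← Units.val_mul, mul_inv_cancel, Units.val_one]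
    have hyiy : yim * ym = 1 := by
      rw [hym, hyim, ← Units.val_mul, inv_mul_cancel, Units.val_one]
    have hymr : ym ^ r = 1 := by
      rw [hym, ← Units.val_pow_eq_pow_val, hyr, Units.val_one]
    set A : Module.End F (Fin d ⊕ Fin d → F) := Matrix.toLin' ym with hA
    set B : Module.End F (Fin d ⊕ Fin d → F) := Matrix.toLin' yim with hB
    let ω : LinearMap.BilinForm F (Fin d ⊕ Fin d → F) :=
      QuadraticMap.polarBilin (Cfsg.Agent.Lib.Helper50.QPlus d F)
    have hω : ∀ u v, ω u v = QuadraticMap.polar (quadFormPlus d F) u v := fun u v => rfl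
    have hN : ω.Nondegenerate := Cfsg.Agent.Lib.Helper50.QPlus_nondegenerate
    have hyQ : ∀ u, quadFormPlus d F (ym *ᵥ u) = quadFormPlus d F u := fun u => hyO u 0
    have hI : FormInv ω A := by
      intro u v
      rw [hω, hω, hA, Matrix.toLin'_apply, Matrix.toLin'_apply]
      unfold QuadraticMap.polar
      rw [← Matrix.mulVec_add, hyQ, hyQ, hyQ]
    have hAB : ∀ v, A (B v) = v := by
      intro v
      rw [hA, hB, Matrix.toLin'_apply, Matrix.toLin'_apply, Matrix.mulVec_mulVec, hyyi, Matrix.one_mulVec]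
    have hsA : Polynomial.aeval A (Polynomial.X ^ r - 1 : Polynomial F) = 0 :=
      Cfsg.Agent.Lib.Helper49.aeval_toLin'_of_pow_eq_one ym r hymr
    have hpow1 : ym ^ (Fintype.card F ^ e' + 1) = 1 := by
      obtain ⟨c, hc⟩ := hrdvd
      rw [hc, pow_mul, hymr, one_pow]
    have hyim_eq : yim = ym ^ (Fintype.card F ^ e') := by
      calc yim = yim * ym ^ (Fintype.card F ^ e' + 1) := by rw [hpow1, mul_one]
        _ = yim * ym * ym ^ (Fintype.card F ^ e') := by rw [pow_succ', mul_assoc]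
        _ = ym ^ (Fintype.card F ^ e') := by rw [hyiy, one_mul]
    have hBm : B = A ^ (Fintype.card F ^ e') := by
      rw [hB, hA, hyim_eq, Matrix.toLin'_pow]
    have hP : Irreducible P₀ := D.irr P₀ hP₀
    -- the kernel dimension
    have hgy : (g : Matrix (Fin d ⊕ Fin d) (Fin d ⊕ Fin d) F) * ym =
        (x : Matrix (Fin d ⊕ Fin d) (Fin d ⊕ Fin d) F) * (g : Matrix (Fin d ⊕ Fin d) (Fin d ⊕ Fin d) F) := by
      rw [hym, ← Units.val_mul, ← Units.val_mul, hydef]
      congr 1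
      group
    have hggi : ((g⁻¹ : GL (Fin d ⊕ Fin d) F) : Matrix (Fin d ⊕ Fin d) (Fin d ⊕ Fin d) F) *
        (g : Matrix (Fin d ⊕ Fin d) (Fin d ⊕ Fin d) F) = 1 := by
      rw [← Units.val_mul, inv_mul_cancel, Units.val_one]
    have hgig : (g : Matrix (Fin d ⊕ Fin d) (Fin d ⊕ Fin d) F) *
        ((g⁻¹ : GL (Fin d ⊕ Fin d) F) : Matrix (Fin d ⊕ Fin d) (Fin d ⊕ Fin d) F) = 1 := by
      rw [← Units.val_mul, mul_inv_cancel, Units.val_one]
    have hkd : Cfsg.Agent.Lib.Helper49.kdim A P₀ = i := by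
      rw [← hκ₀]
      apply Cfsg.Agent.Lib.Helper49.kdim_conj A _ (Matrix.toLin'OfInv hggi hgig)
      intro v
      show Matrix.toLin' (g : Matrix (Fin d ⊕ Fin d) (Fin d ⊕ Fin d) F) (A v) =
        Matrix.toLin' (x : Matrix (Fin d ⊕ Fin d) (Fin d ⊕ Fin d) F)
          (Matrix.toLin' (g : Matrix (Fin d ⊕ Fin d) (Fin d ⊕ Fin d) F) v)
      rw [hA, Matrix.toLin'_apply, Matrix.toLin'_apply, Matrix.toLin'_apply, Matrix.toLin'_apply,
        Matrix.mulVec_mulVec, Matrix.mulVec_mulVec, hgy]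
    have hdim : Module.finrank F (LinearMap.ker (Polynomial.aeval A P₀)) = P₀.natDegree := by
      rw [D.deg P₀ hP₀]
      exact hkd
    have hPB : LinearMap.ker (Polynomial.aeval A P₀) ≤ LinearMap.ker (Polynomial.aeval B P₀) := by
      intro u hu
      rw [LinearMap.mem_ker] at hu ⊢
      rw [hBm, Cfsg.Agent.Lib.Helper59.SpU.aeval_pow_card_pow_end]
      have hpos : 0 < Fintype.card F ^ e' := pow_pos Fintype.card_pos _
      obtain ⟨k, hk⟩ : ∃ k, Fintype.card F ^ e' = k + 1 := ⟨_, (Nat.succ_pred_eq_of_pos hpos).symm⟩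
      rw [hk, pow_succ, Module.End.mul_apply, hu, map_zero]
    -- a nonzero vector of the kernel
    have hUpos : 0 < Module.finrank F (LinearMap.ker (Polynomial.aeval A P₀)) := by
      rw [hdim]; exact hP.natDegree_pos
    obtain ⟨⟨u₀, hu₀⟩, hu₀ne⟩ := (Module.finrank_pos_iff_exists_ne_zero).mp hUpos
    have hu₀ne' : u₀ ≠ 0 := fun h => hu₀ne (Subtype.ext h)
    -- every element of `K` is fixed by the `q`-th power map
    obtain ⟨k, hk, hkne⟩ := exists_pow_card_ne K hK.field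
    apply hkne
    have hkey := adjoint_eq_pow_on_ker ω hN A B hAB hI (Polynomial.X ^ r - 1) D.sqf hsA e' hBm P₀ hP
      hdim hPB (Matrix.toLin' k) (Matrix.toLin' k)
      (by rw [hA, hmul, hmul, hcomm k hk])
      (by rw [hA, hmul, hmul, hcomm k hk])
      (by
        intro u v
        rw [hω, hω, Matrix.toLin'_apply, Matrix.toLin'_apply]
        exact hK.sa k hk u v)
    have h0 := hkey u₀ hu₀
    obtain ⟨j, hj⟩ := he'odd
    have hpowk : k ^ (Fintype.card F ^ e') = k ^ (Fintype.card F) := by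
      have h1 : Fintype.card F ^ e' = (Fintype.card F ^ 2) ^ j * Fintype.card F := by
        rw [hj, pow_succ, pow_mul]
      rw [h1, pow_mul, Cfsg.Agent.Lib.Helper59.SpU.pow_card_sq_pow_of_mem K hK.field hk j]
    rw [← Matrix.toLin'_pow, hpowk, Matrix.toLin'_apply, Matrix.toLin'_apply] at h0
    have hkq : k ^ (Fintype.card F) ∈ K := K.pow_mem hk _
    by_contra hne0
    have hne1 : k ^ (Fintype.card F) - k ≠ 0 := fun h => hne0 (sub_eq_zero.mp h)
    obtain ⟨w, hw, hcw⟩ := hK.field.inv (k ^ (Fintype.card F) - k) (K.sub_mem hkq hk) hne1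
    have hwc : w * (k ^ (Fintype.card F) - k) = 1 := by
      rw [hK.field.comm w hw _ (K.sub_mem hkq hk)]; exact hcw
    apply hu₀ne'
    have h1 : (k ^ (Fintype.card F) - k) *ᵥ u₀ = 0 := by rw [Matrix.sub_mulVec, ← h0, sub_self]
    calc u₀ = (w * (k ^ (Fintype.card F) - k)) *ᵥ u₀ := by rw [hwc, Matrix.one_mulVec]
      _ = w *ᵥ ((k ^ (Fintype.card F) - k) *ᵥ u₀) := by rw [Matrix.mulVec_mulVec]
      _ = 0 := by rw [h1, Matrix.mulVec_zero]
  refine ⟨x, hxΩ, ?_, ?_, hder⟩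
  · rw [hxr, Units.val_one]
  · intro z hz
    apply hder 1 (Subgroup.one_mem _)
    rw [inv_one, one_mul, mul_one]
    intro k
    have hc1 : (x : Matrix (Fin d ⊕ Fin d) (Fin d ⊕ Fin d) F) * k =
        k * (x : Matrix (Fin d ⊕ Fin d) (Fin d ⊕ Fin d) F) := by
      rw [hz, smul_mul_assoc, mul_smul_comm, one_mul, mul_one]
    have hc2 : (x : Matrix (Fin d ⊕ Fin d) (Fin d ⊕ Fin d) F) * k *
        ((x⁻¹ : GL (Fin d ⊕ Fin d) F) : Matrix (Fin d ⊕ Fin d) (Fin d ⊕ Fin d) F) = k := by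
      rw [hc1, mul_assoc, ← Units.val_mul, mul_inv_cancel, Units.val_one, mul_one]
    rw [hc2]

end Main

end Cfsg.Agent.Lib.Helper79.OQF
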