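import Mathlib
import Cfsg.Prelude.Def_GeometricClasses
import Cfsg.Prelude.Def_ClassicalGeometry
import Cfsg.Agent.Lib.Helper72.OQFDefs
import Cfsg.Agent.Lib.Helper79.SpUDefs
import Cfsg.Agent.Lib.Helper23.SpUK0F

/-!
# K-OQF-K0 (keystone 597714, architect helper72): `K0 d δ = F[θ₀]` is of `O`-type for `quadFormPlus d F`.
-/

set_option autoImplicit false

namespace Cfsg.Agent.Lib.Helper79.OQF

open Cfsg Cfsg.Geo Cfsg.Agent.Lib.Helper72.OQF
open Cfsg.Agent.Lib.Helper79.SpU (theta K0)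
open scoped Matrix MatrixGroups

variable {F : Type*} [Field F]

/-- the polar form of `quadFormPlus` in coordinates -/
theorem polar_quadFormPlus (d : ℕ) (u v : Fin d ⊕ Fin d → F) :
    QuadraticMap.polar (quadFormPlus d F) u v =
      ∑ i : Fin d, (u (Sum.inl i) * v (Sum.inr i) + v (Sum.inl i) * u (Sum.inr i)) := by
  unfold QuadraticMap.polar quadFormPlus
  rw [← Finset.sum_sub_distrib, ← Finset.sum_sub_distrib]
  apply Finset.sum_congr rfl
  intro i _
  simp only [Pi.add_apply]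
  ring

/-- `θ₀` (and every `a + b θ₀`) is self-adjoint for the polar form of `quadFormPlus` -/
theorem polar_K0_selfAdjoint (d : ℕ) (δ a b : F) (u v : Fin d ⊕ Fin d → F) :
    QuadraticMap.polar (quadFormPlus d F)
        ((a • (1 : Matrix (Fin d ⊕ Fin d) (Fin d ⊕ Fin d) F) + b • theta d δ) *ᵥ u) v =
      QuadraticMap.polar (quadFormPlus d F) u
        ((a • (1 : Matrix (Fin d ⊕ Fin d) (Fin d ⊕ Fin d) F) + b • theta d δ) *ᵥ v) := by
  rw [polar_quadFormPlus, polar_quadFormPlus]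
  apply Finset.sum_congr rfl
  intro i _
  rw [Cfsg.Agent.Lib.Helper23.SpU.K0_mulVec_inl, Cfsg.Agent.Lib.Helper23.SpU.K0_mulVec_inr,
    Cfsg.Agent.Lib.Helper23.SpU.K0_mulVec_inl, Cfsg.Agent.Lib.Helper23.SpU.K0_mulVec_inr]
  ring

/-- `θ₀` is a self-adjoint matrix -/
theorem isSAMat_theta (d : ℕ) (δ : F) : IsSAMat (quadFormPlus d F) (theta d δ) := by
  intro u v
  have := polar_K0_selfAdjoint d δ 0 1 u v
  rwa [zero_smul, zero_add, one_smul] at this

/-- **K-OQF-K0.** -/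
theorem isOType_K0 (h2 : (2 : F) ≠ 0) (d : ℕ) (hd : 1 ≤ d) (δ : F) (hδ : ¬ IsSquare δ) :
    IsOType (quadFormPlus d F) (K0 d δ) := by
  refine ⟨(Cfsg.Agent.Lib.Helper23.SpU.isUType_K0 h2 d hd δ hδ).field, ?_⟩
  intro k hk u v
  obtain ⟨a, b, rfl⟩ := (Cfsg.Agent.Lib.Helper79.SpU.mem_K0_iff d δ k).mp hk
  exact polar_K0_selfAdjoint d δ a b u v

/-- `K0 d δ` is generated by `θ₀` -/
theorem genBy_K0 (d : ℕ) (δ : F) : GenBy (K0 d δ) (theta d δ) :=
  fun a => Cfsg.Agent.Lib.Helper79.SpU.mem_K0_iff d δ a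

end Cfsg.Agent.Lib.Helper79.OQF
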