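import Mathlib
import Cfsg.Prelude.Def_GeometricClasses
import Cfsg.Prelude.Def_ClassicalGeometry
import Cfsg.Agent.Lib.Helper79.SpUDefs
import Cfsg.Agent.Lib.Helper38.SpMaxY2a

/-!
# K-SpU glue lemmas (helper79): transport along a conjugation, scalars squaring to a scalar in `Sp`
-/

set_option autoImplicit false

namespace Cfsg.Agent.Lib.Helper79.SpU

open Cfsg Cfsg.Geo
open scoped Matrix MatrixGroups

variable {F : Type*} [Field F] {ι : Type} [Fintype ι] [DecidableEq ι]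

theorem mem_subalgebraNormalizer_iff (K : Subalgebra F (Matrix ι ι F)) (g : GL ι F) :
    g ∈ subalgebraNormalizer K ↔
      ∀ k : Matrix ι ι F, k ∈ K ↔ (g : Matrix ι ι F) * k * ((g⁻¹ : GL ι F) : Matrix ι ι F) ∈ K := Iff.rfl

/-- transport of the normaliser along `h K h⁻¹ = K'` -/
theorem conj_mem_normalizer (K K' : Subalgebra F (Matrix ι ι F)) (h : GL ι F)
    (hh : ∀ a : Matrix ι ι F, a ∈ K ↔ (h : Matrix ι ι F) * a * ((h⁻¹ : GL ι F) : Matrix ι ι F) ∈ K')
    (y : GL ι F) (hy : y ∈ subalgebraNormalizer K') : h⁻¹ * y * h ∈ subalgebraNormalizer K := by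
  rw [mem_subalgebraNormalizer_iff] at hy ⊢
  intro k
  have e1 : ((h : GL ι F) : Matrix ι ι F) * ((h⁻¹ : GL ι F) : Matrix ι ι F) = 1 := by
    rw [← Units.val_mul, mul_inv_cancel, Units.val_one]
  have e2 : ((h⁻¹ : GL ι F) : Matrix ι ι F) * ((h : GL ι F) : Matrix ι ι F) = 1 := by
    rw [← Units.val_mul, inv_mul_cancel, Units.val_one]
  have e3 : ((h⁻¹ * y * h)⁻¹ : GL ι F) = h⁻¹ * y⁻¹ * h := by
    rw [mul_inv_rev, mul_inv_rev, inv_inv, mul_assoc]
  rw [hh k, hy, hh, e3]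
  simp only [Units.val_mul]
  have e4 : (h : Matrix ι ι F) * (((h⁻¹ : GL ι F) : Matrix ι ι F) * (y : Matrix ι ι F) * (h : Matrix ι ι F) * k *
      (((h⁻¹ : GL ι F) : Matrix ι ι F) * ((y⁻¹ : GL ι F) : Matrix ι ι F) * (h : Matrix ι ι F))) *
      ((h⁻¹ : GL ι F) : Matrix ι ι F) =
      (y : Matrix ι ι F) * ((h : Matrix ι ι F) * k * ((h⁻¹ : GL ι F) : Matrix ι ι F)) * ((y⁻¹ : GL ι F) : Matrix ι ι F) := by
    calc _ = ((h : Matrix ι ι F) * ((h⁻¹ : GL ι F) : Matrix ι ι F)) * (y : Matrix ι ι F) * ((h : Matrix ι ι F) * k *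
          ((h⁻¹ : GL ι F) : Matrix ι ι F)) * ((y⁻¹ : GL ι F) : Matrix ι ι F) *
          ((h : Matrix ι ι F) * ((h⁻¹ : GL ι F) : Matrix ι ι F)) := by simp only [mul_assoc]
      _ = _ := by rw [e1, one_mul, mul_one]
  rw [e4]

theorem conj_symm (K K' : Subalgebra F (Matrix ι ι F)) (h : GL ι F)
    (hh : ∀ a : Matrix ι ι F, a ∈ K ↔ (h : Matrix ι ι F) * a * ((h⁻¹ : GL ι F) : Matrix ι ι F) ∈ K') :
    ∀ a : Matrix ι ι F, a ∈ K' ↔ ((h⁻¹ : GL ι F) : Matrix ι ι F) * a * (((h⁻¹)⁻¹ : GL ι F) : Matrix ι ι F) ∈ K := by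
  intro a
  have e1 : ((h : GL ι F) : Matrix ι ι F) * ((h⁻¹ : GL ι F) : Matrix ι ι F) = 1 := by
    rw [← Units.val_mul, mul_inv_cancel, Units.val_one]
  rw [inv_inv, hh]
  have : (h : Matrix ι ι F) * (((h⁻¹ : GL ι F) : Matrix ι ι F) * a * (h : Matrix ι ι F)) * ((h⁻¹ : GL ι F) : Matrix ι ι F) = a := by
    calc _ = ((h : Matrix ι ι F) * ((h⁻¹ : GL ι F) : Matrix ι ι F)) * a * ((h : Matrix ι ι F) * ((h⁻¹ : GL ι F) : Matrix ι ι F)) := by
          simp only [mul_assoc]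
      _ = a := by rw [e1, one_mul, mul_one]
  rw [this]

/-- the index is invariant under conjugation by an element of the big group -/
theorem relIndex_eq_of_conj (K K' : Subalgebra F (Matrix ι ι F)) (S : Subgroup (GL ι F)) (h : GL ι F) (hS : h ∈ S)
    (hh : ∀ a : Matrix ι ι F, a ∈ K ↔ (h : Matrix ι ι F) * a * ((h⁻¹ : GL ι F) : Matrix ι ι F) ∈ K') :
    (subalgebraNormalizer K).relIndex S = (subalgebraNormalizer K').relIndex S := by
  have h1 : subalgebraNormalizer K' = (subalgebraNormalizer K).map (MulAut.conj h).toMonoidHom := by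
    ext y
    rw [Subgroup.mem_map_equiv, MulAut.conj_symm_apply]
    constructor
    · intro hy
      exact conj_mem_normalizer K K' h hh y hy
    · intro hy
      have := conj_mem_normalizer K' K h⁻¹ (conj_symm K K' h hh) _ hy
      rw [inv_inv] at this
      have e : h * (h⁻¹ * y * h) * h⁻¹ = y := by group
      rwa [e] at this
  have h2 : S = S.map (MulAut.conj h).toMonoidHom := by
    ext y
    rw [Subgroup.mem_map_equiv, MulAut.conj_symm_apply]
    constructor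
    · intro hy
      exact S.mul_mem (S.mul_mem (S.inv_mem hS) hy) hS
    · intro hy
      have := S.mul_mem (S.mul_mem hS hy) (S.inv_mem hS)
      have e : h * (h⁻¹ * y * h) * h⁻¹ = y := by group
      rwa [e] at this
  rw [h1]
  nth_rewrite 2 [h2]
  exact (Subgroup.relIndex_map_map_of_injective _ _ (MulAut.conj h).injective).symm

/-- in `Sp`, a scalar square is `± 1` -/
theorem sq_scalar_eq (d : ℕ) (hd : 1 ≤ d) (x : GL (Fin d ⊕ Fin d) F) (hx : x ∈ spGL d F) (z : F)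
    (hz : (x : Matrix (Fin d ⊕ Fin d) (Fin d ⊕ Fin d) F) * (x : Matrix (Fin d ⊕ Fin d) (Fin d ⊕ Fin d) F) =
      z • (1 : Matrix (Fin d ⊕ Fin d) (Fin d ⊕ Fin d) F)) : z = 1 ∨ z = -1 := by
  have hf := Cfsg.Agent.Lib.Helper38.SpMax.isSymplecticForm_sympForm_std (F := F) d
  obtain ⟨X, hX⟩ : ∃ X : Matrix (Fin d ⊕ Fin d) (Fin d ⊕ Fin d) F, X = (x : Matrix (Fin d ⊕ Fin d) (Fin d ⊕ Fin d) F) := ⟨_, rfl⟩
  rw [← hX] at hz
  have hx' : ∀ u v, sympForm d F (X *ᵥ u) (X *ᵥ v) = sympForm d F u v := by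
    rw [hX]
    exact hx
  let u : Fin d ⊕ Fin d → F := Pi.single (Sum.inl ⟨0, by omega⟩) 1
  have hu : u ≠ 0 := by
    intro h
    have := congrFun h (Sum.inl ⟨0, by omega⟩)
    simp [u] at this
  obtain ⟨-, v, hv⟩ := hf.nondegenerate u hu
  have h1 : sympForm d F (z • u) (z • v) = sympForm d F u v := by
    have e : ∀ w : Fin d ⊕ Fin d → F, z • w = X *ᵥ (X *ᵥ w) := by
      intro w
      rw [Matrix.mulVec_mulVec, hz, Matrix.smul_mulVec, Matrix.one_mulVec]
    rw [e u, e v, hx', hx']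
  rw [hf.bilinear.smul_left, hf.bilinear.smul_right] at h1
  have h2 : (z * z - 1) * sympForm d F u v = 0 := by linear_combination h1
  rcases mul_eq_zero.1 h2 with h | h
  · have h3 : (z - 1) * (z + 1) = 0 := by linear_combination h
    rcases mul_eq_zero.1 h3 with h4 | h4
    · exact Or.inl (sub_eq_zero.1 h4)
    · exact Or.inr (eq_neg_of_add_eq_zero_left h4)
  · exact absurd h hv

end Cfsg.Agent.Lib.Helper79.SpU
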