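import Cfsg.Agent.Lib.Helper79.OQFD
import Cfsg.Agent.Lib.Helper50.MinusLang
import Cfsg.Agent.Lib.Helper50.MinusPres

/-!
# K-OQF-Dm (keystone 597726, architect helper72): the minus twin of `derange_two`, via a form-independent core.
-/

set_option autoImplicit false
set_option linter.style.haveILetI false
set_option linter.unusedVariables false
set_option maxHeartbeats 1600000

namespace Cfsg.Agent.Lib.Helper79.OQF

open Polynomial Module Cfsg.Agent.Lib.Helper49

section Main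

open Cfsg Cfsg.Geo Cfsg.Agent.Lib.Helper72.OQF
open scoped Matrix MatrixGroups

variable {F : Type*} [Field F]

/-- the form-independent core of `derange_two`: an isometry `g₀` of order `r` with an irreducible factor `P₀` of
degree `2 e'` (`e'` odd, `r ∣ q^e' + 1`) and `dim ker P₀(g₀) = 2 e'` is a derangement for `N(K)`, `K` of `O`-type -/
theorem derange_two_core {ι : Type} [Fintype ι] [DecidableEq ι] [Nonempty ι] [Fintype F]
    (h2F : (2 : F) ≠ 0) (Q : QuadraticForm F (ι → F)) (hQ : (QuadraticMap.polarBilin Q).Nondegenerate)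
    (hcard : 2 ≤ Fintype.card ι)
    (K : Subalgebra F (Matrix ι ι F)) (hK : IsOType (⇑Q) K)
    (r : ℕ) [Fact r.Prime] (hr2 : r ≠ 2) (e' : ℕ) (he'odd : Odd e')
    (hrdvd : r ∣ Fintype.card F ^ e' + 1)
    (hsqf : Squarefree (Polynomial.X ^ r - 1 : Polynomial F))
    (P₀ : Polynomial F) (hP : Irreducible P₀) (hdeg : P₀.natDegree = 2 * e')
    (g₀ : ↥(Cfsg.isometryGroup F (⇑Q))) (hg₀ : g₀ ^ r = 1)
    (hκ₀ : Cfsg.Agent.Lib.Helper49.kdim (Matrix.toLin' (omat Q g₀)) P₀ = 2 * e') :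
    (g₀ : GL ι F) ∈ omegaGL (⇑Q) ∧ (((g₀ : GL ι F) ^ r : GL ι F) : Matrix ι ι F) = 1 ∧
      (∀ z : F, ((g₀ : GL ι F) : Matrix ι ι F) ≠ z • (1 : Matrix ι ι F)) ∧
      ∀ g ∈ omegaGL (⇑Q), g⁻¹ * (g₀ : GL ι F) * g ∉ subalgebraNormalizer K := by
  classical
  have hr : r.Prime := Fact.out
  set x : GL ι F := (g₀ : GL ι F) with hxdef
  have hxr : x ^ r = 1 := by
    have h2 := congrArg Subtype.val hg₀
    simpa using h2
  have hxΩ : x ∈ omegaGL (⇑Q) :=
    coe_mem_omegaGL_of_odd_pow h2F Q hQ hcard g₀ r (hr.odd_of_ne_two hr2) hg₀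
  have hmul : ∀ M N : Matrix ι ι F,
      (Matrix.toLin' M : Module.End F (ι → F)) * Matrix.toLin' N = Matrix.toLin' (M * N) :=
    fun M N => (Matrix.toLin'_mul M N).symm
  have hder : ∀ g ∈ omegaGL (⇑Q), g⁻¹ * x * g ∉ subalgebraNormalizer K := by
    intro g hg hy
    have hgO : g ∈ Cfsg.isometryGroup F (⇑Q) :=
      ((Cfsg.Agent.Lib.Helper50.mem_omegaGL_iff _ g).mp hg).1
    set y : GL ι F := g⁻¹ * x * g with hydef
    have hyr : y ^ r = 1 := by
      have h1 : y = g⁻¹ * x * g⁻¹⁻¹ := by rw [inv_inv]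
      rw [h1, conj_pow, hxr, mul_one, inv_inv, inv_mul_cancel]
    have hyO : y ∈ Cfsg.isometryGroup F (⇑Q) :=
      Subgroup.mul_mem _ (Subgroup.mul_mem _ (Subgroup.inv_mem _ hgO) g₀.2) hgO
    have hcomm := Cfsg.Agent.Lib.Helper79.SpU.commute_of_mem_normalizer_of_odd K hK.field y hy r
      (hr.odd_of_ne_two hr2) hyr
    set ym : Matrix ι ι F := (y : Matrix ι ι F) with hym
    set yim : Matrix ι ι F := ((y⁻¹ : GL ι F) : Matrix ι ι F) with hyim
    have hyyi : ym * yim = 1 := by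
      rw [hym, hyim, ← Units.val_mul, mul_inv_cancel, Units.val_one]
    have hyiy : yim * ym = 1 := by
      rw [hym, hyim, ← Units.val_mul, inv_mul_cancel, Units.val_one]
    have hymr : ym ^ r = 1 := by
      rw [hym, ← Units.val_pow_eq_pow_val, hyr, Units.val_one]
    set A : Module.End F (ι → F) := Matrix.toLin' ym with hA
    set B : Module.End F (ι → F) := Matrix.toLin' yim with hB
    let ω : LinearMap.BilinForm F (ι → F) := QuadraticMap.polarBilin Q
    have hω : ∀ u v, ω u v = QuadraticMap.polar (⇑Q) u v := fun u v => rfl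
    have hN : ω.Nondegenerate := hQ
    have hyQ : ∀ u, Q (ym *ᵥ u) = Q u := fun u => hyO u 0
    have hI : FormInv ω A := by
      intro u v
      rw [hω, hω, hA, Matrix.toLin'_apply, Matrix.toLin'_apply]
      unfold QuadraticMap.polar
      rw [← Matrix.mulVec_add, hyQ, hyQ, hyQ]
    have hAB : ∀ v, A (B v) = v := by
      intro v
      rw [hA, hB, Matrix.toLin'_apply, Matrix.toLin'_apply, Matrix.mulVec_mulVec, hyyi, Matrix.one_mulVec]
    have hsA : Polynomial.aeval A (Polynomial.X ^ r - 1 : Polynomial F) = 0 :=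
      Cfsg.Agent.Lib.Helper49.aeval_toLin'_of_pow_eq_one ym r hymr
    have hpow1 : ym ^ (Fintype.card F ^ e' + 1) = 1 := by
      obtain ⟨c, hc⟩ := hrdvd
      rw [hc, pow_mul, hymr, one_pow]
    have hyim_eq : yim = ym ^ (Fintype.card F ^ e') := by
      calc yim = yim * ym ^ (Fintype.card F ^ e' + 1) := by rw [hpow1, mul_one]
        _ = yim * ym * ym ^ (Fintype.card F ^ e') := by rw [pow_succ', mul_assoc]
        _ = ym ^ (Fintype.card F ^ e') := by rw [hyiy, one_mul]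
    have hBm : B = A ^ (Fintype.card F ^ e') := by
      rw [hB, hA, hyim_eq, Matrix.toLin'_pow]
    have hgy : (g : Matrix ι ι F) * ym = (x : Matrix ι ι F) * (g : Matrix ι ι F) := by
      rw [hym, ← Units.val_mul, ← Units.val_mul, hydef]
      congr 1
      group
    have hggi : ((g⁻¹ : GL ι F) : Matrix ι ι F) * (g : Matrix ι ι F) = 1 := by
      rw [← Units.val_mul, inv_mul_cancel, Units.val_one]
    have hgig : (g : Matrix ι ι F) * ((g⁻¹ : GL ι F) : Matrix ι ι F) = 1 := by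
      rw [← Units.val_mul, mul_inv_cancel, Units.val_one]
    have hkd : Cfsg.Agent.Lib.Helper49.kdim A P₀ = 2 * e' := by
      rw [← hκ₀]
      apply Cfsg.Agent.Lib.Helper49.kdim_conj A _ (Matrix.toLin'OfInv hggi hgig)
      intro v
      show Matrix.toLin' (g : Matrix ι ι F) (A v) =
        Matrix.toLin' (x : Matrix ι ι F) (Matrix.toLin' (g : Matrix ι ι F) v)
      rw [hA, Matrix.toLin'_apply, Matrix.toLin'_apply, Matrix.toLin'_apply, Matrix.toLin'_apply,
        Matrix.mulVec_mulVec, Matrix.mulVec_mulVec, hgy]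
    have hdim : Module.finrank F (LinearMap.ker (Polynomial.aeval A P₀)) = P₀.natDegree := by
      rw [hdeg]
      exact hkd
    have hPB : LinearMap.ker (Polynomial.aeval A P₀) ≤ LinearMap.ker (Polynomial.aeval B P₀) := by
      intro u hu
      rw [LinearMap.mem_ker] at hu ⊢
      rw [hBm, Cfsg.Agent.Lib.Helper59.SpU.aeval_pow_card_pow_end]
      have hpos : 0 < Fintype.card F ^ e' := pow_pos Fintype.card_pos _
      obtain ⟨k, hk⟩ : ∃ k, Fintype.card F ^ e' = k + 1 := ⟨_, (Nat.succ_pred_eq_of_pos hpos).symm⟩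
      rw [hk, pow_succ, Module.End.mul_apply, hu, map_zero]
    have hUpos : 0 < Module.finrank F (LinearMap.ker (Polynomial.aeval A P₀)) := by
      rw [hdim]; exact hP.natDegree_pos
    obtain ⟨⟨u₀, hu₀⟩, hu₀ne⟩ := (Module.finrank_pos_iff_exists_ne_zero).mp hUpos
    have hu₀ne' : u₀ ≠ 0 := fun h => hu₀ne (Subtype.ext h)
    obtain ⟨k, hk, hkne⟩ := exists_pow_card_ne K hK.field
    apply hkne
    have hkey := adjoint_eq_pow_on_ker ω hN A B hAB hI (Polynomial.X ^ r - 1) hsqf hsA e' hBm P₀ hP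
      hdim hPB (Matrix.toLin' k) (Matrix.toLin' k)
      (by rw [hA, hmul, hmul, hcomm k hk])
      (by rw [hA, hmul, hmul, hcomm k hk])
      (by
        intro u v
        rw [hω, hω, Matrix.toLin'_apply, Matrix.toLin'_apply]
        exact hK.sa k hk u v)
    have h0 := hkey u₀ hu₀
    obtain ⟨j, hj⟩ := he'odd
    have hpowk : k ^ (Fintype.card F ^ e') = k ^ (Fintype.card F) := by
      have h1 : Fintype.card F ^ e' = (Fintype.card F ^ 2) ^ j * Fintype.card F := by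
        rw [hj, pow_succ, pow_mul]
      rw [h1, pow_mul, Cfsg.Agent.Lib.Helper59.SpU.pow_card_sq_pow_of_mem K hK.field hk j]
    rw [← Matrix.toLin'_pow, hpowk, Matrix.toLin'_apply, Matrix.toLin'_apply] at h0
    have hkq : k ^ (Fintype.card F) ∈ K := K.pow_mem hk _
    by_contra hne0
    have hne1 : k ^ (Fintype.card F) - k ≠ 0 := fun h => hne0 (sub_eq_zero.mp h)
    obtain ⟨w, hw, hcw⟩ := hK.field.inv (k ^ (Fintype.card F) - k) (K.sub_mem hkq hk) hne1
    have hwc : w * (k ^ (Fintype.card F) - k) = 1 := by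
      rw [hK.field.comm w hw _ (K.sub_mem hkq hk)]; exact hcw
    apply hu₀ne'
    have h1 : (k ^ (Fintype.card F) - k) *ᵥ u₀ = 0 := by rw [Matrix.sub_mulVec, ← h0, sub_self]
    calc u₀ = (w * (k ^ (Fintype.card F) - k)) *ᵥ u₀ := by rw [hwc, Matrix.one_mulVec]
      _ = w *ᵥ ((k ^ (Fintype.card F) - k) *ᵥ u₀) := by rw [Matrix.mulVec_mulVec]
      _ = 0 := by rw [h1, Matrix.mulVec_zero]
  refine ⟨hxΩ, ?_, ?_, hder⟩
  · rw [hxr, Units.val_one]
  · intro z hz
    apply hder 1 (Subgroup.one_mem _)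
    rw [inv_one, one_mul, mul_one]
    intro k
    have hc1 : (x : Matrix ι ι F) * k = k * (x : Matrix ι ι F) := by
      rw [hz, smul_mul_assoc, mul_smul_comm, one_mul, mul_one]
    have hc2 : (x : Matrix ι ι F) * k * ((x⁻¹ : GL ι F) : Matrix ι ι F) = k := by
      rw [hc1, mul_assoc, ← Units.val_mul, mul_inv_cancel, Units.val_one, mul_one]
    rw [hc2]

/-- **K-OQF-Dm** (keystone 597726). -/
theorem derange_two_minus [Fintype F] {p : ℕ} [Fact p.Prime] [CharP F p] {q : ℕ} (hq : Fintype.card F = q) (hodd : Odd q)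
    (m : ℕ) (hm : 1 ≤ m) (a₀ b₀ : F) (hab : ∀ x y : F, x ^ 2 + a₀ * x * y + b₀ * y ^ 2 = 0 → x = 0 ∧ y = 0)
    (K : Subalgebra F (Matrix ((Fin m ⊕ Fin m) ⊕ Fin 2) ((Fin m ⊕ Fin m) ⊕ Fin 2) F))
    (hK : IsOType (quadFormMinus m F a₀ b₀) K)
    (r : ℕ) [Fact r.Prime] (hr2 : r ≠ 2) (hrp : r ≠ p)
    (h4 : orderOf (q : ZMod r) % 4 = 2) (hed : orderOf (q : ZMod r) ≤ 2 * (m + 1)) :
    ∃ x ∈ omegaGL (quadFormMinus m F a₀ b₀),
      ((x ^ r : GL ((Fin m ⊕ Fin m) ⊕ Fin 2) F) : Matrix ((Fin m ⊕ Fin m) ⊕ Fin 2) ((Fin m ⊕ Fin m) ⊕ Fin 2) F) = 1 ∧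
      (∀ z : F, (x : Matrix ((Fin m ⊕ Fin m) ⊕ Fin 2) ((Fin m ⊕ Fin m) ⊕ Fin 2) F) ≠
        z • (1 : Matrix ((Fin m ⊕ Fin m) ⊕ Fin 2) ((Fin m ⊕ Fin m) ⊕ Fin 2) F)) ∧
      ∀ g ∈ omegaGL (quadFormMinus m F a₀ b₀), g⁻¹ * x * g ∉ subalgebraNormalizer K := by
  classical
  have hr : r.Prime := Fact.out
  have hp : p.Prime := Fact.out
  have h2F : (2 : F) ≠ 0 := Cfsg.Agent.Lib.Helper50.two_ne_zero_of_odd_card hq hodd
  obtain ⟨f, _, hqf⟩ := FiniteField.card F p
  rw [hq] at hqf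
  have hKc : Fintype.card F = p ^ (f : ℕ) := by rw [hq, hqf]
  obtain ⟨i, hi⟩ : ∃ i, i = orderOf ((q : ℕ) : ZMod r) := ⟨_, rfl⟩
  have hi' : i = orderOf ((p ^ (f : ℕ) : ℕ) : ZMod r) := by rw [hi, hqf]
  have D := Cfsg.Agent.S2568.factorData hKc r i hrp hi'
  rw [← hi] at h4 hed
  have hrF : (r : F) ≠ 0 := by
    intro h0
    rw [CharP.cast_eq_zero_iff F p] at h0
    exact hrp ((Nat.prime_dvd_prime_iff_eq hp hr).mp h0).symm
  have hmon : ∀ P ∈ (UniqueFactorizationMonoid.normalizedFactors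
      (Polynomial.cyclotomic r F)).toFinset, P.Monic := by
    intro P hP
    have hP1 := Multiset.mem_toFinset.mp hP
    rw [← UniqueFactorizationMonoid.normalize_normalized_factor P hP1]
    exact Polynomial.monic_normalize
      (UniqueFactorizationMonoid.irreducible_of_normalized_factor P hP1).ne_zero
  have hi2 : i = orderOf ((Fintype.card F : ℕ) : ZMod r) := by rw [hi, hq]
  have hi1 : 1 ≤ i := D.hi
  obtain ⟨e', he'⟩ : ∃ e', i = 2 * e' := ⟨i / 2, by omega⟩
  have he'odd : Odd e' := by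
    rw [Nat.odd_iff]; omega
  have he'0 : 0 < e' := he'odd.pos
  have hev : Even i := ⟨e', by omega⟩
  have hne : (UniqueFactorizationMonoid.normalizedFactors
      (Polynomial.cyclotomic r F)).toFinset.Nonempty := by
    rw [Finset.nonempty_iff_ne_empty]
    intro hempty
    have h1 := D.prod
    rw [hempty, Finset.prod_empty, mul_one] at h1
    have h2 := congrArg Polynomial.natDegree h1
    have e1 : (Polynomial.X - 1 : Polynomial F).natDegree = 1 := by
      rw [← Polynomial.C_1]; exact Polynomial.natDegree_X_sub_C 1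
    have e2 : (Polynomial.X ^ r - 1 : Polynomial F).natDegree = r := by
      rw [← Polynomial.C_1]; exact Polynomial.natDegree_X_pow_sub_C
    rw [e1, e2] at h2
    have := hr.two_le
    omega
  obtain ⟨P₀, hP₀⟩ := hne
  let a : ↥(UniqueFactorizationMonoid.normalizedFactors
      (Polynomial.cyclotomic r F)).toFinset → ℕ := fun P => if P = ⟨P₀, hP₀⟩ then 1 else 0
  have hsum : ∑ P, a P = 1 := by
    rw [Finset.sum_ite_eq' Finset.univ (⟨P₀, hP₀⟩ : ↥(UniqueFactorizationMonoid.normalizedFactors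
      (Polynomial.cyclotomic r F)).toFinset) (fun _ => 1)]
    simp
  have ha1 : i * ∑ P, a P ≤ 2 * (m + 1) := by rw [hsum, mul_one]; exact hed
  have hfull : i * ∑ P, a P = 2 * (m + 1) → ¬ Even (∑ P, a P) := by
    intro _
    rw [hsum]
    decide
  obtain ⟨g₀, hg₀, hκ⟩ :=
    (D.orth_minus_even_iff p hmon hr2 hrF hi2 hev m a₀ b₀ hab a).mpr ⟨ha1, hfull⟩
  have hκ₀ : Cfsg.Agent.Lib.Helper49.kdim
      (Matrix.toLin' (omat (Cfsg.Agent.Lib.Helper50.QMinus m F a₀ b₀) g₀)) P₀ = 2 * e' := by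
    have := hκ ⟨P₀, hP₀⟩
    simp only [a, if_true, mul_one] at this
    rw [this, he']
  have hcard : 2 ≤ Fintype.card ((Fin m ⊕ Fin m) ⊕ Fin 2) := by
    rw [Cfsg.Agent.Lib.Helper49.card_minus_index]; omega
  haveI : Nonempty ((Fin m ⊕ Fin m) ⊕ Fin 2) := ⟨Sum.inr 0⟩
  have hrdvd : r ∣ Fintype.card F ^ e' + 1 := by
    rw [hq]
    exact Cfsg.Agent.Lib.Helper59.SpU.dvd_pow_half_add_one q r i hi e' he'0 he'
  have hcore := derange_two_core h2F (Cfsg.Agent.Lib.Helper50.QMinus m F a₀ b₀)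
    (Cfsg.Agent.Lib.Helper49.QMinus_nondegenerate_all m a₀ b₀ hab) hcard K hK r hr2 e' he'odd hrdvd
    D.sqf P₀ (D.irr P₀ hP₀) (by rw [D.deg P₀ hP₀, he']) g₀ hg₀ hκ₀
  exact ⟨(g₀ : GL ((Fin m ⊕ Fin m) ⊕ Fin 2) F), hcore.1, hcore.2.1, hcore.2.2.1, hcore.2.2.2⟩

end Main

end Cfsg.Agent.Lib.Helper79.OQF
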