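import Mathlib
import Cfsg.Prelude.Def_JordanBlocks
import Cfsg.Agent.Lib.Helper73.UCDefs
import Cfsg.Agent.Lib.Helper73.SPCDefs
import Cfsg.Agent.Lib.Helper22.UCA1

/-!
# K-SPC-C1b (keystone 267609, helper73's pack for S2676): `shankel d c` is skew-adjoint for every `c`
-/

set_option autoImplicit false

namespace Cfsg.Agent.Lib.Helper79.SPC

open Matrix Cfsg.Agent.Lib.Helper73.UC Cfsg.Agent.Lib.Helper73.SPC Cfsg.Agent.Lib.Helper22.UC

variable {F : Type*} [Field F]

theorem transpose_nilM_mul_apply {t : ℕ} (d : Fin t → ℕ) (M : Matrix (JI d) (JI d) F)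
    (l : Fin t) (b : Fin (d l)) (y : JI d) :
    ((nilM d F)ᵀ * M) ⟨l, b⟩ y = if h : (b : ℕ) + 1 < d l then M ⟨l, ⟨b + 1, h⟩⟩ y else 0 :=
  uca1_hadj_nilM_mul_apply d (RingHom.id F) M l b y

theorem shankel_apply {t : ℕ} (d : Fin t → ℕ) (c : CIdx d → F) (x y : JI d) :
    shankel d c x y = (-1 : F) ^ (x.2 : ℕ) * hankel d c x y := rfl

theorem hankel_apply {t : ℕ} (d : Fin t → ℕ) (c : CIdx d → F) (x y : JI d) :
    hankel d c x y = if h : (x.2 : ℕ) + (y.2 : ℕ) < min (d x.1) (d y.1) then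
      c ⟨x.1, y.1, ⟨(x.2 : ℕ) + (y.2 : ℕ), h⟩⟩ else 0 := rfl

/-- LEAF C1b (267609). -/
theorem shankel_skew_adjoint {t : ℕ} (d : Fin t → ℕ) (c : CIdx d → F) :
    (nilM d F)ᵀ * shankel d c = -(shankel d c * nilM d F) := by
  ext x y
  rcases x with ⟨l, b⟩
  rcases y with ⟨k, a⟩
  rw [Matrix.neg_apply, transpose_nilM_mul_apply, uca1_mul_nilM_apply]
  by_cases hmin : (b : ℕ) + 1 + (a : ℕ) < min (d l) (d k)
  · have hb : (b : ℕ) + 1 < d l := by
      have := min_le_left (d l) (d k)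
      omega
    have ha : (a : ℕ) + 1 < d k := by
      have := min_le_right (d l) (d k)
      omega
    rw [dif_pos hb, dif_pos ha, shankel_apply, shankel_apply, hankel_apply, hankel_apply]
    simp only
    have hmin' : (b : ℕ) + ((a : ℕ) + 1) < min (d l) (d k) := by omega
    rw [dif_pos hmin, dif_pos hmin',
      uca1_c_congr d c l k ((b : ℕ) + 1 + (a : ℕ)) ((b : ℕ) + ((a : ℕ) + 1)) hmin hmin' (by omega)]
    rw [pow_succ]
    ring
  · have h1 : (if h : (b : ℕ) + 1 < d l then shankel d c ⟨l, ⟨b + 1, h⟩⟩ ⟨k, a⟩ else 0) = 0 := by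
      split_ifs with h
      · rw [shankel_apply, hankel_apply]
        simp only
        rw [dif_neg hmin, mul_zero]
      · rfl
    have h2 : (if h : (a : ℕ) + 1 < d k then shankel d c ⟨l, b⟩ ⟨k, ⟨a + 1, h⟩⟩ else 0) = 0 := by
      split_ifs with h
      · rw [shankel_apply, hankel_apply]
        simp only
        rw [dif_neg (by omega), mul_zero]
      · rfl
    rw [h1, h2, neg_zero]

end Cfsg.Agent.Lib.Helper79.SPC
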