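import Mathlib
import Cfsg.Prelude.Def_JordanBlocks
import Cfsg.Agent.Lib.Helper73.UCDefs
import Cfsg.Agent.Lib.Helper73.SPCDefs
import Cfsg.Agent.Lib.Helper22.UCA1
import Cfsg.Agent.Lib.Helper62.SPCC6
import Cfsg.Agent.Lib.Helper28.SPCC1
import Cfsg.Agent.Lib.Helper79.SPCC1b

/-!
# K-SPC-C8 (keystone 267617, pack S2676, architect helper73): lifting congruences of the top blocks

`liftM d y` is the block-constant matrix `x ((l,b),(k,a)) = if d l = d k ∧ b = a then y (d k) l k else 0`.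
It commutes with `nilM d F`, `liftM` is multiplicative and unital, hence `liftM d y` is invertible when all
`y i` are. `exists_lift_topBlock_of` takes the statement of C5 (`topBlock_mul`) as a hypothesis.
-/

set_option autoImplicit false
set_option linter.unusedVariables false
set_option linter.unusedSectionVars false

namespace Cfsg.Agent.Lib.Helper79.SPC

open Matrix Cfsg.Agent.Lib.Helper73.UC Cfsg.Agent.Lib.Helper73.SPC Cfsg.Agent.Lib.Helper22.UC

variable {F : Type*} [Field F]

/-- entry of a family of block matrices, as a total function -/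
def yv {t : ℕ} (d : Fin t → ℕ)
    (y : ∀ i : ℕ, Matrix {k : Fin t // d k = i} {k : Fin t // d k = i} F)
    (i : ℕ) (l k : Fin t) : F :=
  if h : d l = i ∧ d k = i then y i ⟨l, h.1⟩ ⟨k, h.2⟩ else 0

/-- the block-constant lift of a family of matrices on the fibres of `d` -/
def liftM {t : ℕ} (d : Fin t → ℕ)
    (y : ∀ i : ℕ, Matrix {k : Fin t // d k = i} {k : Fin t // d k = i} F) :
    Matrix (JI d) (JI d) F :=
  Matrix.of fun p q => if (p.2 : ℕ) = (q.2 : ℕ) then yv d y (d q.1) p.1 q.1 else 0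

theorem liftM_apply {t : ℕ} (d : Fin t → ℕ)
    (y : ∀ i : ℕ, Matrix {k : Fin t // d k = i} {k : Fin t // d k = i} F) (p q : JI d) :
    liftM d y p q = if (p.2 : ℕ) = (q.2 : ℕ) then yv d y (d q.1) p.1 q.1 else 0 := rfl

theorem yv_eq_zero {t : ℕ} (d : Fin t → ℕ)
    (y : ∀ i : ℕ, Matrix {k : Fin t // d k = i} {k : Fin t // d k = i} F) (i : ℕ) (l k : Fin t)
    (h : ¬ (d l = i ∧ d k = i)) : yv d y i l k = 0 := by
  unfold yv
  rw [dif_neg h]

theorem yv_pos {t : ℕ} (d : Fin t → ℕ)
    (y : ∀ i : ℕ, Matrix {k : Fin t // d k = i} {k : Fin t // d k = i} F) (i : ℕ) (l k : Fin t)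
    (h1 : d l = i) (h2 : d k = i) : yv d y i l k = y i ⟨l, h1⟩ ⟨k, h2⟩ := by
  unfold yv
  rw [dif_pos ⟨h1, h2⟩]

theorem liftM_comm {t : ℕ} (d : Fin t → ℕ)
    (y : ∀ i : ℕ, Matrix {k : Fin t // d k = i} {k : Fin t // d k = i} F) :
    liftM d y * nilM d F = nilM d F * liftM d y := by
  ext ⟨l, b⟩ ⟨k, a⟩
  rw [uca1_mul_nilM_apply, Cfsg.Agent.Lib.Helper62.SPC.c6_nilM_mul_apply]
  simp only [liftM_apply]
  by_cases hba : (b : ℕ) = (a : ℕ) + 1
  · have h1 : 1 ≤ (b : ℕ) := by omega
    rw [dif_pos h1, if_pos (by omega)]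
    by_cases h2 : (a : ℕ) + 1 < d k
    · rw [dif_pos h2, if_pos (by omega)]
    · have hz : yv d y (d k) l k = 0 := by
        apply yv_eq_zero
        rintro ⟨h3, -⟩
        have := b.2
        omega
      rw [dif_neg h2, hz]
      simp
  · have : ¬ ((b : ℕ) - 1 = (a : ℕ) ∧ 1 ≤ (b : ℕ)) := by omega
    split_ifs <;> first | rfl | (exfalso; omega)

theorem liftM_one {t : ℕ} (d : Fin t → ℕ) :
    liftM d (fun i => (1 : Matrix {k : Fin t // d k = i} {k : Fin t // d k = i} F)) = 1 := by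
  ext ⟨l, b⟩ ⟨k, a⟩
  rw [liftM_apply]
  by_cases hlk : l = k
  · subst hlk
    by_cases hba : b = a
    · subst hba
      rw [if_pos rfl, yv_pos d _ _ _ _ rfl rfl]
      simp
    · rw [if_neg (fun h => hba (Fin.ext h)), Matrix.one_apply_ne]
      intro h
      apply hba
      have := (Sigma.mk.inj_iff.mp h).2
      exact eq_of_heq this
  · rw [Matrix.one_apply_ne (fun h => hlk (congrArg Sigma.fst h))]
    split_ifs with h1
    · by_cases h2 : d l = d k
      · rw [yv_pos d _ _ _ _ h2 rfl, Matrix.one_apply_ne]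
        intro h
        exact hlk (congrArg Subtype.val h)
      · exact yv_eq_zero d _ _ _ _ (fun h => h2 h.1)
    · rfl

theorem liftM_mul {t : ℕ} (d : Fin t → ℕ)
    (y y' : ∀ i : ℕ, Matrix {k : Fin t // d k = i} {k : Fin t // d k = i} F) :
    liftM d y * liftM d y' = liftM d (fun i => y i * y' i) := by
  ext ⟨l, b⟩ ⟨k, a⟩
  rw [Matrix.mul_apply, Fintype.sum_sigma]
  simp only [liftM_apply]
  by_cases hba : (b : ℕ) = (a : ℕ)
  · rw [if_pos hba]
    -- inner sums
    have hin : ∀ j : Fin t,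
        (∑ e : Fin (d j), (if (b : ℕ) = (e : ℕ) then yv d y (d j) l j else 0) *
          (if (e : ℕ) = (a : ℕ) then yv d y' (d k) j k else 0)) =
        yv d y (d j) l j * yv d y' (d k) j k := by
      intro j
      by_cases hj : d l = d j
      · rw [Finset.sum_eq_single (⟨(b : ℕ), by rw [← hj]; exact b.2⟩ : Fin (d j))]
        · rw [if_pos rfl, if_pos hba]
        · intro e _ he
          rw [if_neg, zero_mul]
          intro h
          exact he (Fin.ext h.symm)
        · intro h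
          exact absurd (Finset.mem_univ _) h
      · rw [yv_eq_zero d y (d j) l j (fun h => hj h.1), zero_mul]
        apply Finset.sum_eq_zero
        intro e _
        simp
    rw [Finset.sum_congr rfl (fun j _ => hin j)]
    by_cases hlk : d l = d k
    · have hR : yv d (fun i => y i * y' i) (d k) l k =
          ∑ j : {j : Fin t // d j = d k}, y (d k) ⟨l, hlk⟩ j * y' (d k) j ⟨k, rfl⟩ := by
        rw [yv_pos d _ _ _ _ hlk rfl]
        exact Matrix.mul_apply
      have h1 : ∑ j, yv d y (d j) l j * yv d y' (d k) j k =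
          ∑ j ∈ Finset.univ.filter (fun j : Fin t => d j = d k),
            yv d y (d j) l j * yv d y' (d k) j k := by
        rw [Finset.sum_filter]
        apply Finset.sum_congr rfl
        intro j _
        split_ifs with hj
        · rfl
        · rw [yv_eq_zero d y' (d k) j k (fun h => hj h.1), mul_zero]
      rw [hR, h1, Finset.sum_subtype (p := fun j : Fin t => d j = d k)
        (Finset.univ.filter fun j : Fin t => d j = d k) (by simp) _]
      apply Finset.sum_congr rfl
      rintro ⟨j, hj⟩ _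
      have e1 : yv d y (d j) l j = y (d k) ⟨l, hlk⟩ ⟨j, hj⟩ := by
        rw [hj]
        exact yv_pos d _ _ _ _ hlk hj
      have e2 : yv d y' (d k) j k = y' (d k) ⟨j, hj⟩ ⟨k, rfl⟩ := yv_pos d _ _ _ _ hj rfl
      simp only
      rw [e1, e2]
    · rw [yv_eq_zero d _ (d k) l k (fun h => hlk h.1)]
      apply Finset.sum_eq_zero
      intro j _
      by_cases hj : d l = d j
      · rw [yv_eq_zero d y' (d k) j k (fun h => hlk (hj.trans h.1)), mul_zero]
      · rw [yv_eq_zero d y (d j) l j (fun h => hj h.1), zero_mul]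
  · rw [if_neg hba]
    apply Finset.sum_eq_zero
    intro j _
    apply Finset.sum_eq_zero
    intro e _
    by_cases h1 : (b : ℕ) = (e : ℕ)
    · rw [if_neg (fun h => hba (h1.trans h)), mul_zero]
    · rw [if_neg h1, zero_mul]

theorem isUnit_det_liftM {t : ℕ} (d : Fin t → ℕ)
    (y : ∀ i : ℕ, Matrix {k : Fin t // d k = i} {k : Fin t // d k = i} F)
    (hy : ∀ i, IsUnit (y i).det) : IsUnit (liftM d y).det := by
  have h : liftM d y * liftM d (fun i => (y i)⁻¹) = 1 := by
    rw [liftM_mul]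
    have : (fun i => y i * (y i)⁻¹) =
        fun i => (1 : Matrix {k : Fin t // d k = i} {k : Fin t // d k = i} F) := by
      funext i
      exact Matrix.mul_nonsing_inv (y i) (hy i)
    rw [this, liftM_one]
  exact Matrix.isUnit_det_of_right_inverse h

theorem tau_liftM {t : ℕ} (d : Fin t → ℕ) (hd : ∀ k, 1 ≤ d k)
    (y : ∀ i : ℕ, Matrix {k : Fin t // d k = i} {k : Fin t // d k = i} F) (i : ℕ) :
    (Matrix.of fun l k : {k : Fin t // d k = i} =>
        liftM d y ⟨l.1, ⟨0, hd l.1⟩⟩ ⟨k.1, ⟨0, hd k.1⟩⟩) = y i := by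
  ext ⟨l, hl⟩ ⟨k, hk⟩
  subst hk
  simp only [Matrix.of_apply, liftM_apply]
  rw [if_pos trivial, yv_pos d _ _ _ _ hl rfl]

/-- LEAF C8, hypothesis form: `H5` is the statement of C5 (`topBlock_mul`). -/
theorem exists_lift_topBlock_of {t : ℕ} (d : Fin t → ℕ) (hd : ∀ k, 1 ≤ d k)
    (H5 : ∀ (c c' : CIdx d → F) (x y : Matrix (JI d) (JI d) F),
      x * nilM d F = nilM d F * x → y * nilM d F = nilM d F * y →
      xᵀ * shankel d c * y = shankel d c' → ∀ i : ℕ,
      topBlock d hd c' i =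
        (Matrix.of fun l k : {k : Fin t // d k = i} => x ⟨l.1, ⟨0, hd l.1⟩⟩ ⟨k.1, ⟨0, hd k.1⟩⟩)ᵀ *
          topBlock d hd c i *
        (Matrix.of fun l k : {k : Fin t // d k = i} => y ⟨l.1, ⟨0, hd l.1⟩⟩ ⟨k.1, ⟨0, hd k.1⟩⟩))
    (c : CIdx d → F) (hc : c ∈ AC d)
    (y : ∀ i : ℕ, Matrix {k : Fin t // d k = i} {k : Fin t // d k = i} F)
    (hy : ∀ i, IsUnit (y i).det) :
    ∃ c' ∈ AC d, CongRel (nilM d F) (shankel d c) (shankel d c') ∧
      ∀ i, topBlock d hd c' i = (y i)ᵀ * topBlock d hd c i * y i := by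
  obtain ⟨x, hx⟩ : ∃ x, x = liftM d y := ⟨_, rfl⟩
  have hcomm : x * nilM d F = nilM d F * x := by rw [hx]; exact liftM_comm d y
  obtain ⟨hS1, hS2⟩ :=
    (Cfsg.Agent.Lib.Helper28.SPC.shankel_mem_iff d (shankel d c)).mpr ⟨c, hc, rfl⟩
  have hB : (xᵀ * shankel d c * x)ᵀ = -(xᵀ * shankel d c * x) ∧
      (nilM d F)ᵀ * (xᵀ * shankel d c * x) = -((xᵀ * shankel d c * x) * nilM d F) := by
    constructor
    · rw [Matrix.transpose_mul, Matrix.transpose_mul, Matrix.transpose_transpose, hS1]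
      simp only [Matrix.mul_neg, Matrix.neg_mul, Matrix.mul_assoc]
    · calc (nilM d F)ᵀ * (xᵀ * shankel d c * x)
          = (x * nilM d F)ᵀ * shankel d c * x := by
            rw [Matrix.transpose_mul]; simp only [Matrix.mul_assoc]
        _ = (nilM d F * x)ᵀ * shankel d c * x := by rw [hcomm]
        _ = xᵀ * ((nilM d F)ᵀ * shankel d c) * x := by
            rw [Matrix.transpose_mul]; simp only [Matrix.mul_assoc]
        _ = xᵀ * (-(shankel d c * nilM d F)) * x := by rw [hS2]
        _ = -(xᵀ * shankel d c * (nilM d F * x)) := by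
            simp only [Matrix.mul_neg, Matrix.neg_mul, Matrix.mul_assoc]
        _ = -(xᵀ * shankel d c * (x * nilM d F)) := by rw [hcomm]
        _ = -((xᵀ * shankel d c * x) * nilM d F) := by simp only [Matrix.mul_assoc]
  obtain ⟨c', hc', hc'eq⟩ := (Cfsg.Agent.Lib.Helper28.SPC.shankel_mem_iff d _).mp hB
  refine ⟨c', hc', ⟨x, by rw [hx]; exact isUnit_det_liftM d y hy, hcomm, hc'eq.symm⟩, ?_⟩
  intro i
  have h5 := H5 c c' x x hcomm hcomm hc'eq.symm i
  rw [h5, hx, tau_liftM]

end Cfsg.Agent.Lib.Helper79.SPC
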