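import Mathlib
import Cfsg.Prelude.Def_JordanBlocks
import Cfsg.Agent.Lib.Helper73.UCDefs
import Cfsg.Agent.Lib.Helper73.SPCDefs
import Cfsg.Agent.Lib.Helper29.SPCC5w
import Cfsg.Agent.Lib.Helper79.SPCC8

/-!
# K-SPC-C8 (keystone 267617, pack S2676, architect helper73): `exists_lift_topBlock`, exact signature
(`exists_lift_topBlock_of` + C5 = `Helper29.SPC.topBlock_mul`).
-/

set_option autoImplicit false

namespace Cfsg.Agent.Lib.Helper79.SPC

open Matrix Cfsg.Agent.Lib.Helper73.UC Cfsg.Agent.Lib.Helper73.SPC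

variable {F : Type*} [Field F]

/-- LEAF C8 (lifting congruences of the tops). -/
theorem exists_lift_topBlock {t : ℕ} (d : Fin t → ℕ) (hd : ∀ k, 1 ≤ d k) (c : CIdx d → F)
    (hc : c ∈ AC d)
    (y : ∀ i : ℕ, Matrix {k : Fin t // d k = i} {k : Fin t // d k = i} F)
    (hy : ∀ i, IsUnit (y i).det) :
    ∃ c' ∈ AC d, CongRel (nilM d F) (shankel d c) (shankel d c') ∧
      ∀ i, topBlock d hd c' i = (y i)ᵀ * topBlock d hd c i * y i :=
  exists_lift_topBlock_of d hd
    (fun c c' x y hx hy h i => Cfsg.Agent.Lib.Helper29.SPC.topBlock_mul d hd c c' x y hx hy h i)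
    c hc y hy

end Cfsg.Agent.Lib.Helper79.SPC
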