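import Cfsg.Agent.Lib.Helper73.UNdDefs
import Cfsg.Agent.Lib.Helper85.NdI

/-!
# K-UNd-UA (keystone 595411, architect helper73): the pairing lemma for Jordan chains, hermitian version
(port of `Helper98.Nd2` and `Helper98.Nd3.piece_of_chains`).
-/

set_option autoImplicit false
set_option linter.unusedSimpArgs false
set_option linter.unusedSectionVars false
set_option linter.unusedVariables false
set_option maxHeartbeats 800000

namespace Cfsg.Agent.Lib.Helper79.UNd

open Module Cfsg.Agent.Lib.Helper99.HermONB Cfsg.Agent.Lib.Helper98.Elus Cfsg.Agent.Lib.Helper73.UNd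

universe u
variable {F : Type u} [Field F] {V : Type u} [AddCommGroup V] [Module F V]
variable {q : ℕ} {h : V → V → F}

/-- coefficients of a combination of Jordan chains orthogonal to all chain vectors vanish -/
theorem coeff_eq_zero_of_pairing_u (hh : HForm q h) (N : V →ₗ[F] V) (e a : ℕ)
    (v : Fin e → V) (G : Fin e → Fin e → F) (s : ℕ → F) (hs : ∀ i, s i ≠ 0)
    (h1 : ∀ j l i i', a ≤ i + i' → h ((N ^ i) (v j)) ((N ^ i') (v l)) = 0)
    (h2 : ∀ j l i i', i + i' + 1 = a → h ((N ^ i) (v j)) ((N ^ i') (v l)) = s i * G j l)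
    (h3 : ∀ γ : Fin e → F, (∀ l, ∑ j, γ j * G j l = 0) → γ = 0)
    (α : Fin e × Fin a → F)
    (hα : ∀ (l : Fin e) (i' : Fin a),
      h (∑ t, α t • (N ^ (t.2 : ℕ)) (v t.1)) ((N ^ (i' : ℕ)) (v l)) = 0) :
    α = 0 := by
  have key : ∀ n : ℕ, ∀ i : Fin a, (i : ℕ) = n → ∀ j, α (j, i) = 0 := by
    intro n
    induction n using Nat.strong_induction_on with
    | _ n ih =>
      intro i hi
      have hia : (i : ℕ) < a := i.2
      let i' : Fin a := ⟨a - 1 - i, by omega⟩
      have hγ : (fun j => α (j, i)) = 0 := by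
        apply h3
        intro l
        have hE := hα l i'
        rw [hh.sum_left, Fintype.sum_prod_type] at hE
        have hinner : ∀ j : Fin e, ∑ i'' : Fin a,
            α (j, i'') * h ((N ^ (i'' : ℕ)) (v j)) ((N ^ (i' : ℕ)) (v l)) =
            α (j, i) * (s i * G j l) := by
          intro j
          rw [Finset.sum_eq_single i]
          · rw [h2 j l i i' (by show (i:ℕ) + (a - 1 - i) + 1 = a; omega)]
          · intro i'' _ hne
            rcases lt_or_gt_of_ne (fun hc => hne (Fin.ext hc) : (i'' : ℕ) ≠ i) with hlt | hgt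
            · rw [ih i'' (by omega) i'' rfl j, zero_mul]
            · rw [h1 j l i'' i' (by show a ≤ (i'':ℕ) + (a - 1 - i); omega), mul_zero]
          · intro hc
            exact absurd (Finset.mem_univ i) hc
        rw [Finset.sum_congr rfl (fun j _ => hinner j)] at hE
        have h' : s i * ∑ j, α (j, i) * G j l = 0 := by
          rw [Finset.mul_sum, ← hE]
          apply Finset.sum_congr rfl
          intro j _
          ring
        rcases mul_eq_zero.mp h' with h0 | h0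
        · exact absurd h0 (hs i)
        · exact h0
      intro j
      exact congrFun hγ j
  funext t
  obtain ⟨j, i⟩ := t
  exact key i i rfl j

/-- Jordan chains with a nondegenerate pairing are linearly independent -/
theorem linearIndependent_of_pairing_u (hh : HForm q h) (N : V →ₗ[F] V) (e a : ℕ)
    (v : Fin e → V) (G : Fin e → Fin e → F) (s : ℕ → F) (hs : ∀ i, s i ≠ 0)
    (h1 : ∀ j l i i', a ≤ i + i' → h ((N ^ i) (v j)) ((N ^ i') (v l)) = 0)
    (h2 : ∀ j l i i', i + i' + 1 = a → h ((N ^ i) (v j)) ((N ^ i') (v l)) = s i * G j l)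
    (h3 : ∀ γ : Fin e → F, (∀ l, ∑ j, γ j * G j l = 0) → γ = 0) :
    LinearIndependent F (fun t : Fin e × Fin a => (N ^ (t.2 : ℕ)) (v t.1)) := by
  rw [Fintype.linearIndependent_iff]
  intro α hα t
  have := coeff_eq_zero_of_pairing_u hh N e a v G s hs h1 h2 h3 α (by
    intro l i'
    rw [hα, hh.zero_left])
  rw [this]
  rfl

/-- the span of Jordan chains with a nondegenerate pairing is nondegenerate -/
theorem nd_of_pairing_u (hh : HForm q h) (N : V →ₗ[F] V) (e a : ℕ)
    (v : Fin e → V) (G : Fin e → Fin e → F) (s : ℕ → F) (hs : ∀ i, s i ≠ 0)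
    (h1 : ∀ j l i i', a ≤ i + i' → h ((N ^ i) (v j)) ((N ^ i') (v l)) = 0)
    (h2 : ∀ j l i i', i + i' + 1 = a → h ((N ^ i) (v j)) ((N ^ i') (v l)) = s i * G j l)
    (h3 : ∀ γ : Fin e → F, (∀ l, ∑ j, γ j * G j l = 0) → γ = 0) :
    ND h (Submodule.span F (Set.range (fun t : Fin e × Fin a => (N ^ (t.2 : ℕ)) (v t.1)))) := by
  intro x hx hx'
  obtain ⟨α, rfl⟩ := (Submodule.mem_span_range_iff_exists_fun F).mp hx
  have := coeff_eq_zero_of_pairing_u hh N e a v G s hs h1 h2 h3 α (by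
    intro l i'
    exact hx' _ (Submodule.subset_span ⟨(l, i'), rfl⟩))
  rw [this]
  simp

/-- U-A: the piece spanned by chains with nondegenerate pairing -/
theorem piece_of_chains_u [Fintype F] [FiniteDimensional F V] (hF : Fintype.card F = q ^ 2)
    (hh : HForm q h) (N : V →ₗ[F] V) (U : Submodule F V) (hU : Inv N U) (a : ℕ)
    (ha : 0 < a) (hNa : ∀ x ∈ U, (N ^ a) x = 0)
    (P1 : ∀ x, ∀ y ∈ U, ∀ i j, a ≤ i + j → h ((N ^ i) x) ((N ^ j) y) = 0)
    (P2 : ∀ x, ∀ y ∈ U, ∀ i j, i + j + 1 = a →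
      h ((N ^ i) x) ((N ^ j) y) = (-1) ^ i * h x ((N ^ (a - 1)) y))
    (e : ℕ) (v : Fin e → V) (hv : ∀ j, v j ∈ U)
    (h3 : ∀ γ : Fin e → F, (∀ l, ∑ j, γ j * h (v j) ((N ^ (a - 1)) (v l)) = 0) → γ = 0) :
    ∃ P : Submodule F V, P ≤ U ∧ Inv N P ∧ ND h P ∧ finrank F P = e * a ∧
      ∀ k, finrank F ↥(P ⊓ LinearMap.ker (N ^ k)) = e * min a k := by
  have hs : ∀ i : ℕ, ((-1 : F)) ^ i ≠ 0 := fun i => pow_ne_zero _ (neg_ne_zero.mpr one_ne_zero)
  have h1 : ∀ j l i i', a ≤ i + i' → h ((N ^ i) (v j)) ((N ^ i') (v l)) = 0 :=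
    fun j l i i' hc => P1 (v j) (v l) (hv l) i i' hc
  have h2 : ∀ j l i i', i + i' + 1 = a → h ((N ^ i) (v j)) ((N ^ i') (v l)) =
      (-1) ^ i * h (v j) ((N ^ (a - 1)) (v l)) :=
    fun j l i i' hc => P2 (v j) (v l) (hv l) i i' hc
  have hli := linearIndependent_of_pairing_u hh N e a v
    (fun j l => h (v j) ((N ^ (a - 1)) (v l))) (fun i => (-1) ^ i) hs h1 h2 h3
  have hnd := nd_of_pairing_u hh N e a v
    (fun j l => h (v j) ((N ^ (a - 1)) (v l))) (fun i => (-1) ^ i) hs h1 h2 h3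
  refine ⟨Submodule.span F (Set.range (fun t : Fin e × Fin a => (N ^ (t.2 : ℕ)) (v t.1))),
    ?_, ?_, hnd, ?_, ?_⟩
  · apply Submodule.span_le.mpr
    rintro _ ⟨t, rfl⟩
    exact hU.pow_mem _ _ (hv t.1)
  · have hle : Submodule.span F (Set.range (fun t : Fin e × Fin a => (N ^ (t.2 : ℕ)) (v t.1))) ≤
        (Submodule.span F (Set.range (fun t : Fin e × Fin a => (N ^ (t.2 : ℕ)) (v t.1)))).comap N := by
      apply Submodule.span_le.mpr
      rintro _ ⟨t, rfl⟩
      change N ((N ^ (t.2 : ℕ)) (v t.1)) ∈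
        Submodule.span F (Set.range (fun t : Fin e × Fin a => (N ^ (t.2 : ℕ)) (v t.1)))
      have hc : N ((N ^ (t.2 : ℕ)) (v t.1)) = (N ^ ((t.2 : ℕ) + 1)) (v t.1) := by
        rw [pow_succ', Module.End.mul_apply]
      rw [hc]
      by_cases ht : (t.2 : ℕ) + 1 < a
      · exact Submodule.subset_span ⟨(t.1, ⟨(t.2 : ℕ) + 1, ht⟩), rfl⟩
      · have : (t.2 : ℕ) + 1 = a := by have := t.2.2; omega
        rw [this, hNa _ (hv t.1)]
        exact Submodule.zero_mem _
    exact fun w hw => hle hw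
  · rw [finrank_span_eq_card hli, Fintype.card_prod, Fintype.card_fin, Fintype.card_fin]
  · exact Cfsg.Agent.Lib.Helper85.Nd.finrank_inf_ker_of_chains N e a v (fun j => hNa _ (hv j)) hli

end Cfsg.Agent.Lib.Helper79.UNd
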