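import Cfsg.Agent.Lib.Helper24.RankOnePts

/-!
# K-Ree2-A (keystone 115201, helper76's pack for S1152 + S1157)

The centraliser of a torus involution in a split rank-one group `G = B ∪ U s⁻¹ B`, `B = U H`.
-/

set_option autoImplicit false

namespace Cfsg.Agent.Lib.Helper79.Ree2

open Cfsg.Agent.Lib.Helper24

theorem mem_cent_one {G : Type*} [Group G] {x g : G} :
    g ∈ Subgroup.centralizer ({x} : Set G) ↔ x * g = g * x := by
  rw [Subgroup.mem_centralizer_iff]
  simp

/-- R2-A (115201). -/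
theorem card_centralizer_le {G : Type*} [Group G] [Finite G] {B U H : Subgroup G} {s : G}
    (R : RankOneSplit B U H s) (a : G) (haH : a ∈ H) (hcomm : ∀ h ∈ H, a * h = h * a)
    (hsa : s * a * s⁻¹ = a) :
    Nat.card ↥(Subgroup.centralizer ({a} : Set G)) ≤
      Nat.card ↥(U ⊓ Subgroup.centralizer {a}) * Nat.card ↥H *
        (1 + Nat.card ↥(U ⊓ Subgroup.centralizer {a})) := by
  classical
  have haB : a ∈ B := R.hHB haH
  -- `a` commutes with `s⁻¹`
  have hsa' : a * s⁻¹ = s⁻¹ * a := by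
    have h1 : s * a = a * s := by
      calc s * a = s * a * s⁻¹ * s := by group
        _ = a * s := by rw [hsa]
    calc a * s⁻¹ = s⁻¹ * (s * a) * s⁻¹ := by group
      _ = s⁻¹ * (a * s) * s⁻¹ := by rw [h1]
      _ = s⁻¹ * a := by group
  -- Step 1
  have h1 : ∀ b ∈ B, a * b = b * a →
      ∃ u ∈ U ⊓ Subgroup.centralizer {a}, ∃ h ∈ H, b = u * h := by
    intro b hb hab
    obtain ⟨u, hu, h, hh, rfl⟩ := R.hBUH b hb
    refine ⟨u, Subgroup.mem_inf.mpr ⟨hu, mem_cent_one.mpr ?_⟩, h, hh, rfl⟩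
    -- a * (u * h) = u * h * a = u * a * h
    have e1 : a * u * h = u * a * h := by
      calc a * u * h = a * (u * h) := by group
        _ = u * h * a := hab
        _ = u * (h * a) := by group
        _ = u * (a * h) := by rw [hcomm h hh]
        _ = u * a * h := by group
    exact mul_right_cancel e1
  -- Step 2
  have h2 : ∀ g, g ∉ B → a * g = g * a →
      ∃ u ∈ U ⊓ Subgroup.centralizer {a}, ∃ b ∈ B, a * b = b * a ∧ g = u * s⁻¹ * b := by
    intro g hg hag
    obtain ⟨u, hu, b, hb, rfl⟩ := R.hcover g hg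
    -- key identity
    have hkey : s * (u⁻¹ * (a * u * a⁻¹)) * s⁻¹ = b * (a * b * a⁻¹)⁻¹ := by
      have e1 : a * (u * s⁻¹ * b) * a⁻¹ = (a * u * a⁻¹) * s⁻¹ * (a * b * a⁻¹) := by
        calc a * (u * s⁻¹ * b) * a⁻¹ = a * u * (s⁻¹ * a⁻¹ * a) * b * a⁻¹ := by group
          _ = a * u * (a⁻¹ * (a * s⁻¹) * a⁻¹ * a) * b * a⁻¹ := by group
          _ = a * u * (a⁻¹ * (s⁻¹ * a) * a⁻¹ * a) * b * a⁻¹ := by rw [hsa']
          _ = (a * u * a⁻¹) * s⁻¹ * (a * b * a⁻¹) := by group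
      have e2 : a * (u * s⁻¹ * b) * a⁻¹ = u * s⁻¹ * b := by
        rw [hag]; group
      rw [e1] at e2
      calc s * (u⁻¹ * (a * u * a⁻¹)) * s⁻¹
          = s * u⁻¹ * ((a * u * a⁻¹) * s⁻¹ * (a * b * a⁻¹)) * (a * b * a⁻¹)⁻¹ := by group
        _ = s * u⁻¹ * (u * s⁻¹ * b) * (a * b * a⁻¹)⁻¹ := by rw [e2]
        _ = b * (a * b * a⁻¹)⁻¹ := by group
    have hcU : u⁻¹ * (a * u * a⁻¹) ∈ U := U.mul_mem (U.inv_mem hu) (R.hHU a haH u hu)
    have hB : b * (a * b * a⁻¹)⁻¹ ∈ B :=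
      B.mul_mem hb (B.inv_mem (B.mul_mem (B.mul_mem haB hb) (B.inv_mem haB)))
    have hone : u⁻¹ * (a * u * a⁻¹) = 1 := by
      apply R.hTI _ hcU
      rw [hkey]
      exact hB
    have hau : a * u = u * a := by
      have : a * u * a⁻¹ = u := by
        calc a * u * a⁻¹ = u * (u⁻¹ * (a * u * a⁻¹)) := by group
          _ = u := by rw [hone, mul_one]
      calc a * u = a * u * a⁻¹ * a := by group
        _ = u * a := by rw [this]
    have hab : a * b = b * a := by
      rw [hone, mul_one, mul_inv_cancel] at hkey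
      -- 1 = b * (a * b * a⁻¹)⁻¹
      have : a * b * a⁻¹ = b := by
        have h3 : b * (a * b * a⁻¹)⁻¹ = 1 := hkey.symm
        have := mul_eq_one_iff_eq_inv.mp h3
        rw [inv_inv] at this
        exact this.symm
      calc a * b = a * b * a⁻¹ * a := by group
        _ = b * a := by rw [this]
    exact ⟨u, Subgroup.mem_inf.mpr ⟨hu, mem_cent_one.mpr hau⟩, b, hb, hab, rfl⟩
  -- the decoding map
  let decode : ↥(U ⊓ Subgroup.centralizer {a}) × ↥H × Option ↥(U ⊓ Subgroup.centralizer {a}) → G :=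
    fun x => match x.2.2 with
      | none => (x.1 : G) * (x.2.1 : G)
      | some v => (v : G) * s⁻¹ * ((x.1 : G) * (x.2.1 : G))
  have hsurj : ∀ g : ↥(Subgroup.centralizer ({a} : Set G)), ∃ x, decode x = (g : G) := by
    intro g
    have hg : a * (g : G) = (g : G) * a := mem_cent_one.mp g.2
    by_cases hgB : (g : G) ∈ B
    · obtain ⟨u, hu, h, hh, e⟩ := h1 _ hgB hg
      exact ⟨(⟨u, hu⟩, ⟨h, hh⟩, none), e.symm⟩
    · obtain ⟨v, hv, b, hb, hab, e⟩ := h2 _ hgB hg
      obtain ⟨u, hu, h, hh, e'⟩ := h1 _ hb hab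
      refine ⟨(⟨u, hu⟩, ⟨h, hh⟩, some ⟨v, hv⟩), ?_⟩
      show v * s⁻¹ * (u * h) = (g : G)
      rw [← e', ← e]
  let sec : ↥(Subgroup.centralizer ({a} : Set G)) →
      ↥(U ⊓ Subgroup.centralizer {a}) × ↥H × Option ↥(U ⊓ Subgroup.centralizer {a}) :=
    fun g => (hsurj g).choose
  have hsec : ∀ g, decode (sec g) = (g : G) := fun g => (hsurj g).choose_spec
  have hinj : Function.Injective sec := by
    intro g g' h
    apply Subtype.ext
    rw [← hsec g, ← hsec g', h]
  have hle := Nat.card_le_card_of_injective sec hinj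
  rw [Nat.card_prod, Nat.card_prod, Finite.card_option] at hle
  calc Nat.card ↥(Subgroup.centralizer ({a} : Set G))
      ≤ Nat.card ↥(U ⊓ Subgroup.centralizer {a}) *
        (Nat.card ↥H * (Nat.card ↥(U ⊓ Subgroup.centralizer {a}) + 1)) := hle
    _ = Nat.card ↥(U ⊓ Subgroup.centralizer {a}) * Nat.card ↥H *
        (1 + Nat.card ↥(U ⊓ Subgroup.centralizer {a})) := by ring

end Cfsg.Agent.Lib.Helper79.Ree2
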