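import Mathlib
import Cfsg.Agent.Lib.Helper70.AGDefs

set_option autoImplicit false

/-!
# K-4188 leaf A1 (keystone 418801, row S4188, architect helper70): arithmetic of `ex`
-/

namespace Cfsg.Agent.Lib.Helper79.AG

open Cfsg.Agent.Lib.Helper70.AG

theorem ex_add (r a b : ℕ) (ha : 1 ≤ a) (hb : 1 ≤ b) : ex r a + ex r b ≤ ex r (a + b) := by
  unfold ex
  split_ifs <;> omega

theorem ex_double (r m : ℕ) (hm : 1 ≤ m) (h : r ≠ 3 ∨ 2 ≤ m) : 1 + 2 * ex r m ≤ ex r (2 * m) := by
  unfold ex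
  split_ifs <;> omega

theorem one_le_ex (r n : ℕ) (hn : 1 ≤ n) : 1 ≤ ex r n := by
  unfold ex
  split_ifs <;> omega

theorem two_le_ex (r n : ℕ) (hn : 2 ≤ n) : 2 ≤ ex r n := by
  unfold ex
  split_ifs <;> omega

/-- `2 ^ ((3n-2)/2) * 2 ≤ 3 ^ n` for `n ≥ 2` -/
theorem a1_three (n : ℕ) (hn : 2 ≤ n) : 2 ^ ((3 * n - 2) / 2) * 2 ≤ 3 ^ n := by
  induction n using Nat.strong_induction_on with
  | _ n ih =>
    rcases Nat.lt_or_ge n 4 with h4 | h4
    · interval_cases n <;> norm_num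
    · obtain ⟨k, rfl⟩ : ∃ k, n = k + 2 := ⟨n - 2, by omega⟩
      have hk := ih k (by omega) (by omega)
      have e : (3 * (k + 2) - 2) / 2 = (3 * k - 2) / 2 + 3 := by omega
      rw [e, pow_add, pow_add]
      calc 2 ^ ((3 * k - 2) / 2) * 2 ^ 3 * 2 = 8 * (2 ^ ((3 * k - 2) / 2) * 2) := by ring
        _ ≤ 8 * 3 ^ k := Nat.mul_le_mul_left _ hk
        _ ≤ 3 ^ k * 3 ^ 2 := by
          rw [mul_comm]
          exact Nat.mul_le_mul_left _ (by norm_num)

/-- r = 3: 2^((3n-2)/2) * 2 ≤ 3^n for n ≥ 2 (two-step induction: exponent +3 when n +2, 8 ≤ 9); r ≥ 5: 2^(2n-1) * 2 = 4^n ≤ r^n. -/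
theorem pow_ex_le (r n : ℕ) (hr : r.Prime) (hr2 : r ≠ 2) (hn : 1 ≤ n) : 2 ^ ex r n ≤ r ^ n - 1 := by
  have hr3 : 3 ≤ r := by
    have := hr.two_le
    omega
  rcases Nat.lt_or_ge n 2 with h | h
  · have h1 : n = 1 := by omega
    subst h1
    have e : ex r 1 = 1 := by
      unfold ex
      rw [if_neg (by omega), if_pos rfl]
    rw [e, pow_one, pow_one]
    omega
  · have key : 2 ^ ex r n * 2 ≤ r ^ n := by
      by_cases h3 : r = 3
      · subst h3
        have e : ex 3 n = (3 * n - 2) / 2 := by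
          unfold ex
          rw [if_neg (by omega), if_neg (by omega), if_pos rfl]
        rw [e]
        exact a1_three n h
      · have e : ex r n = 2 * n - 1 := by
          unfold ex
          rw [if_neg (by omega), if_neg (by omega), if_neg h3]
        rw [e]
        have h5 : 4 ≤ r := by omega
        have e2 : 2 ^ (2 * n - 1) * 2 = 4 ^ n := by
          have : 2 * n - 1 + 1 = 2 * n := by omega
          rw [← pow_succ, this, pow_mul]
          norm_num
        rw [e2]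
        exact Nat.pow_le_pow_left h5 n
    have hpos : 1 ≤ 2 ^ ex r n := Nat.one_le_two_pow
    omega

end Cfsg.Agent.Lib.Helper79.AG
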