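import Mathlib
import Cfsg.Prelude.Def_Characters
import Cfsg.Agent.Lib.Helper84.NormalAction
import Cfsg.Agent.Lib.Helper34.LinChar
import Cfsg.Agent.Lib.Helper34.Induction
import Cfsg.Agent.Lib.Helper05.CharOrtho
import Cfsg.Agent.Lib.Helper04.Basis

/-!
# Brauer–Leonard configuration: basic definitions (helper79)

An abstract configuration `C = Q × V ≤ N` inside a finite group `G`, with `Q` central in `C`,
`N` normalising `C` and `Q`, `N / C` acting freely on the non-identity elements of `Q`, and the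
elements of `C` outside `V` forming a trivial-intersection set with normaliser `N`.
-/

set_option autoImplicit false

namespace Cfsg.Agent.Lib.Helper79

open scoped ComplexConjugate
open Cfsg

/-- the abstract Brauer–Leonard configuration -/
structure BLData (G : Type*) [Group G] where
  C : Subgroup G
  N : Subgroup G
  Q : Subgroup G
  V : Subgroup G
  hQC : Q ≤ C
  hVC : V ≤ C
  hCN : C ≤ N
  hcent : ∀ π ∈ Q, ∀ c ∈ C, c * π = π * c
  hNC : ∀ x ∈ N, ∀ c ∈ C, x⁻¹ * c * x ∈ C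
  hNQ : ∀ x ∈ N, ∀ c ∈ Q, x⁻¹ * c * x ∈ Q
  hprod : ∀ c ∈ C, ∃ π ∈ Q, ∃ v ∈ V, c = π * v
  hdisj : ∀ g, g ∈ Q → g ∈ V → g = 1
  hVconj : ∀ v ∈ V, ∀ x : G, x⁻¹ * v * x ∈ C → x⁻¹ * v * x ∈ V
  hTI : ∀ c ∈ C, c ∉ V → ∀ x : G, x⁻¹ * c * x ∈ C → x ∈ N
  hfree : ∀ x ∈ N, x ∉ C → ∀ π ∈ Q, x⁻¹ * π * x = π → π = 1

variable {G : Type*} [Group G] (D : BLData G)

namespace BLData

/-- conjugation by an element of `N`, as an automorphism of `C`: `c ↦ x⁻¹ c x` -/
def cjE (x : D.N) : D.C ≃* D.C where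
  toFun c := ⟨(x : G)⁻¹ * c * x, D.hNC x x.2 c c.2⟩
  invFun c := ⟨(x : G) * c * (x : G)⁻¹, by
    have := D.hNC (x : G)⁻¹ (D.N.inv_mem x.2) c c.2
    simpa using this⟩
  left_inv c := by
    apply Subtype.ext
    simp [mul_assoc]
  right_inv c := by
    apply Subtype.ext
    simp [mul_assoc]
  map_mul' a b := by
    apply Subtype.ext
    simp [mul_assoc]

@[simp] theorem cjE_coe (x : D.N) (c : D.C) : ((D.cjE x c : D.C) : G) = (x : G)⁻¹ * c * x := rfl

/-- conjugation by an element of `N`, as an automorphism of `Q` -/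
def cjQ (x : D.N) : D.Q ≃* D.Q where
  toFun c := ⟨(x : G)⁻¹ * c * x, D.hNQ x x.2 c c.2⟩
  invFun c := ⟨(x : G) * c * (x : G)⁻¹, by
    have := D.hNQ (x : G)⁻¹ (D.N.inv_mem x.2) c c.2
    simpa using this⟩
  left_inv c := by
    apply Subtype.ext
    simp [mul_assoc]
  right_inv c := by
    apply Subtype.ext
    simp [mul_assoc]
  map_mul' a b := by
    apply Subtype.ext
    simp [mul_assoc]

@[simp] theorem cjQ_coe (x : D.N) (c : D.Q) : ((D.cjQ x c : D.Q) : G) = (x : G)⁻¹ * c * x := rfl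

/-- the inclusion of `Q` in `C` -/
def incl : D.Q →* D.C := Subgroup.inclusion D.hQC

@[simp] theorem incl_coe (π : D.Q) : ((D.incl π : D.C) : G) = π := rfl

/-- the conjugate of a function on `C` by an element of `N` -/
def cj (x : D.N) (f : D.C → ℂ) : D.C → ℂ := fun c => f (D.cjE x c)

theorem cj_apply (x : D.N) (f : D.C → ℂ) (c : D.C) : D.cj x f c = f (D.cjE x c) := rfl

theorem cj_one (f : D.C → ℂ) : D.cj 1 f = f := by
  funext c
  rw [cj_apply]
  congr 1
  apply Subtype.ext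
  simp

theorem cj_mul (x y : D.N) (f : D.C → ℂ) : D.cj (x * y) f = D.cj x (D.cj y f) := by
  funext c
  rw [cj_apply, cj_apply, cj_apply]
  congr 1
  apply Subtype.ext
  simp [mul_assoc]

theorem cj_inv_cj (x : D.N) (f : D.C → ℂ) : D.cj x⁻¹ (D.cj x f) = f := by
  rw [← cj_mul, inv_mul_cancel, cj_one]

theorem cj_cj_inv (x : D.N) (f : D.C → ℂ) : D.cj x (D.cj x⁻¹ f) = f := by
  rw [← cj_mul, mul_inv_cancel, cj_one]

theorem cj_add (x : D.N) (f g : D.C → ℂ) : D.cj x (f + g) = D.cj x f + D.cj x g := rfl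

theorem cj_sub (x : D.N) (f g : D.C → ℂ) : D.cj x (f - g) = D.cj x f - D.cj x g := rfl

theorem cj_mul_fun (x : D.N) (f g : D.C → ℂ) : D.cj x (f * g) = D.cj x f * D.cj x g := rfl

theorem cj_smul (x : D.N) (a : ℂ) (f : D.C → ℂ) : D.cj x (a • f) = a • D.cj x f := rfl

theorem cj_sum {ι : Type*} (x : D.N) (s : Finset ι) (f : ι → D.C → ℂ) :
    D.cj x (∑ i ∈ s, f i) = ∑ i ∈ s, D.cj x (f i) := by
  funext c
  rw [cj_apply, Finset.sum_apply, Finset.sum_apply]
  rfl

theorem cj_isIrr [Finite G] (x : D.N) {ψ : D.C → ℂ} (hψ : IsIrrCharacter D.C ψ) :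
    IsIrrCharacter D.C (D.cj x ψ) :=
  Cfsg.Agent.Lib.Helper84.isIrrCharacter_comp_mulEquiv (D.cjE x) hψ

theorem classInner_cj_cj [Fintype D.C] (x : D.N) (f g : D.C → ℂ) :
    classInner (D.cj x f) (D.cj x g) = classInner f g := by
  rw [classInner, classInner]
  congr 1
  exact Equiv.sum_comp (D.cjE x).toEquiv (fun k => f k * conj (g k))

theorem classInner_cj_left [Fintype D.C] (x : D.N) (f g : D.C → ℂ) :
    classInner (D.cj x f) g = classInner f (D.cj x⁻¹ g) := by
  conv_lhs => rw [← D.cj_cj_inv x g]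
  exact D.classInner_cj_cj x f _

/-- the restriction to `C` of a class function of `G` is `N`-invariant -/
theorem cj_restrict {χ : G → ℂ} (hχ : IsClassFunction G χ) (x : D.N) :
    D.cj x (fun c : D.C => χ c) = fun c : D.C => χ c := by
  funext c
  rw [cj_apply]
  show χ ((x : G)⁻¹ * c * x) = χ c
  have := hχ c (x : G)⁻¹
  simpa using this

/-- conjugation by an element of `C` fixes class functions of `C` -/
theorem cj_of_mem {f : D.C → ℂ} (hf : IsClassFunction D.C f) (x : D.N) (hx : (x : G) ∈ D.C) :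
    D.cj x f = f := by
  funext c
  rw [cj_apply]
  have h := hf c (⟨x, hx⟩ : D.C)⁻¹
  rw [← h]
  congr 1
  apply Subtype.ext
  simp

theorem cj_isClassFunction {f : D.C → ℂ} (hf : IsClassFunction D.C f) (x : D.N) :
    IsClassFunction D.C (D.cj x f) := by
  intro g h
  rw [cj_apply, cj_apply, map_mul, map_mul, map_inv]
  exact hf _ _

end BLData

end Cfsg.Agent.Lib.Helper79
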