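import Mathlib
import Cfsg.Agent.Lib.Helper79.BLBasic
import Cfsg.Agent.Lib.Helper83.Central
import Cfsg.Agent.Lib.Helper83.CharMisc
import Cfsg.Agent.Lib.Helper05.CharDecomp

/-!
# Brauer–Leonard configuration: central characters and twisting (helper79)
-/

set_option autoImplicit false

namespace Cfsg.Agent.Lib.Helper79

open scoped ComplexConjugate
open Cfsg

/-- the value of an irreducible character at `g * z`, `z` central -/
theorem irr_mul_central {H : Type*} [Group H] [Fintype H] {χ : H → ℂ} (hχ : IsIrrCharacter H χ)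
    (g z : H) (hz : ∀ a : H, a * z = z * a) : χ (g * z) = χ g * χ z / χ 1 := by
  have h := Cfsg.Agent.Lib.Helper83.irr_sum_conj_mul (⟨χ, hχ⟩ : IrrCharacter H) g z
  have h2 : ∀ a : H, a * z * a⁻¹ = z := fun a => by rw [hz a, mul_inv_cancel_right]
  simp only [h2, Finset.sum_const, Finset.card_univ, nsmul_eq_mul,
    ← Nat.card_eq_fintype_card] at h
  have hne : (Nat.card H : ℂ) ≠ 0 := by
    have : 0 < Nat.card H := Nat.card_pos
    exact_mod_cast this.ne'
  have h3 : (Nat.card H : ℂ) * χ (g * z) = (Nat.card H : ℂ) * (χ g * χ z / χ 1) := by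
    rw [h]; ring
  exact mul_left_cancel₀ hne h3

theorem irr_one_ne_zero {H : Type*} [Group H] [Finite H] {χ : H → ℂ} (hχ : IsIrrCharacter H χ) :
    χ 1 ≠ 0 := by
  obtain ⟨n, hn, h⟩ := Cfsg.Agent.Lib.Helper05.exists_pos_degree hχ
  rw [h]
  exact_mod_cast hn.ne'

variable {G : Type*} [Group G] (D : BLData G)

namespace BLData

theorem incl_central (π : D.Q) (a : D.C) : a * D.incl π = D.incl π * a := by
  apply Subtype.ext
  exact D.hcent π π.2 a a.2

theorem Q_comm (a b : D.Q) : a * b = b * a := by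
  apply Subtype.ext
  exact D.hcent b b.2 a (D.hQC a.2)

/-- the multiplicative map `π ↦ ψ(π)/ψ(1)` -/
noncomputable def ccHom [Fintype D.C] {ψ : D.C → ℂ} (hψ : IsIrrCharacter D.C ψ) : D.Q →* ℂ where
  toFun π := ψ (D.incl π) / ψ 1
  map_one' := by
    rw [map_one]
    exact div_self (irr_one_ne_zero hψ)
  map_mul' a b := by
    rw [map_mul, irr_mul_central hψ _ _ (fun c => D.incl_central b c)]
    have := irr_one_ne_zero hψ
    field_simp

/-- the central character on `Q` of an irreducible character of `C` -/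
noncomputable def cc [Fintype D.C] (ψ : D.C → ℂ) : D.Q →* ℂˣ :=
  open Classical in
  if hψ : IsIrrCharacter D.C ψ then (D.ccHom hψ).toHomUnits else 1

theorem cc_apply [Fintype D.C] {ψ : D.C → ℂ} (hψ : IsIrrCharacter D.C ψ) (π : D.Q) :
    ((D.cc ψ π : ℂˣ) : ℂ) = ψ (D.incl π) / ψ 1 := by
  rw [cc, dif_pos hψ, MonoidHom.coe_toHomUnits]
  rfl

theorem cc_spec [Fintype D.C] {ψ : D.C → ℂ} (hψ : IsIrrCharacter D.C ψ) (π : D.Q) (c : D.C) :
    ψ (D.incl π * c) = (D.cc ψ π : ℂ) * ψ c := by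
  rw [← D.incl_central π c, irr_mul_central hψ _ _ (fun a => D.incl_central π a), D.cc_apply hψ]
  ring

theorem cc_spec' [Fintype D.C] {ψ : D.C → ℂ} (hψ : IsIrrCharacter D.C ψ) (π : D.Q) (c : D.C) :
    ψ (c * D.incl π) = (D.cc ψ π : ℂ) * ψ c := by
  rw [D.incl_central π c, D.cc_spec hψ]

/-- uniqueness of the central character -/
theorem cc_eq_of [Fintype D.C] {ψ : D.C → ℂ} (hψ : IsIrrCharacter D.C ψ) (κ : D.Q →* ℂˣ)
    (h : ∀ π : D.Q, ψ (D.incl π) = (κ π : ℂ) * ψ 1) : D.cc ψ = κ := by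
  ext π
  rw [D.cc_apply hψ, h π]
  exact mul_div_cancel_right₀ _ (irr_one_ne_zero hψ)

/-- the dual action of `N` on the linear characters of `Q` -/
def cjK (x : D.N) (κ : D.Q →* ℂˣ) : D.Q →* ℂˣ := κ.comp (D.cjQ x).toMonoidHom

theorem cjK_apply (x : D.N) (κ : D.Q →* ℂˣ) (π : D.Q) : D.cjK x κ π = κ (D.cjQ x π) := rfl

theorem cjK_one_char (x : D.N) : D.cjK x 1 = 1 := rfl

theorem cjK_mul_char (x : D.N) (κ κ' : D.Q →* ℂˣ) : D.cjK x (κ * κ') = D.cjK x κ * D.cjK x κ' := rfl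

theorem cjK_inv_char (x : D.N) (κ : D.Q →* ℂˣ) : D.cjK x κ⁻¹ = (D.cjK x κ)⁻¹ := rfl

theorem cjK_one (κ : D.Q →* ℂˣ) : D.cjK 1 κ = κ := by
  ext π
  rw [cjK_apply]
  congr 2
  apply Subtype.ext
  simp

theorem cjK_mul (x y : D.N) (κ : D.Q →* ℂˣ) : D.cjK (x * y) κ = D.cjK x (D.cjK y κ) := by
  ext π
  rw [cjK_apply, cjK_apply, cjK_apply]
  congr 2
  apply Subtype.ext
  simp [mul_assoc]

theorem cjK_inv_cjK (x : D.N) (κ : D.Q →* ℂˣ) : D.cjK x⁻¹ (D.cjK x κ) = κ := by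
  rw [← cjK_mul, inv_mul_cancel, cjK_one]

theorem cjK_cjK_inv (x : D.N) (κ : D.Q →* ℂˣ) : D.cjK x (D.cjK x⁻¹ κ) = κ := by
  rw [← cjK_mul, mul_inv_cancel, cjK_one]

theorem cjK_of_mem (x : D.N) (hx : (x : G) ∈ D.C) (κ : D.Q →* ℂˣ) : D.cjK x κ = κ := by
  ext π
  rw [cjK_apply]
  congr 2
  apply Subtype.ext
  rw [cjQ_coe]
  have := D.hcent π π.2 x hx
  rw [mul_assoc, ← this, inv_mul_cancel_left]

theorem cjE_incl (x : D.N) (π : D.Q) : D.cjE x (D.incl π) = D.incl (D.cjQ x π) := by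
  apply Subtype.ext
  rfl

theorem cc_cj [Fintype G] [Fintype D.C] (x : D.N) {ψ : D.C → ℂ} (hψ : IsIrrCharacter D.C ψ) :
    D.cc (D.cj x ψ) = D.cjK x (D.cc ψ) := by
  apply D.cc_eq_of (D.cj_isIrr x hψ)
  intro π
  rw [cj_apply, cj_apply, cjE_incl, cjK_apply, map_one]
  have := D.cc_spec hψ (D.cjQ x π) 1
  rwa [mul_one] at this

/-- the free action on the dual group: a linear character of `Q` fixed by an element of `N`
outside `C` is trivial -/
theorem cjK_eq_self [Finite G] (x : D.N) (hx : (x : G) ∉ D.C) (κ : D.Q →* ℂˣ)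
    (h : D.cjK x κ = κ) : κ = 1 := by
  classical
  -- the homomorphism `π ↦ π⁻¹ * x⁻¹ π x`
  let φ : D.Q →* D.Q := MonoidHom.mk' (fun π => π⁻¹ * D.cjQ x π) (by
    intro a b
    rw [map_mul, mul_inv_rev]
    rw [D.Q_comm b⁻¹ a⁻¹, mul_assoc, mul_assoc]
    congr 1
    rw [← mul_assoc, ← mul_assoc, D.Q_comm b⁻¹ (D.cjQ x a)])
  have hinj : Function.Injective φ := by
    rw [injective_iff_map_eq_one]
    intro π hπ
    have h1 : D.cjQ x π = π := by
      have : π⁻¹ * D.cjQ x π = 1 := hπ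
      rw [inv_mul_eq_one] at this
      exact this.symm
    have h2 : (x : G)⁻¹ * π * x = π := by
      have := congrArg (Subtype.val) h1
      simpa using this
    have := D.hfree x x.2 hx π π.2 h2
    exact Subtype.ext this
  have hsurj : Function.Surjective φ := Finite.surjective_of_injective hinj
  apply MonoidHom.ext
  intro π
  obtain ⟨σ, rfl⟩ := hsurj π
  show κ (σ⁻¹ * D.cjQ x σ) = (1 : D.Q →* ℂˣ) _
  rw [map_mul, map_inv, MonoidHom.one_apply]
  have := DFunLike.congr_fun h σ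
  rw [cjK_apply] at this
  rw [this, inv_mul_cancel]

theorem cjK_eq_self_iff [Finite G] (x : D.N) (κ : D.Q →* ℂˣ) (hκ : κ ≠ 1) :
    D.cjK x κ = κ ↔ (x : G) ∈ D.C := by
  constructor
  · intro h
    by_contra hx
    exact hκ (D.cjK_eq_self x hx κ h)
  · intro hx
    exact D.cjK_of_mem x hx κ

/-! ### the retraction onto `Q` and twisting -/

theorem exists_unique_decomp (c : D.C) : ∃! π : D.Q, ∃ v : D.C, (v : G) ∈ D.V ∧ c = D.incl π * v := by
  obtain ⟨π, hπ, v, hv, h⟩ := D.hprod c c.2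
  refine ⟨⟨π, hπ⟩, ⟨⟨v, D.hVC hv⟩, hv, Subtype.ext h⟩, ?_⟩
  rintro π' ⟨v', hv', h'⟩
  have h1 : (π : G) * v = π' * v' := by
    rw [← h]
    exact congrArg Subtype.val h'
  have h2 : ((π' : G))⁻¹ * π = v' * v⁻¹ := by
    rw [eq_mul_inv_iff_mul_eq, mul_assoc, h1, inv_mul_cancel_left]
  have h3 : ((π' : G))⁻¹ * π = 1 := by
    apply D.hdisj
    · exact D.Q.mul_mem (D.Q.inv_mem π'.2) hπ
    · rw [h2]
      exact D.V.mul_mem hv' (D.V.inv_mem hv)
  apply Subtype.ext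
  rw [inv_mul_eq_one] at h3
  exact h3

/-- the retraction of `C` onto `Q` with kernel `V` -/
noncomputable def retr : D.C →* D.Q :=
  MonoidHom.mk' (fun c => (D.exists_unique_decomp c).choose) (by
    intro a b
    obtain ⟨va, hva, ha⟩ := (D.exists_unique_decomp a).choose_spec.1
    obtain ⟨vb, hvb, hb⟩ := (D.exists_unique_decomp b).choose_spec.1
    symm
    apply (D.exists_unique_decomp (a * b)).choose_spec.2
    refine ⟨va * vb, D.V.mul_mem hva hvb, ?_⟩
    set πa := (D.exists_unique_decomp a).choose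
    set πb := (D.exists_unique_decomp b).choose
    conv_lhs => rw [ha, hb]
    rw [map_mul, mul_assoc, mul_assoc]
    congr 1
    rw [← mul_assoc, D.incl_central πb va, mul_assoc])

theorem retr_spec (c : D.C) : ∃ v : D.C, (v : G) ∈ D.V ∧ c = D.incl (D.retr c) * v :=
  (D.exists_unique_decomp c).choose_spec.1

theorem retr_eq_of (c : D.C) (π : D.Q) (v : D.C) (hv : (v : G) ∈ D.V) (h : c = D.incl π * v) :
    D.retr c = π :=
  ((D.exists_unique_decomp c).choose_spec.2 π ⟨v, hv, h⟩).symm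

theorem retr_incl (π : D.Q) : D.retr (D.incl π) = π :=
  D.retr_eq_of _ π 1 D.V.one_mem (by rw [mul_one])

theorem retr_of_mem_V (c : D.C) (hc : (c : G) ∈ D.V) : D.retr c = 1 :=
  D.retr_eq_of _ 1 c hc (by rw [map_one, one_mul])

theorem mem_V_of_retr (c : D.C) (hc : D.retr c = 1) : (c : G) ∈ D.V := by
  obtain ⟨v, hv, h⟩ := D.retr_spec c
  rw [hc, map_one, one_mul] at h
  rw [h]
  exact hv

theorem retr_eq_one_iff (c : D.C) : D.retr c = 1 ↔ (c : G) ∈ D.V :=
  ⟨D.mem_V_of_retr c, D.retr_of_mem_V c⟩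

/-- the linear character of `C`, trivial on `V`, extending the linear character `κ` of `Q` -/
noncomputable def tw (κ : D.Q →* ℂˣ) : D.C →* ℂˣ := κ.comp D.retr

theorem tw_incl (κ : D.Q →* ℂˣ) (π : D.Q) : D.tw κ (D.incl π) = κ π := by
  rw [tw, MonoidHom.comp_apply, retr_incl]

theorem tw_of_mem_V (κ : D.Q →* ℂˣ) (c : D.C) (hc : (c : G) ∈ D.V) : D.tw κ c = 1 := by
  rw [tw, MonoidHom.comp_apply, D.retr_of_mem_V c hc, map_one]

theorem tw_one : D.tw 1 = 1 := rfl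

theorem tw_mul (κ κ' : D.Q →* ℂˣ) : D.tw (κ * κ') = D.tw κ * D.tw κ' := rfl

theorem tw_inv (κ : D.Q →* ℂˣ) : D.tw κ⁻¹ = (D.tw κ)⁻¹ := rfl

open Cfsg.Agent.Lib.Helper34 in
theorem cc_linFun_mul [Fintype G] [Fintype D.C] (μ : D.C →* ℂˣ) {ψ : D.C → ℂ}
    (hψ : IsIrrCharacter D.C ψ) :
    IsIrrCharacter D.C (linFun μ * ψ) ∧ D.cc (linFun μ * ψ) = (μ.comp D.incl) * D.cc ψ := by
  have hirr : IsIrrCharacter D.C (linFun μ * ψ) := by
    apply Cfsg.Agent.Lib.Helper83.isIrrCharacter_mul_linear _ _ hψ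
    · exact Cfsg.Agent.Lib.Helper83.isCharacter_of_irr
        (Cfsg.Agent.Lib.Helper83.isIrrCharacter_of_hom μ)
    · rw [linFun_apply, map_one]; rfl
  refine ⟨hirr, ?_⟩
  apply D.cc_eq_of hirr
  intro π
  rw [Pi.mul_apply, Pi.mul_apply, linFun_apply, linFun_apply, map_one, MonoidHom.mul_apply,
    MonoidHom.comp_apply]
  have := D.cc_spec hψ π 1
  rw [mul_one] at this
  rw [this]
  push_cast
  ring

end BLData

end Cfsg.Agent.Lib.Helper79
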