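import Mathlib
import Cfsg.Agent.Lib.Helper79.BLBasic

/-!
# Brauer–Leonard: the concrete configuration for a Sylow subgroup with uniform centralizers
(helper79)
-/

set_option autoImplicit false

namespace Cfsg.Agent.Lib.Helper79

namespace BLConc

open Subgroup
open scoped Pointwise

variable {G : Type*} [Group G] {p : ℕ}

/-- every nonidentity element of `P` has the same centralizer as `P` -/
def Star (P : Sylow p G) : Prop :=
  ∀ x ∈ (P : Subgroup G), x ≠ 1 →
    Subgroup.centralizer ({x} : Set G) = Subgroup.centralizer ((P : Subgroup G) : Set G)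

variable {P : Sylow p G}

theorem Star.le_centralizer (h : Star P) :
    (P : Subgroup G) ≤ Subgroup.centralizer ((P : Subgroup G) : Set G) := by
  intro x hx
  by_cases hx1 : x = 1
  · rw [hx1]
    exact Subgroup.one_mem _
  · rw [← h x hx hx1, Subgroup.mem_centralizer_iff]
    intro y hy
    rw [Set.mem_singleton_iff] at hy
    rw [hy]

theorem Star.comm (h : Star P) {a b : G} (ha : a ∈ (P : Subgroup G)) (hb : b ∈ (P : Subgroup G)) :
    a * b = b * a :=
  (Subgroup.mem_centralizer_iff.mp (h.le_centralizer hb) a ha)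

/-- the key trivial intersection property -/
theorem Star.mem_normalizer [Finite G] [Fact p.Prime] (h : Star P) (g : G) {t : G}
    (ht : t ∈ (P : Subgroup G)) (ht1 : t ≠ 1) (hgt : g⁻¹ * t * g ∈ (P : Subgroup G)) :
    g ∈ Subgroup.normalizer ((P : Subgroup G) : Set G) := by
  have ht'1 : g⁻¹ * t * g ≠ 1 := by
    intro h1
    apply ht1
    have : t = g * (g⁻¹ * t * g) * g⁻¹ := by group
    rw [this, h1]
    group
  have hC := h _ hgt ht'1
  -- conjugates of elements of `P` lie in `P`
  have hconj : ∀ n, n ∈ ((P : Subgroup G) : Set G) → g⁻¹ * n * g⁻¹⁻¹ ∈ ((P : Subgroup G) : Set G) := by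
    intro n hn
    rw [inv_inv]
    have hn' : n ∈ (P : Subgroup G) := hn
    have hyC : g⁻¹ * n * g ∈ Subgroup.centralizer ((P : Subgroup G) : Set G) := by
      rw [← hC, Subgroup.mem_centralizer_iff]
      intro y hy
      rw [Set.mem_singleton_iff] at hy
      rw [hy]
      have hcomm := h.comm ht hn'
      calc g⁻¹ * t * g * (g⁻¹ * n * g) = g⁻¹ * (t * n) * g := by group
        _ = g⁻¹ * (n * t) * g := by rw [hcomm]
        _ = g⁻¹ * n * g * (g⁻¹ * t * g) := by group
    have hyN : g⁻¹ * n * g ∈ Subgroup.normalizer ((P : Subgroup G) : Set G) :=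
      Subgroup.centralizer_le_normalizer _ hyC
    -- the cyclic group generated by the conjugate is a `p`-group
    have hpg : IsPGroup p (Subgroup.zpowers (g⁻¹ * n * g)) := by
      have hmap : IsPGroup p ((P : Subgroup G).map (MulAut.conj g⁻¹).toMonoidHom) :=
        P.isPGroup'.map _
      apply hmap.to_le
      rw [Subgroup.zpowers_le]
      refine ⟨n, hn', ?_⟩
      simp
    have hinf := hpg.inf_normalizer_sylow P
    have hle : Subgroup.zpowers (g⁻¹ * n * g) ≤ Subgroup.normalizer ((P : Subgroup G) : Set G) := by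
      rw [Subgroup.zpowers_le]
      exact hyN
    have h3 : Subgroup.zpowers (g⁻¹ * n * g) ≤ Subgroup.zpowers (g⁻¹ * n * g) ⊓ (P : Subgroup G) :=
      le_of_le_of_eq (le_inf le_rfl hle) hinf
    have : Subgroup.zpowers (g⁻¹ * n * g) ≤ (P : Subgroup G) := h3.trans inf_le_right
    exact this (Subgroup.mem_zpowers _)
  have := Subgroup.mem_normalizer_fintype hconj
  rwa [inv_mem_iff] at this

/-- the trivial intersection property in the form used for the restriction theorem -/
theorem Star.ti [Finite G] [Fact p.Prime] (h : Star P) (g : G)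
    (hg : g ∉ Subgroup.normalizer ((P : Subgroup G) : Set G)) :
    (P : Subgroup G) ⊓ (MulAut.conj g • (P : Subgroup G)) = ⊥ := by
  rw [eq_bot_iff]
  intro t ht
  rw [Subgroup.mem_bot]
  by_contra ht1
  obtain ⟨htP, htg⟩ := Subgroup.mem_inf.mp ht
  rw [Subgroup.mem_pointwise_smul_iff_inv_smul_mem] at htg
  apply hg
  apply h.mem_normalizer g htP ht1
  simpa [MulAut.smul_def, MulAut.conj_apply] using htg

/-- existence of the `p'`-complement of `P` in its centralizer -/
theorem exists_compl [Finite G] [Fact p.Prime] (P : Sylow p G)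
    (hab : (P : Subgroup G) ≤ Subgroup.centralizer ((P : Subgroup G) : Set G)) :
    ∃ (V : Subgroup G) (m : ℕ), V ≤ Subgroup.centralizer ((P : Subgroup G) : Set G) ∧
      m.Coprime p ∧ (∀ v ∈ V, v ^ m = 1) ∧
      (∀ c ∈ Subgroup.centralizer ((P : Subgroup G) : Set G),
        ∃ π ∈ (P : Subgroup G), ∃ v ∈ V, c = π * v) ∧
      (∀ g, g ∈ (P : Subgroup G) → g ∈ V → g = 1) := by
  set C := Subgroup.centralizer ((P : Subgroup G) : Set G) with hC
  set P' : Subgroup C := (P : Subgroup G).subgroupOf C with hP'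
  have hcomm : ∀ (c : C) (n : G), n ∈ (P : Subgroup G) → n * (c : G) = (c : G) * n :=
    fun c n hn => Subgroup.mem_centralizer_iff.mp c.2 n hn
  have hnorm : P'.Normal := by
    constructor
    intro n hn c
    rw [hP', Subgroup.mem_subgroupOf] at hn ⊢
    have : ((c * n * c⁻¹ : C) : G) = (n : G) := by
      push_cast
      rw [← hcomm c n hn, mul_assoc, mul_inv_cancel, mul_one]
    rw [this]
    exact hn
  have hcardP' : Nat.card P' = Nat.card (P : Subgroup G) :=
    Nat.card_congr (Subgroup.subgroupOfEquivOfLe hab).toEquiv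
  have hidx : P'.index ∣ (P : Subgroup G).index := by
    have := Subgroup.relIndex_mul_index hab
    exact Dvd.intro _ this
  have hcop : Nat.Coprime (Nat.card P') P'.index := by
    rw [hcardP']
    exact Nat.Coprime.coprime_dvd_right hidx P.card_coprime_index
  obtain ⟨H, hH⟩ := Subgroup.exists_left_complement'_of_coprime hcop
  refine ⟨H.map C.subtype, Nat.card H, ?_, ?_, ?_, ?_, ?_⟩
  · exact Subgroup.map_subtype_le H
  · rw [← hH.index_eq_card]
    have hp : p.Prime := Fact.out
    rw [Nat.coprime_comm, Nat.Prime.coprime_iff_not_dvd hp]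
    intro hdvd
    exact P.not_dvd_index (hdvd.trans hidx)
  · rintro v ⟨h, hh, rfl⟩
    have h1 : (⟨h, hh⟩ : H) ^ Nat.card H = 1 := pow_card_eq_one'
    have h2 : h ^ Nat.card H = 1 := congrArg Subtype.val h1
    rw [← map_pow, h2, map_one]
  · intro c hc
    obtain ⟨⟨h, n⟩, hhn, -⟩ := (Subgroup.isComplement'_def.mp hH).existsUnique (⟨c, hc⟩ : C)
    have hn : ((n : C) : G) ∈ (P : Subgroup G) := Subgroup.mem_subgroupOf.mp n.2
    refine ⟨((n : C) : G), hn, ((h : C) : G), ⟨(h : C), h.2, rfl⟩, ?_⟩
    have h2 := congrArg (fun z : C => (z : G)) hhn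
    simp only [Subgroup.coe_mul] at h2
    rw [← h2]
    exact (hcomm (h : C) _ hn).symm
  · rintro g hgP ⟨h, hh, rfl⟩
    have h1 : h ∈ H ⊓ P' := Subgroup.mem_inf.mpr ⟨hh, Subgroup.mem_subgroupOf.mpr hgP⟩
    rw [hH.disjoint.eq_bot, Subgroup.mem_bot] at h1
    rw [h1]
    rfl

end BLConc

end Cfsg.Agent.Lib.Helper79
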