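import Mathlib
import Cfsg.Agent.Lib.Helper79.BLConcA

/-!
# Brauer–Leonard: the configuration attached to a Sylow subgroup with uniform centralizers
(helper79)
-/

set_option autoImplicit false

namespace Cfsg.Agent.Lib.Helper79

namespace BLConc

open Subgroup
open scoped Pointwise

variable {G : Type*} [Group G] [Finite G] {p : ℕ} [Fact p.Prime] {P : Sylow p G}

/-- the `p'`-complement of `P` in its centralizer -/
noncomputable def cV (h : Star P) : Subgroup G :=
  Classical.choose (exists_compl P h.le_centralizer)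

/-- the order of the complement -/
noncomputable def cM (h : Star P) : ℕ :=
  Classical.choose (Classical.choose_spec (exists_compl P h.le_centralizer))

theorem cV_spec (h : Star P) :
    cV h ≤ Subgroup.centralizer ((P : Subgroup G) : Set G) ∧
      (cM h).Coprime p ∧ (∀ v ∈ cV h, v ^ cM h = 1) ∧
      (∀ c ∈ Subgroup.centralizer ((P : Subgroup G) : Set G),
        ∃ π ∈ (P : Subgroup G), ∃ v ∈ cV h, c = π * v) ∧
      (∀ g, g ∈ (P : Subgroup G) → g ∈ cV h → g = 1) :=
  Classical.choose_spec (Classical.choose_spec (exists_compl P h.le_centralizer))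

theorem eq_one_of_pow_cM (h : Star P) {π : G} (hπ : π ∈ (P : Subgroup G))
    (hm : π ^ cM h = 1) : π = 1 := by
  obtain ⟨k, hk⟩ := P.isPGroup' ⟨π, hπ⟩
  have hk' : π ^ p ^ k = 1 := by
    have := congrArg Subtype.val hk
    simpa using this
  have hcop : Nat.gcd (cM h) (p ^ k) = 1 := Nat.Coprime.pow_right k (cV_spec h).2.1
  have := pow_gcd_eq_one.mpr ⟨hm, hk'⟩
  rwa [hcop, pow_one] at this

/-- the `cM`-th power of an element of the centralizer lies in `P` -/
theorem pow_cM_mem (h : Star P) {c : G}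
    (hc : c ∈ Subgroup.centralizer ((P : Subgroup G) : Set G)) :
    c ^ cM h ∈ (P : Subgroup G) ∧ (c ^ cM h = 1 → c ∈ cV h) := by
  obtain ⟨π, hπ, v, hv, rfl⟩ := (cV_spec h).2.2.2.1 c hc
  have hvC := (cV_spec h).1 hv
  have hcomm : Commute π v := (Subgroup.mem_centralizer_iff.mp hvC π hπ)
  have hpow : (π * v) ^ cM h = π ^ cM h := by
    rw [hcomm.mul_pow, (cV_spec h).2.2.1 v hv, mul_one]
  rw [hpow]
  refine ⟨Subgroup.pow_mem _ hπ _, fun h1 => ?_⟩
  rw [eq_one_of_pow_cM h hπ h1, one_mul]
  exact hv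

omit [Finite G] in
theorem conj_pow' (x v : G) (m : ℕ) : (x⁻¹ * v * x) ^ m = x⁻¹ * v ^ m * x := by
  have := conj_pow (a := x⁻¹) (b := v) (i := m)
  rwa [inv_inv] at this

/-- the Brauer–Leonard configuration of a Sylow subgroup with uniform centralizers -/
noncomputable def blData (h : Star P) : BLData G where
  C := Subgroup.centralizer ((P : Subgroup G) : Set G)
  N := Subgroup.normalizer ((P : Subgroup G) : Set G)
  Q := (P : Subgroup G)
  V := cV h
  hQC := h.le_centralizer
  hVC := (cV_spec h).1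
  hCN := Subgroup.centralizer_le_normalizer _
  hcent := fun π hπ c hc => (Subgroup.mem_centralizer_iff.mp hc π hπ).symm
  hNC := by
    intro x hx c hc
    rw [Subgroup.mem_centralizer_iff]
    intro y hy
    have hy' : x * y * x⁻¹ ∈ ((P : Subgroup G) : Set G) := (Subgroup.mem_set_normalizer_iff.mp hx y).mp hy
    have hcomm := Subgroup.mem_centralizer_iff.mp hc _ hy'
    calc y * (x⁻¹ * c * x) = x⁻¹ * (x * y * x⁻¹ * c) * x := by group
      _ = x⁻¹ * (c * (x * y * x⁻¹)) * x := by rw [hcomm]
      _ = x⁻¹ * c * x * y := by group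
  hNQ := fun x hx c hc => (Subgroup.mem_set_normalizer_iff''.mp hx c).mp hc
  hprod := (cV_spec h).2.2.2.1
  hdisj := (cV_spec h).2.2.2.2
  hVconj := by
    intro v hv x hx
    apply (pow_cM_mem h hx).2
    rw [conj_pow', (cV_spec h).2.2.1 v hv]
    group
  hTI := by
    intro c hc hcV x hx
    have h1 := pow_cM_mem h hc
    have h2 := pow_cM_mem h hx
    apply h.mem_normalizer x h1.1 (fun h0 => hcV (h1.2 h0))
    rw [← conj_pow']
    exact h2.1
  hfree := by
    intro x hx hxC π hπ hfix
    by_contra hπ1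
    apply hxC
    rw [← h π hπ hπ1, Subgroup.mem_centralizer_iff]
    intro y hy
    rw [Set.mem_singleton_iff] at hy
    rw [hy]
    calc π * x = x * (x⁻¹ * π * x) := by group
      _ = x * π := by rw [hfix]

end BLConc

end Cfsg.Agent.Lib.Helper79
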