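import Mathlib
import Cfsg.Agent.Lib.Helper79.BLCentral
import Cfsg.Agent.Lib.Helper34.CyclicDual

/-!
# Brauer–Leonard configuration: counting orbits of linear characters of `Q` (helper79)
-/

set_option autoImplicit false

namespace Cfsg.Agent.Lib.Helper79

open Cfsg

variable {G : Type*} [Group G] (D : BLData G)

namespace BLData

variable [Fintype D.C] [Fintype D.N]

open Classical in
/-- the orbit of a linear character of `Q` under `N` -/
noncomputable def orb (κ : D.Q →* ℂˣ) : Finset (D.Q →* ℂˣ) :=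
  Finset.univ.image (fun x : D.N => D.cjK x κ)

omit [Fintype D.C] in
theorem mem_orb {κ κ' : D.Q →* ℂˣ} : κ' ∈ D.orb κ ↔ ∃ x : D.N, D.cjK x κ = κ' := by
  classical
  simp [orb]

omit [Fintype D.C] in
theorem self_mem_orb (κ : D.Q →* ℂˣ) : κ ∈ D.orb κ :=
  D.mem_orb.mpr ⟨1, D.cjK_one κ⟩

theorem card_orb_le (e : ℕ) (he : Nat.card D.N = e * Nat.card D.C) (κ : D.Q →* ℂˣ) :
    (D.orb κ).card ≤ e := by
  classical
  have hCpos : 0 < Nat.card D.C := Nat.card_pos
  have hfib : ∀ b ∈ D.orb κ,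
      Nat.card D.C ≤ (Finset.univ.filter (fun x : D.N => D.cjK x κ = b)).card := by
    intro b hb
    obtain ⟨x₀, rfl⟩ := D.mem_orb.mp hb
    rw [Nat.card_eq_fintype_card, ← Finset.card_univ]
    apply Finset.card_le_card_of_injOn (fun c : D.C => x₀ * ⟨c, D.hCN c.2⟩)
    · intro c _
      simp only [Finset.coe_filter, Finset.mem_univ, true_and, Set.mem_setOf_eq]
      rw [cjK_mul, D.cjK_of_mem ⟨c, D.hCN c.2⟩ c.2]
    · intro a _ b _ h
      have h2 : (⟨(a : G), D.hCN a.2⟩ : D.N) = ⟨(b : G), D.hCN b.2⟩ := mul_left_cancel h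
      apply Subtype.ext
      exact congrArg (fun z : D.N => (z : G)) h2
  have hsum := Finset.card_eq_sum_card_image (fun x : D.N => D.cjK x κ) Finset.univ
  have h1 : (D.orb κ).card * Nat.card D.C ≤ Nat.card D.N := by
    rw [Nat.card_eq_fintype_card (α := D.N), ← Finset.card_univ, hsum, ← smul_eq_mul]
    rw [← Finset.sum_const]
    apply Finset.sum_le_sum
    intro b hb
    have := hfib b hb
    simpa using this
  rw [he] at h1
  exact Nat.le_of_mul_le_mul_right h1 hCpos

omit [Fintype D.C] [Fintype D.N] in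
theorem finite_dual [Finite G] : Finite (D.Q →* ℂˣ) := by
  have h := Cfsg.Agent.Lib.Helper34.card_linChar_of_comm D.Q
    (fun a ha b hb => by
      have := D.Q_comm ⟨a, ha⟩ ⟨b, hb⟩
      exact congrArg Subtype.val this)
  have hpos : 0 < Nat.card D.Q := Nat.card_pos
  apply Nat.finite_of_card_ne_zero
  omega

omit [Fintype D.C] [Fintype D.N] in
theorem card_dual [Finite G] : Nat.card (D.Q →* ℂˣ) = Nat.card D.Q :=
  Cfsg.Agent.Lib.Helper34.card_linChar_of_comm D.Q
    (fun a ha b hb => by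
      have := D.Q_comm ⟨a, ha⟩ ⟨b, hb⟩
      exact congrArg Subtype.val this)

omit [Fintype D.C] [Fintype D.N] in
/-- a finite set of linear characters of `Q` smaller than `|Q|` misses some character -/
theorem exists_not_mem [Finite G] (U : Finset (D.Q →* ℂˣ)) (h : U.card < Nat.card D.Q) :
    ∃ κ, κ ∉ U := by
  classical
  by_contra hcon
  push Not at hcon
  have := D.finite_dual
  have : Fintype (D.Q →* ℂˣ) := Fintype.ofFinite _
  have : U = Finset.univ := Finset.eq_univ_iff_forall.mpr hcon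
  rw [this, Finset.card_univ, ← Nat.card_eq_fintype_card, D.card_dual] at h
  exact lt_irrefl _ h

/-- greedy choice of pairwise non-conjugate nontrivial characters avoiding one orbit -/
theorem exists_family [Finite G] (e q : ℕ) (he : Nat.card D.N = e * Nat.card D.C)
    (hq : Nat.card D.Q = q) (hsmall : e ^ 2 + 2 ≤ q) (lam : D.Q →* ℂˣ) :
    ∀ k ≤ e, ∃ T : Finset (D.Q →* ℂˣ), T.card = k ∧ (∀ κ ∈ T, κ ≠ 1) ∧
      (∀ κ ∈ T, ∀ x : D.N, D.cjK x κ ≠ lam) ∧
      (∀ κ ∈ T, ∀ κ' ∈ T, κ ≠ κ' → ∀ x : D.N, D.cjK x κ' ≠ κ) := by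
  classical
  intro k
  induction k with
  | zero =>
    intro _
    exact ⟨∅, rfl, by simp, by simp, by simp⟩
  | succ k ih =>
    intro hk
    obtain ⟨T, hTc, hT1, hTl, hTT⟩ := ih (by omega)
    set U : Finset (D.Q →* ℂˣ) := insert 1 (D.orb lam ∪ T.biUnion D.orb) with hU
    have hUcard : U.card < Nat.card D.Q := by
      have h1 : U.card ≤ (D.orb lam ∪ T.biUnion D.orb).card + 1 := Finset.card_insert_le _ _
      have h2 : (D.orb lam ∪ T.biUnion D.orb).card ≤ (D.orb lam).card + (T.biUnion D.orb).card :=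
        Finset.card_union_le _ _
      have h3 : (T.biUnion D.orb).card ≤ T.card * e :=
        Finset.card_biUnion_le_card_mul T D.orb e (fun κ _ => D.card_orb_le e he κ)
      have h4 := D.card_orb_le e he lam
      have h5 : k * e ≤ (e - 1) * e := Nat.mul_le_mul_right e (by omega)
      have h6 : (e - 1) * e + e = e ^ 2 := by
        have : e = (e - 1) + 1 := by omega
        nlinarith [this]
      rw [hTc] at h3
      omega
    obtain ⟨κ, hκ⟩ := D.exists_not_mem U hUcard
    rw [hU, Finset.mem_insert, Finset.mem_union, Finset.mem_biUnion] at hκ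
    push Not at hκ
    obtain ⟨hκ1, hκl, hκT⟩ := hκ
    have hκnT : κ ∉ T := fun h => hκT κ h (D.self_mem_orb κ)
    refine ⟨insert κ T, ?_, ?_, ?_, ?_⟩
    · rw [Finset.card_insert_of_notMem hκnT, hTc]
    · intro κ' hκ'
      rcases Finset.mem_insert.mp hκ' with rfl | h
      · exact hκ1
      · exact hT1 κ' h
    · intro κ' hκ' x
      rcases Finset.mem_insert.mp hκ' with rfl | h
      · intro hx
        apply hκl
        rw [D.mem_orb]
        refine ⟨x⁻¹, ?_⟩
        rw [← hx, cjK_inv_cjK]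
      · exact hTl κ' h x
    · intro κ₁ h₁ κ₂ h₂ hne x
      rcases Finset.mem_insert.mp h₁ with rfl | h₁'
      · rcases Finset.mem_insert.mp h₂ with rfl | h₂'
        · exact absurd rfl hne
        · intro hx
          exact hκT κ₂ h₂' (D.mem_orb.mpr ⟨x, hx⟩)
      · rcases Finset.mem_insert.mp h₂ with rfl | h₂'
        · intro hx
          apply hκT κ₁ h₁'
          rw [D.mem_orb]
          refine ⟨x⁻¹, ?_⟩
          rw [← hx, cjK_inv_cjK]
        · exact hTT κ₁ h₁' κ₂ h₂' hne x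

/-- the support set: quotients of conjugates of `κ₀` -/
def dset (κ₀ : D.Q →* ℂˣ) : Set (D.Q →* ℂˣ) :=
  {κ | ∃ x y : D.N, κ = D.cjK x κ₀ * (D.cjK y κ₀)⁻¹}

omit [Fintype D.C] [Fintype D.N] in
theorem one_mem_dset (κ₀ : D.Q →* ℂˣ) : (1 : D.Q →* ℂˣ) ∈ D.dset κ₀ := by
  refine ⟨1, 1, ?_⟩
  apply MonoidHom.ext
  intro π
  rw [MonoidHom.mul_apply, MonoidHom.inv_apply, mul_inv_cancel]
  rfl

omit [Fintype D.C] [Fintype D.N] in
theorem cjK_mem_dset (κ₀ : D.Q →* ℂˣ) (z : D.N) {κ : D.Q →* ℂˣ} (hκ : κ ∈ D.dset κ₀) :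
    D.cjK z κ ∈ D.dset κ₀ := by
  obtain ⟨x, y, rfl⟩ := hκ
  refine ⟨z * x, z * y, ?_⟩
  rw [cjK_mul_char, cjK_inv_char, cjK_mul, cjK_mul]

/-- there is room outside the support set and one further orbit -/
theorem exists_room [Finite G] (e q : ℕ) (he : Nat.card D.N = e * Nat.card D.C)
    (hq : Nat.card D.Q = q) (hsmall : e ^ 2 + 2 ≤ q) (κ₀ κ' : D.Q →* ℂˣ) :
    ∃ κ, κ ∉ D.dset κ₀ ∧ ∀ x : D.N, D.cjK x κ' ≠ κ := by
  classical
  set O := D.orb κ₀ with hO
  set f : (D.Q →* ℂˣ) × (D.Q →* ℂˣ) → (D.Q →* ℂˣ) := fun p => p.1 * p.2⁻¹ with hf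
  set U : Finset (D.Q →* ℂˣ) := insert 1 (O.offDiag.image f ∪ D.orb κ') with hU
  have hOc : O.card ≤ e := D.card_orb_le e he κ₀
  have hUcard : U.card < Nat.card D.Q := by
    have h1 : U.card ≤ (O.offDiag.image f ∪ D.orb κ').card + 1 := Finset.card_insert_le _ _
    have h2 : (O.offDiag.image f ∪ D.orb κ').card ≤ (O.offDiag.image f).card + (D.orb κ').card :=
      Finset.card_union_le _ _
    have h3 : (O.offDiag.image f).card ≤ O.offDiag.card := Finset.card_image_le
    have h4 : O.offDiag.card = O.card * O.card - O.card := Finset.offDiag_card O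
    have h5 := D.card_orb_le e he κ'
    have h6 : O.card * O.card - O.card ≤ e * e - e := by
      have : O.card * O.card - O.card = O.card * (O.card - 1) := by
        rw [Nat.mul_sub_one]
      rw [this]
      have : e * e - e = e * (e - 1) := by rw [Nat.mul_sub_one]
      rw [this]
      exact Nat.mul_le_mul hOc (by omega)
    have h7 : e ≤ e * e := Nat.le_mul_self e
    have h8 : e * e + 2 ≤ q := by rw [← sq]; exact hsmall
    have key : ∀ (u g i j od n2 e2 : ℕ), u ≤ g + 1 → g ≤ i + j → i ≤ od → od = n2 →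
        j ≤ e → n2 ≤ e2 - e → e ≤ e2 → e2 + 2 ≤ q → u < q := by
      intros
      omega
    rw [hq]
    exact key _ _ _ _ _ _ _ h1 h2 h3 h4 h5 h6 h7 h8
  obtain ⟨κ, hκ⟩ := D.exists_not_mem U hUcard
  rw [hU, Finset.mem_insert, Finset.mem_union, Finset.mem_image] at hκ
  push Not at hκ
  obtain ⟨hκ1, hκD, hκo⟩ := hκ
  refine ⟨κ, ?_, ?_⟩
  · rintro ⟨x, y, hxy⟩
    by_cases hxy' : D.cjK x κ₀ = D.cjK y κ₀
    · apply hκ1
      rw [hxy, hxy']
      apply MonoidHom.ext
      intro π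
      rw [MonoidHom.mul_apply, MonoidHom.inv_apply, mul_inv_cancel]
      rfl
    · apply hκD (D.cjK x κ₀, D.cjK y κ₀)
      · rw [Finset.mem_offDiag]
        exact ⟨D.mem_orb.mpr ⟨x, rfl⟩, D.mem_orb.mpr ⟨y, rfl⟩, hxy'⟩
      · exact hxy.symm
  · intro x hx
    exact hκo (D.mem_orb.mpr ⟨x, hx⟩)

end BLData

end Cfsg.Agent.Lib.Helper79
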