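import Mathlib
import Cfsg.Agent.Lib.Helper79.BLCentral

/-!
# Brauer–Leonard configuration: the product decomposition `C = Q × V` and sums (helper79)
-/

set_option autoImplicit false

namespace Cfsg.Agent.Lib.Helper79

open scoped ComplexConjugate
open Cfsg

variable {G : Type*} [Group G] (D : BLData G)

namespace BLData

/-- the inclusion of `V` in `C` -/
def inclV : D.V →* D.C := Subgroup.inclusion D.hVC

@[simp] theorem inclV_coe (v : D.V) : ((D.inclV v : D.C) : G) = v := rfl

/-- `Q × V ≃ C` -/
noncomputable def prodEquiv : D.Q × D.V ≃ D.C :=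
  Equiv.ofBijective (fun p => D.incl p.1 * D.inclV p.2) (by
    constructor
    · rintro ⟨π, v⟩ ⟨π', v'⟩ h
      simp only at h
      have h1 := D.retr_eq_of (D.incl π * D.inclV v) π (D.inclV v) v.2 rfl
      have h2 := D.retr_eq_of (D.incl π * D.inclV v) π' (D.inclV v') v'.2 h
      have hπ : π = π' := h1.symm.trans h2
      subst hπ
      have := mul_left_cancel h
      have hv : v = v' := by
        apply Subtype.ext
        have h3 := congrArg (fun c : D.C => (c : G)) this
        exact h3
      rw [hv]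
    · intro c
      obtain ⟨v, hv, h⟩ := D.retr_spec c
      exact ⟨(D.retr c, ⟨v, hv⟩), h.symm⟩)

theorem prodEquiv_apply (p : D.Q × D.V) : D.prodEquiv p = D.incl p.1 * D.inclV p.2 := rfl

variable [Fintype D.C] [Fintype D.Q] [Fintype D.V]

/-- the sum over `C` of a `Q`-invariant function -/
theorem sum_of_Q_invariant (F : D.C → ℂ) (hF : ∀ (π : D.Q) (c : D.C), F (D.incl π * c) = F c) :
    ∑ c : D.C, F c = (Nat.card D.Q : ℂ) * ∑ v : D.V, F (D.inclV v) := by
  rw [← Equiv.sum_comp D.prodEquiv, Fintype.sum_prod_type]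
  simp only [prodEquiv_apply, hF, Finset.sum_const, Finset.card_univ, nsmul_eq_mul,
    Nat.card_eq_fintype_card]

open Classical in
theorem sum_mem_V (F : D.C → ℂ) :
    ∑ c : D.C, (if (c : G) ∈ D.V then F c else 0) = ∑ v : D.V, F (D.inclV v) := by
  rw [← Finset.sum_filter]
  symm
  apply Finset.sum_bij (fun v _ => D.inclV v)
  · intro v _
    simp
  · intro v _ v' _ h
    apply Subtype.ext
    have h3 := congrArg (fun c : D.C => (c : G)) h
    exact h3
  · intro c hc
    rw [Finset.mem_filter] at hc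
    exact ⟨⟨c, hc.2⟩, Finset.mem_univ _, rfl⟩
  · intro v _
    rfl

open Classical in
/-- the sum over `C ∖ V` of a `Q`-invariant function -/
theorem sum_not_mem_V (F : D.C → ℂ) (hF : ∀ (π : D.Q) (c : D.C), F (D.incl π * c) = F c) :
    (Nat.card D.Q : ℂ) * ∑ c : D.C, (if (c : G) ∈ D.V then 0 else F c) =
      ((Nat.card D.Q : ℂ) - 1) * ∑ c : D.C, F c := by
  have h1 : ∑ c : D.C, (if (c : G) ∈ D.V then 0 else F c) =
      ∑ c : D.C, F c - ∑ c : D.C, (if (c : G) ∈ D.V then F c else 0) := by
    rw [← Finset.sum_sub_distrib]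
    apply Finset.sum_congr rfl
    intro c _
    split_ifs <;> simp
  rw [h1, D.sum_mem_V, D.sum_of_Q_invariant F hF]
  ring

end BLData

end Cfsg.Agent.Lib.Helper79
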