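import Mathlib
import Cfsg.Agent.Lib.Helper79.BLCentral
import Cfsg.Agent.Lib.Helper04.IndFun

/-!
# Brauer–Leonard configuration: induction from `C` (helper79)
-/

set_option autoImplicit false

namespace Cfsg.Agent.Lib.Helper79

open scoped ComplexConjugate
open Cfsg Cfsg.Agent.Lib.Helper04 Cfsg.Agent.Lib.Helper05

variable {G : Type*} [Group G] (D : BLData G)

namespace BLData

variable [Fintype G] [Fintype D.C] [Fintype D.N]

/-- the conjugates of an element of `C ∖ V` lying in `C` come from `N` -/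
theorem sum_extendByZero_conj (β : D.C → ℂ) (c : D.C) (hc : (c : G) ∉ D.V) :
    ∑ x : G, extendByZero D.C β (x⁻¹ * c * x) = ∑ x : D.N, D.cj x β c := by
  have hF : (fun x : G => extendByZero D.C β (x⁻¹ * c * x)) =
      extendByZero D.N (fun x : D.N => D.cj x β c) := by
    funext x
    by_cases hx : x ∈ D.N
    · rw [extendByZero_apply_of_mem D.N _ x hx,
        extendByZero_apply_of_mem D.C _ _ (D.hNC x hx c c.2)]
      rfl
    · rw [extendByZero_apply_not_mem D.N _ x hx, extendByZero_apply_not_mem]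
      intro h
      exact hx (D.hTI c c.2 hc x h)
  rw [Finset.sum_congr rfl (fun x _ => congrFun hF x), sum_extendByZero]

theorem indFun_apply_of_not_mem_V (β : D.C → ℂ) (c : D.C) (hc : (c : G) ∉ D.V) :
    indFun D.C β (c : G) = (Nat.card D.C : ℂ)⁻¹ * ∑ x : D.N, D.cj x β c := by
  rw [indFun_apply, D.sum_extendByZero_conj β c hc]

theorem indFun_apply_one (β : D.C → ℂ) :
    indFun D.C β 1 = (Nat.card D.C : ℂ)⁻¹ * (Nat.card G : ℂ) * β 1 := by
  rw [indFun_apply]
  have : ∀ x : G, extendByZero D.C β (x⁻¹ * 1 * x) = β 1 := by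
    intro x
    rw [mul_one, inv_mul_cancel]
    exact extendByZero_apply_of_mem D.C β 1 D.C.one_mem
  simp only [this, Finset.sum_const, Finset.card_univ, nsmul_eq_mul, Nat.card_eq_fintype_card]
  ring

/-- the inner product of two functions induced from `C`, the first one vanishing on `V` -/
theorem classInner_indFun_indFun (α β : D.C → ℂ) (hα : ∀ c : D.C, (c : G) ∈ D.V → α c = 0) :
    classInner (indFun D.C α) (indFun D.C β) =
      (Nat.card D.C : ℂ)⁻¹ * ∑ x : D.N, classInner α (D.cj x β) := by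
  rw [frobenius_reciprocity D.C α _ (indFun_isClassFunction D.C β)]
  have h1 : classInner α (fun h : D.C => indFun D.C β h) =
      (Nat.card D.C : ℂ)⁻¹ * ∑ c : D.C, α c * conj ((Nat.card D.C : ℂ)⁻¹ * ∑ x : D.N, D.cj x β c) := by
    rw [classInner]
    congr 1
    apply Finset.sum_congr rfl
    intro c _
    by_cases hc : (c : G) ∈ D.V
    · rw [hα c hc, zero_mul, zero_mul]
    · rw [D.indFun_apply_of_not_mem_V β c hc]
  rw [h1]
  congr 1
  simp only [classInner, map_mul, map_sum, Finset.mul_sum]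
  rw [Finset.sum_comm]
  apply Finset.sum_congr rfl
  intro x _
  apply Finset.sum_congr rfl
  intro c _
  have : conj ((Nat.card D.C : ℂ)⁻¹) = (Nat.card D.C : ℂ)⁻¹ := by
    rw [map_inv₀, Complex.conj_natCast]
  rw [this]
  ring

/-- the `N`-orbit sum `∑ x ∈ N, ⟨ω, ω'^x⟩` -/
noncomputable def Jsum (ω ω' : D.C → ℂ) : ℂ := ∑ x : D.N, classInner ω (D.cj x ω')

theorem Jsum_eq_zero {ω ω' : D.C → ℂ} (hω : IsIrrCharacter D.C ω) (hω' : IsIrrCharacter D.C ω')
    (h : ∀ x : D.N, D.cjK x (D.cc ω') ≠ D.cc ω) : D.Jsum ω ω' = 0 := by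
  apply Finset.sum_eq_zero
  intro x _
  apply classInner_irr_ne hω (D.cj_isIrr x hω')
  intro heq
  apply h x
  rw [← D.cc_cj x hω', ← heq]

open Classical in
theorem card_N_filter_C : ∑ x : D.N, (if (x : G) ∈ D.C then (1 : ℂ) else 0) = (Nat.card D.C : ℂ) := by
  classical
  rw [Finset.sum_boole]
  congr 1
  rw [← Fintype.card_subtype]
  rw [← Nat.card_eq_fintype_card]
  exact Nat.card_congr (Subgroup.subgroupOfEquivOfLe D.hCN).toEquiv

theorem Jsum_self {ω : D.C → ℂ} (hω : IsIrrCharacter D.C ω) (h : D.cc ω ≠ 1) :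
    D.Jsum ω ω = (Nat.card D.C : ℂ) := by
  classical
  rw [← D.card_N_filter_C, Jsum]
  apply Finset.sum_congr rfl
  intro x _
  rw [classInner_irr hω (D.cj_isIrr x hω)]
  by_cases hx : (x : G) ∈ D.C
  · rw [if_pos hx, if_pos]
    exact (D.cj_of_mem (isClassFunction_of_isIrrCharacter hω) x hx).symm
  · rw [if_neg hx, if_neg]
    intro heq
    have h1 : D.cjK x (D.cc ω) = D.cc ω := by
      rw [← D.cc_cj x hω, ← heq]
    exact hx ((D.cjK_eq_self_iff x _ h).mp h1)

theorem Jsum_triv : D.Jsum (fun _ => 1) (fun _ => 1) = (Nat.card D.N : ℂ) := by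
  rw [Jsum]
  have h1 : IsIrrCharacter D.C (fun _ => (1 : ℂ)) := by
    have := Cfsg.Agent.Lib.Helper83.isIrrCharacter_of_hom (1 : D.C →* ℂˣ)
    simpa using this
  have : ∀ x : D.N, classInner (fun _ : D.C => (1 : ℂ)) (D.cj x (fun _ => 1)) = 1 := by
    intro x
    have : D.cj x (fun _ : D.C => (1 : ℂ)) = fun _ => 1 := rfl
    rw [this]
    exact classInner_irr_self h1
  simp only [this, Finset.sum_const, Finset.card_univ, nsmul_eq_mul, Nat.card_eq_fintype_card,
    mul_one]

/-- in general the self orbit sum is a natural number at most `|N|` -/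
theorem Jsum_self_le {ω : D.C → ℂ} (hω : IsIrrCharacter D.C ω) :
    ∃ k : ℕ, k ≤ Nat.card D.N ∧ D.Jsum ω ω = (k : ℂ) := by
  classical
  refine ⟨(Finset.univ.filter (fun x : D.N => ω = D.cj x ω)).card, ?_, ?_⟩
  · rw [Nat.card_eq_fintype_card]
    exact Finset.card_le_univ _
  · rw [Jsum, ← Finset.sum_boole]
    apply Finset.sum_congr rfl
    intro x _
    rw [classInner_irr hω (D.cj_isIrr x hω)]

end BLData

end Cfsg.Agent.Lib.Helper79
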