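import Mathlib
import Cfsg.Agent.Lib.Helper79.BLInd
import Cfsg.Agent.Lib.Helper34.Induction

/-!
# Brauer–Leonard configuration: orbit sums and differences (helper79)
-/

set_option autoImplicit false

namespace Cfsg.Agent.Lib.Helper79

open scoped ComplexConjugate
open Cfsg Cfsg.Agent.Lib.Helper34

variable {G : Type*} [Group G] (D : BLData G)

namespace BLData

variable [Fintype G] [Fintype D.C] [Fintype D.N]

/-- the averaged orbit sum `|C|⁻¹ ∑_{x ∈ N} ω^x` -/
noncomputable def zeta (ω : D.C → ℂ) : D.C → ℂ := (Nat.card D.C : ℂ)⁻¹ • ∑ x : D.N, D.cj x ω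

omit [Fintype G] [Fintype D.C] in
theorem cj_zeta (y : D.N) (ω : D.C → ℂ) : D.cj y (D.zeta ω) = D.zeta ω := by
  rw [zeta, cj_smul, cj_sum]
  congr 1
  simp only [← cj_mul]
  exact Fintype.sum_equiv (Equiv.mulLeft y) _ _ (fun x => rfl)

omit [Fintype G] in
theorem classInner_zeta_zeta (ω ω' : D.C → ℂ) :
    classInner (D.zeta ω) (D.zeta ω') =
      (Nat.card D.C : ℂ)⁻¹ * (Nat.card D.C : ℂ)⁻¹ * (Nat.card D.N : ℂ) * D.Jsum ω ω' := by
  rw [zeta, zeta, classInner_smul_left, classInner_smul_right, classInner_sum_left]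
  have h : ∀ x : D.N, classInner (D.cj x ω) (∑ y : D.N, D.cj y ω') = D.Jsum ω ω' := by
    intro x
    rw [classInner_sum_right, Jsum]
    have : ∀ y : D.N, classInner (D.cj x ω) (D.cj y ω') = classInner ω (D.cj (x⁻¹ * y) ω') := by
      intro y
      rw [D.classInner_cj_left, ← cj_mul]
    simp only [this]
    exact Fintype.sum_equiv (Equiv.mulLeft x⁻¹) _ _ (fun y => rfl)
  simp only [h, Finset.sum_const, Finset.card_univ, nsmul_eq_mul, Nat.card_eq_fintype_card]
  rw [map_inv₀, Complex.conj_natCast]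
  ring

omit [Fintype G] in
/-- inner product of an `N`-invariant function with an orbit sum -/
theorem classInner_inv_zeta {f : D.C → ℂ} (hf : ∀ x : D.N, D.cj x f = f) (ω : D.C → ℂ) :
    classInner f (D.zeta ω) =
      (Nat.card D.C : ℂ)⁻¹ * (Nat.card D.N : ℂ) * classInner f ω := by
  rw [zeta, classInner_smul_right, classInner_sum_right]
  have : ∀ x : D.N, classInner f (D.cj x ω) = classInner f ω := by
    intro x
    conv_lhs => rw [← hf x]
    exact D.classInner_cj_cj x f ω
  simp only [this, Finset.sum_const, Finset.card_univ, nsmul_eq_mul, Nat.card_eq_fintype_card]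
  rw [map_inv₀, Complex.conj_natCast]
  ring

omit [Fintype G] in
theorem classInner_zeta_inv {f : D.C → ℂ} (hf : ∀ x : D.N, D.cj x f = f) (ω : D.C → ℂ) :
    classInner (D.zeta ω) f =
      (Nat.card D.C : ℂ)⁻¹ * (Nat.card D.N : ℂ) * classInner ω f := by
  rw [← classInner_conj_symm, D.classInner_inv_zeta hf, map_mul, map_mul, classInner_conj_symm,
    map_inv₀, Complex.conj_natCast, Complex.conj_natCast]

omit [Fintype G] [Fintype D.C] in
theorem zeta_sub (ω ω' : D.C → ℂ) : D.zeta (ω - ω') = D.zeta ω - D.zeta ω' := by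
  rw [zeta, zeta, zeta, ← smul_sub, ← Finset.sum_sub_distrib]
  rfl

/-- the value on `C ∖ V` of a function induced from `C` -/
theorem indFun_eq_zeta (β : D.C → ℂ) (c : D.C) (hc : (c : G) ∉ D.V) :
    indFun D.C β (c : G) = D.zeta β c := by
  rw [D.indFun_apply_of_not_mem_V β c hc, zeta, Pi.smul_apply, Finset.sum_apply, smul_eq_mul]

/-- inner products of induced differences of irreducible characters -/
theorem classInner_ind_sub_sub (ω₁ ω₂ ω₃ ω₄ : D.C → ℂ)
    (h12 : ∀ c : D.C, (c : G) ∈ D.V → ω₁ c = ω₂ c) :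
    classInner (indFun D.C (ω₁ - ω₂)) (indFun D.C (ω₃ - ω₄)) =
      (Nat.card D.C : ℂ)⁻¹ * (D.Jsum ω₁ ω₃ - D.Jsum ω₁ ω₄ - D.Jsum ω₂ ω₃ + D.Jsum ω₂ ω₄) := by
  rw [D.classInner_indFun_indFun]
  · congr 1
    simp only [Jsum, cj_sub, classInner_sub_left, classInner_sub_right, Finset.sum_sub_distrib]
    ring
  · intro c hc
    rw [Pi.sub_apply, h12 c hc, sub_self]

/-- Frobenius reciprocity for a class function of `G` and a function induced from `C` -/
theorem classInner_indFun_left (α : D.C → ℂ) {η : G → ℂ} (hη : IsClassFunction G η) :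
    classInner (indFun D.C α) η = classInner α (fun c : D.C => η c) :=
  Cfsg.Agent.Lib.Helper04.frobenius_reciprocity D.C α η hη

theorem classInner_indFun_right (α : D.C → ℂ) {η : G → ℂ} (hη : IsClassFunction G η) :
    classInner η (indFun D.C α) = classInner (fun c : D.C => η c) α := by
  rw [← classInner_conj_symm, D.classInner_indFun_left α hη, classInner_conj_symm]

end BLData

end Cfsg.Agent.Lib.Helper79
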