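import Mathlib
import Cfsg.Agent.Lib.Helper79.BLZeta
import Cfsg.Agent.Lib.Helper05.CharBasic

/-!
# Brauer–Leonard configuration: restriction of a small character to `C` (helper79)
-/

set_option autoImplicit false

namespace Cfsg.Agent.Lib.Helper79

open scoped ComplexConjugate
open Cfsg Cfsg.Agent.Lib.Helper34

variable {G : Type*} [Group G] (D : BLData G)

namespace BLData

variable [Fintype G] [Fintype D.C] [Fintype D.N]

omit [Fintype G] [Fintype D.N] in
/-- a character whose `C`-constituents all have trivial central character on `Q` has `Q` in its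
kernel -/
theorem apply_incl_of_cc_eq_one [Finite G] {θ : D.C → ℂ} (hθ : IsCharacter D.C θ)
    (h : ∀ ψ : D.C → ℂ, IsIrrCharacter D.C ψ → classInner θ ψ ≠ 0 → D.cc ψ = 1) (π : D.Q)
    (c : D.C) : θ (D.incl π * c) = θ c := by
  classical
  haveI := Cfsg.Agent.Lib.Helper05.finite_irrCharacter (G := D.C)
  haveI : Fintype (IrrCharacter D.C) := Fintype.ofFinite _
  have hexp := Cfsg.Agent.Lib.Helper05.eq_sum_classInner_smul hθ
  have h1 : ∀ g : D.C, θ g = ∑ ψ : IrrCharacter D.C, classInner θ (ψ : D.C → ℂ) * (ψ : D.C → ℂ) g := by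
    intro g
    conv_lhs => rw [hexp]
    rw [Finset.sum_apply]
    rfl
  rw [h1 (D.incl π * c), h1 c]
  apply Finset.sum_congr rfl
  intro ψ _
  by_cases h0 : classInner θ (ψ : D.C → ℂ) = 0
  · rw [h0, zero_mul, zero_mul]
  · rw [D.cc_spec ψ.2, h _ ψ.2 h0, MonoidHom.one_apply, Units.val_one, one_mul]

omit [Fintype D.N] in
theorem exists_constituent_cc_ne_one {χ : G → ℂ} (hχ : IsCharacter G χ)
    (hnt : ∃ π ∈ D.Q, χ π ≠ χ 1) :
    ∃ ψ : D.C → ℂ, IsIrrCharacter D.C ψ ∧ classInner (fun c : D.C => χ c) ψ ≠ 0 ∧ D.cc ψ ≠ 1 := by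
  by_contra hcon
  push_neg at hcon
  obtain ⟨π, hπ, hne⟩ := hnt
  apply hne
  have hθ := Cfsg.Agent.Lib.Helper05.isCharacter_restrict D.C hχ
  have := D.apply_incl_of_cc_eq_one hθ (fun ψ hψ h0 => hcon ψ hψ h0) ⟨π, hπ⟩ 1
  simpa using this

/-- **Step 1**: if `‖χ_C‖² ≤ e = |N : C|` and `Q` is not in the kernel of `χ`, then `χ_C` is the
orbit sum of an irreducible character `ψ` of `C` with nontrivial central character -/
theorem restrict_eq_zeta {χ : G → ℂ} (hχ : IsCharacter G χ) (hnt : ∃ π ∈ D.Q, χ π ≠ χ 1)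
    (e : ℕ) (he : Nat.card D.N = e * Nat.card D.C)
    (hnorm : (classInner (fun c : D.C => χ c) (fun c : D.C => χ c)).re ≤ e) :
    ∃ ψ : D.C → ℂ, IsIrrCharacter D.C ψ ∧ D.cc ψ ≠ 1 ∧ (fun c : D.C => χ c) = D.zeta ψ := by
  obtain ⟨ψ, hψ, hne, hcc⟩ := D.exists_constituent_cc_ne_one hχ hnt
  refine ⟨ψ, hψ, hcc, ?_⟩
  set θ : D.C → ℂ := fun c : D.C => χ c with hθdef
  have hθ : IsCharacter D.C θ := Cfsg.Agent.Lib.Helper05.isCharacter_restrict D.C hχ
  obtain ⟨m, hm⟩ := Cfsg.Agent.Lib.Helper05.exists_nat_classInner hθ hψ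
  have hm1 : 1 ≤ m := by
    rcases Nat.eq_zero_or_pos m with h0 | h0
    · rw [h0, Nat.cast_zero] at hm
      exact absurd hm hne
    · exact h0
  have hinv : ∀ x : D.N, D.cj x θ = θ :=
    fun x => D.cj_restrict (Cfsg.Agent.Lib.Helper04.isClassFunction_of_isCharacter hχ) x
  have hC0 : (Nat.card D.C : ℂ) ≠ 0 := by
    have : 0 < Nat.card D.C := Nat.card_pos
    exact_mod_cast this.ne'
  have heC : (Nat.card D.C : ℂ)⁻¹ * (Nat.card D.N : ℂ) = e := by
    rw [he]; push_cast; field_simp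
  have h1 : classInner θ (D.zeta ψ) = (e : ℂ) * m := by
    rw [D.classInner_inv_zeta hinv, heC, hm]
  have h2 : classInner (D.zeta ψ) θ = (e : ℂ) * m := by
    rw [← classInner_conj_symm, h1]
    simp
  have h3 : classInner (D.zeta ψ) (D.zeta ψ) = e := by
    rw [D.classInner_zeta_zeta, D.Jsum_self hψ hcc, ← heC]
    field_simp
  have h4 : (classInner (θ - D.zeta ψ) (θ - D.zeta ψ)).re ≤ 0 := by
    rw [classInner_sub_left, classInner_sub_right, classInner_sub_right, h1, h2, h3]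
    simp only [Complex.sub_re, Complex.mul_re, Complex.natCast_re, Complex.natCast_im, mul_zero,
      sub_zero]
    have hm' : (1 : ℝ) ≤ m := by exact_mod_cast hm1
    have he0 : (0 : ℝ) ≤ e := Nat.cast_nonneg e
    nlinarith
  have h5 : classInner (θ - D.zeta ψ) (θ - D.zeta ψ) = 0 := by
    apply Complex.ext
    · exact le_antisymm h4 (classInner_self_re_nonneg _)
    · exact classInner_self_im _
  have := (classInner_self_eq_zero _).mp h5
  exact sub_eq_zero.mp this

end BLData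

end Cfsg.Agent.Lib.Helper79
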