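import Mathlib
import Cfsg.Agent.Lib.Helper79.BLStep1
import Cfsg.Agent.Lib.Helper34.GenChar2

/-!
# Brauer–Leonard configuration: the `Q`-nontrivial part of the restriction to `C` (helper79)
-/

set_option autoImplicit false

namespace Cfsg.Agent.Lib.Helper79

open scoped ComplexConjugate
open Cfsg Cfsg.Agent.Lib.Helper34

variable {G : Type*} [Group G] (D : BLData G)

namespace BLData

variable [Fintype G] [Fintype D.C] [Fintype D.N]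

/-- the twist of `ω` with central character `κ` -/
noncomputable def twc (κ : D.Q →* ℂˣ) (ω : D.C → ℂ) : D.C → ℂ :=
  linFun (D.tw (κ * (D.cc ω)⁻¹)) * ω

omit [Fintype D.N] in
theorem twc_isIrr (κ : D.Q →* ℂˣ) {ω : D.C → ℂ} (hω : IsIrrCharacter D.C ω) :
    IsIrrCharacter D.C (D.twc κ ω) := (D.cc_linFun_mul _ hω).1

omit [Fintype D.N] in
theorem cc_twc (κ : D.Q →* ℂˣ) {ω : D.C → ℂ} (hω : IsIrrCharacter D.C ω) :
    D.cc (D.twc κ ω) = κ := by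
  rw [twc, (D.cc_linFun_mul _ hω).2]
  have : (D.tw (κ * (D.cc ω)⁻¹)).comp D.incl = κ * (D.cc ω)⁻¹ := by
    apply MonoidHom.ext
    intro π
    rw [MonoidHom.comp_apply, tw_incl]
  rw [this]
  apply MonoidHom.ext
  intro π
  simp

omit [Fintype G] [Fintype D.N] in
theorem twc_apply_of_mem_V (κ : D.Q →* ℂˣ) (ω : D.C → ℂ) (c : D.C) (hc : (c : G) ∈ D.V) :
    D.twc κ ω c = ω c := by
  rw [twc, Pi.mul_apply, linFun_apply, D.tw_of_mem_V _ c hc, Units.val_one, one_mul]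

omit [Fintype G] [Fintype D.N] in
theorem twc_apply_one (κ : D.Q →* ℂˣ) (ω : D.C → ℂ) : D.twc κ ω 1 = ω 1 :=
  D.twc_apply_of_mem_V κ ω 1 D.V.one_mem

theorem Jsum_eq_zero' {ω ω' : D.C → ℂ} (hω : IsIrrCharacter D.C ω) (hω' : IsIrrCharacter D.C ω')
    (h : ∀ x : D.N, ω ≠ D.cj x ω') : D.Jsum ω ω' = 0 := by
  apply Finset.sum_eq_zero
  intro x _
  exact Cfsg.Agent.Lib.Helper05.classInner_irr_ne hω (D.cj_isIrr x hω') (h x)

/-- the hypotheses on the support set -/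
structure Supp (η : G → ℂ) (Dset : Set (D.Q →* ℂˣ)) : Prop where
  hη : IsIrrCharacter G η
  hDN : ∀ (x : D.N) (κ : D.Q →* ℂˣ), κ ∈ Dset → D.cjK x κ ∈ Dset
  hD1 : (1 : D.Q →* ℂˣ) ∈ Dset
  hsupp : ∀ ω : D.C → ℂ, IsIrrCharacter D.C ω →
    classInner (fun c : D.C => η c) ω ≠ 0 → D.cc ω ∈ Dset

variable {D}

theorem Supp.not_mem_of_cjK {η : G → ℂ} {Dset : Set (D.Q →* ℂˣ)} (S : D.Supp η Dset)
    {κ : D.Q →* ℂˣ} (hκ : κ ∉ Dset) (x : D.N) : D.cjK x κ ∉ Dset := by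
  intro h
  apply hκ
  have := S.hDN x⁻¹ _ h
  rwa [D.cjK_inv_cjK] at this

/-- **Step 3a** -/
theorem Supp.exists_irr_sub {η : G → ℂ} {Dset : Set (D.Q →* ℂˣ)} (S : D.Supp η Dset)
    {ω : D.C → ℂ} (hω : IsIrrCharacter D.C ω) (hcc : D.cc ω ≠ 1)
    (hm : classInner (fun c : D.C => η c) ω ≠ 0) {κ : D.Q →* ℂˣ} (hκ : κ ∉ Dset) :
    classInner (fun c : D.C => η c) ω = 1 ∧
      ∃ Y : G → ℂ, IsIrrCharacter G Y ∧ Y ≠ η ∧ indFun D.C (ω - D.twc κ ω) = η - Y := by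
  classical
  have hω' := D.twc_isIrr κ hω
  have hcc' := D.cc_twc κ hω
  have hκ1 : κ ≠ 1 := fun h => hκ (h ▸ S.hD1)
  have hC0 : (Nat.card D.C : ℂ) ≠ 0 := by
    have : 0 < Nat.card D.C := Nat.card_pos
    exact_mod_cast this.ne'
  have hωD : D.cc ω ∈ Dset := S.hsupp ω hω hm
  set A := indFun D.C (ω - D.twc κ ω) with hA
  -- norm
  have hJ1 : D.Jsum ω (D.twc κ ω) = 0 := by
    apply D.Jsum_eq_zero hω hω'
    intro x h
    rw [hcc'] at h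
    exact S.not_mem_of_cjK hκ x (h ▸ hωD)
  have hJ2 : D.Jsum (D.twc κ ω) ω = 0 := by
    apply D.Jsum_eq_zero hω' hω
    intro x h
    rw [hcc'] at h
    exact hκ (h ▸ S.hDN x _ hωD)
  have hnorm : classInner A A = 2 := by
    rw [hA, D.classInner_ind_sub_sub _ _ _ _ (fun c hc => (D.twc_apply_of_mem_V κ ω c hc).symm),
      D.Jsum_self hω hcc, hJ1, hJ2, D.Jsum_self hω' (by rw [hcc']; exact hκ1)]
    field_simp
    ring
  have hgen : IsGeneralizedCharacter G A := by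
    apply isGeneralizedCharacter_indFun
    exact isGeneralizedCharacter_sub (isGeneralizedCharacter_of_irr hω)
      (isGeneralizedCharacter_of_irr hω')
  have hA1 : A 1 = 0 := by
    rw [hA, D.indFun_apply_one, Pi.sub_apply, D.twc_apply_one, sub_self, mul_zero]
  obtain ⟨Y₁, Y₂, hY₁, hY₂, hne, hAY⟩ := exists_sub_irr_of_norm_two hgen hnorm hA1
  -- inner product with η
  have hηcl := Cfsg.Agent.Lib.Helper04.isClassFunction_of_isIrrCharacter S.hη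
  have hθ : IsCharacter D.C (fun c : D.C => η c) :=
    Cfsg.Agent.Lib.Helper05.isCharacter_restrict D.C (Cfsg.Agent.Lib.Helper83.isCharacter_of_irr S.hη)
  obtain ⟨m, hmn⟩ := Cfsg.Agent.Lib.Helper05.exists_nat_classInner hθ hω
  have hm0 : m ≠ 0 := by
    intro h0
    rw [h0, Nat.cast_zero] at hmn
    exact hm hmn
  have h0' : classInner (fun c : D.C => η c) (D.twc κ ω) = 0 := by
    by_contra h
    have := S.hsupp _ hω' h
    rw [hcc'] at this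
    exact hκ this
  have hAη : classInner A η = m := by
    rw [hA, D.classInner_indFun_left _ hηcl, classInner_sub_left, ← classInner_conj_symm _ ω,
      ← classInner_conj_symm _ (D.twc κ ω), hmn, h0']
    simp
  rw [hAY, classInner_sub_left, Cfsg.Agent.Lib.Helper05.classInner_irr hY₁ S.hη,
    Cfsg.Agent.Lib.Helper05.classInner_irr hY₂ S.hη] at hAη
  by_cases h1 : Y₁ = η
  · have h2 : Y₂ ≠ η := fun h => hne (h1.trans h.symm)
    rw [if_pos h1, if_neg h2, sub_zero] at hAη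
    have hm1 : m = 1 := by exact_mod_cast hAη.symm
    refine ⟨by rw [hmn, hm1, Nat.cast_one], Y₂, hY₂, h2, ?_⟩
    rw [hAY, h1]
  · exfalso
    rw [if_neg h1] at hAη
    by_cases h2 : Y₂ = η
    · rw [if_pos h2] at hAη
      have : ((m : ℤ) : ℂ) = ((-1 : ℤ) : ℂ) := by push_cast; rw [← hAη]; ring
      have := Int.cast_injective this
      omega
    · rw [if_neg h2, sub_zero] at hAη
      have : (m : ℂ) = 0 := hAη.symm
      exact hm0 (by exact_mod_cast this)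

/-- **Step 3b**: two `Q`-nontrivial constituents of `η_C` are `N`-conjugate -/
theorem Supp.exists_conj {η : G → ℂ} {Dset : Set (D.Q →* ℂˣ)} (S : D.Supp η Dset)
    (hroom : ∀ κ' : D.Q →* ℂˣ, ∃ κ, κ ∉ Dset ∧ ∀ x : D.N, D.cjK x κ' ≠ κ)
    {ω₁ ω₂ : D.C → ℂ} (hω₁ : IsIrrCharacter D.C ω₁) (hω₂ : IsIrrCharacter D.C ω₂)
    (hcc₁ : D.cc ω₁ ≠ 1) (hcc₂ : D.cc ω₂ ≠ 1)
    (hm₁ : classInner (fun c : D.C => η c) ω₁ ≠ 0)
    (hm₂ : classInner (fun c : D.C => η c) ω₂ ≠ 0) : ∃ x : D.N, ω₁ = D.cj x ω₂ := by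
  classical
  by_contra hno
  push Not at hno
  obtain ⟨κ₂, hκ₂, -⟩ := hroom 1
  obtain ⟨κ₁, hκ₁, hκ₁₂⟩ := hroom κ₂
  obtain ⟨-, Y₁, hY₁, hY₁η, hA₁⟩ := S.exists_irr_sub hω₁ hcc₁ hm₁ hκ₁
  obtain ⟨-, Y₂, hY₂, hY₂η, hA₂⟩ := S.exists_irr_sub hω₂ hcc₂ hm₂ hκ₂
  have hω₁' := D.twc_isIrr κ₁ hω₁
  have hω₂' := D.twc_isIrr κ₂ hω₂
  have hωD₁ : D.cc ω₁ ∈ Dset := S.hsupp ω₁ hω₁ hm₁
  have hωD₂ : D.cc ω₂ ∈ Dset := S.hsupp ω₂ hω₂ hm₂
  have h := D.classInner_ind_sub_sub ω₁ (D.twc κ₁ ω₁) ω₂ (D.twc κ₂ ω₂)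
    (fun c hc => (D.twc_apply_of_mem_V κ₁ ω₁ c hc).symm)
  have hJa : D.Jsum ω₁ ω₂ = 0 := D.Jsum_eq_zero' hω₁ hω₂ hno
  have hJb : D.Jsum ω₁ (D.twc κ₂ ω₂) = 0 := by
    apply D.Jsum_eq_zero hω₁ hω₂'
    intro x hx
    rw [D.cc_twc κ₂ hω₂] at hx
    exact S.not_mem_of_cjK hκ₂ x (hx ▸ hωD₁)
  have hJc : D.Jsum (D.twc κ₁ ω₁) ω₂ = 0 := by
    apply D.Jsum_eq_zero hω₁' hω₂
    intro x hx
    rw [D.cc_twc κ₁ hω₁] at hx
    exact hκ₁ (hx ▸ S.hDN x _ hωD₂)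
  have hJd : D.Jsum (D.twc κ₁ ω₁) (D.twc κ₂ ω₂) = 0 := by
    apply D.Jsum_eq_zero hω₁' hω₂'
    intro x hx
    rw [D.cc_twc κ₁ hω₁, D.cc_twc κ₂ hω₂] at hx
    exact hκ₁₂ x hx
  rw [hJa, hJb, hJc, hJd, hA₁, hA₂, classInner_sub_left, classInner_sub_right,
    classInner_sub_right, Cfsg.Agent.Lib.Helper05.classInner_irr_self S.hη,
    Cfsg.Agent.Lib.Helper05.classInner_irr_ne S.hη hY₂ (Ne.symm hY₂η),
    Cfsg.Agent.Lib.Helper05.classInner_irr_ne hY₁ S.hη hY₁η,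
    Cfsg.Agent.Lib.Helper05.classInner_irr hY₁ hY₂] at h
  by_cases hYY : Y₁ = Y₂
  · rw [if_pos hYY] at h
    norm_num at h
  · rw [if_neg hYY] at h
    norm_num at h

end BLData

end Cfsg.Agent.Lib.Helper79
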