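import Mathlib
import Cfsg.Agent.Lib.Helper79.BLStep3
import Cfsg.Agent.Lib.Helper79.BLProd

/-!
# Brauer–Leonard configuration: the `Q`-trivial part of the restriction to `C` (helper79)
-/

set_option autoImplicit false

namespace Cfsg.Agent.Lib.Helper79

open scoped ComplexConjugate
open Cfsg Cfsg.Agent.Lib.Helper34

variable {G : Type*} [Group G] (D : BLData G)

namespace BLData

variable [Fintype G] [Fintype D.C] [Fintype D.N]

omit [Fintype G] [Fintype D.N] in
/-- a class function whose irreducible constituents all have trivial central character on `Q`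
is `Q`-invariant -/
theorem classFun_apply_incl [Finite G] {θ : D.C → ℂ} (hθ : IsClassFunction D.C θ)
    (h : ∀ ψ : D.C → ℂ, IsIrrCharacter D.C ψ → classInner θ ψ ≠ 0 → D.cc ψ = 1) (π : D.Q)
    (c : D.C) : θ (D.incl π * c) = θ c := by
  classical
  haveI := Cfsg.Agent.Lib.Helper05.finite_irrCharacter (G := D.C)
  haveI : Fintype (IrrCharacter D.C) := Fintype.ofFinite _
  have hexp := Cfsg.Agent.Lib.Helper04.classFunction_expansion θ hθ
  have h1 : ∀ g : D.C, θ g = ∑ ψ : IrrCharacter D.C, classInner θ (ψ : D.C → ℂ) * (ψ : D.C → ℂ) g := by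
    intro g
    conv_lhs => rw [hexp]
    rw [Finset.sum_apply]
    rfl
  rw [h1 (D.incl π * c), h1 c]
  apply Finset.sum_congr rfl
  intro ψ _
  by_cases h0 : classInner θ (ψ : D.C → ℂ) = 0
  · rw [h0, zero_mul, zero_mul]
  · rw [D.cc_spec ψ.2, h _ ψ.2 h0, MonoidHom.one_apply, Units.val_one, one_mul]

omit [Fintype G] [Fintype D.C] in
theorem zeta_isClassFunction {ω : D.C → ℂ} (hω : IsClassFunction D.C ω) :
    IsClassFunction D.C (D.zeta ω) := by
  rw [zeta]
  apply Cfsg.Agent.Lib.Helper04.IsClassFunction.smul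
  apply Cfsg.Agent.Lib.Helper04.IsClassFunction.sum
  intro x _
  exact D.cj_isClassFunction hω x

omit [Fintype G] in
theorem classInner_zeta_left (ψ ω : D.C → ℂ) :
    classInner (D.zeta ψ) ω = (Nat.card D.C : ℂ)⁻¹ * conj (D.Jsum ω ψ) := by
  rw [zeta, classInner_smul_left, classInner_sum_left, Jsum, map_sum]
  congr 1
  apply Finset.sum_congr rfl
  intro x _
  rw [classInner_conj_symm]

omit [Fintype G] in
theorem Jsum_cj_left (x₀ : D.N) (ω ψ : D.C → ℂ) : D.Jsum (D.cj x₀ ω) ψ = D.Jsum ω ψ := by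
  rw [Jsum, Jsum]
  have : ∀ x : D.N, classInner (D.cj x₀ ω) (D.cj x ψ) = classInner ω (D.cj (x₀⁻¹ * x) ψ) := by
    intro x
    rw [D.classInner_cj_left, ← cj_mul]
  simp only [this]
  exact Fintype.sum_equiv (Equiv.mulLeft x₀⁻¹) _ _ (fun y => rfl)

/-- `Q`-triviality of an orbit sum of a character with trivial central character -/
theorem zeta_apply_incl {ω : D.C → ℂ} (hω : IsIrrCharacter D.C ω) (hcc : D.cc ω = 1) (π : D.Q)
    (c : D.C) : D.zeta ω (D.incl π * c) = D.zeta ω c := by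
  rw [zeta, Pi.smul_apply, Pi.smul_apply, Finset.sum_apply, Finset.sum_apply]
  congr 1
  apply Finset.sum_congr rfl
  intro x _
  rw [D.cc_spec (D.cj_isIrr x hω), D.cc_cj x hω, hcc, cjK_one_char, MonoidHom.one_apply,
    Units.val_one, one_mul]

variable {D}

section Theta

variable {η : G → ℂ} {Dset : Set (D.Q →* ℂˣ)} (S : D.Supp η Dset)
  (hroom : ∀ κ' : D.Q →* ℂˣ, ∃ κ, κ ∉ Dset ∧ ∀ x : D.N, D.cjK x κ' ≠ κ)
  {ψ' : D.C → ℂ} (hψ' : IsIrrCharacter D.C ψ') (hcc : D.cc ψ' ≠ 1)
  (hm : classInner (fun c : D.C => η c) ψ' ≠ 0)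

include S in
theorem Supp.cj_restrict (x : D.N) : D.cj x (fun c : D.C => η c) = fun c : D.C => η c :=
  D.cj_restrict (Cfsg.Agent.Lib.Helper04.isClassFunction_of_isIrrCharacter S.hη) x

include S hroom hψ' hcc hm in
/-- the `Q`-nontrivial constituents cancel in `η_C - ζ_{ψ'}` -/
theorem Supp.theta_inner_of_cc_ne {ω : D.C → ℂ} (hω : IsIrrCharacter D.C ω) (hω1 : D.cc ω ≠ 1) :
    classInner ((fun c : D.C => η c) - D.zeta ψ') ω = 0 := by
  have hC0 : (Nat.card D.C : ℂ) ≠ 0 := by
    have : 0 < Nat.card D.C := Nat.card_pos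
    exact_mod_cast this.ne'
  rw [classInner_sub_left, D.classInner_zeta_left]
  by_cases hex : ∃ x : D.N, ω = D.cj x ψ'
  · obtain ⟨x₀, rfl⟩ := hex
    have h1 : classInner (fun c : D.C => η c) (D.cj x₀ ψ') = 1 := by
      have := D.classInner_cj_cj x₀ (fun c : D.C => η c) ψ'
      rw [S.cj_restrict] at this
      rw [this]
      exact (S.exists_irr_sub hψ' hcc hm (hroom 1).choose_spec.1).1
    rw [h1, D.Jsum_cj_left, D.Jsum_self hψ' hcc]
    simp [hC0]
  · push Not at hex
    have h1 : classInner (fun c : D.C => η c) ω = 0 := by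
      by_contra hne
      obtain ⟨x, hx⟩ := S.exists_conj hroom hω hψ' hω1 hcc hne hm
      exact hex x hx
    rw [h1, D.Jsum_eq_zero' hω hψ' hex]
    simp

include hψ' hcc in
omit [Fintype G] in
theorem theta_inner_of_cc_eq (f : D.C → ℂ) {ω : D.C → ℂ} (hω : IsIrrCharacter D.C ω)
    (hω1 : D.cc ω = 1) [Finite G] :
    classInner (f - D.zeta ψ') ω = classInner f ω := by
  haveI := Fintype.ofFinite G
  rw [classInner_sub_left, D.classInner_zeta_left, D.Jsum_eq_zero hω hψ']
  · simp
  · intro x h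
    rw [hω1] at h
    apply hcc
    have := congrArg (D.cjK x⁻¹) h
    rwa [D.cjK_inv_cjK, cjK_one_char] at this

include S hroom hψ' hcc hm in
/-- `η_C - ζ_{ψ'}` is `Q`-invariant -/
theorem Supp.theta_apply_incl (π : D.Q) (c : D.C) :
    ((fun c : D.C => η c) - D.zeta ψ') (D.incl π * c) = ((fun c : D.C => η c) - D.zeta ψ') c := by
  apply D.classFun_apply_incl
  · apply Cfsg.Agent.Lib.Helper04.IsClassFunction.sub
    · intro g h
      exact Cfsg.Agent.Lib.Helper04.isClassFunction_of_isIrrCharacter S.hη g h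
    · exact D.zeta_isClassFunction (Cfsg.Agent.Lib.Helper04.isClassFunction_of_isIrrCharacter hψ')
  · intro ω hω hne
    by_contra h1
    exact hne (S.theta_inner_of_cc_ne hroom hψ' hcc hm hω h1)

end Theta

end BLData

end Cfsg.Agent.Lib.Helper79
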