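import Mathlib
import Cfsg.Agent.Lib.Helper79.BLStep4a

/-!
# Brauer–Leonard configuration: the norm inequality (helper79)
-/

set_option autoImplicit false

namespace Cfsg.Agent.Lib.Helper79

open scoped ComplexConjugate
open Cfsg Cfsg.Agent.Lib.Helper34

variable {G : Type*} [Group G] {D : BLData G}

namespace BLData

variable [Fintype G] [Fintype D.C] [Fintype D.N]

omit [Fintype G] [Fintype D.C] [Fintype D.N] in
theorem cjE_mem_V_iff (x : D.N) (c : D.C) : ((D.cjE x c : D.C) : G) ∈ D.V ↔ (c : G) ∈ D.V := by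
  constructor
  · intro h
    have h1 := D.hVconj _ h (x : G)⁻¹ (by
      rw [cjE_coe]
      simpa [mul_assoc] using c.2)
    rw [cjE_coe] at h1
    simpa [mul_assoc] using h1
  · intro h
    exact D.hVconj _ h x (D.cjE x c).2

section Theta

variable {η : G → ℂ} {Dset : Set (D.Q →* ℂˣ)} (S : D.Supp η Dset)
  (hroom : ∀ κ' : D.Q →* ℂˣ, ∃ κ, κ ∉ Dset ∧ ∀ x : D.N, D.cjK x κ' ≠ κ)
  {ψ' : D.C → ℂ} (hψ' : IsIrrCharacter D.C ψ') (hcc : D.cc ψ' ≠ 1)
  (hm : classInner (fun c : D.C => η c) ψ' ≠ 0)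

/-- the `Q`-trivial part -/
noncomputable def vth (η : G → ℂ) (ψ' : D.C → ℂ) : D.C → ℂ := (fun c : D.C => η c) - D.zeta ψ'

/-- the `Q`-trivial function agreeing with `η - B` on `C ∖ V` -/
noncomputable def Th (η : G → ℂ) (ψ' : D.C → ℂ) : D.C → ℂ := D.zeta (D.twc 1 ψ') + vth η ψ'

open Classical in
/-- `Th` cut off on `V` -/
noncomputable def ThS (η : G → ℂ) (ψ' : D.C → ℂ) : D.C → ℂ :=
  fun c => if (c : G) ∈ D.V then 0 else Th η ψ' c

/-- the generalized character `η - Ind(ψ' - ψ'₀)` -/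
noncomputable def Xi (η : G → ℂ) (ψ' : D.C → ℂ) : G → ℂ := η - indFun D.C (ψ' - D.twc 1 ψ')

include S hroom hψ' hcc hm in
theorem Supp.Th_apply_incl (π : D.Q) (c : D.C) : Th η ψ' (D.incl π * c) = Th η ψ' c := by
  rw [Th, Pi.add_apply, Pi.add_apply,
    D.zeta_apply_incl (D.twc_isIrr 1 hψ') (D.cc_twc 1 hψ'), vth,
    S.theta_apply_incl hroom hψ' hcc hm]

include S in
theorem Supp.cj_Th (x : D.N) : D.cj x (Th η ψ') = Th η ψ' := by
  rw [Th, cj_add, cj_zeta, vth, cj_sub, cj_zeta, S.cj_restrict]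

include S in
theorem Supp.cj_ThS (x : D.N) : D.cj x (ThS η ψ') = ThS η ψ' := by
  classical
  funext c
  rw [cj_apply, ThS, ThS]
  rw [if_congr (D.cjE_mem_V_iff x c) rfl rfl]
  congr 1
  have := congrFun (S.cj_Th (ψ' := ψ') x) c
  rwa [cj_apply] at this

theorem Xi_apply_of_not_mem_V (η : G → ℂ) (ψ' : D.C → ℂ) (c : D.C) (hc : (c : G) ∉ D.V) :
    Xi η ψ' (c : G) = Th η ψ' c := by
  rw [Xi, Pi.sub_apply, D.indFun_eq_zeta _ c hc, zeta_sub, Th, vth]
  simp only [Pi.sub_apply, Pi.add_apply]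
  ring

include S in
theorem Supp.Xi_isClassFunction : IsClassFunction G (Xi η ψ') := by
  apply Cfsg.Agent.Lib.Helper04.IsClassFunction.sub
  · exact Cfsg.Agent.Lib.Helper04.isClassFunction_of_isIrrCharacter S.hη
  · exact Cfsg.Agent.Lib.Helper04.indFun_isClassFunction _ _

include S in
theorem Supp.inner_gamma_Xi :
    classInner (indFun D.C (ThS η ψ')) (Xi η ψ') = classInner (ThS η ψ') (ThS η ψ') := by
  classical
  rw [D.classInner_indFun_left _ (S.Xi_isClassFunction (ψ' := ψ')), classInner, classInner]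
  congr 1
  apply Finset.sum_congr rfl
  intro c _
  by_cases hc : (c : G) ∈ D.V
  · simp only [ThS, if_pos hc, zero_mul]
  · rw [Xi_apply_of_not_mem_V η ψ' c hc]
    simp only [ThS, if_neg hc]

include S in
theorem Supp.inner_gamma_gamma :
    classInner (indFun D.C (ThS η ψ')) (indFun D.C (ThS η ψ')) =
      (Nat.card D.C : ℂ)⁻¹ * (Nat.card D.N : ℂ) * classInner (ThS η ψ') (ThS η ψ') := by
  classical
  have hinv : ∀ x : D.N, D.cj x (ThS η ψ') = ThS η ψ' := fun x => S.cj_ThS x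
  rw [D.classInner_indFun_indFun]
  · simp only [hinv, Finset.sum_const, Finset.card_univ, nsmul_eq_mul,
      Nat.card_eq_fintype_card]
    ring
  · intro c hc
    simp only [ThS, if_pos hc]

include S hroom hψ' hcc hm in
theorem Supp.inner_ThS [Fintype D.Q] [Fintype D.V] :
    (Nat.card D.Q : ℂ) * classInner (ThS η ψ') (ThS η ψ') =
      ((Nat.card D.Q : ℂ) - 1) * classInner (Th η ψ') (Th η ψ') := by
  classical
  have h := D.sum_not_mem_V (fun c => Th η ψ' c * conj (Th η ψ' c)) (by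
    intro π c
    simp only [S.Th_apply_incl hroom hψ' hcc hm])
  have h1 : classInner (ThS η ψ') (ThS η ψ') =
      (Nat.card D.C : ℂ)⁻¹ * ∑ c : D.C, (if (c : G) ∈ D.V then 0 else Th η ψ' c * conj (Th η ψ' c)) := by
    rw [classInner]
    congr 1
    apply Finset.sum_congr rfl
    intro c _
    by_cases hc : (c : G) ∈ D.V
    · simp only [ThS, if_pos hc, zero_mul]
    · simp only [ThS, if_neg hc]
  rw [h1, classInner]
  calc (Nat.card D.Q : ℂ) * ((Nat.card D.C : ℂ)⁻¹ * ∑ c : D.C,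
        (if (c : G) ∈ D.V then 0 else Th η ψ' c * conj (Th η ψ' c)))
      = (Nat.card D.C : ℂ)⁻¹ * ((Nat.card D.Q : ℂ) * ∑ c : D.C,
        (if (c : G) ∈ D.V then 0 else Th η ψ' c * conj (Th η ψ' c))) := by ring
    _ = _ := by rw [h]; ring

end Theta

end BLData

end Cfsg.Agent.Lib.Helper79
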