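import Mathlib
import Cfsg.Agent.Lib.Helper79.BLStep4b

/-!
# Brauer–Leonard configuration: the norm inequality, conclusion (helper79)
-/

set_option autoImplicit false

namespace Cfsg.Agent.Lib.Helper79

open scoped ComplexConjugate
open Cfsg Cfsg.Agent.Lib.Helper34

variable {G : Type*} [Group G] {D : BLData G}

namespace BLData

variable [Fintype G] [Fintype D.C] [Fintype D.N]

section Theta

variable {η : G → ℂ} {Dset : Set (D.Q →* ℂˣ)} (S : D.Supp η Dset)
  (hroom : ∀ κ' : D.Q →* ℂˣ, ∃ κ, κ ∉ Dset ∧ ∀ x : D.N, D.cjK x κ' ≠ κ)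
  {ψ' : D.C → ℂ} (hψ' : IsIrrCharacter D.C ψ') (hcc : D.cc ψ' ≠ 1)
  (hm : classInner (fun c : D.C => η c) ψ' ≠ 0)

include S in
theorem Supp.cj_vth (x : D.N) : D.cj x (vth η ψ') = vth η ψ' := by
  rw [vth, cj_sub, cj_zeta, S.cj_restrict]

include hψ' hcc in
theorem Jsum_twc_one_right : D.Jsum ψ' (D.twc 1 ψ') = 0 := by
  apply D.Jsum_eq_zero hψ' (D.twc_isIrr 1 hψ')
  intro x h
  rw [D.cc_twc 1 hψ', cjK_one_char] at h
  exact hcc h.symm

include hψ' hcc in
theorem Jsum_twc_one_left : D.Jsum (D.twc 1 ψ') ψ' = 0 := by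
  apply D.Jsum_eq_zero (D.twc_isIrr 1 hψ') hψ'
  intro x h
  rw [D.cc_twc 1 hψ'] at h
  apply hcc
  have := congrArg (D.cjK x⁻¹) h
  rwa [D.cjK_inv_cjK, cjK_one_char] at this

include S hroom hψ' hcc hm in
theorem Supp.inner_Xi_Xi (a k : ℕ)
    (ha : classInner (fun c : D.C => η c) (D.twc 1 ψ') = a)
    (hk : D.Jsum (D.twc 1 ψ') (D.twc 1 ψ') = k) :
    classInner (Xi η ψ') (Xi η ψ') = 2 * (a : ℂ) + (k : ℂ) / (Nat.card D.C : ℂ) := by
  have hC0 : (Nat.card D.C : ℂ) ≠ 0 := by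
    have : 0 < Nat.card D.C := Nat.card_pos
    exact_mod_cast this.ne'
  have hηcl := Cfsg.Agent.Lib.Helper04.isClassFunction_of_isIrrCharacter S.hη
  have h1 : classInner (fun c : D.C => η c) ψ' = 1 :=
    (S.exists_irr_sub hψ' hcc hm (hroom 1).choose_spec.1).1
  have h2 : classInner η (indFun D.C (ψ' - D.twc 1 ψ')) = 1 - a := by
    rw [D.classInner_indFun_right _ hηcl, classInner_sub_right, h1, ha]
  have h3 : classInner (indFun D.C (ψ' - D.twc 1 ψ')) η = 1 - a := by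
    rw [← classInner_conj_symm, h2]
    simp
  have h4 : classInner (indFun D.C (ψ' - D.twc 1 ψ')) (indFun D.C (ψ' - D.twc 1 ψ')) =
      1 + (k : ℂ) / (Nat.card D.C : ℂ) := by
    rw [D.classInner_ind_sub_sub _ _ _ _ (fun c hc => (D.twc_apply_of_mem_V 1 ψ' c hc).symm),
      D.Jsum_self hψ' hcc, Jsum_twc_one_right hψ' hcc, Jsum_twc_one_left hψ' hcc, hk]
    field_simp
    ring
  rw [Xi, classInner_sub_left, classInner_sub_right, classInner_sub_right,
    Cfsg.Agent.Lib.Helper05.classInner_irr_self S.hη, h2, h3, h4]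
  ring

include S hψ' hcc in
theorem Supp.inner_Th_Th (a k : ℕ)
    (ha : classInner (fun c : D.C => η c) (D.twc 1 ψ') = a)
    (hk : D.Jsum (D.twc 1 ψ') (D.twc 1 ψ') = k) :
    classInner (Th η ψ') (Th η ψ') =
      (Nat.card D.C : ℂ)⁻¹ * (Nat.card D.C : ℂ)⁻¹ * (Nat.card D.N : ℂ) * k +
        2 * ((Nat.card D.C : ℂ)⁻¹ * (Nat.card D.N : ℂ) * a) +
        classInner (vth η ψ') (vth η ψ') := by
  have hinv : ∀ x : D.N, D.cj x (vth η ψ') = vth η ψ' := fun x => S.cj_vth x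
  have h1 : classInner (vth η ψ') (D.twc 1 ψ') = a := by
    rw [vth, theta_inner_of_cc_eq hψ' hcc _ (D.twc_isIrr 1 hψ') (D.cc_twc 1 hψ'), ha]
  have h2 : classInner (D.twc 1 ψ') (vth η ψ') = a := by
    rw [← classInner_conj_symm, h1]
    simp
  rw [Th, classInner_add_left, classInner_add_right, classInner_add_right,
    D.classInner_zeta_zeta, D.classInner_zeta_inv hinv, D.classInner_inv_zeta hinv, hk, h1, h2]
  ring

include S hroom hψ' hcc hm in
/-- **the norm inequality** -/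
theorem Supp.key_ineq [Fintype D.Q] [Fintype D.V] (e q a : ℕ)
    (he : Nat.card D.N = e * Nat.card D.C) (hq : Nat.card D.Q = q) (hq1 : 1 ≤ q)
    (ha : classInner (fun c : D.C => η c) (D.twc 1 ψ') = a) :
    ((q : ℝ) - 1) * (classInner (vth η ψ') (vth η ψ')).re ≤ (e : ℝ) ^ 2 + 2 * e * a := by
  obtain ⟨k, hkN, hk⟩ := D.Jsum_self_le (D.twc_isIrr 1 hψ')
  have hCpos : 0 < Nat.card D.C := Nat.card_pos
  have hC0 : (Nat.card D.C : ℂ) ≠ 0 := by exact_mod_cast hCpos.ne'
  have hCr : (0 : ℝ) < (Nat.card D.C : ℝ) := by exact_mod_cast hCpos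
  have he1 : 1 ≤ e := by
    rcases Nat.eq_zero_or_pos e with h0 | h0
    · rw [h0, zero_mul] at he
      have : 0 < Nat.card D.N := Nat.card_pos
      omega
    · exact h0
  have heC : (Nat.card D.C : ℂ)⁻¹ * (Nat.card D.N : ℂ) = e := by
    rw [he]; push_cast; field_simp
  -- real quantities
  set r : ℝ := (k : ℝ) / (Nat.card D.C : ℝ) with hr
  have hr0 : 0 ≤ r := by positivity
  have hre : r ≤ e := by
    rw [hr, div_le_iff₀ hCr]
    have : k ≤ e * Nat.card D.C := he ▸ hkN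
    exact_mod_cast this
  set W : ℝ := (classInner (ThS η ψ') (ThS η ψ')).re with hW
  set y : ℝ := (classInner (vth η ψ') (vth η ψ')).re with hy
  have hWc : classInner (ThS η ψ') (ThS η ψ') = (W : ℂ) := by
    apply Complex.ext
    · simp [hW]
    · simp [classInner_self_im]
  have hyc : classInner (vth η ψ') (vth η ψ') = (y : ℂ) := by
    apply Complex.ext
    · simp [hy]
    · simp [classInner_self_im]
  have hkc : (k : ℂ) / (Nat.card D.C : ℂ) = ((r : ℝ) : ℂ) := by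
    rw [hr]; push_cast; rfl
  -- the norms
  have hXi : classInner (Xi η ψ') (Xi η ψ') = ((2 * a + r : ℝ) : ℂ) := by
    rw [S.inner_Xi_Xi hroom hψ' hcc hm a k ha hk, hkc]
    push_cast
    ring
  have hTh : classInner (Th η ψ') (Th η ψ') = ((e * r + 2 * (e * a) + y : ℝ) : ℂ) := by
    rw [S.inner_Th_Th hψ' hcc a k ha hk, hyc]
    have : (Nat.card D.C : ℂ)⁻¹ * (Nat.card D.C : ℂ)⁻¹ * (Nat.card D.N : ℂ) * k =
        (e : ℂ) * ((k : ℂ) / (Nat.card D.C : ℂ)) := by
      rw [← heC]; field_simp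
    rw [this, heC, hkc]
    push_cast
    ring
  have hgg : classInner (indFun D.C (ThS η ψ')) (indFun D.C (ThS η ψ')) = ((e * W : ℝ) : ℂ) := by
    rw [S.inner_gamma_gamma, heC, hWc]
    push_cast
    ring
  have hgX : classInner (indFun D.C (ThS η ψ')) (Xi η ψ') = (W : ℂ) := by
    rw [S.inner_gamma_Xi, hWc]
  have hXg : classInner (Xi η ψ') (indFun D.C (ThS η ψ')) = (W : ℂ) := by
    rw [← classInner_conj_symm, hgX, Complex.conj_ofReal]
  have hqW : (q : ℝ) * W = ((q : ℝ) - 1) * (e * r + 2 * (e * a) + y) := by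
    have h := S.inner_ThS hroom hψ' hcc hm
    rw [hWc, hTh, hq] at h
    exact_mod_cast h
  -- positivity of a norm
  have hpos := classInner_self_re_nonneg ((e : ℂ) • Xi η ψ' - indFun D.C (ThS η ψ'))
  rw [classInner_sub_left, classInner_sub_right, classInner_sub_right, classInner_smul_left,
    classInner_smul_left, classInner_smul_right, classInner_smul_right, hXi, hgg, hgX, hXg] at hpos
  have hpos' : 0 ≤ (e : ℝ) * ((e : ℝ) * (2 * a + r)) - (e : ℝ) * W - ((e : ℝ) * W - e * W) := by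
    have : ((e : ℂ) * (conj (e : ℂ) * ((2 * a + r : ℝ) : ℂ)) - (e : ℂ) * (W : ℂ) -
        (conj (e : ℂ) * (W : ℂ) - ((e * W : ℝ) : ℂ))) =
        (((e : ℝ) * ((e : ℝ) * (2 * a + r)) - (e : ℝ) * W - ((e : ℝ) * W - e * W) : ℝ) : ℂ) := by
      rw [Complex.conj_natCast]
      push_cast
      ring
    rw [this, Complex.ofReal_re] at hpos
    exact hpos
  have her : (1 : ℝ) ≤ e := by exact_mod_cast he1
  have hqr : (1 : ℝ) ≤ q := by exact_mod_cast hq1
  have ha0 : (0 : ℝ) ≤ a := Nat.cast_nonneg a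
  -- e (2a + r) ≥ W
  have h1 : W ≤ (e : ℝ) * (2 * a + r) := by
    have : (e : ℝ) * W ≤ (e : ℝ) * ((e : ℝ) * (2 * a + r)) := by linarith
    exact le_of_mul_le_mul_left this (by linarith)
  have h2 : (q : ℝ) * W ≤ (q : ℝ) * ((e : ℝ) * (2 * a + r)) :=
    mul_le_mul_of_nonneg_left h1 (by linarith)
  nlinarith

end Theta

end BLData

end Cfsg.Agent.Lib.Helper79
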