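import Mathlib
import Cfsg.Agent.Lib.Helper79.BLStep4c
import Cfsg.Agent.Lib.Helper34.Bessel

/-!
# Brauer–Leonard configuration: the constituent over the trivial character (helper79)
-/

set_option autoImplicit false

namespace Cfsg.Agent.Lib.Helper79

open scoped ComplexConjugate
open Cfsg Cfsg.Agent.Lib.Helper34

variable {G : Type*} [Group G] {D : BLData G}

namespace BLData

theorem isIrr_one (H : Type*) [Group H] [Finite H] : IsIrrCharacter H (fun _ : H => (1 : ℂ)) := by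
  have := Cfsg.Agent.Lib.Helper83.isIrrCharacter_of_hom (1 : H →* ℂˣ)
  simpa using this

variable [Fintype G] [Fintype D.C] [Fintype D.N]

omit [Fintype D.N] in
theorem cc_one : D.cc (fun _ : D.C => (1 : ℂ)) = 1 := by
  apply D.cc_eq_of (isIrr_one D.C)
  intro π
  simp

section Theta

variable {η : G → ℂ} {Dset : Set (D.Q →* ℂˣ)} (S : D.Supp η Dset)
  (hroom : ∀ κ' : D.Q →* ℂˣ, ∃ κ, κ ∉ Dset ∧ ∀ x : D.N, D.cjK x κ' ≠ κ)
  {ψ' : D.C → ℂ} (hψ' : IsIrrCharacter D.C ψ') (hcc : D.cc ψ' ≠ 1)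
  (hm : classInner (fun c : D.C => η c) ψ' ≠ 0)

include S hroom hψ' hcc hm in
/-- **Step 4**: if `1_C` is a constituent of `η_C`, the `Q`-nontrivial constituents of `η_C` are
linear characters trivial on `V` -/
theorem Supp.twc_one_eq_one [Fintype D.Q] [Fintype D.V] (e q : ℕ)
    (he : Nat.card D.N = e * Nat.card D.C) (hq : Nat.card D.Q = q) (hsmall : e ^ 2 + 2 ≤ q)
    (h1 : classInner (fun c : D.C => η c) (fun _ => 1) ≠ 0) :
    D.twc 1 ψ' = fun _ => 1 := by
  classical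
  by_contra hne
  have hψ0 := D.twc_isIrr 1 hψ'
  have h1C := isIrr_one D.C
  have hθ : IsCharacter D.C (fun c : D.C => η c) :=
    Cfsg.Agent.Lib.Helper05.isCharacter_restrict D.C (Cfsg.Agent.Lib.Helper83.isCharacter_of_irr S.hη)
  obtain ⟨a, ha⟩ := Cfsg.Agent.Lib.Helper05.exists_nat_classInner hθ hψ0
  obtain ⟨a', ha'⟩ := Cfsg.Agent.Lib.Helper05.exists_nat_classInner hθ h1C
  have ha'1 : 1 ≤ a' := by
    rcases Nat.eq_zero_or_pos a' with h0 | h0
    · rw [h0, Nat.cast_zero] at ha'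
      exact absurd ha' h1
    · exact h0
  have hkey := S.key_ineq hroom hψ' hcc hm e q a he hq (by omega) ha
  -- Bessel
  have hv1 : classInner (vth η ψ') (D.twc 1 ψ') = a := by
    rw [vth, theta_inner_of_cc_eq hψ' hcc _ hψ0 (D.cc_twc 1 hψ'), ha]
  have hv2 : classInner (vth η ψ') (fun _ => 1) = a' := by
    rw [vth, theta_inner_of_cc_eq hψ' hcc _ h1C D.cc_one, ha']
  set v : Bool → D.C → ℂ := fun b => if b then D.twc 1 ψ' else fun _ => 1 with hv
  have horth : ∀ i ∈ (Finset.univ : Finset Bool), ∀ j ∈ (Finset.univ : Finset Bool),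
      classInner (v i) (v j) = if i = j then 1 else 0 := by
    intro i _ j _
    cases i <;> cases j
    · simpa [hv] using Cfsg.Agent.Lib.Helper05.classInner_irr_self h1C
    · simpa [hv] using Cfsg.Agent.Lib.Helper05.classInner_irr_ne h1C hψ0 (Ne.symm hne)
    · simpa [hv] using Cfsg.Agent.Lib.Helper05.classInner_irr_ne hψ0 h1C hne
    · simpa [hv] using Cfsg.Agent.Lib.Helper05.classInner_irr_self hψ0
  have hpy := pythagoras Finset.univ v horth (vth η ψ')
  have hre := congrArg Complex.re hpy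
  rw [Complex.add_re] at hre
  have hrest := classInner_self_re_nonneg (orthoPart Finset.univ v (vth η ψ'))
  have hsum : (∑ i : Bool, classInner (vth η ψ') (v i) * conj (classInner (vth η ψ') (v i))).re =
      (a : ℝ) ^ 2 + (a' : ℝ) ^ 2 := by
    rw [Fintype.sum_bool]
    simp only [hv, if_true, Bool.false_eq_true, if_false, hv1, hv2, Complex.conj_natCast]
    rw [Complex.add_re]
    norm_cast
    ring
  rw [hsum] at hre
  have hy : (a : ℝ) ^ 2 + (a' : ℝ) ^ 2 ≤ (classInner (vth η ψ') (vth η ψ')).re := by linarith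
  have hq' : ((e : ℝ) ^ 2 + 1) ≤ (q : ℝ) - 1 := by
    have : (e ^ 2 + 2 : ℕ) ≤ q := hsmall
    have h := (Nat.cast_le (α := ℝ)).mpr this
    push_cast at h
    linarith
  have ha'r : (1 : ℝ) ≤ a' := by exact_mod_cast ha'1
  have ha0 : (0 : ℝ) ≤ a := Nat.cast_nonneg a
  have he0 : (0 : ℝ) ≤ e := Nat.cast_nonneg e
  have h2 : ((e : ℝ) ^ 2 + 1) * ((a : ℝ) ^ 2 + 1) ≤ (e : ℝ) ^ 2 + 2 * e * a := by
    calc ((e : ℝ) ^ 2 + 1) * ((a : ℝ) ^ 2 + 1)
        ≤ ((q : ℝ) - 1) * ((a : ℝ) ^ 2 + (a' : ℝ) ^ 2) := by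
          apply mul_le_mul hq' _ (by positivity) (by linarith [sq_nonneg (e : ℝ)])
          nlinarith
      _ ≤ ((q : ℝ) - 1) * (classInner (vth η ψ') (vth η ψ')).re :=
          mul_le_mul_of_nonneg_left hy (by linarith [sq_nonneg (e : ℝ)])
      _ ≤ _ := hkey
  have h3 : ((e : ℝ) * a - 1) ^ 2 + (a : ℝ) ^ 2 ≤ 0 := by nlinarith [h2]
  have h4 : (a : ℝ) ^ 2 ≤ 0 := by nlinarith [sq_nonneg ((e : ℝ) * a - 1)]
  have h5 : (a : ℝ) = 0 := by
    have := sq_nonneg (a : ℝ)
    have h6 : (a : ℝ) ^ 2 = 0 := le_antisymm h4 this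
    exact pow_eq_zero_iff (two_ne_zero) |>.mp h6
  rw [h5] at h3
  norm_num at h3

end Theta

end BLData

end Cfsg.Agent.Lib.Helper79
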