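import Mathlib
import Cfsg.Agent.Lib.Helper79.BLStep4d
import Cfsg.Agent.Lib.Helper34.Coherence2
import Cfsg.Agent.Lib.Helper05.CharDegree

/-!
# Brauer–Leonard configuration: the trivial character is not a constituent (helper79)
-/

set_option autoImplicit false

namespace Cfsg.Agent.Lib.Helper79

open scoped ComplexConjugate
open Cfsg Cfsg.Agent.Lib.Helper34

variable {G : Type*} [Group G] {D : BLData G}

namespace BLData

variable [Fintype G] [Fintype D.C] [Fintype D.N]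

/-- the linear character of `C` trivial on `V` with central character `κ` -/
noncomputable def lin (D : BLData G) (κ : D.Q →* ℂˣ) : D.C → ℂ := linFun (D.tw κ)

omit [Fintype G] [Fintype D.C] [Fintype D.N] in
theorem lin_isIrr [Finite G] (κ : D.Q →* ℂˣ) : IsIrrCharacter D.C (D.lin κ) :=
  Cfsg.Agent.Lib.Helper83.isIrrCharacter_of_hom (D.tw κ)

omit [Fintype G] [Fintype D.C] [Fintype D.N] in
theorem lin_apply_of_mem_V (κ : D.Q →* ℂˣ) (c : D.C) (hc : (c : G) ∈ D.V) : D.lin κ c = 1 := by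
  rw [lin, linFun_apply, D.tw_of_mem_V κ c hc]
  rfl

omit [Fintype D.N] in
theorem cc_lin (κ : D.Q →* ℂˣ) : D.cc (D.lin κ) = κ := by
  apply D.cc_eq_of (lin_isIrr κ)
  intro π
  rw [lin, linFun_apply, linFun_apply, tw_incl, map_one]
  simp

/-- general version of Step 3a -/
theorem exists_irr_sub_gen {η : G → ℂ} (hη : IsIrrCharacter G η) {ω₁ ω₂ : D.C → ℂ}
    (hω₁ : IsIrrCharacter D.C ω₁) (hω₂ : IsIrrCharacter D.C ω₂)
    (hV : ∀ c : D.C, (c : G) ∈ D.V → ω₁ c = ω₂ c)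
    (hcc₁ : D.cc ω₁ ≠ 1) (hcc₂ : D.cc ω₂ ≠ 1) (hnc : ∀ x : D.N, D.cjK x (D.cc ω₂) ≠ D.cc ω₁)
    (hm₁ : classInner (fun c : D.C => η c) ω₁ = 1)
    (hm₂ : classInner (fun c : D.C => η c) ω₂ = 0) :
    ∃ Y : G → ℂ, IsIrrCharacter G Y ∧ Y ≠ η ∧ indFun D.C (ω₁ - ω₂) = η - Y := by
  classical
  have hC0 : (Nat.card D.C : ℂ) ≠ 0 := by
    have : 0 < Nat.card D.C := Nat.card_pos
    exact_mod_cast this.ne'
  set A := indFun D.C (ω₁ - ω₂) with hA
  have hJ1 : D.Jsum ω₁ ω₂ = 0 := D.Jsum_eq_zero hω₁ hω₂ hnc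
  have hJ2 : D.Jsum ω₂ ω₁ = 0 := by
    apply D.Jsum_eq_zero hω₂ hω₁
    intro x h
    apply hnc x⁻¹
    rw [← h, cjK_inv_cjK]
  have hnorm : classInner A A = 2 := by
    rw [hA, D.classInner_ind_sub_sub _ _ _ _ hV, D.Jsum_self hω₁ hcc₁, hJ1, hJ2,
      D.Jsum_self hω₂ hcc₂]
    field_simp
    ring
  have hgen : IsGeneralizedCharacter G A := by
    apply isGeneralizedCharacter_indFun
    exact isGeneralizedCharacter_sub (isGeneralizedCharacter_of_irr hω₁)
      (isGeneralizedCharacter_of_irr hω₂)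
  have hA1 : A 1 = 0 := by
    rw [hA, D.indFun_apply_one, Pi.sub_apply, hV 1 D.V.one_mem, sub_self, mul_zero]
  obtain ⟨Y₁, Y₂, hY₁, hY₂, hne, hAY⟩ := exists_sub_irr_of_norm_two hgen hnorm hA1
  have hηcl := Cfsg.Agent.Lib.Helper04.isClassFunction_of_isIrrCharacter hη
  have hAη : classInner A η = 1 := by
    rw [hA, D.classInner_indFun_left _ hηcl, classInner_sub_left, ← classInner_conj_symm _ ω₁,
      ← classInner_conj_symm _ ω₂, hm₁, hm₂]
    simp
  rw [hAY, classInner_sub_left, Cfsg.Agent.Lib.Helper05.classInner_irr hY₁ hη,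
    Cfsg.Agent.Lib.Helper05.classInner_irr hY₂ hη] at hAη
  by_cases h1 : Y₁ = η
  · have h2 : Y₂ ≠ η := fun h => hne (h1.trans h.symm)
    refine ⟨Y₂, hY₂, h2, ?_⟩
    rw [hAY, h1]
  · exfalso
    rw [if_neg h1] at hAη
    by_cases h2 : Y₂ = η
    · rw [if_pos h2] at hAη
      norm_num at hAη
    · rw [if_neg h2, sub_zero] at hAη
      exact zero_ne_one hAη

section Main

variable {η : G → ℂ} {Dset : Set (D.Q →* ℂˣ)} (S : D.Supp η Dset)
  (hroom : ∀ κ' : D.Q →* ℂˣ, ∃ κ, κ ∉ Dset ∧ ∀ x : D.N, D.cjK x κ' ≠ κ)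
  {ψ' : D.C → ℂ} (hψ' : IsIrrCharacter D.C ψ') (hcc : D.cc ψ' ≠ 1)
  (hm : classInner (fun c : D.C => η c) ψ' ≠ 0)

include S hroom hψ' hcc hm in
/-- **Step 5**: a nonprincipal `η` with `Q` not in the kernel does not contain `1_C` -/
theorem Supp.false_of_triv_constituent [Fintype D.Q] [Fintype D.V] (e q : ℕ)
    (he : Nat.card D.N = e * Nat.card D.C) (hq : Nat.card D.Q = q) (hsmall : e ^ 2 + 2 ≤ q)
    (h1 : classInner (fun c : D.C => η c) (fun _ => 1) ≠ 0) (hη1 : η ≠ fun _ => 1)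
    (T : Finset (D.Q →* ℂˣ)) (hTcard : T.card = e) (hT1 : ∀ κ ∈ T, κ ≠ 1)
    (hTlam : ∀ κ ∈ T, ∀ x : D.N, D.cjK x κ ≠ D.cc ψ')
    (hTT : ∀ κ ∈ T, ∀ κ' ∈ T, κ ≠ κ' → ∀ x : D.N, D.cjK x κ' ≠ κ) : False := by
  classical
  have h1C := isIrr_one D.C
  have h1G := isIrr_one G
  have hη := S.hη
  have hηcl := Cfsg.Agent.Lib.Helper04.isClassFunction_of_isIrrCharacter hη
  have hCpos : 0 < Nat.card D.C := Nat.card_pos
  have hC0 : (Nat.card D.C : ℂ) ≠ 0 := by exact_mod_cast hCpos.ne'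
  have htw := S.twc_one_eq_one hroom hψ' hcc hm e q he hq hsmall h1
  set lam := D.cc ψ' with hlam
  -- `ψ'` is linear
  have hψeq : ψ' = D.lin lam := by
    funext c
    have h := congrFun htw c
    have h1m : (1 : D.Q →* ℂˣ) * (D.cc ψ')⁻¹ = (D.cc ψ')⁻¹ := by
      apply MonoidHom.ext
      intro π
      rw [MonoidHom.mul_apply, MonoidHom.one_apply, one_mul]
    rw [twc, Pi.mul_apply, linFun_apply, h1m, tw_inv, MonoidHom.inv_apply,
      Units.val_inv_eq_inv_val] at h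
    rw [lin, linFun_apply]
    exact ((inv_mul_eq_one₀ (Units.ne_zero _)).mp h).symm
  have hψV : ∀ c : D.C, (c : G) ∈ D.V → ψ' c = 1 := by
    intro c hc
    rw [hψeq, lin_apply_of_mem_V lam c hc]
  -- multiplicity one
  have hm1 : classInner (fun c : D.C => η c) ψ' = 1 := by
    obtain ⟨κ₀, hκ₀, -⟩ := hroom 1
    exact (S.exists_irr_sub hψ' hcc hm hκ₀).1
  -- the characters `Y κ`
  have hex : ∀ κ ∈ T, ∃ Y : G → ℂ, IsIrrCharacter G Y ∧ Y ≠ η ∧
      indFun D.C (ψ' - D.lin κ) = η - Y := by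
    intro κ hκ
    have hκcc : D.cc (D.lin κ) ≠ 1 := by rw [cc_lin]; exact hT1 κ hκ
    apply exists_irr_sub_gen hη hψ' (lin_isIrr κ) _ hcc hκcc _ hm1
    · by_contra hne
      obtain ⟨x, hx⟩ := S.exists_conj hroom (lin_isIrr κ) hψ' hκcc hcc hne hm
      have h2 := congrArg D.cc hx
      rw [cc_lin, D.cc_cj x hψ'] at h2
      apply hTlam κ hκ x⁻¹
      rw [h2, cjK_inv_cjK]
    · intro c hc
      rw [hψV c hc, lin_apply_of_mem_V κ c hc]
    · intro x
      rw [cc_lin]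
      exact hTlam κ hκ x
  choose! Y hY using hex
  have hYirr : ∀ κ ∈ T, IsIrrCharacter G (Y κ) := fun κ hκ => (hY κ hκ).1
  have hYη : ∀ κ ∈ T, Y κ ≠ η := fun κ hκ => (hY κ hκ).2.1
  have hYA : ∀ κ ∈ T, indFun D.C (ψ' - D.lin κ) = η - Y κ := fun κ hκ => (hY κ hκ).2.2
  -- the Jsums
  have hJψ1 : D.Jsum ψ' (fun _ => 1) = 0 := by
    apply D.Jsum_eq_zero hψ' h1C
    intro x h
    rw [cc_one, cjK_one_char] at h
    exact hcc h.symm
  have hJ1ψ : D.Jsum (fun _ => 1) ψ' = 0 := by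
    apply D.Jsum_eq_zero h1C hψ'
    intro x h
    rw [cc_one] at h
    apply hcc
    have := congrArg (D.cjK x⁻¹) h
    rwa [cjK_inv_cjK, cjK_one_char] at this
  have hJψκ : ∀ κ ∈ T, D.Jsum ψ' (D.lin κ) = 0 := by
    intro κ hκ
    apply D.Jsum_eq_zero hψ' (lin_isIrr κ)
    intro x
    rw [cc_lin]
    exact hTlam κ hκ x
  have hJκψ : ∀ κ ∈ T, D.Jsum (D.lin κ) ψ' = 0 := by
    intro κ hκ
    apply D.Jsum_eq_zero (lin_isIrr κ) hψ'
    intro x h
    rw [cc_lin] at h
    apply hTlam κ hκ x⁻¹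
    rw [← h, cjK_inv_cjK]
  have hJ1κ : ∀ κ ∈ T, D.Jsum (fun _ => 1) (D.lin κ) = 0 := by
    intro κ hκ
    apply D.Jsum_eq_zero h1C (lin_isIrr κ)
    intro x h
    rw [cc_lin, cc_one] at h
    apply hT1 κ hκ
    have := congrArg (D.cjK x⁻¹) h
    rwa [cjK_inv_cjK, cjK_one_char] at this
  have hJκκ : ∀ κ ∈ T, ∀ κ' ∈ T, κ ≠ κ' → D.Jsum (D.lin κ) (D.lin κ') = 0 := by
    intro κ hκ κ' hκ' hne
    apply D.Jsum_eq_zero (lin_isIrr κ) (lin_isIrr κ')
    intro x
    rw [cc_lin, cc_lin]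
    exact hTT κ hκ κ' hκ' hne x
  -- the function `B`
  set B := indFun D.C (ψ' - fun _ => 1) with hB
  have hV1 : ∀ c : D.C, (c : G) ∈ D.V → ψ' c = (fun _ : D.C => (1 : ℂ)) c := hψV
  have hBnorm : classInner B B = 1 + e := by
    rw [hB, D.classInner_ind_sub_sub _ _ _ _ hV1, D.Jsum_self hψ' hcc, hJψ1, hJ1ψ, D.Jsum_triv,
      he]
    push_cast
    field_simp
    ring
  have hψne1 : ψ' ≠ fun _ => 1 := by
    intro h
    apply hcc
    rw [hlam, h, cc_one]
  have hB1 : classInner B (fun _ => 1) = -1 := by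
    rw [hB, D.classInner_indFun_left _
      (Cfsg.Agent.Lib.Helper04.isClassFunction_of_isIrrCharacter h1G), classInner_sub_left,
      Cfsg.Agent.Lib.Helper05.classInner_irr_ne hψ' h1C hψne1,
      Cfsg.Agent.Lib.Helper05.classInner_irr_self h1C]
    ring
  have hθ : IsCharacter D.C (fun c : D.C => η c) :=
    Cfsg.Agent.Lib.Helper05.isCharacter_restrict D.C (Cfsg.Agent.Lib.Helper83.isCharacter_of_irr hη)
  obtain ⟨a, ha⟩ := Cfsg.Agent.Lib.Helper05.exists_nat_classInner hθ h1C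
  have ha1 : 1 ≤ a := by
    rcases Nat.eq_zero_or_pos a with h0 | h0
    · rw [h0, Nat.cast_zero] at ha
      exact absurd ha h1
    · exact h0
  have hBη : classInner B η = 1 - a := by
    rw [hB, D.classInner_indFun_left _ hηcl, classInner_sub_left,
      ← classInner_conj_symm _ ψ', ← classInner_conj_symm _ (fun _ => 1), hm1, ha]
    simp
  have hBA : ∀ κ ∈ T, classInner B (indFun D.C (ψ' - D.lin κ)) = 1 := by
    intro κ hκ
    rw [hB, D.classInner_ind_sub_sub _ _ _ _ hV1, D.Jsum_self hψ' hcc, hJψκ κ hκ, hJ1ψ,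
      hJ1κ κ hκ]
    field_simp
    ring
  have hBY : ∀ κ ∈ T, classInner B (Y κ) = -a := by
    intro κ hκ
    have h := hBA κ hκ
    rw [hYA κ hκ, classInner_sub_right, hBη] at h
    linear_combination -h
  -- `Y κ ≠ 1`
  have hY1 : ∀ κ ∈ T, Y κ ≠ fun _ => 1 := by
    intro κ hκ hYe
    have h0 : classInner (indFun D.C (ψ' - D.lin κ)) (fun _ => 1) = 0 := by
      have hκne1 : D.lin κ ≠ fun _ => 1 := by
        intro h
        apply hT1 κ hκ
        rw [← cc_lin (D := D) κ, h, cc_one]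
      rw [D.classInner_indFun_left _
        (Cfsg.Agent.Lib.Helper04.isClassFunction_of_isIrrCharacter h1G), classInner_sub_left,
        Cfsg.Agent.Lib.Helper05.classInner_irr_ne hψ' h1C hψne1,
        Cfsg.Agent.Lib.Helper05.classInner_irr_ne (lin_isIrr κ) h1C hκne1]
      ring
    rw [hYA κ hκ, classInner_sub_left, hYe,
      Cfsg.Agent.Lib.Helper05.classInner_irr_ne hη h1G hη1,
      Cfsg.Agent.Lib.Helper05.classInner_irr_self h1G] at h0
    norm_num at h0
  -- distinctness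
  have hYY : ∀ κ ∈ T, ∀ κ' ∈ T, κ ≠ κ' → Y κ ≠ Y κ' := by
    intro κ hκ κ' hκ' hne hYe
    have hVκ : ∀ c : D.C, (c : G) ∈ D.V → ψ' c = D.lin κ c := by
      intro c hc
      rw [hψV c hc, lin_apply_of_mem_V κ c hc]
    have h := D.classInner_ind_sub_sub ψ' (D.lin κ) ψ' (D.lin κ') hVκ
    rw [D.Jsum_self hψ' hcc, hJψκ κ' hκ', hJκψ κ hκ, hJκκ κ hκ κ' hκ' hne, hYA κ hκ,
      hYA κ' hκ', ← hYe, classInner_sub_left, classInner_sub_right, classInner_sub_right,
      Cfsg.Agent.Lib.Helper05.classInner_irr_self hη,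
      Cfsg.Agent.Lib.Helper05.classInner_irr_self (hYirr κ hκ),
      Cfsg.Agent.Lib.Helper05.classInner_irr_ne hη (hYirr κ hκ) (hYη κ hκ).symm,
      Cfsg.Agent.Lib.Helper05.classInner_irr_ne (hYirr κ hκ) hη (hYη κ hκ)] at h
    field_simp at h
    norm_num at h
  -- Bessel
  set v : Option (D.Q →* ℂˣ) → G → ℂ := fun o => o.elim (fun _ => 1) Y with hv
  set Ts := Finset.insertNone T with hTs
  have horth : ∀ i ∈ Ts, ∀ j ∈ Ts, classInner (v i) (v j) = if i = j then 1 else 0 := by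
    intro i hi j hj
    rcases i with _ | κ <;> rcases j with _ | κ'
    · simpa [hv] using Cfsg.Agent.Lib.Helper05.classInner_irr_self h1G
    · have hκ' : κ' ∈ T := by simpa [hTs] using hj
      simpa [hv] using
        Cfsg.Agent.Lib.Helper05.classInner_irr_ne h1G (hYirr κ' hκ') (hY1 κ' hκ').symm
    · have hκ : κ ∈ T := by simpa [hTs] using hi
      simpa [hv] using Cfsg.Agent.Lib.Helper05.classInner_irr_ne (hYirr κ hκ) h1G (hY1 κ hκ)
    · have hκ : κ ∈ T := by simpa [hTs] using hi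
      have hκ' : κ' ∈ T := by simpa [hTs] using hj
      by_cases hkk : κ = κ'
      · subst hkk
        simpa [hv] using Cfsg.Agent.Lib.Helper05.classInner_irr_self (hYirr κ hκ)
      · have : (some κ : Option (D.Q →* ℂˣ)) ≠ some κ' := fun h => hkk (Option.some.inj h)
        rw [if_neg this]
        simpa [hv] using Cfsg.Agent.Lib.Helper05.classInner_irr_ne (hYirr κ hκ) (hYirr κ' hκ')
          (hYY κ hκ κ' hκ' hkk)
  have hpy := pythagoras Ts v horth B
  have hsum : ∑ i ∈ Ts, classInner B (v i) * conj (classInner B (v i)) = 1 + (e : ℂ) * a ^ 2 := by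
    rw [hTs, Finset.sum_insertNone]
    have h0 : classInner B (v none) = -1 := hB1
    rw [h0]
    have hs : ∀ κ ∈ T, classInner B (v (some κ)) * conj (classInner B (v (some κ))) =
        (a : ℂ) ^ 2 := by
      intro κ hκ
      have : classInner B (v (some κ)) = -a := hBY κ hκ
      rw [this]
      simp only [map_neg, Complex.conj_natCast]
      ring
    rw [Finset.sum_congr rfl hs, Finset.sum_const, hTcard]
    simp only [map_neg, map_one, nsmul_eq_mul]
    ring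
  rw [hsum, hBnorm] at hpy
  have hre := congrArg Complex.re hpy
  have hrest := classInner_self_re_nonneg (orthoPart Ts v B)
  simp only [Complex.add_re, Complex.one_re, Complex.natCast_re, Complex.mul_re,
    Complex.natCast_im] at hre
  have he1 : 1 ≤ e := by
    rcases Nat.eq_zero_or_pos e with h0 | h0
    · rw [h0, zero_mul] at he
      have : 0 < Nat.card D.N := Nat.card_pos
      omega
    · exact h0
  have ha2re : (((a : ℂ) ^ 2).re) = (a : ℝ) ^ 2 := by
    rw [← Nat.cast_pow, Complex.natCast_re]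
    push_cast
    ring
  have ha2im : (((a : ℂ) ^ 2).im) = 0 := by
    rw [← Nat.cast_pow, Complex.natCast_im]
  rw [ha2re, ha2im] at hre
  have har : (1 : ℝ) ≤ a := by exact_mod_cast ha1
  have her : (1 : ℝ) ≤ e := by exact_mod_cast he1
  have h3 : (e : ℝ) * (a : ℝ) ^ 2 ≤ e := by linarith
  have h4 : (a : ℝ) ^ 2 ≤ 1 := by
    by_contra h
    push Not at h
    have h5 : (e : ℝ) * 1 < e * (a : ℝ) ^ 2 := mul_lt_mul_of_pos_left h (by linarith)
    linarith
  have ha_eq : (a : ℝ) = 1 := by nlinarith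
  have hrest0 : (classInner (orthoPart Ts v B) (orthoPart Ts v B)).re = 0 := by
    rw [ha_eq] at hre
    linarith
  have hzero : classInner (orthoPart Ts v B) (orthoPart Ts v B) = 0 := by
    apply Complex.ext
    · exact hrest0
    · exact classInner_self_im _
  have horth0 := (classInner_self_eq_zero _).mp hzero
  have hBexp := eq_sum_of_orthoPart_eq_zero Ts v B horth0
  -- evaluate at `1`
  have hBone : B 1 = 0 := by
    rw [hB, D.indFun_apply_one, Pi.sub_apply, hψV 1 D.V.one_mem, sub_self, mul_zero]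
  have heval := congrFun hBexp 1
  rw [hBone, hTs, Finset.sum_insertNone, Pi.add_apply, Finset.sum_apply] at heval
  have h0 : classInner B (v none) = -1 := hB1
  have ha_nat : a = 1 := by exact_mod_cast ha_eq
  have hdeg : ∀ κ ∈ T, ∃ d : ℕ, 0 < d ∧ Y κ 1 = d := by
    intro κ hκ
    obtain ⟨d, hd, hd1, -⟩ := Cfsg.Agent.Lib.Helper05.exists_degree_dvd (hYirr κ hκ)
    exact ⟨d, hd, hd1⟩
  choose! d hd using hdeg
  have hs : ∀ κ ∈ T, (classInner B (v (some κ)) • v (some κ)) 1 = -((d κ : ℕ) : ℂ) := by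
    intro κ hκ
    have : classInner B (v (some κ)) = -a := hBY κ hκ
    rw [Pi.smul_apply, this, ha_nat]
    show (-((1 : ℕ) : ℂ)) • Y κ 1 = _
    rw [(hd κ hκ).2]
    simp
  rw [Finset.sum_congr rfl hs, Pi.smul_apply, h0] at heval
  have hv0 : v none 1 = 1 := rfl
  rw [hv0, Finset.sum_neg_distrib, ← Nat.cast_sum] at heval
  have : ((1 + ∑ κ ∈ T, d κ : ℕ) : ℂ) = 0 := by
    push_cast
    have h2 : (-1 : ℂ) • (1 : ℂ) = -1 := by simp
    rw [h2] at heval
    push_cast at heval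
    linear_combination heval
  have := Nat.cast_eq_zero.mp this
  omega

end Main

end BLData

end Cfsg.Agent.Lib.Helper79
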