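import Mathlib
import Cfsg.Agent.Lib.Helper79.BLStep5
import Cfsg.Agent.Lib.Helper79.BLCount
import Cfsg.Agent.Lib.Helper05.CharDecomp
import Cfsg.Agent.Lib.Helper05.CharBasic
import Cfsg.Agent.Lib.Helper05.CharSub

/-!
# Brauer–Leonard configuration: the product `χ χ̄` and the index `|N : C|` (helper79)
-/

set_option autoImplicit false

namespace Cfsg.Agent.Lib.Helper79

open scoped ComplexConjugate
open Cfsg Cfsg.Agent.Lib.Helper34

variable {G : Type*} [Group G] {D : BLData G}

namespace BLData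

variable [Fintype G] [Fintype D.C] [Fintype D.N]

omit [Fintype D.N] in
/-- a function on `C` which is semi-invariant under `Q` has only constituents with the
corresponding central character -/
theorem cc_eq_of_semiinvariant {f : D.C → ℂ} (μ : D.Q →* ℂˣ)
    (hf : ∀ (π : D.Q) (c : D.C), f (D.incl π * c) = (μ π : ℂ) * f c)
    {ω : D.C → ℂ} (hω : IsIrrCharacter D.C ω) (hne : classInner f ω ≠ 0) : D.cc ω = μ := by
  apply MonoidHom.ext
  intro π
  have hsum : ∑ c : D.C, f c * conj (ω c) =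
      ∑ c : D.C, f (D.incl π * c) * conj (ω (D.incl π * c)) :=
    (Equiv.sum_comp (Equiv.mulLeft (D.incl π)) (fun c => f c * conj (ω c))).symm
  have h2 : ∑ c : D.C, f (D.incl π * c) * conj (ω (D.incl π * c)) =
      ((μ π : ℂ) * conj (D.cc ω π : ℂ)) * ∑ c : D.C, f c * conj (ω c) := by
    rw [Finset.mul_sum]
    apply Finset.sum_congr rfl
    intro c _
    rw [hf, D.cc_spec hω, map_mul]
    ring
  have hS : ∑ c : D.C, f c * conj (ω c) ≠ 0 := by
    intro h0
    apply hne
    rw [classInner_def, h0, mul_zero]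
  rw [h2] at hsum
  have h3 : (1 : ℂ) = (μ π : ℂ) * conj (D.cc ω π : ℂ) := by
    apply mul_right_cancel₀ hS
    rw [one_mul]
    exact hsum
  rw [conj_linChar, MonoidHom.inv_apply, Units.val_inv_eq_inv_val] at h3
  apply Units.ext
  exact ((mul_inv_eq_one₀ (Units.ne_zero _)).mp h3.symm).symm

omit [Fintype D.N] in
theorem cc_of_mul_conj {ψ₁ ψ₂ ω : D.C → ℂ} (hψ₁ : IsIrrCharacter D.C ψ₁)
    (hψ₂ : IsIrrCharacter D.C ψ₂) (hω : IsIrrCharacter D.C ω)
    (hne : classInner (ψ₁ * fun c => conj (ψ₂ c)) ω ≠ 0) :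
    D.cc ω = D.cc ψ₁ * (D.cc ψ₂)⁻¹ := by
  apply cc_eq_of_semiinvariant _ _ hω hne
  intro π c
  rw [Pi.mul_apply, Pi.mul_apply, D.cc_spec hψ₁, D.cc_spec hψ₂, map_mul, MonoidHom.mul_apply,
    Units.val_mul, conj_linChar]
  ring

theorem exists_of_zeta_mul_conj {ψ ω : D.C → ℂ} (hψ : IsIrrCharacter D.C ψ)
    (hω : IsIrrCharacter D.C ω)
    (hne : classInner (D.zeta ψ * fun c => conj (D.zeta ψ c)) ω ≠ 0) :
    ∃ x y : D.N, D.cc ω = D.cjK x (D.cc ψ) * (D.cjK y (D.cc ψ))⁻¹ := by
  by_contra hcon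
  push Not at hcon
  apply hne
  have hexp : D.zeta ψ * (fun c => conj (D.zeta ψ c)) =
      ((Nat.card D.C : ℂ)⁻¹ * (Nat.card D.C : ℂ)⁻¹) •
        ∑ x : D.N, ∑ y : D.N, (D.cj x ψ * fun c => conj (D.cj y ψ c)) := by
    funext c
    simp only [zeta, Pi.mul_apply, Pi.smul_apply, Finset.sum_apply, smul_eq_mul, map_mul,
      map_inv₀, Complex.conj_natCast, map_sum]
    rw [mul_mul_mul_comm, Finset.sum_mul_sum]
  rw [hexp, classInner_smul_left, classInner_sum_left]
  rw [Finset.sum_eq_zero, mul_zero]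
  intro x _
  rw [classInner_sum_left]
  apply Finset.sum_eq_zero
  intro y _
  by_contra h
  have := cc_of_mul_conj (D.cj_isIrr x hψ) (D.cj_isIrr y hψ) hω h
  rw [D.cc_cj x hψ, D.cc_cj y hψ] at this
  exact hcon x y this

omit [Fintype D.N] in
/-- constituents of the restriction of a constituent -/
theorem constituent_of_constituent {Φ η : G → ℂ} (hΦ : IsCharacter G Φ)
    (hη : IsIrrCharacter G η) (hm : classInner Φ η ≠ 0) {ω : D.C → ℂ}
    (hω : IsIrrCharacter D.C ω) (hn : classInner (fun c : D.C => η c) ω ≠ 0) :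
    classInner (fun c : D.C => Φ c) ω ≠ 0 := by
  have hsub := Cfsg.Agent.Lib.Helper05.isCharacter_sub_of_classInner_ne_zero hΦ hη hm
  have hθ : IsCharacter D.C (fun c : D.C => η c) :=
    Cfsg.Agent.Lib.Helper05.isCharacter_restrict D.C (Cfsg.Agent.Lib.Helper83.isCharacter_of_irr hη)
  have hθ' : IsCharacter D.C (fun c : D.C => (Φ - η) c) :=
    Cfsg.Agent.Lib.Helper05.isCharacter_restrict D.C hsub
  obtain ⟨n, hn'⟩ := Cfsg.Agent.Lib.Helper05.exists_nat_classInner hθ hω
  obtain ⟨n', hn''⟩ := Cfsg.Agent.Lib.Helper05.exists_nat_classInner hθ' hω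
  have hdec : (fun c : D.C => Φ c) = (fun c : D.C => η c) + (fun c : D.C => (Φ - η) c) := by
    funext c
    simp
  rw [hdec, classInner_add_left, hn', hn'']
  have hn0 : n ≠ 0 := by
    intro h0
    rw [h0, Nat.cast_zero] at hn'
    exact hn hn'
  have : ((n + n' : ℕ) : ℂ) ≠ 0 := by
    rw [Nat.cast_ne_zero]
    omega
  push_cast at this
  exact this

/-- existence of a nonprincipal constituent `η` of `χ χ̄` whose restriction to `C` contains the
principal character -/
theorem exists_eta {χ : G → ℂ} (hχ : IsIrrCharacter G χ) {ψ : D.C → ℂ}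
    (hψ : IsIrrCharacter D.C ψ) (hcc : D.cc ψ ≠ 1)
    (hχC : (fun c : D.C => χ c) = D.zeta ψ) (e : ℕ) (he : Nat.card D.N = e * Nat.card D.C)
    (he2 : 2 ≤ e) :
    ∃ η : G → ℂ, IsIrrCharacter G η ∧ η ≠ (fun _ => 1) ∧
      classInner (fun c : D.C => η c) (fun _ => 1) ≠ 0 ∧
      classInner (χ * fun g => conj (χ g)) η ≠ 0 := by
  classical
  have hfin := Cfsg.Agent.Lib.Helper05.finite_irrCharacter (G := G)
  have : Fintype (IrrCharacter G) := Fintype.ofFinite _
  have hχch := Cfsg.Agent.Lib.Helper83.isCharacter_of_irr hχ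
  have hΦ : IsCharacter G (χ * fun g => conj (χ g)) :=
    Cfsg.Agent.Lib.Helper05.isCharacter_mul hχch (Cfsg.Agent.Lib.Helper05.isCharacter_conj hχch)
  set Φ := χ * fun g => conj (χ g) with hΦdef
  have h1G := isIrr_one G
  have h1C := isIrr_one D.C
  have hCpos : 0 < Nat.card D.C := Nat.card_pos
  have hC0 : (Nat.card D.C : ℂ) ≠ 0 := by exact_mod_cast hCpos.ne'
  -- `(Φ, 1) = 1`
  have hΦ1 : classInner Φ (fun _ => 1) = 1 := by
    have h : classInner Φ (fun _ => 1) = classInner χ χ := by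
      rw [classInner_def, classInner_def]
      congr 1
      apply Finset.sum_congr rfl
      intro g _
      simp [hΦdef]
    rw [h, Cfsg.Agent.Lib.Helper05.classInner_irr_self hχ]
  -- `(Φ_C, 1) = e`
  have hΦC1 : classInner (fun c : D.C => Φ c) (fun _ => 1) = e := by
    have h1 : classInner (fun c : D.C => Φ c) (fun _ => 1) =
        classInner (fun c : D.C => χ c) (fun c : D.C => χ c) := by
      rw [classInner_def, classInner_def]
      congr 1
      apply Finset.sum_congr rfl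
      intro g _
      simp [hΦdef]
    rw [h1, hχC, D.classInner_zeta_zeta, D.Jsum_self hψ hcc, he]
    push_cast
    field_simp
  -- decomposition
  have hdec := Cfsg.Agent.Lib.Helper05.eq_sum_classInner_smul hΦ
  have hdecC : (fun c : D.C => Φ c) =
      ∑ η : IrrCharacter G, classInner Φ (η : G → ℂ) • (fun c : D.C => (η : G → ℂ) c) := by
    funext c
    have := congrFun hdec c
    rw [this, Finset.sum_apply, Finset.sum_apply]
    rfl
  by_contra hcon
  push Not at hcon
  have hsum : classInner (fun c : D.C => Φ c) (fun _ => 1) = 1 := by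
    conv_lhs => rw [hdecC]
    rw [classInner_sum_left, Finset.sum_eq_single (⟨fun _ => 1, h1G⟩ : IrrCharacter G)]
    · rw [classInner_smul_left]
      show classInner Φ (fun _ => 1) * classInner (fun _ : D.C => (1 : ℂ)) (fun _ => 1) = 1
      rw [hΦ1, Cfsg.Agent.Lib.Helper05.classInner_irr_self h1C, mul_one]
    · intro η _ hη1
      rw [classInner_smul_left]
      have hη1' : (η : G → ℂ) ≠ fun _ => 1 := by
        intro h
        apply hη1
        exact Subtype.ext h
      by_cases h0 : classInner (fun c : D.C => (η : G → ℂ) c) (fun _ => 1) = 0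
      · rw [h0, mul_zero]
      · rw [hcon η η.2 hη1' h0, zero_mul]
    · intro h
      exact absurd (Finset.mem_univ _) h
  rw [hΦC1] at hsum
  have : e = 1 := by exact_mod_cast hsum
  omega

/-- **the index `|N : C|` is one**, if no nonprincipal irreducible character of `G` has `Q` in
its kernel -/
theorem index_eq_one [Fintype D.Q] [Fintype D.V] {χ : G → ℂ} (hχ : IsIrrCharacter G χ)
    {ψ : D.C → ℂ} (hψ : IsIrrCharacter D.C ψ) (hcc : D.cc ψ ≠ 1)
    (hχC : (fun c : D.C => χ c) = D.zeta ψ) (e q : ℕ) (he : Nat.card D.N = e * Nat.card D.C)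
    (hq : Nat.card D.Q = q) (hsmall : e ^ 2 + 2 ≤ q)
    (hker : ∀ η : G → ℂ, IsIrrCharacter G η → η ≠ (fun _ => 1) → ∃ π ∈ D.Q, η π ≠ η 1) :
    e = 1 := by
  classical
  by_contra hne
  have he1 : 1 ≤ e := by
    rcases Nat.eq_zero_or_pos e with h0 | h0
    · rw [h0, zero_mul] at he
      have : 0 < Nat.card D.N := Nat.card_pos
      omega
    · exact h0
  have he2 : 2 ≤ e := by omega
  obtain ⟨η, hη, hη1, h1, hΦη⟩ := exists_eta hχ hψ hcc hχC e he he2
  have hχch := Cfsg.Agent.Lib.Helper83.isCharacter_of_irr hχ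
  have hΦ : IsCharacter G (χ * fun g => conj (χ g)) :=
    Cfsg.Agent.Lib.Helper05.isCharacter_mul hχch (Cfsg.Agent.Lib.Helper05.isCharacter_conj hχch)
  have S : D.Supp η (D.dset (D.cc ψ)) := by
    refine ⟨hη, fun x κ hκ => D.cjK_mem_dset _ x hκ, D.one_mem_dset _, ?_⟩
    intro ω hω hn
    have h2 := constituent_of_constituent hΦ hη hΦη hω hn
    have h3 : (fun c : D.C => (χ * fun g => conj (χ g)) c) =
        D.zeta ψ * fun c => conj (D.zeta ψ c) := by
      funext c
      rw [Pi.mul_apply, Pi.mul_apply, ← hχC]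
    rw [h3] at h2
    obtain ⟨x, y, hxy⟩ := exists_of_zeta_mul_conj hψ hω h2
    exact ⟨x, y, hxy⟩
  have hroom : ∀ κ' : D.Q →* ℂˣ, ∃ κ, κ ∉ D.dset (D.cc ψ) ∧ ∀ x : D.N, D.cjK x κ' ≠ κ :=
    fun κ' => D.exists_room e q he hq hsmall (D.cc ψ) κ'
  obtain ⟨ψ', hψ', hm', hcc'⟩ :=
    D.exists_constituent_cc_ne_one (Cfsg.Agent.Lib.Helper83.isCharacter_of_irr hη)
      (hker η hη hη1)
  obtain ⟨T, hTc, hT1, hTl, hTT⟩ := D.exists_family e q he hq hsmall (D.cc ψ') e le_rfl
  exact S.false_of_triv_constituent hroom hψ' hcc' hm' e q he hq hsmall h1 hη1 T hTc hT1 hTl hTT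

end BLData

end Cfsg.Agent.Lib.Helper79
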