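import Mathlib
import Cfsg.Agent.Lib.Helper79.BLConcB
import Cfsg.Agent.Lib.Helper79.BLStep2
import Cfsg.Agent.Lib.Helper83.Quotient
import Cfsg.Agent.Lib.Helper04.CoprimeDegree
import Cfsg.Agent.S4750

/-!
# Brauer–Leonard: the main alternative (helper79)
-/

set_option autoImplicit false

namespace Cfsg.Agent.Lib.Helper79

namespace BLConc

open scoped ComplexConjugate Pointwise
open Cfsg Cfsg.Agent.Lib.Helper34

/-- comparison of the norms of the restrictions to two nested subgroups -/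
theorem restrict_norm_le {G : Type*} [Group G] (C N : Subgroup G) [Fintype C] [Fintype N]
    (hCN : C ≤ N) (f : G → ℂ) (e : ℕ) (he : Nat.card N = e * Nat.card C) :
    (classInner (fun c : C => f c) (fun c : C => f c)).re ≤
      e * (classInner (fun x : N => f x) (fun x : N => f x)).re := by
  rw [classInner_self_re, classInner_self_re]
  have hsum : ∑ c : C, ‖f c‖ ^ 2 ≤ ∑ x : N, ‖f x‖ ^ 2 := by
    have h1 : ∑ c : C, ‖f c‖ ^ 2 =
        ∑ x ∈ (Finset.univ.map ⟨Subgroup.inclusion hCN, Subgroup.inclusion_injective hCN⟩),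
          ‖f x‖ ^ 2 := by
      rw [Finset.sum_map]
      rfl
    rw [h1]
    apply Finset.sum_le_sum_of_subset_of_nonneg (Finset.subset_univ _)
    intros
    positivity
  have hCpos : (0 : ℝ) < Nat.card C := by exact_mod_cast Nat.card_pos
  have hNpos : 0 < Nat.card N := Nat.card_pos
  have he0 : e ≠ 0 := by
    intro h0
    rw [h0, zero_mul] at he
    omega
  have he0' : (e : ℝ) ≠ 0 := by exact_mod_cast he0
  have h2 : (e : ℝ) * ((Nat.card N : ℝ)⁻¹ * ∑ x : N, ‖f x‖ ^ 2) =
      (Nat.card C : ℝ)⁻¹ * ∑ x : N, ‖f x‖ ^ 2 := by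
    rw [he]
    push_cast
    field_simp
  rw [h2]
  exact mul_le_mul_of_nonneg_left hsum (by positivity)

theorem irr_eq_one_of_const {G : Type*} [Group G] [Fintype G] {η : G → ℂ}
    (hη : IsIrrCharacter G η) (h : ∀ g, η g = η 1) : η = fun _ => 1 := by
  by_contra hne
  have h1G := BLData.isIrr_one G
  have h0 := Cfsg.Agent.Lib.Helper05.classInner_irr_ne hη h1G hne
  rw [classInner_def] at h0
  have hsum : ∑ g : G, η g * conj ((fun _ : G => (1 : ℂ)) g) = (Nat.card G : ℂ) * η 1 := by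
    simp only [map_one, mul_one]
    rw [Finset.sum_congr rfl (fun g _ => h g), Finset.sum_const, Finset.card_univ,
      Nat.card_eq_fintype_card]
    simp
  rw [hsum] at h0
  have hG : (Nat.card G : ℂ) ≠ 0 := by
    have : 0 < Nat.card G := Nat.card_pos
    exact_mod_cast this.ne'
  rw [← mul_assoc, inv_mul_cancel₀ hG, one_mul] at h0
  exact irr_one_ne_zero hη h0

variable {G : Type*} [Group G] [Finite G] {p : ℕ} [Fact p.Prime]

/-- extension of a linear character of `P` to `G` when `N(P) = C(P)` -/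
theorem exists_linear_extension (P : Sylow p G)
    (hNC : Subgroup.normalizer ((P : Subgroup G) : Set G) ≤
      Subgroup.centralizer ((P : Subgroup G) : Set G))
    (hP1 : 1 < Nat.card (P : Subgroup G)) (κ : (P : Subgroup G) →* ℂˣ) :
    ∃ μ : G →* ℂˣ, ∀ (π : G) (hπ : π ∈ (P : Subgroup G)), μ π = κ ⟨π, hπ⟩ := by
  set τ : G →* (P : Subgroup G) := MonoidHom.transferSylow P hNC with hτdef
  have hcop : Nat.Coprime (P : Subgroup G).index (Nat.card (P : Subgroup G)) :=
    P.card_coprime_index.symm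
  obtain ⟨k', -, hk'⟩ := Nat.exists_mul_mod_eq_one_of_coprime hcop hP1
  refine ⟨(powMonoidHom k').comp (κ.comp τ), ?_⟩
  intro π hπ
  have hτ : τ π = (⟨π, hπ⟩ : (P : Subgroup G)) ^ (P : Subgroup G).index := by
    rw [hτdef, MonoidHom.transferSylow_eq_pow P hNC π hπ]
    rfl
  rw [MonoidHom.comp_apply, MonoidHom.comp_apply, powMonoidHom_apply, hτ, map_pow, ← pow_mul,
    ← map_pow, ← pow_mod_natCard, hk', pow_one]

/-- **Brauer–Leonard**: the main alternative, assuming that no proper normal subgroup contains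
`P` -/
theorem main_alt (P : Sylow p G) (h : Star P) (n : ℕ) (hn : Nat.card (P : Subgroup G) = p ^ n)
    {χ : G → ℂ} (hχ : IsIrrCharacter G χ) (h1 : χ ≠ fun _ => 1)
    (hdeg : charDegree χ ^ 2 + 1 < p ^ n)
    (hK : ∀ K : Subgroup G, K.Normal → (P : Subgroup G) ≤ K → K = ⊤) :
    (∃ N : Subgroup G, N.Normal ∧ N.index = p ^ n) ∧ charDegree χ = 1 := by
  classical
  letI : Fintype G := Fintype.ofFinite G
  set D := blData h with hD
  letI : Fintype D.C := Fintype.ofFinite _
  letI : Fintype D.N := Fintype.ofFinite _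
  letI : Fintype D.Q := Fintype.ofFinite _
  letI : Fintype D.V := Fintype.ofFinite _
  have hχch := Cfsg.Agent.Lib.Helper83.isCharacter_of_irr hχ
  -- no nonprincipal irreducible character has `P` in its kernel
  have hker : ∀ η : G → ℂ, IsIrrCharacter G η → η ≠ (fun _ => 1) → ∃ π ∈ D.Q, η π ≠ η 1 := by
    intro η hη hη1
    by_contra hcon
    push Not at hcon
    have hηch := Cfsg.Agent.Lib.Helper83.isCharacter_of_irr hη
    have hle : (P : Subgroup G) ≤ Cfsg.Agent.Lib.Helper83.charKer hηch :=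
      fun π hπ => (Cfsg.Agent.Lib.Helper83.mem_charKer hηch π).mpr (hcon π hπ)
    have htop := hK _ (Cfsg.Agent.Lib.Helper83.charKer_normal hηch) hle
    apply hη1
    apply irr_eq_one_of_const hη
    intro g
    exact (Cfsg.Agent.Lib.Helper83.mem_charKer hηch g).mp (htop ▸ Subgroup.mem_top g)
  -- the index `e`
  have hdvd : Nat.card D.C ∣ Nat.card D.N := Subgroup.card_dvd_of_le D.hCN
  obtain ⟨e, he'⟩ := hdvd
  have he : Nat.card D.N = e * Nat.card D.C := by rw [he', mul_comm]
  -- the restriction to the normalizer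
  have hdegle : charDegree χ ^ 2 ≤ Nat.card (P : Subgroup G) := by
    rw [hn]
    omega
  have h4750 := Cfsg.Agent.S4750.result p P h.ti χ hχch hdegle D.N (le_refl _)
  have hnormN : classInner (fun x : D.N => χ x) (fun x : D.N => χ x) = 1 := by
    rw [← h4750, Cfsg.Agent.Lib.Helper05.classInner_irr_self hχ]
  have hnorm : (classInner (fun c : D.C => χ c) (fun c : D.C => χ c)).re ≤ e := by
    have := restrict_norm_le D.C D.N D.hCN χ e he
    rw [hnormN] at this
    simpa using this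
  obtain ⟨ψ, hψ, hcc, hχC⟩ := D.restrict_eq_zeta hχch (hker χ hχ h1) e he hnorm
  -- the degree
  obtain ⟨d, hd, hd1, -⟩ := Cfsg.Agent.Lib.Helper05.exists_degree_dvd hψ
  have hCpos : 0 < Nat.card D.C := Nat.card_pos
  have hC0 : (Nat.card D.C : ℂ) ≠ 0 := by exact_mod_cast hCpos.ne'
  have hχ1 : χ 1 = ((e * d : ℕ) : ℂ) := by
    have h2 := congrFun hχC 1
    simp only [BLData.zeta, Pi.smul_apply, Finset.sum_apply, BLData.cj_apply, map_one,
      Finset.sum_const, Finset.card_univ, smul_eq_mul, nsmul_eq_mul] at h2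
    rw [Subgroup.coe_one] at h2
    rw [h2, hd1, ← Nat.card_eq_fintype_card, he]
    push_cast
    field_simp
  have hxdeg : charDegree χ = e * d := Cfsg.Agent.Lib.Helper04.charDegree_eq_of_apply_one hχ1
  have hsmall : e ^ 2 + 2 ≤ p ^ n := by
    have h3 : e ≤ e * d := Nat.le_mul_of_pos_right e hd
    have h4 : e ^ 2 ≤ (e * d) ^ 2 := Nat.pow_le_pow_left h3 2
    rw [hxdeg] at hdeg
    omega
  have hq : Nat.card D.Q = p ^ n := hn
  have he1 : e = 1 := D.index_eq_one hχ hψ hcc hχC e (p ^ n) he hq hsmall hker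
  subst he1
  rw [one_mul] at he
  have hNCeq : D.C = D.N := Subgroup.eq_of_le_of_card_ge D.hCN (le_of_eq he)
  have hNC : Subgroup.normalizer ((P : Subgroup G) : Set G) ≤
      Subgroup.centralizer ((P : Subgroup G) : Set G) := by
    have : D.N ≤ D.C := hNCeq ▸ le_rfl
    exact this
  refine ⟨⟨(MonoidHom.transferSylow P hNC).ker, MonoidHom.normal_ker _, ?_⟩, ?_⟩
  · have := (MonoidHom.ker_transferSylow_isComplement' P hNC).symm.index_eq_card
    rw [this]
    exact hn
  · -- twisting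
    have hP1 : 1 < Nat.card (P : Subgroup G) := by
      rw [hn]
      omega
    obtain ⟨μ, hμ0⟩ := exists_linear_extension P hNC hP1 (D.cc ψ)
    have hμ : ∀ (π : G) (hπ : π ∈ D.Q), μ π = D.cc ψ ⟨π, hπ⟩ := hμ0
    have hχπ : ∀ (π : G) (hπ : π ∈ D.Q), χ π = ((D.cc ψ ⟨π, hπ⟩ : ℂˣ) : ℂ) * χ 1 := by
      intro π hπ
      have h2 := congrFun hχC (D.incl ⟨π, hπ⟩)
      have h3 : ∀ x : D.N, D.cj x ψ (D.incl ⟨π, hπ⟩) = ((D.cc ψ ⟨π, hπ⟩ : ℂˣ) : ℂ) * (d : ℂ) := by
        intro x
        have hxC : (x : G) ∈ D.C := by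
          rw [hNCeq]
          exact x.2
        have h4 := D.cc_spec (D.cj_isIrr x hψ) ⟨π, hπ⟩ 1
        rw [mul_one, D.cc_cj x hψ, D.cjK_of_mem x hxC] at h4
        rw [h4, BLData.cj_apply, map_one, hd1]
      simp only [BLData.zeta, Pi.smul_apply, Finset.sum_apply, smul_eq_mul] at h2
      rw [Finset.sum_congr rfl (fun x _ => h3 x), Finset.sum_const, Finset.card_univ,
        ← Nat.card_eq_fintype_card, he] at h2
      have h5 : χ π = χ ((D.incl ⟨π, hπ⟩ : D.C) : G) := rfl
      rw [h5, h2, hχ1, nsmul_eq_mul]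
      push_cast
      field_simp
    set χ' : G → ℂ := linFun μ⁻¹ * χ with hχ'
    have hχ'irr : IsIrrCharacter G χ' := by
      apply Cfsg.Agent.Lib.Helper83.isIrrCharacter_mul_linear _ _ hχ
      · exact Cfsg.Agent.Lib.Helper83.isCharacter_of_irr
          (Cfsg.Agent.Lib.Helper83.isIrrCharacter_of_hom μ⁻¹)
      · rw [linFun_apply, map_one]
        rfl
    have hχ'1 : χ' 1 = χ 1 := by
      rw [hχ', Pi.mul_apply, linFun_apply, map_one]
      simp
    have hχ'π : ∀ π ∈ D.Q, χ' π = χ' 1 := by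
      intro π hπ
      rw [hχ'1, hχ', Pi.mul_apply, linFun_apply, hχπ π hπ, MonoidHom.inv_apply, hμ π hπ,
        Units.val_inv_eq_inv_val, ← mul_assoc, inv_mul_cancel₀ (Units.ne_zero _), one_mul]
    have hχ'eq : χ' = fun _ => 1 := by
      by_contra hne
      obtain ⟨π, hπ, hπne⟩ := hker χ' hχ'irr hne
      exact hπne (hχ'π π hπ)
    have : χ 1 = ((1 : ℕ) : ℂ) := by
      rw [← hχ'1, hχ'eq]
      simp
    exact Cfsg.Agent.Lib.Helper04.charDegree_eq_of_apply_one this

end BLConc

end Cfsg.Agent.Lib.Helper79
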