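import Mathlib
import Cfsg.Agent.Lib.Helper79.BLMain
import Cfsg.Agent.Lib.Helper45.CharAux
import Cfsg.Agent.Lib.Helper05.CharDegree

/-!
# Brauer–Leonard: faithful characters of small degree (helper79)
-/

set_option autoImplicit false

namespace Cfsg.Agent.Lib.Helper79

namespace BLConc

open scoped ComplexConjugate Pointwise
open Cfsg Cfsg.Agent.Lib.Helper34

universe u

/-- the hypothesis on centralizers passes to subgroups containing `P` -/
theorem Star.subtype {G : Type u} [Group G] {p : ℕ} {P : Sylow p G} (h : Star P)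
    {K : Subgroup G} (hle : (P : Subgroup G) ≤ K) : Star (P.subtype hle) := by
  intro x hx hx1
  have hxP : (x : G) ∈ (P : Subgroup G) := by
    rw [Sylow.coe_subtype, Subgroup.mem_subgroupOf] at hx
    exact hx
  have hx1' : (x : G) ≠ 1 := by
    intro h0
    apply hx1
    exact Subtype.ext h0
  have hC := h (x : G) hxP hx1'
  ext c
  rw [Subgroup.mem_centralizer_iff, Subgroup.mem_centralizer_iff]
  have hiff : (c : G) ∈ Subgroup.centralizer ({(x : G)} : Set G) ↔
      (c : G) ∈ Subgroup.centralizer ((P : Subgroup G) : Set G) := by rw [hC]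
  rw [Subgroup.mem_centralizer_iff, Subgroup.mem_centralizer_iff] at hiff
  constructor
  · intro h1 y hy
    have hyP : (y : G) ∈ (P : Subgroup G) := by
      have hy' : y ∈ (P.subtype hle : Subgroup K) := hy
      rw [Sylow.coe_subtype, Subgroup.mem_subgroupOf] at hy'
      exact hy'
    have h2 : ∀ z ∈ ({(x : G)} : Set G), z * (c : G) = (c : G) * z := by
      intro z hz
      rw [Set.mem_singleton_iff] at hz
      rw [hz]
      have := h1 x (Set.mem_singleton x)
      exact_mod_cast congrArg Subtype.val this
    have := hiff.mp h2 (y : G) hyP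
    apply Subtype.ext
    exact_mod_cast this
  · intro h1 y hy
    rw [Set.mem_singleton_iff] at hy
    rw [hy]
    have h2 : ∀ z ∈ ((P : Subgroup G) : Set G), z * (c : G) = (c : G) * z := by
      intro z hz
      have hzK : z ∈ K := hle hz
      have hz' : (⟨z, hzK⟩ : K) ∈ ((P.subtype hle : Subgroup K) : Set K) := by
        show (⟨z, hzK⟩ : K) ∈ (P.subtype hle : Subgroup K)
        rw [Sylow.coe_subtype, Subgroup.mem_subgroupOf]
        exact hz
      have := h1 ⟨z, hzK⟩ hz'
      exact congrArg Subtype.val this
    have := hiff.mpr h2 (x : G) (Set.mem_singleton _)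
    apply Subtype.ext
    exact_mod_cast this

/-- **Brauer–Leonard**: a faithful character of small degree forces the Sylow subgroup to be
normal -/
theorem faithful_normal : ∀ (m : ℕ) (G : Type u) [Group G] [Finite G], Nat.card G = m →
    ∀ (p : ℕ) [Fact p.Prime] (P : Sylow p G), Star P → ∀ (n : ℕ),
    Nat.card (P : Subgroup G) = p ^ n → ∀ (χ : G → ℂ), IsCharacter G χ →
    (∀ g : G, χ g = χ 1 → g = 1) → charDegree χ ^ 2 + 1 < p ^ n → (P : Subgroup G).Normal := by
  intro m
  induction m using Nat.strong_induction_on with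
  | _ m ih =>
  intro G _ _ hm p _ P h n hn χ hχ hfaith hdeg
  classical
  by_cases hK : ∃ K : Subgroup G, K.Normal ∧ K ≠ ⊤ ∧ (P : Subgroup G) ≤ K
  · -- pass to `K`
    obtain ⟨K, hKn, hKtop, hle⟩ := hK
    have hcardK : Nat.card K < m := by
      rw [← hm]
      apply lt_of_le_of_ne (Subgroup.card_le_card_group K)
      intro heq
      exact hKtop (Subgroup.eq_top_of_card_eq K heq)
    have hcardP' : Nat.card (P.subtype hle : Subgroup K) = p ^ n := by
      rw [← hn, Sylow.coe_subtype]
      exact Nat.card_congr (Subgroup.subgroupOfEquivOfLe hle).toEquiv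
    have hχK : IsCharacter K (fun k : K => χ k) :=
      Cfsg.Agent.Lib.Helper05.isCharacter_restrict K hχ
    have hfaithK : ∀ k : K, (fun k : K => χ k) k = (fun k : K => χ k) 1 → k = 1 := by
      intro k hk
      apply Subtype.ext
      exact hfaith k hk
    have hdegK : charDegree (fun k : K => χ k) ^ 2 + 1 < p ^ n := hdeg
    have hnorm' := ih (Nat.card K) hcardK K rfl p (P.subtype hle) (h.subtype hle) n hcardP'
      (fun k : K => χ k) hχK hfaithK hdegK
    haveI : (P.subtype hle : Subgroup K).Characteristic :=
      Sylow.characteristic_of_normal (P.subtype hle) hnorm'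
    haveI := hKn
    have hmap : ((P.subtype hle : Subgroup K).map K.subtype).Normal :=
      ConjAct.normal_of_characteristic_of_normal
    rw [Sylow.coe_subtype, Subgroup.subgroupOf_map_subtype, inf_eq_left.mpr hle] at hmap
    exact hmap
  · -- all constituents are linear
    push Not at hK
    have hK' : ∀ K : Subgroup G, K.Normal → (P : Subgroup G) ≤ K → K = ⊤ :=
      fun K hKn hle => by_contra fun hne => hK K hKn hne hle
    letI : Fintype G := Fintype.ofFinite G
    have hfin := Cfsg.Agent.Lib.Helper05.finite_irrCharacter (G := G)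
    letI : Fintype (IrrCharacter G) := Fintype.ofFinite _
    have hlin : ∀ η : IrrCharacter G, classInner χ (η : G → ℂ) ≠ 0 → (η : G → ℂ) 1 = 1 := by
      intro η hη
      by_cases hη1 : (η : G → ℂ) = fun _ => 1
      · rw [hη1]
      · obtain ⟨a, b, ha, hb, hab⟩ := Cfsg.Agent.Lib.Helper45.constituent_degree_le hχ η.2 hη
        have hda : charDegree (η : G → ℂ) = a :=
          Cfsg.Agent.Lib.Helper04.charDegree_eq_of_apply_one ha
        have hdb : charDegree χ = b := Cfsg.Agent.Lib.Helper04.charDegree_eq_of_apply_one hb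
        have hdegη : charDegree (η : G → ℂ) ^ 2 + 1 < p ^ n := by
          rw [hda]
          rw [hdb] at hdeg
          have : a ^ 2 ≤ b ^ 2 := Nat.pow_le_pow_left hab 2
          omega
        have := (main_alt P h n hn η.2 hη1 hdegη hK').2
        rw [hda] at this
        rw [ha, this]
        simp
    have hdec := Cfsg.Agent.Lib.Helper05.eq_sum_classInner_smul hχ
    have hcomm : ∀ a b : G, a * b * a⁻¹ * b⁻¹ = 1 := by
      intro a b
      apply hfaith
      have h1 := congrFun hdec (a * b * a⁻¹ * b⁻¹)
      have h2 := congrFun hdec 1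
      rw [h1]
      conv_rhs => rw [h2]
      rw [Finset.sum_apply, Finset.sum_apply]
      apply Finset.sum_congr rfl
      intro η _
      rw [Pi.smul_apply, Pi.smul_apply]
      by_cases hη : classInner χ (η : G → ℂ) = 0
      · rw [hη, zero_smul, zero_smul]
      · rw [Cfsg.Agent.Lib.Helper05.linear_char_commutator
          (Cfsg.Agent.Lib.Helper83.isCharacter_of_irr η.2) (hlin η hη), hlin η hη]
    constructor
    intro x hx g
    have : g * x * g⁻¹ = x := by
      have h3 := hcomm g x
      calc g * x * g⁻¹ = (g * x * g⁻¹ * x⁻¹) * x := by group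
        _ = x := by rw [h3, one_mul]
    rw [this]
    exact hx

end BLConc

end Cfsg.Agent.Lib.Helper79
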