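import Mathlib
import Cfsg.Prelude.Def_Blocks
import Cfsg.Agent.Lib.Helper82.WeakOrth
import Cfsg.Agent.Lib.Helper82.Counting
import Cfsg.Agent.Lib.Helper21.Osima

set_option autoImplicit false
set_option linter.unusedSectionVars false
set_option linter.style.haveILetI false

namespace Cfsg.Agent.Lib.Helper79

open Cfsg
open Cfsg.Agent.Lib.Helper21 Cfsg.Agent.Lib.Helper82
open scoped ComplexConjugate

section BlockDegSq

variable {G : Type*} [Group G] [Fintype G] [Fintype (IrrCharacter G)] {p : ℕ} {M : Ideal AlgInt}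

/-- the order of a `p`-subgroup divides the sum of the squares of the degrees in a `p`-block. -/
theorem card_pSubgroup_dvd_sum_sq (hM : IsPModular p M) (χ₀ : IrrCharacter G)
    [DecidablePred (· ∈ blockOf M (χ₀ : G → ℂ))]
    (P : Subgroup G) (hP : IsPGroup p P) :
    Nat.card P ∣ ∑ χ : IrrCharacter G,
      if χ ∈ blockOf M (χ₀ : G → ℂ) then charDegree (χ : G → ℂ) ^ 2 else 0 := by
  let _ : Fintype P := Fintype.ofFinite P
  have hp : p.Prime := hM.1
  haveI : Fact p.Prime := ⟨hp⟩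
  have hvan : ∀ u : P, u ≠ 1 → blockCoeff (blockOf M (χ₀ : G → ℂ)) (u : G) = 0 := by
    intro u hu
    apply blockCoeff_eq_zero_of_singular hM χ₀
    obtain ⟨k, hk⟩ := (IsPGroup.iff_orderOf.1 hP) u
    have hk' : orderOf (u : G) = p ^ k := by rw [← hk, Subgroup.orderOf_coe]
    have hk0 : k ≠ 0 := by
      rintro rfl
      rw [pow_zero, orderOf_eq_one_iff] at hk
      exact hu hk
    rw [hk']
    exact dvd_pow_self p hk0
  have hsum : blockCoeff (blockOf M (χ₀ : G → ℂ)) 1 = ∑ u : P, blockCoeff (blockOf M (χ₀ : G → ℂ)) (u : G) := by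
    rw [Finset.sum_eq_single (1 : P) (fun u _ hu => hvan u hu)
      (fun h => absurd (Finset.mem_univ _) h)]
    simp
  have hm : ∀ χ : IrrCharacter G, ∃ m : ℕ, ∑ u : P, (χ : G → ℂ) u = (Fintype.card P : ℂ) * m :=
    fun χ => IsCharacter.sum_subgroup (IsIrrCharacter.isCharacter χ.2) P
  choose m hm using hm
  have hG0 : (Nat.card G : ℂ) ≠ 0 := Nat.cast_ne_zero.2 Nat.card_pos.ne'
  have key : (∑ χ : IrrCharacter G,
      if χ ∈ (blockOf M (χ₀ : G → ℂ)) then ((charDegree (χ : G → ℂ) ^ 2 : ℕ) : ℂ) else 0) =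
      (Fintype.card P : ℂ) * ∑ χ : IrrCharacter G,
        if χ ∈ (blockOf M (χ₀ : G → ℂ)) then ((charDegree (χ : G → ℂ) * m χ : ℕ) : ℂ) else 0 := by
    have h1 : blockCoeff (blockOf M (χ₀ : G → ℂ)) 1 = (Nat.card G : ℂ)⁻¹ * ∑ χ : IrrCharacter G,
        if χ ∈ (blockOf M (χ₀ : G → ℂ)) then ((charDegree (χ : G → ℂ) ^ 2 : ℕ) : ℂ) else 0 := by
      rw [blockCoeff_eq_sum]
      congr 1
      apply Finset.sum_congr rfl
      intro χ _
      split_ifs with hχ
      · have hχc := IsIrrCharacter.isCharacter χ.2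
        have h2 : conj ((χ : G → ℂ) 1) = (χ : G → ℂ) 1 := by
          rw [← IsCharacter.charDegree_cast hχc, Complex.conj_natCast]
        rw [h2]
        push_cast
        rw [IsCharacter.charDegree_cast hχc]
        ring
      · rfl
    have h2 : ∑ u : P, blockCoeff (blockOf M (χ₀ : G → ℂ)) (u : G) = (Nat.card G : ℂ)⁻¹ * ((Fintype.card P : ℂ) *
        ∑ χ : IrrCharacter G, if χ ∈ (blockOf M (χ₀ : G → ℂ)) then ((charDegree (χ : G → ℂ) * m χ : ℕ) : ℂ) else 0) := by
      simp_rw [blockCoeff_eq_sum]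
      rw [← Finset.mul_sum, Finset.sum_comm]
      congr 1
      rw [Finset.mul_sum]
      apply Finset.sum_congr rfl
      intro χ _
      split_ifs with hχ
      · have hχc := IsIrrCharacter.isCharacter χ.2
        rw [← Finset.mul_sum, ← map_sum, hm χ, map_mul, Complex.conj_natCast, Complex.conj_natCast]
        push_cast
        rw [IsCharacter.charDegree_cast hχc]
        ring
      · simp
    rw [h1, h2] at hsum
    exact mul_left_cancel₀ (inv_ne_zero hG0) hsum
  have key' : ((∑ χ : IrrCharacter G,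
      if χ ∈ (blockOf M (χ₀ : G → ℂ)) then charDegree (χ : G → ℂ) ^ 2 else 0 : ℕ) : ℂ) =
      ((Fintype.card P * ∑ χ : IrrCharacter G,
        if χ ∈ (blockOf M (χ₀ : G → ℂ)) then charDegree (χ : G → ℂ) * m χ else 0 : ℕ) : ℂ) := by
    push_cast
    have key2 := key
    push_cast at key2
    exact key2
  have key'' : (∑ χ : IrrCharacter G, if χ ∈ (blockOf M (χ₀ : G → ℂ)) then charDegree (χ : G → ℂ) ^ 2 else 0) =
      Fintype.card P * ∑ χ : IrrCharacter G,
        if χ ∈ (blockOf M (χ₀ : G → ℂ)) then charDegree (χ : G → ℂ) * m χ else 0 := by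
    exact_mod_cast key'
  rw [key'', Nat.card_eq_fintype_card]
  exact Dvd.intro _ rfl

end BlockDegSq

end Cfsg.Agent.Lib.Helper79
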