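import Mathlib
import Cfsg.Prelude.Def_Blocks
import Cfsg.Agent.Lib.Helper05.PiSection
import Cfsg.Agent.Lib.Helper80.GaloisValues
import Cfsg.Agent.Lib.Helper83.Completeness

set_option autoImplicit false
set_option linter.unusedSectionVars false
set_option linter.style.haveILetI false

namespace Cfsg.Agent.Lib.Helper79

open Cfsg
open scoped ComplexConjugate

section RealOdd2

universe u
variable {G : Type u} [Group G] [Fintype G]

/-- a rational algebraic integer is an integer. -/
theorem exists_int_of_rat_of_isIntegral {z : ℂ} (hz : IsIntegral ℤ z) (q : ℚ) (hq : z = (q : ℂ)) :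
    ∃ n : ℤ, z = (n : ℂ) := by
  rw [hq] at hz
  have h1 : IsIntegral ℤ q := by
    have : ((q : ℚ) : ℂ) = algebraMap ℚ ℂ q := rfl
    rw [this] at hz
    exact (isIntegral_algebraMap_iff (algebraMap ℚ ℂ).injective).mp hz
  obtain ⟨n, hn⟩ := IsIntegrallyClosed.isIntegral_iff.mp h1
  refine ⟨n, ?_⟩
  rw [hq, ← hn]
  simp

/-- the sum of the values of a character over a set of elements stable under the coprime power
maps is rational. -/
theorem sum_pow_stable_rat {χ : G → ℂ} (hχ : IsCharacter G χ) (P : G → Prop) [DecidablePred P]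
    (hP : ∀ m : ℕ, m.Coprime (Nat.card G) → ∀ x, P (x ^ m) ↔ P x) :
    ∃ q : ℚ, ∑ x : G, (if P x then χ x else 0) = (q : ℂ) := by
  classical
  obtain ⟨d, ρ, rfl⟩ := hχ
  have hev : ∀ x : G, ∃ μ : Fin (Module.finrank ℂ (Fin d → ℂ)) → ℂ,
      (∀ i, μ i ^ orderOf x = 1) ∧ (∀ k : ℕ, ρ.character (x ^ k) = ∑ i, μ i ^ k) := by
    intro x
    obtain ⟨b, μ, hμ, -, hk, -⟩ :=
      Cfsg.Agent.Lib.Helper05.exists_eigenvalues ρ x (isOfFinOrder_of_finite x)
    exact ⟨μ, hμ, hk⟩
  choose μ hμ hk using hev
  have hsum : ∀ k : ℕ, ∑ x : G, (if P x then ρ.character (x ^ k) else 0) =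
      ∑ xi : {x : G // P x} × Fin (Module.finrank ℂ (Fin d → ℂ)), μ xi.1.1 xi.2 ^ k := by
    intro k
    rw [Fintype.sum_prod_type, ← Finset.sum_filter,
      Finset.sum_subtype (Finset.univ.filter P) (p := P)
        (fun x => by rw [Finset.mem_filter]; exact ⟨fun h => h.2, fun h => ⟨Finset.mem_univ _, h⟩⟩)]
    apply Finset.sum_congr rfl
    intro x _
    exact hk x.1 k
  have h1 := hsum 1
  simp only [pow_one] at h1
  have hμn : ∀ xi : {x : G // P x} × Fin (Module.finrank ℂ (Fin d → ℂ)),
      μ xi.1.1 xi.2 ^ Nat.card G = 1 := by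
    intro xi
    obtain ⟨m, hm⟩ := orderOf_dvd_natCard xi.1.1
    rw [hm, pow_mul, hμ, one_pow]
  obtain ⟨q, hq⟩ := Cfsg.Agent.Lib.Helper80.exists_rat_of_pow_invariant (Nat.card G) Nat.card_pos
    (fun xi : {x : G // P x} × Fin (Module.finrank ℂ (Fin d → ℂ)) => μ xi.1.1 xi.2) hμn (by
      intro m hm
      rw [← hsum m, ← h1]
      have hm' : (Nat.card G).Coprime m := hm.symm
      have := Equiv.sum_comp (powCoprime hm') (fun y : G => if P y then ρ.character y else 0)
      rw [← this]
      apply Finset.sum_congr rfl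
      intro x _
      rw [powCoprime_apply]
      by_cases hx : P x
      · rw [if_pos hx, if_pos ((hP m hm x).mpr hx)]
      · rw [if_neg hx, if_neg (fun h => hx ((hP m hm x).mp h))])
  exact ⟨q, by rw [h1, hq]⟩

/-- `|G|_p` times the indicator function of the `p`-regular elements has algebraic integer
inner products with all characters. -/
theorem pRegular_sum_isIntegral (p : ℕ) (hp : p.Prime) {χ : G → ℂ} (hχ : IsCharacter G χ)
    [DecidablePred fun x : G => p ∣ orderOf x] :
    IsIntegral ℤ (classInner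
      (fun x : G => if p ∣ orderOf x then 0 else ((p ^ (Nat.card G).factorization p : ℕ) : ℂ)) χ) := by
  set a := (Nat.card G).factorization p with ha
  set n := p ^ a with hn
  have hdvd : n ∣ Nat.card G := Nat.ordProj_dvd _ _
  obtain ⟨m, hm⟩ := hdvd
  have hmn : Nat.card G = m * n := by rw [hm, mul_comm]
  have hG0 : Nat.card G ≠ 0 := Nat.card_pos.ne'
  have hcop : m.Coprime n := by
    rw [hn]
    apply Nat.Coprime.pow_right
    rw [Nat.coprime_comm, Nat.Prime.coprime_iff_not_dvd hp]
    have h1 : m = Nat.card G / p ^ a := by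
      rw [hm, Nat.mul_div_cancel_left _ (pow_pos hp.pos a)]
    rw [h1]
    exact Nat.not_dvd_ordCompl hp hG0
  obtain ⟨t, ht0, ht1⟩ := Cfsg.Agent.Lib.Helper05.exists_crt_exp hcop
  have hiff : ∀ x : G, IsConj (x ^ t) 1 ↔ ¬ p ∣ orderOf x := by
    intro x
    rw [isConj_one_left]
    constructor
    · intro hx hpx
      have h1 : orderOf x ∣ t := orderOf_dvd_of_pow_eq_one hx
      have h2 : p ∣ t := dvd_trans hpx h1
      have h3 : p ∣ Nat.card G := dvd_trans hpx (orderOf_dvd_natCard x)
      have ha0 : a ≠ 0 := by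
        intro h0
        have := (Nat.factorization_eq_zero_iff (Nat.card G) p).mp h0
        rcases this with h | h | h
        · exact h hp
        · exact h h3
        · exact hG0 h
      have h4 : p ∣ n := dvd_pow_self p ha0
      have h5 : t ≡ 1 [MOD p] := ht1.of_dvd h4
      have h6 : t % p = 1 % p := h5
      rw [Nat.mod_eq_zero_of_dvd h2, Nat.mod_eq_of_lt hp.one_lt] at h6
      exact zero_ne_one h6
    · intro hx
      have h1 : orderOf x ∣ m * n := by rw [← hmn]; exact orderOf_dvd_natCard x
      have h2 : (orderOf x).Coprime n := by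
        rw [hn]
        apply Nat.Coprime.pow_right
        rw [Nat.coprime_comm, Nat.Prime.coprime_iff_not_dvd hp]
        exact hx
      have h3 : orderOf x ∣ m := h2.dvd_of_dvd_mul_right h1
      exact orderOf_dvd_iff_pow_eq_one.mp (dvd_trans h3 ht0)
  have := Cfsg.Agent.Lib.Helper05.classInner_piSection_char_mem_algInt hmn hcop ht0 ht1 (1 : G)
    (fun x : G => if p ∣ orderOf x then 0 else ((p ^ (Nat.card G).factorization p : ℕ) : ℂ))
    (by
      intro x hx
      rw [if_neg ((hiff x).mp hx)])
    (by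
      intro x hx
      have : p ∣ orderOf x := by
        by_contra h
        exact hx ((hiff x).mpr h)
      rw [if_pos this])
    hχ
  exact this

/-- Parseval's identity for class functions. -/
theorem classInner_self_eq_sum [Fintype (IrrCharacter G)] {f : G → ℂ}
    (hf : IsClassFunction G f) :
    classInner f f = ∑ χ : IrrCharacter G,
      classInner f (χ : G → ℂ) * conj (classInner f (χ : G → ℂ)) := by
  have h1 := Cfsg.Agent.Lib.Helper83.classFunction_eq_sum_irr hf
  conv_lhs => rw [h1]
  rw [Cfsg.Agent.Lib.Helper05.classInner_sum_left]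
  apply Finset.sum_congr rfl
  intro χ _
  rw [Cfsg.Agent.Lib.Helper05.classInner_smul_left, ← h1,
    Cfsg.Agent.Lib.Helper05.classInner_conj_symm]

end RealOdd2

end Cfsg.Agent.Lib.Helper79
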