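import Mathlib
import Cfsg.Prelude.Def_Blocks
import Cfsg.Agent.Lib.Helper79.RealOdd2

set_option autoImplicit false
set_option linter.unusedSectionVars false
set_option linter.style.haveILetI false

namespace Cfsg.Agent.Lib.Helper79

open Cfsg Polynomial

section GaloisIdeal

/-- an integer lying in a maximal ideal of the algebraic integers over `p` lies in every
other such ideal. -/
theorem intCast_mem_of_mem {p : ℕ} {M M' : Ideal AlgInt} (hM : IsPModular p M)
    (hM' : IsPModular p M') (c : ℤ) (hc : (c : AlgInt) ∈ M) : (c : AlgInt) ∈ M' := by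
  have hp : p.Prime := hM.1
  by_cases hdvd : (p : ℤ) ∣ c
  · obtain ⟨c', rfl⟩ := hdvd
    push_cast
    exact Ideal.mul_mem_right _ _ hM'.2.2
  · exfalso
    have hcop : IsCoprime (p : ℤ) c := by
      rw [Int.isCoprime_iff_gcd_eq_one, Int.gcd_def, Int.natAbs_natCast]
      exact (Nat.Prime.coprime_iff_not_dvd hp).2 (fun h => hdvd (Int.natCast_dvd.2 h))
    obtain ⟨u, v, huv⟩ := hcop
    have h1 : (1 : AlgInt) ∈ M := by
      have : (1 : AlgInt) = (u : AlgInt) * (p : AlgInt) + (v : AlgInt) * (c : AlgInt) := by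
        exact_mod_cast congrArg (fun z : ℤ => (z : AlgInt)) huv.symm
      rw [this]
      exact Ideal.add_mem _ (Ideal.mul_mem_left _ _ hM.2.2) (Ideal.mul_mem_left _ _ hc)
    exact hM.2.1.ne_top ((Ideal.eq_top_iff_one _).2 h1)

/-- If all the Galois conjugates of a rational combination of `n`-th roots of unity (realised
through the coprime power maps) lie in one maximal ideal of the algebraic integers over `p`,
then it lies in every such maximal ideal. -/
theorem exists_mem_of_forall_pow_mem_aux {p : ℕ} {M M' : Ideal AlgInt} (hM : IsPModular p M)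
    (hM' : IsPModular p M') (n : ℕ) (hn : 0 < n) {ι : Type*} [Fintype ι] (q : ι → ℚ) (μ : ι → ℂ)
    (hμ : ∀ i, μ i ^ n = 1)
    (h : ∀ m : ℕ, m.Coprime n → ∃ a : AlgInt, a ∈ M ∧ (a : ℂ) = ∑ i, (q i : ℂ) * μ i ^ m)
    (L : Type) [Field L] [Algebra ℚ L] [IsCyclotomicExtension {n} ℚ L] :
    ∃ r : AlgInt, r ∈ M' ∧ (r : ℂ) = ∑ i, (q i : ℂ) * μ i := by
  classical
  haveI : NeZero n := ⟨hn.ne'⟩
  have hζ : IsPrimitiveRoot (IsCyclotomicExtension.zeta n ℚ L) n :=
    IsCyclotomicExtension.zeta_spec n ℚ L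
  generalize IsCyclotomicExtension.zeta n ℚ L = ζ at hζ
  haveI : FiniteDimensional ℚ L := IsCyclotomicExtension.finiteDimensional {n} ℚ L
  haveI : IsGalois ℚ L := IsCyclotomicExtension.isGalois {n} ℚ L
  let φ : L →ₐ[ℚ] ℂ := IsAlgClosed.lift
  have hφinj : Function.Injective φ := φ.toRingHom.injective
  have hφζ : IsPrimitiveRoot (φ ζ) n := hζ.map_of_injective hφinj
  have hex : ∀ i, ∃ e : ℕ, φ ζ ^ e = μ i := by
    intro i
    obtain ⟨e, -, he⟩ := hφζ.eq_pow_of_pow_eq_one (hμ i)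
    exact ⟨e, he⟩
  choose e he using hex
  let x : L := ∑ i, algebraMap ℚ L (q i) * ζ ^ e i
  have hconj : ∀ σ : L ≃ₐ[ℚ] L, ∃ a : AlgInt, a ∈ M ∧ (a : ℂ) = φ (σ x) := by
    intro σ
    have hσζ : IsPrimitiveRoot (σ ζ) n := hζ.map_of_injective σ.injective
    obtain ⟨m, -, hm⟩ := hζ.eq_pow_of_pow_eq_one hσζ.pow_eq_one
    have hcop : m.Coprime n := by
      rw [← hm] at hσζ
      exact (hζ.pow_iff_coprime hn m).1 hσζ
    obtain ⟨a, haM, ha⟩ := h m hcop
    refine ⟨a, haM, ?_⟩
    rw [ha]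
    simp only [x, map_sum, map_mul, map_pow, ← hm, AlgEquiv.commutes, AlgHom.commutes, ← he]
    refine Finset.sum_congr rfl fun i _ => ?_
    rw [← pow_mul, ← pow_mul, mul_comm (e i) m]
    rfl
  choose a haM ha using hconj
  set N := Fintype.card (L ≃ₐ[ℚ] L) with hN
  let PA : Polynomial AlgInt := ∏ σ : L ≃ₐ[ℚ] L, (X - C (a σ))
  let PL : Polynomial L := MulSemiringAction.charpoly (L ≃ₐ[ℚ] L) x
  have hPmap : PA.map (algebraMap AlgInt ℂ) = PL.map φ.toRingHom := by
    simp only [PA, PL, MulSemiringAction.charpoly_eq, Polynomial.map_prod, Polynomial.map_sub,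
      Polynomial.map_X, Polynomial.map_C]
    refine Finset.prod_congr rfl fun σ _ => ?_
    congr 2
    exact ha σ
  have hmonic : PA.Monic := monic_prod_of_monic _ _ (fun σ _ => monic_X_sub_C _)
  have hdeg : PA.natDegree = N := by
    rw [natDegree_prod_of_monic _ _ (fun σ _ => monic_X_sub_C _)]
    simp [hN]
  have hcoeff_int : ∀ i, ∃ c : ℤ, PA.coeff i = (c : AlgInt) := by
    intro i
    have h1 : ∀ σ : L ≃ₐ[ℚ] L, σ (PL.coeff i) = PL.coeff i :=
      fun σ => MulSemiringAction.smul_coeff_charpoly x i σ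
    obtain ⟨r, hr⟩ := (IsGalois.mem_range_algebraMap_iff_fixed (PL.coeff i)).2 h1
    have h2 := congrArg (fun P => P.coeff i) hPmap
    simp only [Polynomial.coeff_map] at h2
    have h3 : ((PA.coeff i : AlgInt) : ℂ) = (r : ℂ) := by
      have : ((PA.coeff i : AlgInt) : ℂ) = φ (PL.coeff i) := h2
      rw [this, ← hr]
      simp
    obtain ⟨c, hc⟩ := exists_int_of_rat_of_isIntegral (PA.coeff i).2 r h3
    refine ⟨c, ?_⟩
    apply Subtype.ext
    rw [hc]
    simp
  have hcoeffM : ∀ i, i < N → PA.coeff i ∈ M := by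
    intro i hi
    have h1 : PA.map (Ideal.Quotient.mk M) = X ^ N := by
      simp only [PA, Polynomial.map_prod, Polynomial.map_sub, Polynomial.map_X, Polynomial.map_C]
      have : ∀ σ : L ≃ₐ[ℚ] L, (Ideal.Quotient.mk M) (a σ) = 0 :=
        fun σ => Ideal.Quotient.eq_zero_iff_mem.2 (haM σ)
      simp [this, hN]
    have h2 := congrArg (fun P => P.coeff i) h1
    simp only [Polynomial.coeff_map, Polynomial.coeff_X_pow, if_neg hi.ne] at h2
    exact Ideal.Quotient.eq_zero_iff_mem.1 h2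
  have hcoeffM' : ∀ i, i < N → PA.coeff i ∈ M' := by
    intro i hi
    obtain ⟨c, hc⟩ := hcoeff_int i
    rw [hc]
    apply intCast_mem_of_mem hM hM'
    rw [← hc]
    exact hcoeffM i hi
  have hroot : PA.eval (a 1) = 0 := by
    simp only [PA, eval_prod]
    apply Finset.prod_eq_zero (Finset.mem_univ (1 : L ≃ₐ[ℚ] L))
    simp
  have hpow : (a 1) ^ N ∈ M' := by
    rw [eval_eq_sum_range, hdeg, Finset.sum_range_succ, ← hdeg, hmonic.coeff_natDegree, hdeg,
      one_mul] at hroot
    have : (a 1) ^ N = - ∑ i ∈ Finset.range N, PA.coeff i * (a 1) ^ i := by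
      rw [eq_neg_iff_add_eq_zero, add_comm]
      exact hroot
    rw [this]
    apply neg_mem
    apply Ideal.sum_mem
    intro i hi
    exact Ideal.mul_mem_right _ _ (hcoeffM' i (Finset.mem_range.1 hi))
  have hM'prime : M'.IsPrime := hM'.2.1.isPrime
  refine ⟨a 1, hM'prime.mem_of_pow_mem N hpow, ?_⟩
  rw [ha 1]
  simp only [AlgEquiv.one_apply, x, map_sum, map_mul, map_pow, AlgHom.commutes, he]
  rfl

/-- If all the Galois conjugates of a rational combination of `n`-th roots of unity (realised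
through the coprime power maps) lie in one maximal ideal of the algebraic integers over `p`,
then it lies in every such maximal ideal. -/
theorem exists_mem_of_forall_pow_mem {p : ℕ} {M M' : Ideal AlgInt} (hM : IsPModular p M)
    (hM' : IsPModular p M') (n : ℕ) (hn : 0 < n) {ι : Type*} [Fintype ι] (q : ι → ℚ) (μ : ι → ℂ)
    (hμ : ∀ i, μ i ^ n = 1)
    (h : ∀ m : ℕ, m.Coprime n → ∃ a : AlgInt, a ∈ M ∧ (a : ℂ) = ∑ i, (q i : ℂ) * μ i ^ m) :
    ∃ r : AlgInt, r ∈ M' ∧ (r : ℂ) = ∑ i, (q i : ℂ) * μ i :=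
  haveI : NeZero n := ⟨hn.ne'⟩
  @exists_mem_of_forall_pow_mem_aux p M M' hM hM' n hn ι _ q μ hμ h (CyclotomicField n ℚ) _
    (CyclotomicField.algebra n ℚ) _

end GaloisIdeal

end Cfsg.Agent.Lib.Helper79
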