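import Mathlib
import Cfsg.Prelude.Def_Blocks
import Cfsg.Agent.Lib.Helper79.GaloisIdeal
import Cfsg.Agent.Lib.Helper82.LocalRing
import Cfsg.Agent.Lib.Helper82.CharBasic
import Cfsg.Agent.Lib.Helper82.CharSchur
import Cfsg.Agent.Lib.Helper05.CharValues

set_option autoImplicit false
set_option linter.unusedSectionVars false
set_option linter.style.haveILetI false

namespace Cfsg.Agent.Lib.Helper79

open Cfsg
open Cfsg.Agent.Lib.Helper82

section BlockIndep

variable {G : Type*} [Group G] [Finite G]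

/-- the centralizer of a coprime power of `g` is the centralizer of `g`. -/
theorem centralizer_pow_coprime (g : G) (m : ℕ) (hm : m.Coprime (Nat.card G)) :
    Subgroup.centralizer ({g ^ m} : Set G) = Subgroup.centralizer ({g} : Set G) := by
  have hco : m.Coprime (orderOf g) := Nat.Coprime.coprime_dvd_right (orderOf_dvd_natCard g) hm
  obtain ⟨m', hm'⟩ := exists_pow_eq_self_of_coprime hco
  ext x
  simp only [Subgroup.mem_centralizer_iff, Set.mem_singleton_iff, forall_eq]
  constructor
  · intro hx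
    have : Commute (g ^ m) x := hx
    have h2 : Commute ((g ^ m) ^ m') x := this.pow_left m'
    rw [hm'] at h2
    exact h2
  · intro hx
    have : Commute g x := hx
    exact this.pow_left m

/-- **Independence of blocks from the maximal ideal**: if two irreducible characters lie in the
same block relative to `M`, the differences of their central characters lie in every maximal
ideal `M'` of the algebraic integers containing `p`. -/
theorem sameBlock_mem_of_modular {p : ℕ} {M M' : Ideal AlgInt}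
    (hM : IsPModular p M) (hM' : IsPModular p M') (χ ψ : IrrCharacter G)
    (h : SameBlock M (χ : G → ℂ) (ψ : G → ℂ)) (g : G) :
    ∃ r : AlgInt, r ∈ M' ∧ (r : ℂ) = centralChar (χ : G → ℂ) g - centralChar (ψ : G → ℂ) g := by
  classical
  have hMp : M.IsPrime := hM.2.1.isPrime
  have hχc : IsCharacter G (χ : G → ℂ) := IsIrrCharacter.isCharacter χ.2
  have hψc : IsCharacter G (ψ : G → ℂ) := IsIrrCharacter.isCharacter ψ.2
  have hD1 := IsCharacter.charDegree_cast hχc
  have hD2 := IsCharacter.charDegree_cast hψc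
  obtain ⟨d1, ρ1, hρ1⟩ := hχc
  obtain ⟨d2, ρ2, hρ2⟩ := hψc
  obtain ⟨b1, μ1, hμ1, -, hk1, -⟩ :=
    Cfsg.Agent.Lib.Helper05.exists_eigenvalues ρ1 g (isOfFinOrder_of_finite g)
  obtain ⟨b2, μ2, hμ2, -, hk2, -⟩ :=
    Cfsg.Agent.Lib.Helper05.exists_eigenvalues ρ2 g (isOfFinOrder_of_finite g)
  set idx := (Subgroup.centralizer ({g} : Set G)).index with hidx
  set D1 := charDegree (χ : G → ℂ) with hD1def
  set D2 := charDegree (ψ : G → ℂ) with hD2def
  let q : Fin (Module.finrank ℂ (Fin d1 → ℂ)) ⊕ Fin (Module.finrank ℂ (Fin d2 → ℂ)) → ℚ :=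
    Sum.elim (fun _ => (idx : ℚ) / (D1 : ℚ)) (fun _ => -((idx : ℚ) / (D2 : ℚ)))
  let μ : Fin (Module.finrank ℂ (Fin d1 → ℂ)) ⊕ Fin (Module.finrank ℂ (Fin d2 → ℂ)) → ℂ :=
    Sum.elim μ1 μ2
  have hμn : ∀ i, μ i ^ Nat.card G = 1 := by
    obtain ⟨c, hc⟩ := orderOf_dvd_natCard g
    rintro (i | i)
    · simp only [μ, Sum.elim_inl]
      rw [hc, pow_mul, hμ1, one_pow]
    · simp only [μ, Sum.elim_inr]
      rw [hc, pow_mul, hμ2, one_pow]
  have key : ∀ m : ℕ, m.Coprime (Nat.card G) → ∑ i, (q i : ℂ) * μ i ^ m =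
      centralChar (χ : G → ℂ) (g ^ m) - centralChar (ψ : G → ℂ) (g ^ m) := by
    intro m hm
    rw [Fintype.sum_sum_type]
    simp only [q, μ, Sum.elim_inl, Sum.elim_inr]
    rw [← Finset.mul_sum, ← Finset.mul_sum, ← hk1 m, ← hk2 m, hρ1, hρ2, centralChar, centralChar,
      centralizer_pow_coprime g m hm, ← hD1, ← hD2]
    push_cast
    ring
  obtain ⟨r, hr, hr'⟩ := exists_mem_of_forall_pow_mem hM hM' (Nat.card G) Nat.card_pos q μ hμn
    (fun m hm => by
      rw [key m hm]
      have hint : IsIntegral ℤ (centralChar (χ : G → ℂ) (g ^ m) -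
          centralChar (ψ : G → ℂ) (g ^ m)) :=
        (IsIrrCharacter.isIntegral_centralChar χ.2 _).sub
          (IsIrrCharacter.isIntegral_centralChar ψ.2 _)
      refine ⟨⟨_, hint⟩, ?_, rfl⟩
      rw [← memLocalIdeal_algInt_iff hMp]
      exact h (g ^ m))
  refine ⟨r, hr, ?_⟩
  have h1 := key 1 (Nat.coprime_one_left _)
  simp only [pow_one] at h1
  rw [hr', h1]

end BlockIndep

end Cfsg.Agent.Lib.Helper79
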