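import Mathlib
import Cfsg.Prelude.Def_Characters
import Cfsg.Prelude.Def_Blocks
import Cfsg.Agent.Lib.Helper83.Linear
import Cfsg.Agent.Lib.Helper79.FrobSchurCount

set_option autoImplicit false
set_option linter.style.haveILetI false
set_option linter.unusedSectionVars false

namespace Cfsg.Agent.Lib.Helper79

open scoped ComplexConjugate

section BF

universe u
variable {G : Type u} [Group G] [Fintype G]

/-- the data used in the Brauer–Fowler argument, packaged over `ℚ`. -/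
theorem bf_data [Fintype (Cfsg.IrrCharacter G)] [DecidableEq (Cfsg.IrrCharacter G)] :
    ∃ (ν : Cfsg.IrrCharacter G → ℚ),
      (∀ χ, ν χ = 0 ∨ ν χ = 1 ∨ ν χ = -1) ∧
      (∀ χ, ν χ ≠ 0 → ∀ g : G, ((χ : G → ℂ) g).im = 0) ∧
      ν (Cfsg.Agent.Lib.Helper83.trivChar G) = 1 ∧
      Cfsg.charDegree ((Cfsg.Agent.Lib.Helper83.trivChar G : Cfsg.IrrCharacter G) : G → ℂ) = 1 ∧
      (∑ χ : Cfsg.IrrCharacter G, ν χ * (Cfsg.charDegree (χ : G → ℂ) : ℚ) =
        1 + (Nat.card {x : G // orderOf x = 2} : ℚ)) ∧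
      (∑ χ : Cfsg.IrrCharacter G, (Cfsg.charDegree (χ : G → ℂ) : ℚ) ^ 2 = (Nat.card G : ℚ)) := by
  classical
  choose ν hν using fun χ : Cfsg.IrrCharacter G => exists_int_fsInd χ
  have hdeg : ∀ χ : Cfsg.IrrCharacter G, ((Cfsg.charDegree (χ : G → ℂ) : ℕ) : ℂ) = (χ : G → ℂ) 1 :=
    fun χ => Cfsg.Agent.Lib.Helper83.charDegree_cast
      (Cfsg.Agent.Lib.Helper83.IrrCharacter_isCharacter χ)
  refine ⟨fun χ => (ν χ : ℚ), ?_, ?_, ?_, ?_, ?_, ?_⟩
  · intro χ
    rcases (hν χ).1 with h | h | h <;> simp [h]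
  · intro χ h
    apply (hν χ).2.2
    intro h0
    apply h
    simp [h0]
  · have h1 : (ν (Cfsg.Agent.Lib.Helper83.trivChar G) : ℂ) = 1 := by
      rw [(hν _).2.1]
      unfold fsInd
      simp only [Cfsg.Agent.Lib.Helper83.trivChar_apply, Finset.sum_const, Finset.card_univ,
        nsmul_eq_mul, mul_one]
      rw [Nat.card_eq_fintype_card, inv_mul_cancel₀]
      exact_mod_cast Fintype.card_ne_zero
    have h2 : ν (Cfsg.Agent.Lib.Helper83.trivChar G) = 1 := by exact_mod_cast h1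
    simp [h2]
  · have := hdeg (Cfsg.Agent.Lib.Helper83.trivChar G)
    rw [Cfsg.Agent.Lib.Helper83.trivChar_apply] at this
    exact_mod_cast this
  · have h := one_add_card_involutions (G := G)
    have h2 : ((1 + Nat.card {x : G // orderOf x = 2} : ℕ) : ℂ) =
        ((∑ χ : Cfsg.IrrCharacter G, ν χ * (Cfsg.charDegree (χ : G → ℂ) : ℤ) : ℤ) : ℂ) := by
      rw [h]
      push_cast
      refine Finset.sum_congr rfl fun χ _ => ?_
      rw [(hν χ).2.1, ← hdeg χ]
    have h3 : ((1 + Nat.card {x : G // orderOf x = 2} : ℕ) : ℤ) =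
        ∑ χ : Cfsg.IrrCharacter G, ν χ * (Cfsg.charDegree (χ : G → ℂ) : ℤ) := by
      exact_mod_cast h2
    have h4 : (((1 + Nat.card {x : G // orderOf x = 2} : ℕ) : ℤ) : ℚ) =
        ((∑ χ : Cfsg.IrrCharacter G, ν χ * (Cfsg.charDegree (χ : G → ℂ) : ℤ) : ℤ) : ℚ) := by
      rw [h3]
    push_cast at h4
    rw [← h4]
  · have h := Cfsg.Agent.Lib.Helper83.sum_irr_degree_sq (G := G)
    have h2 : ((∑ χ : Cfsg.IrrCharacter G, (Cfsg.charDegree (χ : G → ℂ)) ^ 2 : ℕ) : ℂ) =
        ((Nat.card G : ℕ) : ℂ) := by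
      rw [← h]
      push_cast
      refine Finset.sum_congr rfl fun χ _ => ?_
      rw [hdeg χ]
    have h3 : ∑ χ : Cfsg.IrrCharacter G, (Cfsg.charDegree (χ : G → ℂ)) ^ 2 = Nat.card G := by
      exact_mod_cast h2
    have h4 : ((∑ χ : Cfsg.IrrCharacter G, (Cfsg.charDegree (χ : G → ℂ)) ^ 2 : ℕ) : ℚ) =
        ((Nat.card G : ℕ) : ℚ) := by
      rw [h3]
    push_cast at h4
    exact h4


theorem brauer_fowler (heven : Even (Nat.card G)) (t : ℕ)
    (ht : Nat.card {x : G // orderOf x = 2} = t) :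
    (∃ x : G, x ≠ 1 ∧ ((Subgroup.centralizer ({x} : Set G)).index : ℚ) ≤
        (((Nat.card G : ℚ) - 1) / t) ^ 2) ∧
      ∃ χ : Cfsg.IrrCharacter G, (χ : G → ℂ) ≠ (fun _ => 1) ∧
        (∀ g : G, ((χ : G → ℂ) g).im = 0) ∧
        (Cfsg.charDegree (χ : G → ℂ) : ℚ) ≤ ((Nat.card G : ℚ) - 1) / t := by
  classical
  haveI : Fintype (Cfsg.IrrCharacter G) := Fintype.ofFinite _
  obtain ⟨ν, hν, hreal, hν0, hd0, hsum, hsq⟩ := bf_data (G := G)
  rw [ht] at hsum
  set χ₀ := Cfsg.Agent.Lib.Helper83.trivChar G with hχ₀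
  have hdpos : ∀ χ : Cfsg.IrrCharacter G, (1 : ℚ) ≤ (Cfsg.charDegree (χ : G → ℂ) : ℚ) := by
    intro χ
    exact_mod_cast Cfsg.Agent.Lib.Helper83.irr_charDegree_pos χ
  -- t ≥ 1
  have ht1 : (1 : ℚ) ≤ (t : ℚ) := by
    have h2 : 2 ∣ Nat.card G := even_iff_two_dvd.mp heven
    haveI : Fact (Nat.Prime 2) := ⟨Nat.prime_two⟩
    obtain ⟨x, hx⟩ := exists_prime_orderOf_dvd_card' (G := G) 2 h2
    haveI : Nonempty {x : G // orderOf x = 2} := ⟨⟨x, hx⟩⟩
    have : 0 < Nat.card {x : G // orderOf x = 2} := Nat.card_pos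
    rw [ht] at this
    exact_mod_cast this
  have hN2 : (2 : ℚ) ≤ (Nat.card G : ℚ) := by
    have h2 : 2 ∣ Nat.card G := even_iff_two_dvd.mp heven
    have : 2 ≤ Nat.card G := Nat.le_of_dvd Nat.card_pos h2
    exact_mod_cast this
  set N : ℚ := (Nat.card G : ℚ) with hNdef
  set α : ℚ := (N - 1) / t with hα
  have hαpos : 0 < α := by
    apply div_pos <;> linarith
  have htα : (t : ℚ) * α = N - 1 := by
    rw [hα]; field_simp
  set S := (Finset.univ : Finset (Cfsg.IrrCharacter G)).erase χ₀ with hS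
  have hsumS : ∑ χ ∈ S, ν χ * (Cfsg.charDegree (χ : G → ℂ) : ℚ) = t := by
    have := Finset.add_sum_erase Finset.univ
      (fun χ : Cfsg.IrrCharacter G => ν χ * (Cfsg.charDegree (χ : G → ℂ) : ℚ))
      (Finset.mem_univ χ₀)
    rw [hsum, hν0, hd0] at this
    simp only [Nat.cast_one, mul_one] at this
    linarith
  have hsqS : ∑ χ ∈ S, (Cfsg.charDegree (χ : G → ℂ) : ℚ) ^ 2 = N - 1 := by
    have := Finset.add_sum_erase Finset.univ
      (fun χ : Cfsg.IrrCharacter G => (Cfsg.charDegree (χ : G → ℂ) : ℚ) ^ 2)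
      (Finset.mem_univ χ₀)
    rw [hsq, hd0] at this
    simp only [Nat.cast_one, one_pow] at this
    linarith
  have hSne : S.Nonempty := by
    rw [Finset.nonempty_iff_ne_empty]
    intro h
    rw [h, Finset.sum_empty] at hsumS
    linarith
  constructor
  · -- part (a)
    by_contra hcon
    push Not at hcon
    have hle : (t : ℚ) ≤ ∑ χ ∈ S, (Cfsg.charDegree (χ : G → ℂ) : ℚ) := by
      rw [← hsumS]
      apply Finset.sum_le_sum
      intro χ _
      have hd := hdpos χ
      rcases hν χ with h | h | h <;> rw [h] <;> nlinarith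
    have hcs : (∑ χ ∈ S, (Cfsg.charDegree (χ : G → ℂ) : ℚ)) ^ 2 ≤
        (S.card : ℚ) * ∑ χ ∈ S, (Cfsg.charDegree (χ : G → ℂ) : ℚ) ^ 2 :=
      sq_sum_le_card_mul_sum_sq
    rw [hsqS] at hcs
    have ht2 : (t : ℚ) ^ 2 ≤ (S.card : ℚ) * (N - 1) := by
      have h0 : (0 : ℚ) ≤ t := by linarith
      calc (t : ℚ) ^ 2 ≤ (∑ χ ∈ S, (Cfsg.charDegree (χ : G → ℂ) : ℚ)) ^ 2 := by
            apply pow_le_pow_left₀ h0 hle
        _ ≤ (S.card : ℚ) * (N - 1) := hcs
    have hScard : (S.card : ℚ) + 1 = (Fintype.card (Cfsg.IrrCharacter G) : ℚ) := by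
      have := Finset.card_erase_add_one (Finset.mem_univ χ₀)
      rw [Finset.card_univ] at this
      exact_mod_cast this
    -- centralizers
    have hcent := sum_card_centralizer (G := G)
    have hcentQ : ∑ g : G, (Nat.card (Subgroup.centralizer ({g} : Set G)) : ℚ) =
        (Fintype.card (Cfsg.IrrCharacter G) : ℚ) * N := by
      have : ((∑ g : G, Nat.card (Subgroup.centralizer ({g} : Set G)) : ℕ) : ℚ) =
          ((Fintype.card (Cfsg.IrrCharacter G) * Nat.card G : ℕ) : ℚ) := by rw [hcent]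
      push_cast at this
      exact this
    have hc1 : (Nat.card (Subgroup.centralizer ({(1 : G)} : Set G)) : ℚ) = N := by
      rw [Cfsg.Agent.Lib.Helper83.centralizer_one_card]
    have hsum1 : ∑ g ∈ (Finset.univ : Finset G).erase 1,
        (Nat.card (Subgroup.centralizer ({g} : Set G)) : ℚ) = (S.card : ℚ) * N := by
      have := Finset.add_sum_erase Finset.univ
        (fun g : G => (Nat.card (Subgroup.centralizer ({g} : Set G)) : ℚ)) (Finset.mem_univ 1)
      rw [hcentQ, hc1, ← hScard] at this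
      linarith
    have hne1 : ((Finset.univ : Finset G).erase 1).Nonempty := by
      rw [← Finset.card_pos, Finset.card_erase_of_mem (Finset.mem_univ 1), Finset.card_univ]
      have h2 : 2 ∣ Nat.card G := even_iff_two_dvd.mp heven
      have : 2 ≤ Nat.card G := Nat.le_of_dvd Nat.card_pos h2
      rw [Nat.card_eq_fintype_card] at this
      omega
    have hlt : ∑ g ∈ (Finset.univ : Finset G).erase 1,
        α ^ 2 * (Nat.card (Subgroup.centralizer ({g} : Set G)) : ℚ) <
        ∑ g ∈ (Finset.univ : Finset G).erase 1, N := by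
      apply Finset.sum_lt_sum_of_nonempty hne1
      intro x hx
      have hx1 : x ≠ 1 := Finset.ne_of_mem_erase hx
      have h1 := hcon x hx1
      have h2 := (Subgroup.centralizer ({x} : Set G)).card_mul_index
      have h3 : (Nat.card (Subgroup.centralizer ({x} : Set G)) : ℚ) *
          ((Subgroup.centralizer ({x} : Set G)).index : ℚ) = N := by
        rw [hNdef, ← h2]; push_cast; ring
      have hcpos : (0 : ℚ) < (Nat.card (Subgroup.centralizer ({x} : Set G)) : ℚ) := by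
        exact_mod_cast Nat.card_pos
      calc α ^ 2 * (Nat.card (Subgroup.centralizer ({x} : Set G)) : ℚ)
          < ((Subgroup.centralizer ({x} : Set G)).index : ℚ) *
            (Nat.card (Subgroup.centralizer ({x} : Set G)) : ℚ) :=
            mul_lt_mul_of_pos_right h1 hcpos
        _ = N := by rw [mul_comm]; exact h3
    rw [← Finset.mul_sum, hsum1, Finset.sum_const, Finset.card_erase_of_mem (Finset.mem_univ 1),
      Finset.card_univ, nsmul_eq_mul] at hlt
    have hcardG : ((Fintype.card G - 1 : ℕ) : ℚ) = N - 1 := by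
      rw [hNdef, Nat.card_eq_fintype_card]
      have : 1 ≤ Fintype.card G := Fintype.card_pos
      push_cast [this]
      ring
    rw [hcardG] at hlt
    -- α² (k-1) N < (N-1) N
    have hNpos : 0 < N := by linarith
    have h5 : α ^ 2 * (S.card : ℚ) < N - 1 := by
      have : α ^ 2 * ((S.card : ℚ) * N) = (α ^ 2 * (S.card : ℚ)) * N := by ring
      rw [this] at hlt
      exact lt_of_mul_lt_mul_right hlt hNpos.le
    have h6 : α ^ 2 * (t : ℚ) ^ 2 = (N - 1) ^ 2 := by
      rw [← mul_pow, mul_comm, htα]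
    have htpos : (0 : ℚ) < (t : ℚ) ^ 2 := by positivity
    have h7 : (N - 1) ^ 2 * (S.card : ℚ) < (N - 1) * (t : ℚ) ^ 2 := by
      have := mul_lt_mul_of_pos_right h5 htpos
      calc (N - 1) ^ 2 * (S.card : ℚ) = α ^ 2 * (S.card : ℚ) * (t : ℚ) ^ 2 := by
            rw [← h6]; ring
        _ < (N - 1) * (t : ℚ) ^ 2 := this
    have hN1 : 0 < N - 1 := by linarith
    have h8 : (N - 1) * (S.card : ℚ) < (t : ℚ) ^ 2 := by
      have : (N - 1) * ((N - 1) * (S.card : ℚ)) < (N - 1) * (t : ℚ) ^ 2 := by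
        calc (N - 1) * ((N - 1) * (S.card : ℚ)) = (N - 1) ^ 2 * (S.card : ℚ) := by ring
          _ < (N - 1) * (t : ℚ) ^ 2 := h7
      exact lt_of_mul_lt_mul_left this hN1.le
    linarith
  · -- part (b)
    by_contra hcon
    push Not at hcon
    have hlt : ∑ χ ∈ S, ν χ * (Cfsg.charDegree (χ : G → ℂ) : ℚ) * α <
        ∑ χ ∈ S, (Cfsg.charDegree (χ : G → ℂ) : ℚ) ^ 2 := by
      apply Finset.sum_lt_sum_of_nonempty hSne
      intro χ hχ
      have hχne : χ ≠ χ₀ := Finset.ne_of_mem_erase hχ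
      have hfun : (χ : G → ℂ) ≠ fun _ => 1 := by
        intro h
        apply hχne
        apply Subtype.ext
        rw [h]
        rfl
      have hd := hdpos χ
      rcases hν χ with h | h | h
      · rw [h]; nlinarith
      · have := hcon χ hfun (hreal χ (by rw [h]; exact one_ne_zero))
        rw [h]; nlinarith
      · rw [h]; nlinarith
    rw [← Finset.sum_mul, hsumS, hsqS, htα] at hlt
    exact lt_irrefl _ hlt

end BF

end Cfsg.Agent.Lib.Helper79
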