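import Mathlib
import Cfsg.Prelude.Def_Characters
import Cfsg.Agent.Lib.Helper05.BrauerPerm
import Cfsg.Agent.Lib.Helper64.PrimDer
import Cfsg.Agent.Lib.Helper83.SecondOrth
import Cfsg.Agent.Lib.Helper84.NormalAction

set_option autoImplicit false
set_option linter.style.haveILetI false
set_option linter.unusedSectionVars false

namespace Cfsg.Agent.Lib.Helper79

open Cfsg

universe u

/-- an automorphism fixing every irreducible character fixes every conjugacy class
(Brauer's permutation lemma). -/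
theorem isConj_of_irr_invariant {N : Type u} [Group N] [Finite N] (φ : N ≃* N)
    (hinv : ∀ θ : IrrCharacter N, (fun n => (θ : N → ℂ) (φ n)) = (θ : N → ℂ)) :
    ∀ n : N, IsConj (φ n) n := by
  classical
  haveI : Fintype N := Fintype.ofFinite N
  haveI : Fintype (IrrCharacter N) := Fintype.ofFinite _
  have hf : ∀ g h : N, IsConj g h → IsConj (φ g) (φ h) := by
    intro g h hgh
    rw [isConj_iff] at hgh ⊢
    obtain ⟨c, hc⟩ := hgh
    exact ⟨φ c, by rw [← hc]; simp⟩
  have hirr : ∀ χ : IrrCharacter N, IsIrrCharacter N (fun g => (χ : N → ℂ) (φ g)) :=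
    fun χ => Cfsg.Agent.Lib.Helper84.isIrrCharacter_comp_mulEquiv φ χ.2
  have h1 := Cfsg.Agent.Lib.Helper05.card_fixed_irr_eq_card_fixed_classes (φ : N → N) hf hirr
  have h2 : Nat.card {χ : IrrCharacter N // (fun g => (χ : N → ℂ) (φ g)) = (χ : N → ℂ)} =
      Nat.card (IrrCharacter N) :=
    Nat.card_congr (Equiv.subtypeUnivEquiv hinv)
  rw [h2, Cfsg.Agent.Lib.Helper83.card_irr_eq_card_conjClasses] at h1
  intro n
  by_contra hn
  have hlt : Nat.card {C : ConjClasses N // ∀ g, ConjClasses.mk g = C → IsConj (φ g) g} <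
      Nat.card (ConjClasses N) := by
    rw [Nat.card_eq_fintype_card, Nat.card_eq_fintype_card]
    apply Fintype.card_subtype_lt (x := ConjClasses.mk n)
    intro h
    exact hn (h n rfl)
  omega

/-- an automorphism of `p`-power order of a `p'`-group which fixes every conjugacy class
is trivial. -/
theorem eq_of_isConj_of_pow {N : Type u} [Group N] [Finite N] (p : ℕ) [Fact p.Prime]
    (hpN : ¬ p ∣ Nat.card N) (φ : MulAut N) (k : ℕ) (hφ : φ ^ (p ^ k) = 1)
    (hcl : ∀ n : N, IsConj (φ n) n) : ∀ n : N, φ n = n := by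
  classical
  haveI : Fintype N := Fintype.ofFinite N
  set H : Subgroup N := MonoidHom.eqLocus φ.toMonoidHom (MonoidHom.id N) with hH
  have hmem : ∀ n : N, n ∈ H ↔ φ n = n := fun n => Iff.rfl
  have htop : H = ⊤ := by
    by_contra hne
    obtain ⟨t, ht⟩ := Cfsg.Agent.Lib.Helper64.exists_forall_conj_notMem H hne
    -- the class of t
    have hinvar : ∀ h : N, IsConj t ((MulAut.toPerm N φ) h) ↔ IsConj t h := by
      intro h
      have : IsConj ((MulAut.toPerm N φ) h) h := hcl h
      constructor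
      · intro h1; exact h1.trans this
      · intro h1; exact h1.trans this.symm
    set σ : Equiv.Perm {h : N // IsConj t h} := (MulAut.toPerm N φ).subtypePerm hinvar with hσ
    have hσpow : σ ^ p ^ k = 1 := by
      rw [hσ, Equiv.Perm.subtypePerm_pow]
      have : (MulAut.toPerm N φ) ^ (p ^ k) = 1 := by
        rw [← map_pow, hφ, map_one]
      simp only [this]
      rfl
    have hcard : ¬ p ∣ Fintype.card {h : N // IsConj t h} := by
      intro hd
      apply hpN
      have := Cfsg.Agent.Lib.Helper83.card_centralizer_mul_card_conj t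
      rw [← this, Nat.card_eq_fintype_card (α := {h : N // IsConj t h})]
      exact Dvd.dvd.mul_left hd _
    obtain ⟨a, ha⟩ := Equiv.Perm.exists_fixed_point_of_prime hcard hσpow
    have ha' : φ a.1 = a.1 := by
      have := congrArg Subtype.val ha
      rw [hσ, Equiv.Perm.subtypePerm_apply] at this
      exact this
    obtain ⟨c, hc⟩ := isConj_iff.mp a.2
    apply ht c⁻¹
    rw [inv_inv, hc, hmem]
    exact ha'
  intro n
  rw [← hmem, htop]
  exact Subgroup.mem_top n

/-- in an (abelian `p`-group)-by-`p'` extension, a `p`-element centralizing the kernel is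
central. -/
theorem conj_eq_of_centralizing {G : Type u} [Group G] [Finite G] (p : ℕ) [Fact p.Prime]
    (N : Subgroup G) [N.Normal] (hpN : ¬ p ∣ Nat.card N)
    (hQab : ∀ a b : G ⧸ N, a * b = b * a) (y : G) (k : ℕ) (hy : y ^ (p ^ k) = 1)
    (hcen : ∀ n ∈ N, y * n = n * y) (g : G) :
    g * y * g⁻¹ = y := by
  set z := g * y * g⁻¹ * y⁻¹ with hz
  have hzN : z ∈ N := by
    rw [← QuotientGroup.eq_one_iff]
    have h1 : (QuotientGroup.mk z : G ⧸ N) =
        (QuotientGroup.mk g : G ⧸ N) * QuotientGroup.mk y * (QuotientGroup.mk g)⁻¹ *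
          (QuotientGroup.mk y)⁻¹ := by
      rw [hz]; simp
    rw [h1, hQab (QuotientGroup.mk g) (QuotientGroup.mk y)]
    group
  have hconj : g * y * g⁻¹ = z * y := by rw [hz]; group
  have hzc : Commute z y := (hcen z hzN).symm
  have h1 : (z * y) ^ (p ^ k) = 1 := by
    rw [← hconj]
    have : (g * y * g⁻¹) ^ (p ^ k) = g * y ^ (p ^ k) * g⁻¹ := by
      rw [conj_pow]
    rw [this, hy, mul_one, mul_inv_cancel]
  rw [hzc.mul_pow, hy, mul_one] at h1
  have ho1 : orderOf z ∣ p ^ k := orderOf_dvd_of_pow_eq_one h1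
  have ho2 : orderOf z ∣ Nat.card N := by
    have h2 : orderOf (⟨z, hzN⟩ : N) ∣ Nat.card N := orderOf_dvd_natCard _
    have h3 : orderOf (⟨z, hzN⟩ : N) = orderOf z := by
      rw [← Subgroup.orderOf_coe]
    rwa [h3] at h2
  have hcop : Nat.Coprime (p ^ k) (Nat.card N) :=
    Nat.Coprime.pow_left k ((Nat.Prime.coprime_iff_not_dvd (Fact.out)).mpr hpN)
  have hz1 : z = 1 := orderOf_eq_one_iff.mp (Nat.eq_one_of_dvd_coprimes hcop ho1 ho2)
  rw [hconj, hz1, one_mul]

end Cfsg.Agent.Lib.Helper79
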