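import Mathlib
import Cfsg.Prelude.Def_Characters
import Cfsg.Prelude.Def_Blocks
import Cfsg.Agent.Lib.Helper79.BLCentral
import Cfsg.Agent.Lib.Helper83.Quotient
import Cfsg.Agent.Lib.Helper83.Decompose
import Cfsg.Agent.Lib.Helper83.Orthogonality

/-!
# Winter's theorem: the character computation on a class-two section (helper79)
-/

set_option autoImplicit false

namespace Cfsg.Agent.Lib.Helper79.Winter

open scoped ComplexConjugate
open Cfsg
open Cfsg.Agent.Lib.Helper83

universe u
variable {G : Type u} [Group G]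

/-- `|χ(z)|² = χ(1)²` for central `z` -/
theorem irr_central_norm [Fintype G] {χ : G → ℂ} (hχ : IsIrrCharacter G χ) (z : G)
    (hz : ∀ a : G, a * z = z * a) : χ z * conj (χ z) = χ 1 * χ 1 := by
  have h := Cfsg.Agent.Lib.Helper79.irr_mul_central hχ z⁻¹ z hz
  rw [inv_mul_cancel] at h
  have hinv := char_inv (isCharacter_of_irr hχ) z
  have hne := Cfsg.Agent.Lib.Helper79.irr_one_ne_zero hχ
  rw [hinv, eq_div_iff hne] at h
  rw [h]
  ring

/-- the degree is real -/
theorem irr_one_conj {χ : G → ℂ} (hχ : IsCharacter G χ) : conj (χ 1) = χ 1 := by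
  rw [← charDegree_cast hχ]
  exact Complex.conj_natCast _

/-- an irreducible character vanishes at `g` if some commutator `g⁻¹ h g h⁻¹` is central
and outside the kernel -/
theorem irr_vanish_of_central_comm [Fintype G] {χ : G → ℂ} (hχ : IsIrrCharacter G χ) (g h : G)
    (hc : ∀ a : G, a * (g⁻¹ * h * g * h⁻¹) = (g⁻¹ * h * g * h⁻¹) * a)
    (hne : χ (g⁻¹ * h * g * h⁻¹) ≠ χ 1) : χ g = 0 := by
  have h1 : χ (h * g * h⁻¹) = χ g := char_conj_eq (isCharacter_of_irr hχ) g h
  have h2 : h * g * h⁻¹ = g * (g⁻¹ * h * g * h⁻¹) := by group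
  rw [h2, Cfsg.Agent.Lib.Helper79.irr_mul_central hχ _ _ hc] at h1
  by_contra hg
  apply hne
  have hne1 := Cfsg.Agent.Lib.Helper79.irr_one_ne_zero hχ
  have h3 := (div_eq_iff hne1).mp h1
  exact mul_left_cancel₀ hg h3

theorem char_core [Finite G] (χ : IrrCharacter G)
    (hfaith : ∀ g : G, (χ : G → ℂ) g = (χ : G → ℂ) 1 → g = 1)
    (M L : Subgroup G) (hLM : L ≤ M) (hLZ : L ≤ Subgroup.center G)
    (hvan : ∀ g ∈ M, g ∉ L → ∃ h : G, g⁻¹ * h * g * h⁻¹ ∈ Subgroup.center G ∧
      g⁻¹ * h * g * h⁻¹ ≠ 1)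
    (hcase : (∀ a ∈ M, ∀ b ∈ M, a * b = b * a) ∨
        (∀ g ∈ M, g ∉ L → ∃ h ∈ M, g⁻¹ * h * g * h⁻¹ ∈ L ∧ g⁻¹ * h * g * h⁻¹ ≠ 1)) :
    L.relIndex M ∣ charDegree (χ : G → ℂ) ∨
      ∃ d : ℕ, d ∣ charDegree (χ : G → ℂ) ∧ d * d = L.relIndex M := by
  classical
  haveI : Fintype G := Fintype.ofFinite G
  haveI : Fintype M := Fintype.ofFinite M
  haveI : Fintype (IrrCharacter M) := Fintype.ofFinite _
  set X : G → ℂ := (χ : G → ℂ) with hX
  have hXirr : IsIrrCharacter G X := χ.2
  have hXchar : IsCharacter G X := isCharacter_of_irr hXirr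
  have hX1 : X 1 ≠ 0 := Cfsg.Agent.Lib.Helper79.irr_one_ne_zero hXirr
  set n := charDegree X with hn
  have hn1 : (n : ℂ) = X 1 := charDegree_cast hXchar
  have hX1c : conj (X 1) = X 1 := irr_one_conj hXchar
  have hcenL : ∀ l ∈ L, ∀ a : G, a * l = l * a :=
    fun l hl a => Subgroup.mem_center_iff.mp (hLZ hl) a
  -- `χ` vanishes on `M \ L`
  have hXvan : ∀ g ∈ M, g ∉ L → X g = 0 := by
    intro g hgM hgL
    obtain ⟨h, hc, hne⟩ := hvan g hgM hgL
    apply irr_vanish_of_central_comm hXirr g h (fun a => Subgroup.mem_center_iff.mp hc a)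
    intro heq
    exact hne (hfaith _ heq)
  -- restriction
  set XM : M → ℂ := fun m => X (m : G) with hXM
  have hXMchar : IsCharacter M XM := isCharacter_restrict M hXchar
  have hdecomp := char_eq_sum_irrMult hXMchar
  have hex : ∃ ψ : IrrCharacter M, irrMult XM ψ ≠ 0 := by
    by_contra hcon
    push Not at hcon
    have h0 : XM = 0 := by
      rw [hdecomp]
      apply Finset.sum_eq_zero
      intro ψ _
      rw [hcon ψ]
      simp
    have h1 : XM 1 = 0 := by rw [h0]; rfl
    exact hX1 h1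
  obtain ⟨ψ, hψa⟩ := hex
  set a := irrMult XM ψ with ha
  set Y : M → ℂ := (ψ : M → ℂ) with hY
  have hYirr : IsIrrCharacter M Y := ψ.2
  have hYchar : IsCharacter M Y := isCharacter_of_irr hYirr
  have hY1 : Y 1 ≠ 0 := Cfsg.Agent.Lib.Helper79.irr_one_ne_zero hYirr
  set d := charDegree Y with hd
  have hd1 : (d : ℂ) = Y 1 := charDegree_cast hYchar
  have hY1c : conj (Y 1) = Y 1 := irr_one_conj hYchar
  have hinner : (a : ℂ) = classInner XM Y := irrMult_cast hXMchar ψ
  have hcardM : (Nat.card M : ℂ) ≠ 0 := by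
    have : 0 < Nat.card M := Nat.card_pos
    exact_mod_cast this.ne'
  have hsum : ∑ m : M, XM m * conj (Y m) = (a : ℂ) * (Nat.card M : ℂ) := by
    rw [hinner, classInner_def]
    field_simp
  have hSne : ∑ m : M, XM m * conj (Y m) ≠ 0 := by
    rw [hsum]
    exact mul_ne_zero (by exact_mod_cast hψa) hcardM
  -- central elements of `M` coming from `L`
  have hcenM : ∀ (l : G) (hl : l ∈ L), ∀ m : M, m * ⟨l, hLM hl⟩ = ⟨l, hLM hl⟩ * m := by
    intro l hl m
    apply Subtype.ext
    exact hcenL l hl m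
  have hYnorm : ∀ (l : G) (hl : l ∈ L),
      Y ⟨l, hLM hl⟩ * conj (Y ⟨l, hLM hl⟩) = Y 1 * Y 1 :=
    fun l hl => irr_central_norm hYirr _ (hcenM l hl)
  have hXnorm : ∀ l ∈ L, X l * conj (X l) = X 1 * X 1 :=
    fun l hl => irr_central_norm hXirr _ (hcenL l hl)
  -- the central characters agree
  have hω : ∀ (l : G) (hl : l ∈ L), Y ⟨l, hLM hl⟩ / Y 1 = X l / X 1 := by
    intro l hl
    set l' : M := ⟨l, hLM hl⟩ with hl'
    have hshift : ∑ m : M, XM m * conj (Y m) =
        (X l / X 1) * conj (Y l' / Y 1) * ∑ m : M, XM m * conj (Y m) := by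
      conv_lhs => rw [← Equiv.sum_comp (Equiv.mulRight l') (fun m => XM m * conj (Y m))]
      rw [Finset.mul_sum]
      refine Finset.sum_congr rfl fun m _ => ?_
      have e1 : XM ((Equiv.mulRight l') m) = X (m : G) * X l / X 1 := by
        show X ((m : G) * l) = _
        exact Cfsg.Agent.Lib.Helper79.irr_mul_central hXirr _ _ (hcenL l hl)
      have e2 : Y ((Equiv.mulRight l') m) = Y m * Y l' / Y 1 := by
        show Y (m * l') = _
        exact Cfsg.Agent.Lib.Helper79.irr_mul_central hYirr _ _ (hcenM l hl)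
      rw [e1, e2]
      simp only [map_div₀, map_mul]
      ring
    have h1 : (X l / X 1) * conj (Y l' / Y 1) = 1 := by
      have h2 : (1 - (X l / X 1) * conj (Y l' / Y 1)) * ∑ m : M, XM m * conj (Y m) = 0 := by
        rw [sub_mul, one_mul, ← hshift, sub_self]
      rcases mul_eq_zero.mp h2 with h3 | h3
      · exact (sub_eq_zero.mp h3).symm
      · exact absurd h3 hSne
    have h2 : (Y l' / Y 1) * conj (Y l' / Y 1) = 1 := by
      rw [map_div₀, hY1c, div_mul_div_comm, hYnorm l hl]
      exact div_self (mul_ne_zero hY1 hY1)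
    have h3 : conj (Y l' / Y 1) ≠ 0 := by
      intro h0
      rw [h0, mul_zero] at h1
      exact zero_ne_one h1
    exact mul_right_cancel₀ h3 (h2.trans h1.symm)
  -- the subgroup `L' = L ∩ M` of `M`
  set L' : Subgroup M := L.subgroupOf M with hL'
  have hmemL' : ∀ m : M, m ∈ L' ↔ (m : G) ∈ L := fun m => Subgroup.mem_subgroupOf
  haveI : Fintype L' := Fintype.ofFinite L'
  have hcardL' : Nat.card L' * L.relIndex M = Nat.card M := Subgroup.card_mul_index L'
  have hcardL'ne : (Nat.card L' : ℂ) ≠ 0 := by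
    have : 0 < Nat.card L' := Nat.card_pos
    exact_mod_cast this.ne'
  have hconst : ∀ c : ℂ, (∑ m : M, if m ∈ L' then c else 0) = (Nat.card L' : ℂ) * c := by
    intro c
    rw [← sum_subgroup_eq_sum_ite L' (fun _ => c)]
    rw [Finset.sum_const, Finset.card_univ, nsmul_eq_mul, Nat.card_eq_fintype_card]
  -- the main count
  have hmain : (a : ℂ) * (Nat.card M : ℂ) = (Nat.card L' : ℂ) * (X 1 * Y 1) := by
    rw [← hsum, ← hconst]
    refine Finset.sum_congr rfl fun m _ => ?_
    by_cases hm : m ∈ L'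
    · rw [if_pos hm]
      have hmL : (m : G) ∈ L := (hmemL' m).mp hm
      have h1 := hω (m : G) hmL
      have h2 : Y m = Y 1 * (X (m : G) / X 1) := by
        rw [← h1]
        field_simp
      rw [h2]
      show X (m : G) * conj (Y 1 * (X (m : G) / X 1)) = _
      rw [map_mul, map_div₀, hY1c, hX1c]
      have h3 := hXnorm _ hmL
      have : X (m : G) * (Y 1 * (conj (X (m : G)) / X 1)) =
          (X (m : G) * conj (X (m : G))) * Y 1 / X 1 := by ring
      rw [this, h3]
      field_simp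
    · rw [if_neg hm]
      have hmL : (m : G) ∉ L := fun h => hm ((hmemL' m).mpr h)
      show X (m : G) * _ = 0
      rw [hXvan _ m.2 hmL, zero_mul]
  have hmainN : a * L.relIndex M = n * d := by
    have h1 : (a : ℂ) * ((Nat.card L' : ℂ) * (L.relIndex M : ℂ)) =
        (Nat.card L' : ℂ) * ((n : ℂ) * (d : ℂ)) := by
      rw [hn1, hd1, ← hmain, ← hcardL']
      push_cast
      ring
    have h2 : (Nat.card L' : ℂ) * ((a : ℂ) * (L.relIndex M : ℂ)) =
        (Nat.card L' : ℂ) * ((n : ℂ) * (d : ℂ)) := by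
      rw [← h1]; ring
    have h3 := mul_left_cancel₀ hcardL'ne h2
    exact_mod_cast h3
  -- the norm of `ψ`
  have hnormY : ∑ m : M, Y m * conj (Y m) = (Nat.card M : ℂ) := by
    have h1 : classInner Y Y = 1 := irr_inner_self ψ
    rw [classInner_def] at h1
    field_simp at h1
    exact h1
  have hdpos : d ≠ 0 := by
    intro h0
    apply hY1
    rw [← hd1, h0]
    simp
  rcases hcase with hab | hZ
  · -- `M` abelian
    left
    have hall : ∀ m : M, Y m * conj (Y m) = Y 1 * Y 1 := by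
      intro m
      apply irr_central_norm hYirr
      intro b
      apply Subtype.ext
      exact hab b b.2 m m.2
    have h1 : (Nat.card M : ℂ) * (Y 1 * Y 1) = (Nat.card M : ℂ) := by
      conv_rhs => rw [← hnormY]
      rw [Finset.sum_congr rfl (fun m _ => hall m), Finset.sum_const, Finset.card_univ,
        nsmul_eq_mul, Nat.card_eq_fintype_card]
    have h2 : Y 1 * Y 1 = 1 := by
      have : (Nat.card M : ℂ) * (Y 1 * Y 1) = (Nat.card M : ℂ) * 1 := by rw [h1, mul_one]
      exact mul_left_cancel₀ hcardM this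
    have h3 : d * d = 1 := by
      rw [← hd1] at h2
      exact_mod_cast h2
    have h4 : d = 1 := by
      have := Nat.eq_one_of_mul_eq_one_left h3
      exact this
    rw [h4, mul_one] at hmainN
    exact ⟨a, by rw [← hmainN, mul_comm]⟩
  · -- `Z(M) = L`
    right
    have hYvan : ∀ m : M, m ∉ L' → Y m = 0 := by
      intro m hm
      have hmL : (m : G) ∉ L := fun h => hm ((hmemL' m).mpr h)
      obtain ⟨h, hhM, hcL, hcne⟩ := hZ _ m.2 hmL
      set h' : M := ⟨h, hhM⟩ with hh'
      have hcoe : ((m⁻¹ * h' * m * h'⁻¹ : M) : G) = (m : G)⁻¹ * h * (m : G) * h⁻¹ := by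
        push_cast
        rfl
      have hcmem : m⁻¹ * h' * m * h'⁻¹ = ⟨(m : G)⁻¹ * h * (m : G) * h⁻¹, hLM hcL⟩ :=
        Subtype.ext hcoe
      apply irr_vanish_of_central_comm hYirr m h'
      · rw [hcmem]
        exact hcenM _ hcL
      · rw [hcmem]
        intro heq
        have h1 := hω _ hcL
        rw [heq, div_self hY1] at h1
        have h2 : X ((m : G)⁻¹ * h * (m : G) * h⁻¹) = X 1 := by
          have := (eq_div_iff hX1).mp h1
          rw [one_mul] at this
          exact this.symm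
        exact hcne (hfaith _ h2)
    have h1 : (Nat.card M : ℂ) = (Nat.card L' : ℂ) * (Y 1 * Y 1) := by
      rw [← hnormY, ← hconst]
      refine Finset.sum_congr rfl fun m _ => ?_
      by_cases hm : m ∈ L'
      · rw [if_pos hm]
        have hmL : (m : G) ∈ L := (hmemL' m).mp hm
        exact hYnorm _ hmL
      · rw [if_neg hm, hYvan m hm, zero_mul]
    have h2 : L.relIndex M = d * d := by
      have h3 : (Nat.card L' : ℂ) * (L.relIndex M : ℂ) = (Nat.card L' : ℂ) * ((d : ℂ) * (d : ℂ)) := by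
        rw [hd1, ← h1, ← hcardL']
        push_cast
        ring
      have h4 := mul_left_cancel₀ hcardL'ne h3
      exact_mod_cast h4
    refine ⟨d, ?_, h2.symm⟩
    rw [h2] at hmainN
    have h5 : d * (a * d) = d * n := by
      rw [mul_comm d n, ← hmainN]; ring
    have h6 := Nat.eq_of_mul_eq_mul_left (Nat.pos_of_ne_zero hdpos) h5
    exact ⟨a, by rw [← h6, mul_comm]⟩

end Cfsg.Agent.Lib.Helper79.Winter
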