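import Mathlib
import Cfsg.Prelude.Def_Characters
import Cfsg.Prelude.Def_Blocks
import Cfsg.Agent.Lib.Helper79.BLCentral
import Cfsg.Agent.Lib.Helper79.WinterD
import Cfsg.Agent.Lib.Helper79.CentralDefect
import Cfsg.Agent.Lib.Helper83.Central

/-!
# Products of Galois conjugate characters: the class-two section (helper79)

`B ⊴ G` with `[B, B] ≤ Z(G)`, `Z(B) ≤ Z(G)`, `χ` a faithful irreducible character of `G`.
We prove `|χ(g)|² = w(g) Δ(g)` where `Δ` is the average of `|χ|²` over the coset `g B` and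
`w(g)` is `|C_B(g)| / |B ∩ Z(G)|` for "good" `g` and `0` otherwise.
-/

set_option autoImplicit false

namespace Cfsg.Agent.Lib.Helper79.GalProd

open scoped ComplexConjugate
open Cfsg
open Cfsg.Agent.Lib.Helper83

universe u
variable {G : Type u} [Group G]

/-- the commutator `g⁻¹ u g u⁻¹` -/
def cm (g u : G) : G := g⁻¹ * u * g * u⁻¹

theorem cm_def (g u : G) : cm g u = g⁻¹ * u * g * u⁻¹ := rfl

theorem cm_eq_one_iff (g u : G) : cm g u = 1 ↔ u * g = g * u := by
  unfold cm
  constructor
  · intro h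
    have h1 : g⁻¹ * u * g = u := by
      have := congrArg (· * u) h
      simpa [mul_assoc] using this
    calc u * g = g * (g⁻¹ * u * g) := by group
      _ = g * u := by rw [h1]
  · intro h
    calc g⁻¹ * u * g * u⁻¹ = g⁻¹ * (u * g) * u⁻¹ := by group
      _ = g⁻¹ * (g * u) * u⁻¹ := by rw [h]
      _ = 1 := by group

theorem cm_one_left (u : G) : cm 1 u = 1 := by
  unfold cm; group

theorem cm_of_comm {g u : G} (h : u * g = g * u) : cm g u = 1 := (cm_eq_one_iff g u).2 h

theorem cm_mem {B : Subgroup G} (hB : B.Normal) (g : G) {u : G} (hu : u ∈ B) : cm g u ∈ B := by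
  unfold cm
  have h1 : g⁻¹ * u * g ∈ B := by
    have := hB.conj_mem u hu g⁻¹
    simpa using this
  exact B.mul_mem h1 (B.inv_mem hu)

/-- multiplicativity in the second variable -/
theorem cm_mul_right (g u₀ u : G) : cm g (u₀ * u) = cm g u₀ * (u₀ * cm g u * u₀⁻¹) := by
  unfold cm; group

/-- multiplicativity in the first variable -/
theorem cm_mul_left (b c u : G) : cm (b * c) u = (c⁻¹ * cm b u * c) * cm c u := by
  unfold cm; group

/-- hypotheses on the class-two normal section -/
structure Sec (B : Subgroup G) : Prop where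
  normal : B.Normal
  cc : ∀ b ∈ B, ∀ c ∈ B, cm b c ∈ Subgroup.center G
  cl : ∀ b ∈ B, (∀ c ∈ B, c * b = b * c) → b ∈ Subgroup.center G

/-- `g` is good for `B`: every central commutator `[g, u]`, `u ∈ B`, is trivial -/
def Good (B : Subgroup G) (g : G) : Prop :=
  ∀ u ∈ B, cm g u ∈ Subgroup.center G → cm g u = 1

theorem good_one (B : Subgroup G) : Good B 1 := fun u _ _ => cm_one_left u

section Char

variable [Fintype G] {χ : G → ℂ} (hχ : IsIrrCharacter G χ)
  (hf : ∀ g : G, χ g = χ 1 → g = 1) {B : Subgroup G} (hB : Sec B)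

include hχ hf in
/-- a character value at a product with a central element -/
theorem val_mul_central (y z : G) (hz : z ∈ Subgroup.center G) :
    χ (z * y) = χ y * χ z / χ 1 := by
  have hzc : ∀ a : G, a * z = z * a := fun a => (Subgroup.mem_center_iff.mp hz a)
  have : z * y = y * z := (hzc y).symm
  rw [this]
  exact Cfsg.Agent.Lib.Helper79.irr_mul_central hχ y z hzc

include hχ hf in
theorem vanish_of_not_good {g : G} (hg : ¬ Good B g) : χ g = 0 := by
  unfold Good at hg
  push Not at hg
  obtain ⟨u, _, hc, hne⟩ := hg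
  refine Winter.irr_vanish_of_central_comm hχ g u ?_ ?_
  · intro a
    exact Subgroup.mem_center_iff.mp hc a
  · intro h
    exact hne (hf _ h)

include hχ hf hB in
/-- `χ` vanishes on `B ∖ Z(G)` -/
theorem vanish_on_section {x : G} (hx : x ∈ B) (hxc : x ∉ Subgroup.center G) : χ x = 0 := by
  have h1 : ¬ ∀ c ∈ B, c * x = x * c := fun h => hxc (hB.cl x hx h)
  push Not at h1
  obtain ⟨c, hc, hne⟩ := h1
  refine Winter.irr_vanish_of_central_comm hχ x c ?_ ?_
  · intro a
    exact Subgroup.mem_center_iff.mp (hB.cc x hx c hc) a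
  · intro h
    have := hf _ h
    exact hne ((cm_eq_one_iff x c).1 this)

/-- the number of elements of `B` commuting with `g` -/
noncomputable def cB (B : Subgroup G) [Fintype B] (g : G) : ℕ :=
  by classical exact (Finset.univ.filter (fun u : B => (u : G) * g = g * (u : G))).card

/-- the number of elements of `B` central in `G` -/
noncomputable def zB (B : Subgroup G) [Fintype B] : ℕ :=
  by classical exact (Finset.univ.filter (fun u : B => (u : G) ∈ Subgroup.center G)).card

variable [Fintype B]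

open Classical in
include hχ hf hB in
/-- orthogonality in the first variable -/
theorem sum_cm_left {u : G} (hu : u ∈ B) :
    ∑ b : B, χ (cm (b : G) u) =
      if u ∈ Subgroup.center G then (Fintype.card B : ℂ) * χ 1 else 0 := by
  classical
  split_ifs with hc
  · have : ∀ b : B, χ (cm (b : G) u) = χ 1 := by
      intro b
      rw [cm_of_comm (Subgroup.mem_center_iff.mp hc (b : G)).symm]
    rw [Finset.sum_congr rfl (fun b _ => this b), Finset.sum_const, Finset.card_univ,
      nsmul_eq_mul]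
  · have h1 : ¬ ∀ c ∈ B, c * u = u * c := fun h => hc (hB.cl u hu h)
    push Not at h1
    obtain ⟨c, hcB, hne⟩ := h1
    have hχ1 : χ 1 ≠ 0 := Cfsg.Agent.Lib.Helper79.irr_one_ne_zero hχ
    have hr : χ (cm c u) ≠ χ 1 := by
      intro h
      have := hf _ h
      exact hne ((cm_eq_one_iff c u).1 this).symm
    have hre : ∑ b : B, χ (cm ((b : G) * c) u) = ∑ b : B, χ (cm (b : G) u) := by
      refine Fintype.sum_bijective (fun b : B => b * (⟨c, hcB⟩ : B))
        (Group.mulRight_bijective _) _ _ ?_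
      intro b
      rfl
    have hterm : ∀ b : B, χ (cm ((b : G) * c) u) = χ (cm c u) * χ (cm (b : G) u) / χ 1 := by
      intro b
      have hz : cm (b : G) u ∈ Subgroup.center G := hB.cc _ b.2 u hu
      rw [cm_mul_left]
      have : c⁻¹ * cm (b : G) u * c = cm (b : G) u := by
        have := Subgroup.mem_center_iff.mp hz c
        calc c⁻¹ * cm (b : G) u * c = c⁻¹ * (cm (b : G) u * c) := by group
          _ = c⁻¹ * (c * cm (b : G) u) := by rw [this]
          _ = cm (b : G) u := by group
      rw [this]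
      exact val_mul_central hχ hf _ _ hz
    rw [Finset.sum_congr rfl (fun b _ => hterm b)] at hre
    have h2 : ∑ b : B, χ (cm c u) * χ (cm (b : G) u) / χ 1 =
        (χ (cm c u) / χ 1) * ∑ b : B, χ (cm (b : G) u) := by
      rw [Finset.mul_sum]
      refine Finset.sum_congr rfl (fun b _ => ?_)
      ring
    rw [h2] at hre
    have h3 : (χ (cm c u) / χ 1 - 1) * ∑ b : B, χ (cm (b : G) u) = 0 := by
      rw [sub_mul, hre]; ring
    rcases mul_eq_zero.1 h3 with h4 | h4
    · exfalso
      apply hr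
      have := sub_eq_zero.1 h4
      rw [div_eq_iff hχ1, one_mul] at this
      exact this
    · exact h4

include hχ hf in
/-- orthogonality in the second variable, bad case -/
theorem sum_cm_right_bad {g : G} (hg : ¬ Good B g) : ∑ u : B, χ (cm g (u : G)) = 0 := by
  classical
  unfold Good at hg
  push Not at hg
  obtain ⟨u₀, hu₀, hz, hne⟩ := hg
  have hχ1 : χ 1 ≠ 0 := Cfsg.Agent.Lib.Helper79.irr_one_ne_zero hχ
  have hr : χ (cm g u₀) ≠ χ 1 := fun h => hne (hf _ h)
  have hre : ∑ u : B, χ (cm g (u₀ * (u : G))) = ∑ u : B, χ (cm g (u : G)) := by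
    refine Fintype.sum_bijective (fun u : B => (⟨u₀, hu₀⟩ : B) * u)
      (Group.mulLeft_bijective _) _ _ ?_
    intro b
    rfl
  have hterm : ∀ u : B, χ (cm g (u₀ * (u : G))) = χ (cm g u₀) * χ (cm g (u : G)) / χ 1 := by
    intro u
    rw [cm_mul_right, val_mul_central hχ hf _ _ hz,
      char_conj_eq (isCharacter_of_irr hχ)]
    ring
  rw [Finset.sum_congr rfl (fun b _ => hterm b)] at hre
  have h2 : ∑ u : B, χ (cm g u₀) * χ (cm g (u : G)) / χ 1 =
      (χ (cm g u₀) / χ 1) * ∑ u : B, χ (cm g (u : G)) := by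
    rw [Finset.mul_sum]
    refine Finset.sum_congr rfl (fun b _ => ?_)
    ring
  rw [h2] at hre
  have h3 : (χ (cm g u₀) / χ 1 - 1) * ∑ u : B, χ (cm g (u : G)) = 0 := by
    rw [sub_mul, hre]; ring
  rcases mul_eq_zero.1 h3 with h4 | h4
  · exfalso
    apply hr
    have := sub_eq_zero.1 h4
    rw [div_eq_iff hχ1, one_mul] at this
    exact this
  · exact h4

include hχ hf hB in
/-- orthogonality in the second variable, good case -/
theorem sum_cm_right_good {g : G} (hg : Good B g) :
    ∑ u : B, χ (cm g (u : G)) = χ 1 * (cB B g : ℂ) := by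
  classical
  have hterm : ∀ u : B, χ (cm g (u : G)) = if (u : G) * g = g * (u : G) then χ 1 else 0 := by
    intro u
    split_ifs with h
    · rw [cm_of_comm h]
    · have hne : cm g (u : G) ≠ 1 := fun h1 => h ((cm_eq_one_iff g u).1 h1)
      have hnc : cm g (u : G) ∉ Subgroup.center G := fun hc => hne (hg u u.2 hc)
      exact vanish_on_section hχ hf hB (cm_mem hB.normal g u.2) hnc
  rw [Finset.sum_congr rfl (fun b _ => hterm b), Finset.sum_ite, Finset.sum_const_zero,
    add_zero, Finset.sum_const, nsmul_eq_mul, mul_comm]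
  congr 2

/-- the weight function -/
noncomputable def wt (B : Subgroup G) [Fintype B] (g : G) : ℝ :=
  by classical exact if Good B g then (cB B g : ℝ) / (zB B : ℝ) else 0

theorem zB_pos : 0 < zB B := by
  classical
  unfold zB
  apply Finset.card_pos.2
  exact ⟨1, by simp [Subgroup.one_mem]⟩

theorem zB_le_cB (g : G) : zB B ≤ cB B g := by
  classical
  unfold zB cB
  apply Finset.card_le_card
  intro u hu
  simp only [Finset.mem_filter, Finset.mem_univ, true_and] at hu ⊢
  exact (Subgroup.mem_center_iff.mp hu g).symm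

theorem wt_nonneg (g : G) : 0 ≤ wt B g := by
  classical
  unfold wt
  split_ifs
  · positivity
  · exact le_rfl

theorem wt_eq_zero_or_one_le (g : G) : wt B g = 0 ∨ 1 ≤ wt B g := by
  classical
  unfold wt
  split_ifs
  · right
    rw [le_div_iff₀ (by exact_mod_cast zB_pos), one_mul]
    exact_mod_cast zB_le_cB g
  · left; rfl

theorem wt_one : wt B 1 = (Fintype.card B : ℝ) / (zB B : ℝ) := by
  classical
  unfold wt
  rw [if_pos (good_one B)]
  congr 2
  unfold cB
  simp

include hχ hf hB in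
theorem sum_cm_right (g : G) :
    ∑ u : B, χ (cm g (u : G)) = χ 1 * (zB B : ℂ) * ((wt B g : ℝ) : ℂ) := by
  classical
  by_cases hg : Good B g
  · rw [sum_cm_right_good hχ hf hB hg]
    unfold wt
    rw [if_pos hg]
    have : ((zB B : ℕ) : ℂ) ≠ 0 := by exact_mod_cast (zB_pos (B := B)).ne'
    push_cast
    field_simp
  · rw [sum_cm_right_bad hχ hf hg]
    unfold wt
    rw [if_neg hg]
    simp

include hχ hf hB in
/-- the weights sum to `|B|` on every coset -/
theorem sum_wt_coset (h : G) : ∑ b : B, wt B (h * (b : G)) = (Fintype.card B : ℝ) := by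
  classical
  have hχ1 : χ 1 ≠ 0 := Cfsg.Agent.Lib.Helper79.irr_one_ne_zero hχ
  have hz : ((zB B : ℕ) : ℂ) ≠ 0 := by exact_mod_cast (zB_pos (B := B)).ne'
  have h1 : ∑ b : B, ∑ u : B, χ (cm (h * (b : G)) (u : G)) =
      χ 1 * (zB B : ℂ) * ∑ b : B, ((wt B (h * (b : G)) : ℝ) : ℂ) := by
    rw [Finset.mul_sum]
    exact Finset.sum_congr rfl (fun b _ => sum_cm_right hχ hf hB _)
  have h2 : ∀ u : B, ∑ b : B, χ (cm (h * (b : G)) (u : G)) =
      if (u : G) ∈ Subgroup.center G then (Fintype.card B : ℂ) * χ 1 else 0 := by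
    intro u
    have hterm : ∀ b : B, χ (cm (h * (b : G)) (u : G)) =
        χ (cm h (u : G)) * χ (cm (b : G) (u : G)) / χ 1 := by
      intro b
      have hzc : cm (b : G) (u : G) ∈ Subgroup.center G := hB.cc _ b.2 _ u.2
      rw [cm_mul_left, Cfsg.Agent.Lib.Helper79.irr_mul_central hχ _ _
        (fun a => Subgroup.mem_center_iff.mp hzc a)]
      have : χ ((b : G)⁻¹ * cm h (u : G) * (b : G)) = χ (cm h (u : G)) := by
        have := char_conj_eq (isCharacter_of_irr hχ) (cm h (u : G)) (b : G)⁻¹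
        rwa [inv_inv] at this
      rw [this]
    rw [Finset.sum_congr rfl (fun b _ => hterm b)]
    have : ∑ b : B, χ (cm h (u : G)) * χ (cm (b : G) (u : G)) / χ 1 =
        (χ (cm h (u : G)) / χ 1) * ∑ b : B, χ (cm (b : G) (u : G)) := by
      rw [Finset.mul_sum]
      exact Finset.sum_congr rfl (fun b _ => by ring)
    rw [this, sum_cm_left hχ hf hB u.2]
    split_ifs with hc
    · rw [cm_of_comm (Subgroup.mem_center_iff.mp hc h).symm]
      field_simp
    · simp
  rw [Finset.sum_comm, Finset.sum_congr rfl (fun u _ => h2 u), Finset.sum_ite,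
    Finset.sum_const_zero, add_zero, Finset.sum_const, nsmul_eq_mul] at h1
  have h3 : ((Finset.univ.filter (fun u : B => (u : G) ∈ Subgroup.center G)).card : ℂ) =
      (zB B : ℂ) := by
    unfold zB
    congr 2
  rw [h3] at h1
  have h4 : (∑ b : B, ((wt B (h * (b : G)) : ℝ) : ℂ)) = (Fintype.card B : ℂ) := by
    have : χ 1 * (zB B : ℂ) ≠ 0 := mul_ne_zero hχ1 hz
    apply mul_left_cancel₀ this
    rw [← h1]
    ring
  have h5 : ((∑ b : B, wt B (h * (b : G)) : ℝ) : ℂ) = ((Fintype.card B : ℝ) : ℂ) := by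
    push_cast
    exact h4
  exact_mod_cast h5

omit [Fintype G] [Fintype B] in
/-- the algebra behind the fibre count -/
theorem cm_quot_of_eq {g u₁ u₂ z₁ z₂ : G} (hz₁ : z₁ ∈ Subgroup.center G)
    (hz₂ : z₂ ∈ Subgroup.center G) (h : cm g u₁ * z₁ = cm g u₂ * z₂) :
    cm g (u₂⁻¹ * u₁) = z₂ * z₁⁻¹ := by
  have hw : z₂ * z₁⁻¹ ∈ Subgroup.center G :=
    (Subgroup.center G).mul_mem hz₂ ((Subgroup.center G).inv_mem hz₁)
  have h1 : cm g u₁ = cm g u₂ * (z₂ * z₁⁻¹) := by
    rw [← mul_assoc]
    exact eq_mul_inv_of_mul_eq h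
  have h2 : cm g (u₂⁻¹ * u₁) = u₂⁻¹ * (cm g u₂)⁻¹ * cm g u₁ * u₂ := by
    unfold cm; group
  rw [h2, h1]
  have h3 := Subgroup.mem_center_iff.mp hw u₂
  calc u₂⁻¹ * (cm g u₂)⁻¹ * (cm g u₂ * (z₂ * z₁⁻¹)) * u₂
      = u₂⁻¹ * ((z₂ * z₁⁻¹) * u₂) := by group
    _ = u₂⁻¹ * (u₂ * (z₂ * z₁⁻¹)) := by rw [h3]
    _ = z₂ * z₁⁻¹ := by group

include hχ hB in
/-- the coset sum of `|χ|²` is at least `|B| |Z₀| / |C_B(g)|` times `|χ(g)|²`, for good `g` -/
theorem normSq_fiber_bound {g : G} (hg : Good B g) :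
    Complex.normSq (χ g) * ((Fintype.card B : ℝ) * (zB B : ℝ)) ≤
      (cB B g : ℝ) * ∑ b : B, Complex.normSq (χ (g * (b : G))) := by
  classical
  set Zf : Finset B := Finset.univ.filter (fun u : B => (u : G) ∈ Subgroup.center G) with hZf
  set S : Finset (B × B) := Finset.univ ×ˢ Zf with hS
  set F : B × B → B := fun p =>
    ⟨cm g (p.1 : G) * (p.2 : G), B.mul_mem (cm_mem hB.normal g p.1.2) p.2.2⟩ with hF
  have hFv : ∀ p : B × B, ((F p : B) : G) = cm g (p.1 : G) * (p.2 : G) := fun p => rfl
  have hmemS : ∀ p : B × B, p ∈ S ↔ (p.2 : G) ∈ Subgroup.center G := by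
    intro p
    simp [hS, hZf]
  have hχc := isCharacter_of_irr hχ
  have hval : ∀ p ∈ S, Complex.normSq (χ (g * ((F p : B) : G))) = Complex.normSq (χ g) := by
    intro p hp
    have hz : (p.2 : G) ∈ Subgroup.center G := (hmemS p).1 hp
    have h1 : g * ((F p : B) : G) = (p.2 : G) * ((p.1 : G) * g * (p.1 : G)⁻¹) := by
      rw [hFv, ← Subgroup.mem_center_iff.mp hz]
      unfold cm; group
    rw [h1]
    have h2 := Cfsg.Agent.Lib.Helper79.normSq_mul_central (⟨χ, hχ⟩ : IrrCharacter G) hz
      ((p.1 : G) * g * (p.1 : G)⁻¹)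
    simp only at h2
    rw [h2, char_conj_eq hχc]
  have hsum1 : ∑ p ∈ S, Complex.normSq (χ (g * ((F p : B) : G))) =
      ((Fintype.card B : ℝ) * (zB B : ℝ)) * Complex.normSq (χ g) := by
    rw [Finset.sum_congr rfl hval, Finset.sum_const, nsmul_eq_mul, hS, Finset.card_product,
      Finset.card_univ]
    have : Zf.card = zB B := by
      unfold zB
      rw [hZf]
    rw [this]
    push_cast
    ring
  have hfib : ∀ x : B, (S.filter (fun p => F p = x)).card ≤ cB B g := by
    intro x
    by_cases hne : (S.filter (fun p => F p = x)).Nonempty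
    · obtain ⟨p₀, hp₀⟩ := hne
      rw [Finset.mem_filter] at hp₀
      unfold cB
      refine Finset.card_le_card_of_injOn (fun p => p₀.1⁻¹ * p.1) ?_ ?_
      · intro p hp
        rw [Finset.coe_filter, Set.mem_setOf_eq] at hp
        simp only [Finset.coe_filter, Finset.mem_univ, true_and, Set.mem_setOf_eq]
        have hz₁ := (hmemS p).1 hp.1
        have hz₂ := (hmemS p₀).1 hp₀.1
        have heq : cm g (p.1 : G) * (p.2 : G) = cm g (p₀.1 : G) * (p₀.2 : G) := by
          rw [← hFv, ← hFv, hp.2, hp₀.2]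
        have hq := cm_quot_of_eq hz₁ hz₂ heq
        have hcen : cm g ((p₀.1 : G)⁻¹ * (p.1 : G)) ∈ Subgroup.center G := by
          rw [hq]
          exact (Subgroup.center G).mul_mem hz₂ ((Subgroup.center G).inv_mem hz₁)
        have h1 := hg _ (B.mul_mem (B.inv_mem p₀.1.2) p.1.2) hcen
        have := (cm_eq_one_iff g _).1 h1
        simpa using this
      · intro p hp q hq hpq
        rw [Finset.coe_filter, Set.mem_setOf_eq] at hp hq
        have h1 : p.1 = q.1 := mul_left_cancel hpq
        have h2 : ((F p : B) : G) = ((F q : B) : G) := by rw [hp.2, hq.2]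
        rw [hFv, hFv, h1] at h2
        have h3 : (p.2 : G) = (q.2 : G) := mul_left_cancel h2
        exact Prod.ext h1 (Subtype.ext h3)
    · rw [Finset.not_nonempty_iff_eq_empty] at hne
      rw [hne, Finset.card_empty]
      exact Nat.zero_le _
  have hsum2 : ∑ p ∈ S, Complex.normSq (χ (g * ((F p : B) : G))) ≤
      (cB B g : ℝ) * ∑ b : B, Complex.normSq (χ (g * (b : G))) := by
    rw [Finset.sum_comp (fun x : B => Complex.normSq (χ (g * (x : G)))) F, Finset.mul_sum]
    calc ∑ x ∈ S.image F, (S.filter (fun p => F p = x)).card •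
          Complex.normSq (χ (g * (x : G)))
        ≤ ∑ x ∈ S.image F, (cB B g : ℝ) * Complex.normSq (χ (g * (x : G))) := by
          refine Finset.sum_le_sum (fun x _ => ?_)
          rw [nsmul_eq_mul]
          exact mul_le_mul_of_nonneg_right (by exact_mod_cast hfib x) (Complex.normSq_nonneg _)
      _ ≤ ∑ x : B, (cB B g : ℝ) * Complex.normSq (χ (g * (x : G))) := by
          refine Finset.sum_le_sum_of_subset_of_nonneg (Finset.subset_univ _) (fun x _ _ => ?_)
          exact mul_nonneg (Nat.cast_nonneg _) (Complex.normSq_nonneg _)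
  rw [hsum1] at hsum2
  rw [mul_comm]
  exact hsum2

end Char

section Avg

variable [Fintype G]

/-- the average of `|χ|²` over the coset `g B` -/
noncomputable def Dav (χ : G → ℂ) (B : Subgroup G) [Fintype B] (g : G) : ℝ :=
  (Fintype.card B : ℝ)⁻¹ * ∑ b : B, Complex.normSq (χ (g * (b : G)))

variable (χ : G → ℂ) (B : Subgroup G) [Fintype B]

theorem Dav_nonneg (g : G) : 0 ≤ Dav χ B g := by
  unfold Dav
  exact mul_nonneg (inv_nonneg.2 (Nat.cast_nonneg _))
    (Finset.sum_nonneg (fun _ _ => Complex.normSq_nonneg _))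

theorem Dav_mul_mem (g : G) (b : B) : Dav χ B (g * (b : G)) = Dav χ B g := by
  unfold Dav
  congr 1
  refine Fintype.sum_bijective (fun c : B => b * c) (Group.mulLeft_bijective _) _ _ ?_
  intro c
  simp [mul_assoc]

theorem card_B_ne_zero : (Fintype.card B : ℝ) ≠ 0 := by
  have : 0 < Fintype.card B := Fintype.card_pos
  exact_mod_cast this.ne'

theorem sum_Dav : ∑ g : G, Dav χ B g = ∑ g : G, Complex.normSq (χ g) := by
  unfold Dav
  rw [← Finset.mul_sum, Finset.sum_comm]
  have : ∀ b : B, ∑ g : G, Complex.normSq (χ (g * (b : G))) = ∑ g : G, Complex.normSq (χ g) := by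
    intro b
    exact Fintype.sum_bijective (fun g : G => g * (b : G)) (Group.mulRight_bijective _) _ _
      (fun _ => rfl)
  rw [Finset.sum_congr rfl (fun b _ => this b), Finset.sum_const, Finset.card_univ, nsmul_eq_mul,
    ← mul_assoc, inv_mul_cancel₀ (card_B_ne_zero B), one_mul]

/-- a `B`-coset-invariant function against a function whose coset sums are `|B|` -/
theorem sum_mul_coset_invariant (w D : G → ℝ) (hD : ∀ (g : G) (b : B), D (g * (b : G)) = D g)
    (hw : ∀ g : G, ∑ b : B, w (g * (b : G)) = (Fintype.card B : ℝ)) :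
    ∑ g : G, w g * D g = ∑ g : G, D g := by
  have h1 : ∀ b : B, ∑ g : G, w (g * (b : G)) * D (g * (b : G)) = ∑ g : G, w g * D g := by
    intro b
    exact Fintype.sum_bijective (fun g : G => g * (b : G)) (Group.mulRight_bijective _) _ _
      (fun _ => rfl)
  have h2 : (Fintype.card B : ℝ) * ∑ g : G, w g * D g =
      (Fintype.card B : ℝ) * ∑ g : G, D g := by
    calc (Fintype.card B : ℝ) * ∑ g : G, w g * D g
        = ∑ b : B, ∑ g : G, w (g * (b : G)) * D (g * (b : G)) := by
          rw [Finset.sum_congr rfl (fun b _ => h1 b), Finset.sum_const, Finset.card_univ,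
            nsmul_eq_mul]
      _ = ∑ g : G, ∑ b : B, w (g * (b : G)) * D g := by
          rw [Finset.sum_comm]
          refine Finset.sum_congr rfl (fun g _ => Finset.sum_congr rfl (fun b _ => ?_))
          rw [hD]
      _ = ∑ g : G, (Fintype.card B : ℝ) * D g := by
          refine Finset.sum_congr rfl (fun g _ => ?_)
          rw [← Finset.sum_mul, hw]
      _ = (Fintype.card B : ℝ) * ∑ g : G, D g := by rw [Finset.mul_sum]
  exact mul_left_cancel₀ (card_B_ne_zero B) h2

end Avg

section Main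

variable [Fintype G] {χ : G → ℂ} (hχ : IsIrrCharacter G χ)
  (hf : ∀ g : G, χ g = χ 1 → g = 1) {B : Subgroup G} (hB : Sec B) [Fintype B]

include hχ hf hB in
theorem normSq_le_wt_mul_Dav (g : G) : Complex.normSq (χ g) ≤ wt B g * Dav χ B g := by
  classical
  by_cases hg : Good B g
  · have h1 := normSq_fiber_bound hχ hB hg
    have hz : (0 : ℝ) < (zB B : ℝ) := by exact_mod_cast zB_pos (B := B)
    have hb : (0 : ℝ) < (Fintype.card B : ℝ) := by
      have : 0 < Fintype.card B := Fintype.card_pos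
      exact_mod_cast this
    unfold wt Dav
    rw [if_pos hg]
    have h2 : (cB B g : ℝ) / (zB B : ℝ) * ((Fintype.card B : ℝ)⁻¹ *
        ∑ b : B, Complex.normSq (χ (g * (b : G)))) =
        ((cB B g : ℝ) * ∑ b : B, Complex.normSq (χ (g * (b : G)))) /
          ((Fintype.card B : ℝ) * (zB B : ℝ)) := by
      field_simp
    rw [h2, le_div_iff₀ (mul_pos hb hz)]
    exact h1
  · rw [vanish_of_not_good hχ hf hg]
    unfold wt
    rw [if_neg hg]
    simp

include hχ hf hB in
/-- **the factorisation** `|χ(g)|² = w(g) Δ(g)` -/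
theorem normSq_eq_wt_mul_Dav (g : G) : Complex.normSq (χ g) = wt B g * Dav χ B g := by
  have hsum : ∑ x : G, (wt B x * Dav χ B x - Complex.normSq (χ x)) = 0 := by
    rw [Finset.sum_sub_distrib,
      sum_mul_coset_invariant B (wt B) (Dav χ B) (Dav_mul_mem χ B) (sum_wt_coset hχ hf hB),
      sum_Dav, sub_self]
  have h := (Finset.sum_eq_zero_iff_of_nonneg
    (fun x _ => sub_nonneg.2 (normSq_le_wt_mul_Dav hχ hf hB x))).1 hsum g (Finset.mem_univ g)
  linarith

omit [Fintype G] in
theorem zB_lt_card (hnc : ¬ B ≤ Subgroup.center G) [Fintype G] : zB B < Fintype.card B := by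
  classical
  unfold zB
  rw [← Finset.card_univ]
  apply Finset.card_lt_card
  rw [Finset.filter_ssubset]
  obtain ⟨b, hb, hbc⟩ := SetLike.not_le_iff_exists.1 hnc
  exact ⟨⟨b, hb⟩, Finset.mem_univ _, hbc⟩

include hχ in
theorem Dav_one_pos : 0 < Dav χ B 1 := by
  unfold Dav
  have hb : (0 : ℝ) < (Fintype.card B : ℝ) := by
    have : 0 < Fintype.card B := Fintype.card_pos
    exact_mod_cast this
  apply mul_pos (inv_pos.2 hb)
  have h1 : Complex.normSq (χ (1 * ((1 : B) : G))) ≤
      ∑ b : B, Complex.normSq (χ (1 * (b : G))) :=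
    Finset.single_le_sum (f := fun b : B => Complex.normSq (χ (1 * (b : G))))
      (fun _ _ => Complex.normSq_nonneg _) (Finset.mem_univ (1 : B))
  have h2 : 0 < Complex.normSq (χ (1 * ((1 : B) : G))) := by
    rw [Complex.normSq_pos]
    simpa using Cfsg.Agent.Lib.Helper79.irr_one_ne_zero hχ
  linarith

include hχ hf hB in
/-- **Step C**: the norm of `χ χ'` exceeds `1`, given the comparison with the coset average -/
theorem lt_sum_normSq_mul {χ' : G → ℂ} (hχ' : IsIrrCharacter G χ')
    (hf' : ∀ g : G, χ' g = χ' 1 → g = 1) (hnc : ¬ B ≤ Subgroup.center G)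
    (hW : (Fintype.card G : ℝ) ≤ ∑ g : G, Complex.normSq (χ g) * Dav χ' B g) :
    (Fintype.card G : ℝ) < ∑ g : G, Complex.normSq (χ g) * Complex.normSq (χ' g) := by
  classical
  have hA : ∀ g, Complex.normSq (χ g) = wt B g * Dav χ B g := normSq_eq_wt_mul_Dav hχ hf hB
  have hA' : ∀ g, Complex.normSq (χ' g) = wt B g * Dav χ' B g :=
    normSq_eq_wt_mul_Dav hχ' hf' hB
  have hz : (0 : ℝ) < (zB B : ℝ) := by exact_mod_cast zB_pos (B := B)
  have hw1 : 1 < wt B 1 := by
    rw [wt_one, lt_div_iff₀ hz, one_mul]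
    exact_mod_cast zB_lt_card hnc
  have hdiff : ∀ g : G, 0 ≤ (wt B g ^ 2 - wt B g) * (Dav χ B g * Dav χ' B g) := by
    intro g
    apply mul_nonneg
    · rcases wt_eq_zero_or_one_le (B := B) g with h | h
      · rw [h]; norm_num
      · nlinarith
    · exact mul_nonneg (Dav_nonneg χ B g) (Dav_nonneg χ' B g)
  have h1 : ∑ g : G, Complex.normSq (χ g) * Complex.normSq (χ' g) -
      ∑ g : G, Complex.normSq (χ g) * Dav χ' B g =
      ∑ g : G, (wt B g ^ 2 - wt B g) * (Dav χ B g * Dav χ' B g) := by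
    rw [← Finset.sum_sub_distrib]
    refine Finset.sum_congr rfl (fun g _ => ?_)
    rw [hA' g, hA g]
    ring
  have h2 : (wt B 1 ^ 2 - wt B 1) * (Dav χ B 1 * Dav χ' B 1) ≤
      ∑ g : G, (wt B g ^ 2 - wt B g) * (Dav χ B g * Dav χ' B g) :=
    Finset.single_le_sum (f := fun g : G => (wt B g ^ 2 - wt B g) * (Dav χ B g * Dav χ' B g))
      (fun g _ => hdiff g) (Finset.mem_univ (1 : G))
  have h3 : 0 < (wt B 1 ^ 2 - wt B 1) * (Dav χ B 1 * Dav χ' B 1) := by
    apply mul_pos
    · nlinarith
    · exact mul_pos (Dav_one_pos hχ) (Dav_one_pos hχ')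
  linarith

end Main

end Cfsg.Agent.Lib.Helper79.GalProd
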