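import Mathlib
import Cfsg.Prelude.Def_Characters
import Cfsg.Agent.Lib.Helper79.GalProdC
import Cfsg.Agent.Lib.Helper83.Quotient
import Cfsg.Agent.Lib.Helper83.Decompose
import Cfsg.Agent.Lib.Helper83.Orthogonality
import Cfsg.Agent.Lib.Helper83.Completeness

/-!
# Products of Galois conjugate characters: the comparison with the coset average (helper79)

For irreducible `χ`, `χ'` and a normal subgroup `B`:
`|G| ≤ ∑_g |χ(g)|² Δ'(g)` where `Δ'` is the `B`-coset average of `|χ'|²`.
-/

set_option autoImplicit false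

namespace Cfsg.Agent.Lib.Helper79.GalProd

open scoped ComplexConjugate
open Cfsg
open Cfsg.Agent.Lib.Helper83

universe u
variable {G : Type u} [Group G] [Fintype G]

/-- `χ conj χ` is a character -/
theorem isCharacter_mul_conj {χ : G → ℂ} (hχ : IsCharacter G χ) :
    IsCharacter G (fun g => χ g * conj (χ g)) :=
  isCharacter_mul hχ (isCharacter_conj hχ)

theorem classInner_mul_conj_triv {χ : G → ℂ} (hχ : IsIrrCharacter G χ) :
    classInner (fun g => χ g * conj (χ g)) (fun _ => (1 : ℂ)) = 1 := by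
  have h := irr_inner_self (⟨χ, hχ⟩ : IrrCharacter G)
  unfold classInner at h ⊢
  simpa using h

open Classical in
/-- coset sums of an irreducible character over a normal subgroup -/
theorem sum_coset_irr (β : IrrCharacter G) (B : Subgroup G) [B.Normal] [Fintype B] (g : G) :
    ∑ b : B, (β : G → ℂ) (g * (b : G)) =
      if (∀ x ∈ B, (β : G → ℂ) x = (β : G → ℂ) 1) then (Fintype.card B : ℂ) * (β : G → ℂ) g
      else 0 := by
  split_ifs with h
  · have : ∀ b : B, (β : G → ℂ) (g * (b : G)) = (β : G → ℂ) g := fun b =>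
      char_mul_of_mem_ker' (IrrCharacter_isCharacter β) (h b b.2) g
    rw [Finset.sum_congr rfl (fun b _ => this b), Finset.sum_const, Finset.card_univ,
      nsmul_eq_mul]
  · push Not at h
    exact irr_sum_coset_eq_zero β B h g

theorem card_le_sum_normSq_mul_Dav {χ χ' : G → ℂ} (hχ : IsIrrCharacter G χ)
    (hχ' : IsIrrCharacter G χ') (B : Subgroup G) [B.Normal] [Fintype B] :
    (Fintype.card G : ℝ) ≤ ∑ g : G, Complex.normSq (χ g) * Dav χ' B g := by
  classical
  haveI : Fintype (IrrCharacter G) := Fintype.ofFinite _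
  have hχc := isCharacter_of_irr hχ
  have hχ'c := isCharacter_of_irr hχ'
  set Ψ : G → ℂ := fun g => χ g * conj (χ g) with hΨ
  set Ψ' : G → ℂ := fun g => χ' g * conj (χ' g) with hΨ'
  have hΨc : IsCharacter G Ψ := isCharacter_mul_conj hχc
  have hΨ'c : IsCharacter G Ψ' := isCharacter_mul_conj hχ'c
  have hn : ∀ β : IrrCharacter G, ∃ n : ℕ, classInner Ψ' (β : G → ℂ) = n := fun β =>
    classInner_char_nat hΨ'c (IrrCharacter_isCharacter β)
  choose n hn using hn
  have hm : ∀ β : IrrCharacter G, ∃ m : ℕ,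
      classInner Ψ (fun g => conj ((β : G → ℂ) g)) = m := fun β =>
    classInner_char_nat hΨc (isCharacter_conj (IrrCharacter_isCharacter β))
  choose m hm using hm
  have hdec := classFunction_eq_sum_irr (char_isClassFunction hΨ'c)
  have hdec' : ∀ x : G, Ψ' x = ∑ β : IrrCharacter G, (n β : ℂ) * (β : G → ℂ) x := by
    intro x
    have := congrFun hdec x
    rw [Finset.sum_apply] at this
    rw [this]
    refine Finset.sum_congr rfl (fun β _ => ?_)
    rw [Pi.smul_apply, smul_eq_mul, hn]
  set ε : IrrCharacter G → ℕ := fun β =>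
    if (∀ x ∈ B, (β : G → ℂ) x = (β : G → ℂ) 1) then 1 else 0 with hε
  have hcos : ∀ g : G, ∑ b : B, Ψ' (g * (b : G)) =
      ∑ β : IrrCharacter G, ((n β * ε β : ℕ) : ℂ) * ((Fintype.card B : ℂ) * (β : G → ℂ) g) := by
    intro g
    have h0 : ∑ b : B, Ψ' (g * (b : G)) =
        ∑ b : B, ∑ β : IrrCharacter G, (n β : ℂ) * (β : G → ℂ) (g * (b : G)) :=
      Finset.sum_congr rfl (fun b _ => hdec' (g * (b : G)))
    rw [h0, Finset.sum_comm]
    refine Finset.sum_congr rfl (fun β _ => ?_)
    rw [← Finset.mul_sum, sum_coset_irr β B g]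
    simp only [hε]
    split_ifs <;> simp
  have hinner : ∀ β : IrrCharacter G, ∑ g : G, Ψ g * (β : G → ℂ) g =
      (Fintype.card G : ℂ) * (m β : ℂ) := by
    intro β
    rw [← hm β]
    unfold classInner
    rw [Nat.card_eq_fintype_card, ← mul_assoc, mul_inv_cancel₀, one_mul]
    · refine Finset.sum_congr rfl (fun g _ => ?_)
      simp
    · have : 0 < Fintype.card G := Fintype.card_pos
      exact_mod_cast this.ne'
  have htot : ∑ g : G, Ψ g * ∑ b : B, Ψ' (g * (b : G)) =
      (Fintype.card B : ℂ) * (Fintype.card G : ℂ) *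
        ((∑ β : IrrCharacter G, n β * ε β * m β : ℕ) : ℂ) := by
    have h0 : ∑ g : G, Ψ g * ∑ b : B, Ψ' (g * (b : G)) =
        ∑ g : G, ∑ β : IrrCharacter G, Ψ g *
          (((n β * ε β : ℕ) : ℂ) * ((Fintype.card B : ℂ) * (β : G → ℂ) g)) :=
      Finset.sum_congr rfl (fun g _ => by rw [hcos g, Finset.mul_sum])
    rw [h0, Finset.sum_comm]
    push_cast
    rw [Finset.mul_sum]
    refine Finset.sum_congr rfl (fun β _ => ?_)
    have : ∀ g : G, Ψ g * (((n β : ℂ) * (ε β : ℂ)) * ((Fintype.card B : ℂ) * (β : G → ℂ) g)) =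
        ((n β : ℂ) * (ε β : ℂ) * (Fintype.card B : ℂ)) * (Ψ g * (β : G → ℂ) g) := by
      intro g; ring
    rw [Finset.sum_congr rfl (fun g _ => this g), ← Finset.mul_sum, hinner]
    ring
  have htriv : 1 ≤ ∑ β : IrrCharacter G, n β * ε β * m β := by
    have h1 : n (trivChar G) * ε (trivChar G) * m (trivChar G) ≤
        ∑ β : IrrCharacter G, n β * ε β * m β :=
      Finset.single_le_sum (f := fun β : IrrCharacter G => n β * ε β * m β)
        (fun _ _ => Nat.zero_le _) (Finset.mem_univ _)
    have h2 : n (trivChar G) = 1 := by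
      have := hn (trivChar G)
      have h3 : classInner Ψ' ((trivChar G : IrrCharacter G) : G → ℂ) = 1 :=
        classInner_mul_conj_triv hχ'
      rw [h3] at this
      exact_mod_cast this.symm
    have h4 : m (trivChar G) = 1 := by
      have := hm (trivChar G)
      have h3 : classInner Ψ (fun g => conj (((trivChar G : IrrCharacter G) : G → ℂ) g)) = 1 := by
        have h5 : (fun g => conj (((trivChar G : IrrCharacter G) : G → ℂ) g)) =
            fun _ => (1 : ℂ) := by
          funext g
          rw [trivChar_apply, map_one]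
        rw [h5]
        exact classInner_mul_conj_triv hχ
      rw [h3] at this
      exact_mod_cast this.symm
    have h6 : ε (trivChar G) = 1 := by
      simp only [hε]
      rw [if_pos]
      intro x _
      rw [trivChar_apply, trivChar_apply]
    rw [h2, h4, h6] at h1
    simpa using h1
  -- back to the reals
  have hreal : ((∑ g : G, Complex.normSq (χ g) * Dav χ' B g : ℝ) : ℂ) =
      (Fintype.card B : ℂ)⁻¹ * ∑ g : G, Ψ g * ∑ b : B, Ψ' (g * (b : G)) := by
    rw [Finset.mul_sum]
    push_cast
    refine Finset.sum_congr rfl (fun g _ => ?_)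
    unfold Dav
    push_cast
    simp only [hΨ, hΨ', Complex.mul_conj]
    ring
  rw [htot] at hreal
  have hb : (Fintype.card B : ℂ) ≠ 0 := by
    have : 0 < Fintype.card B := Fintype.card_pos
    exact_mod_cast this.ne'
  have hreal2 : ((∑ g : G, Complex.normSq (χ g) * Dav χ' B g : ℝ) : ℂ) =
      (((Fintype.card G : ℝ) * ((∑ β : IrrCharacter G, n β * ε β * m β : ℕ) : ℝ) : ℝ) : ℂ) := by
    rw [hreal]
    push_cast
    field_simp
  have hreal3 : ∑ g : G, Complex.normSq (χ g) * Dav χ' B g =
      (Fintype.card G : ℝ) * ((∑ β : IrrCharacter G, n β * ε β * m β : ℕ) : ℝ) := by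
    exact_mod_cast hreal2
  rw [hreal3]
  have h7 : (1 : ℝ) ≤ ((∑ β : IrrCharacter G, n β * ε β * m β : ℕ) : ℝ) := by
    exact_mod_cast htriv
  have h8 : (0 : ℝ) ≤ (Fintype.card G : ℝ) := Nat.cast_nonneg _
  nlinarith

end Cfsg.Agent.Lib.Helper79.GalProd
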