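import Mathlib
import Cfsg.Prelude.Def_Characters
import Cfsg.Agent.Lib.Helper79.BLCentral
import Cfsg.Agent.Lib.Helper83.Decompose
import Cfsg.Agent.Lib.Helper83.Orthogonality
import Cfsg.Agent.Lib.Helper83.Constituent
import Cfsg.Agent.Lib.Helper83.Abelian
import Cfsg.Agent.Lib.Helper84.Clifford
import Cfsg.Agent.Lib.Helper84.Ramified
import Cfsg.Agent.Lib.Helper21.CliffordMid
import Cfsg.Agent.Lib.Helper21.OmegaInd
import Cfsg.Agent.Lib.Helper21.LinearChar
import Cfsg.Agent.Lib.Helper34.Induction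
import Cfsg.Agent.Lib.Helper80.GaloisChar
import Cfsg.Agent.Lib.Helper85.CliffordCorr

/-!
# Products of Galois conjugate characters: abelian normal subgroups are central (helper79)

If `χ` is a faithful irreducible character of `G` and `g ↦ χ(g) χ(g^k)` is irreducible
(`k` prime to `|G|`), then every abelian normal subgroup of `G` is central.
-/

set_option autoImplicit false

namespace Cfsg.Agent.Lib.Helper79.GalProd

open scoped ComplexConjugate
open Cfsg
open Cfsg.Agent.Lib.Helper83

universe u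
variable {G : Type u} [Group G] [Fintype G]

/-- induction commutes with coprime power maps -/
theorem indFun_pow_coprime' (H : Subgroup G) (β : H → ℂ) (k : ℕ) (hk : k.Coprime (Nat.card G))
    (x : G) : indFun H β (x ^ k) = indFun H (fun h => β (h ^ k)) x := by
  classical
  rw [Cfsg.Agent.Lib.Helper34.indFun_apply, Cfsg.Agent.Lib.Helper34.indFun_apply]
  congr 1
  apply Finset.sum_congr rfl
  intro y _
  have hconj : y⁻¹ * x ^ k * y = (y⁻¹ * x * y) ^ k := by
    have := conj_pow (a := y⁻¹) (b := x) (i := k)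
    rw [inv_inv] at this
    exact this.symm
  rw [hconj]
  by_cases ht : y⁻¹ * x * y ∈ H
  · rw [Cfsg.Agent.Lib.Helper34.extendByZero_apply_mem H _ (H.pow_mem ht k),
      Cfsg.Agent.Lib.Helper34.extendByZero_apply_mem H _ ht]
    rfl
  · have hnot : (y⁻¹ * x * y) ^ k ∉ H := by
      intro h
      apply ht
      obtain ⟨m, hm⟩ := exists_pow_eq_self_of_coprime (x := y⁻¹ * x * y) (n := k)
        (Nat.Coprime.coprime_dvd_right (orderOf_dvd_natCard _) hk)
      rw [← hm]
      exact H.pow_mem h m
    rw [Cfsg.Agent.Lib.Helper34.extendByZero_apply_not_mem H _ hnot,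
      Cfsg.Agent.Lib.Helper34.extendByZero_apply_not_mem H _ ht]

/-- a character of nonzero degree has norm at least one -/
theorem one_le_norm_of_degree_ne_zero {T : Type u} [Group T] [Fintype T] {F : T → ℂ}
    (hF : IsCharacter T F) (h1 : F 1 ≠ 0) : ∃ n : ℕ, 1 ≤ n ∧ classInner F F = n := by
  obtain ⟨n, hn⟩ := classInner_char_nat hF hF
  refine ⟨n, ?_, hn⟩
  by_contra hlt
  have hn0 : n = 0 := by omega
  rw [hn0, Nat.cast_zero] at hn
  unfold classInner at hn
  have hc : (Nat.card T : ℂ)⁻¹ ≠ 0 := inv_ne_zero card_ne_zero_complex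
  have hs : ∑ g : T, F g * conj (F g) = 0 := by
    rcases mul_eq_zero.1 hn with h | h
    · exact absurd h hc
    · exact h
  have hs' : ∑ g : T, Complex.normSq (F g) = 0 := by
    have : ((∑ g : T, Complex.normSq (F g) : ℝ) : ℂ) = 0 := by
      push_cast
      rw [← hs]
      exact Finset.sum_congr rfl (fun g _ => (Complex.mul_conj (F g)).symm)
    exact_mod_cast this
  have := (Finset.sum_eq_zero_iff_of_nonneg (fun g _ => Complex.normSq_nonneg (F g))).1 hs' 1
    (Finset.mem_univ _)
  exact h1 (Complex.normSq_eq_zero.1 this)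

/-- the norm of the sum of two characters of nonzero degree is at least `2` -/
theorem two_le_norm_add {T : Type u} [Group T] [Fintype T] {X₁ X₂ : T → ℂ}
    (h₁ : IsCharacter T X₁) (h₂ : IsCharacter T X₂) (d₁ : X₁ 1 ≠ 0) (d₂ : X₂ 1 ≠ 0) :
    ∃ n : ℕ, 2 ≤ n ∧ classInner (X₁ + X₂) (X₁ + X₂) = n := by
  obtain ⟨a, ha1, ha⟩ := one_le_norm_of_degree_ne_zero h₁ d₁
  obtain ⟨b, hb1, hb⟩ := one_le_norm_of_degree_ne_zero h₂ d₂
  obtain ⟨c, hc⟩ := classInner_char_nat h₁ h₂
  obtain ⟨d, hd⟩ := classInner_char_nat h₂ h₁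
  refine ⟨a + c + (d + b), by omega, ?_⟩
  rw [classInner_add_left, classInner_add_right, classInner_add_right, ha, hb, hc, hd]
  push_cast
  ring

/-- **the induced case**: if `χ = η^G` with `φ|_T` reducible, then `χ φ` is not irreducible -/
theorem two_le_norm_of_induced (T : Subgroup G) [Fintype T] {η : T → ℂ}
    (hη : IsIrrCharacter T η) {χ φ : G → ℂ} (hχ : IsIrrCharacter G χ) (hφ : IsCharacter G φ)
    (hind : indFun T η = χ) {η' ξ' : T → ℂ} (hη' : IsCharacter T η') (hξ' : IsCharacter T ξ')
    (h1 : η' 1 ≠ 0) (h2 : ξ' 1 ≠ 0) (hdec : (fun t : T => φ t) = η' + ξ') :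
    ∃ n : ℕ, 2 ≤ n ∧ classInner (fun g => χ g * φ g) (fun g => χ g * φ g) = n := by
  classical
  have hχc := isCharacter_of_irr hχ
  have hηc := isCharacter_of_irr hη
  have hχcl := char_isClassFunction hχc
  have hφcl := char_isClassFunction hφ
  -- `χ|_T = η + ξ`
  have hχT : IsCharacter T (fun t : T => χ t) := isCharacter_restrict T hχc
  have hfr : classInner η (fun t : T => χ t) = 1 := by
    rw [← Cfsg.Agent.Lib.Helper34.classInner_indFun_left T η χ hχcl, hind]
    exact irr_inner_self (⟨χ, hχ⟩ : IrrCharacter G)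
  have hfr' : classInner (fun t : T => χ t) η ≠ 0 := by
    rw [← classInner_conj_symm, hfr, map_one]
    exact one_ne_zero
  have hξ : IsCharacter T ((fun t : T => χ t) - η) :=
    Cfsg.Agent.Lib.Helper85.isCharacter_sub_irr hχT hη hfr'
  -- the characters involved
  set X₁ : T → ℂ := η * η' with hX₁
  set X₂ : T → ℂ := η * ξ' with hX₂
  set W : T → ℂ := ((fun t : T => χ t) - η) * (fun t : T => φ t) with hW
  have hX₁c : IsCharacter T X₁ := isCharacter_mul hηc hη'
  have hX₂c : IsCharacter T X₂ := isCharacter_mul hηc hξ'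
  have hφT : IsCharacter T (fun t : T => φ t) := isCharacter_restrict T hφ
  have hWc : IsCharacter T W := isCharacter_mul hξ hφT
  have hη1 : η 1 ≠ 0 := Cfsg.Agent.Lib.Helper79.irr_one_ne_zero hη
  have d₁ : X₁ 1 ≠ 0 := by
    simp only [hX₁, Pi.mul_apply]
    exact mul_ne_zero hη1 h1
  have d₂ : X₂ 1 ≠ 0 := by
    simp only [hX₂, Pi.mul_apply]
    exact mul_ne_zero hη1 h2
  obtain ⟨a, ha2, ha⟩ := two_le_norm_add hX₁c hX₂c d₁ d₂
  obtain ⟨b, hb⟩ := classInner_char_nat (isCharacter_add hX₁c hX₂c) hWc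
  refine ⟨a + b, by omega, ?_⟩
  -- Frobenius reciprocity
  have hcl : IsClassFunction G (fun g => φ g * conj (χ g * φ g)) := by
    intro g h
    simp only
    rw [hφcl g h, hχcl g h]
  have hsum := Cfsg.Agent.Lib.Helper21.sum_indFun_mul T η (fun g => φ g * conj (χ g * φ g)) hcl
  rw [hind] at hsum
  have hG0 : (Nat.card G : ℂ) ≠ 0 := card_ne_zero_complex
  have hT0 : (Nat.card T : ℂ) ≠ 0 := card_ne_zero_complex
  have hidx : (Nat.card G : ℂ) = (T.index : ℂ) * (Nat.card T : ℂ) := by
    rw [← Nat.cast_mul, mul_comm, Subgroup.card_mul_index]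
  have hkey : classInner (fun g => χ g * φ g) (fun g => χ g * φ g) =
      classInner (X₁ + X₂) (X₁ + X₂ + W) := by
    unfold classInner
    have e1 : ∑ g : G, (fun g => χ g * φ g) g * conj ((fun g => χ g * φ g) g) =
        ∑ x : G, χ x * (fun g => φ g * conj (χ g * φ g)) x :=
      Finset.sum_congr rfl (fun g _ => by simp only; ring)
    rw [e1, hsum]
    have e2 : ∑ t : T, (X₁ + X₂) t * conj ((X₁ + X₂ + W) t) =
        ∑ t : T, η t * (fun g => φ g * conj (χ g * φ g)) (t : G) := by
      refine Finset.sum_congr rfl (fun t _ => ?_)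
      have hφt : φ (t : G) = η' t + ξ' t := congrFun hdec t
      have hA : (X₁ + X₂) t = η t * φ (t : G) := by
        simp only [hX₁, hX₂, Pi.add_apply, Pi.mul_apply]
        rw [hφt]; ring
      have hB : (X₁ + X₂ + W) t = χ (t : G) * φ (t : G) := by
        simp only [hX₁, hX₂, hW, Pi.add_apply, Pi.mul_apply, Pi.sub_apply]
        rw [hφt]; ring
      rw [hA, hB]
      ring
    rw [e2, hidx]
    have hi0 : (T.index : ℂ) ≠ 0 := by
      intro h
      rw [h, zero_mul] at hidx
      exact hG0 hidx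
    field_simp
  rw [hkey, classInner_add_right, ha, hb]
  push_cast
  ring

open Cfsg.Agent.Lib.Helper84 in
/-- the inertia group of a function on a normal subgroup -/
def inertia (N : Subgroup G) [N.Normal] (θ : N → ℂ) : Subgroup G where
  carrier := {g | conjFun N g θ = θ}
  one_mem' := conjFun_one N θ
  mul_mem' := by
    intro a b ha hb
    show conjFun N (a * b) θ = θ
    rw [conjFun_mul, show conjFun N a θ = θ from ha, show conjFun N b θ = θ from hb]
  inv_mem' := by
    intro a ha
    show conjFun N a⁻¹ θ = θ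
    have h := conjFun_inv_conjFun N a θ
    rw [show conjFun N a θ = θ from ha] at h
    exact h

open Cfsg.Agent.Lib.Helper84 in
theorem le_inertia (N : Subgroup G) [N.Normal] {θ : N → ℂ} (hθ : IsClassFunction N θ) :
    N ≤ inertia N θ := by
  intro n hn
  show conjFun N n θ = θ
  funext x
  rw [conjFun_apply]
  exact hθ x ⟨n, hn⟩

open Cfsg.Agent.Lib.Helper84 in
/-- **abelian normal subgroups are central** -/
theorem abelian_normal_le_center {χ : G → ℂ} (hχ : IsIrrCharacter G χ)
    (hf : ∀ g : G, χ g = χ 1 → g = 1) (k : ℕ) (hk : k.Coprime (Nat.card G))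
    (hirr : IsIrrCharacter G (fun g => χ g * χ (g ^ k)))
    (N : Subgroup G) [hN : N.Normal] (hcomm : ∀ a ∈ N, ∀ b ∈ N, a * b = b * a) :
    N ≤ Subgroup.center G := by
  classical
  haveI : Fintype N := Fintype.ofFinite _
  have hχc := isCharacter_of_irr hχ
  have hχcl := char_isClassFunction hχc
  have hχ1 : χ 1 ≠ 0 := Cfsg.Agent.Lib.Helper79.irr_one_ne_zero hχ
  have hres : IsCharacter N (fun n : N => χ n) := isCharacter_restrict N hχc
  obtain ⟨lam, hlam⟩ := exists_constituent hres (by simpa using hχ1)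
  have hlamc := IrrCharacter_isCharacter lam
  set T : Subgroup G := inertia N (lam : N → ℂ) with hT
  haveI : Fintype T := Fintype.ofFinite _
  have hNT : N ≤ T := le_inertia N (char_isClassFunction hlamc)
  obtain ⟨η, hη, -, hind⟩ := Cfsg.Agent.Lib.Helper21.exists_indFun_mid_eq N T hNT lam.2
    (fun g hg => hg) hχ hlam
  by_cases htop : T = ⊤
  · -- `lam` is invariant
    have hinv : ∀ g : G, conjFun N g (lam : N → ℂ) = (lam : N → ℂ) := by
      intro g
      have : g ∈ T := by rw [htop]; exact Subgroup.mem_top g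
      exact this
    obtain ⟨e, -, he⟩ := restrict_eq_smul_of_invariant N hχ lam.2 hinv hlam
    have hcommN : ∀ a b : N, a * b = b * a := fun a b =>
      Subtype.ext (hcomm a a.2 b b.2)
    have hl1 : (lam : N → ℂ) 1 = 1 := irr_degree_one_of_comm hcommN lam
    have hmul := Cfsg.Agent.Lib.Helper21.linear_char_mul hlamc hl1
    have hval : ∀ n : N, χ (n : G) = (e : ℂ) * (lam : N → ℂ) n := by
      intro n
      have := congrFun he n
      simpa using this
    have he1 : χ 1 = (e : ℂ) := by
      have := hval 1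
      rw [hl1, mul_one] at this
      simpa using this
    intro n hn
    rw [Subgroup.mem_center_iff]
    intro g
    have hx : g * n * g⁻¹ * n⁻¹ ∈ N := N.mul_mem (hN.conj_mem n hn g) (N.inv_mem hn)
    have h1 : χ (g * n * g⁻¹ * n⁻¹) = χ 1 := by
      have h2 := hval ⟨g * n * g⁻¹ * n⁻¹, hx⟩
      have h3 : (⟨g * n * g⁻¹ * n⁻¹, hx⟩ : N) =
          (⟨g * n * g⁻¹, hN.conj_mem n hn g⟩ : N) * (⟨n, hn⟩ : N)⁻¹ := by
        apply Subtype.ext
        simp
      have h4 : (lam : N → ℂ) (⟨g * n * g⁻¹, hN.conj_mem n hn g⟩ : N) =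
          (lam : N → ℂ) ⟨n, hn⟩ := by
        have := congrFun (hinv g) ⟨n, hn⟩
        rw [conjFun_apply] at this
        exact this
      simp only at h2
      rw [h2, h3, hmul, h4, ← hmul, mul_inv_cancel, hl1, mul_one, he1]
    have h5 := hf _ h1
    calc g * n = (g * n * g⁻¹ * n⁻¹) * n * g := by group
      _ = n * g := by rw [h5, one_mul]
  · -- the inertia group is proper: contradiction
    exfalso
    have hkT : k.Coprime (Nat.card T) :=
      Nat.Coprime.coprime_dvd_right (Subgroup.card_subgroup_dvd_card T) hk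
    set χ' : G → ℂ := fun g => χ (g ^ k) with hχ'
    have hχ'i : IsIrrCharacter G χ' := Cfsg.Agent.Lib.Helper80.isIrrCharacter_pow_coprime hχ k hk
    have hχ'c := isCharacter_of_irr hχ'i
    set η' : T → ℂ := fun t => η (t ^ k) with hη'
    have hη'i : IsIrrCharacter T η' := Cfsg.Agent.Lib.Helper80.isIrrCharacter_pow_coprime hη k hkT
    have hind' : indFun T η' = χ' := by
      funext x
      rw [hη', ← indFun_pow_coprime' T η k hk x, hind]
    have hχ'T : IsCharacter T (fun t : T => χ' t) := isCharacter_restrict T hχ'c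
    have hfr : classInner η' (fun t : T => χ' t) = 1 := by
      rw [← Cfsg.Agent.Lib.Helper34.classInner_indFun_left T η' χ' (char_isClassFunction hχ'c),
        hind']
      exact irr_inner_self (⟨χ', hχ'i⟩ : IrrCharacter G)
    have hfr' : classInner (fun t : T => χ' t) η' ≠ 0 := by
      rw [← classInner_conj_symm, hfr, map_one]
      exact one_ne_zero
    have hξ' : IsCharacter T ((fun t : T => χ' t) - η') :=
      Cfsg.Agent.Lib.Helper85.isCharacter_sub_irr hχ'T hη'i hfr'
    have hη1 : η 1 ≠ 0 := Cfsg.Agent.Lib.Helper79.irr_one_ne_zero hη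
    have hdeg : χ 1 = (T.index : ℂ) * η 1 := by
      rw [← hind]
      exact indFun_one_eq T η
    have hidx : 2 ≤ T.index := by
      have h0 : T.index ≠ 0 := Subgroup.index_ne_zero_of_finite
      have h1 : T.index ≠ 1 := fun h => htop (Subgroup.index_eq_one.1 h)
      omega
    have hd1 : η' 1 ≠ 0 := by
      simp only [hη', one_pow]
      exact hη1
    have hd2 : ((fun t : T => χ' t) - η') 1 ≠ 0 := by
      simp only [Pi.sub_apply, hχ', hη', one_pow, Subgroup.coe_one]
      rw [hdeg]
      intro h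
      have h2 : ((T.index : ℂ) - 1) * η 1 = 0 := by rw [sub_mul, one_mul]; exact h
      rcases mul_eq_zero.1 h2 with h3 | h3
      · have h4 : (T.index : ℂ) = 1 := sub_eq_zero.1 h3
        have h5 : T.index = 1 := by exact_mod_cast h4
        omega
      · exact hη1 h3
    obtain ⟨n, hn2, hn⟩ := two_le_norm_of_induced T hη hχ hχ'c hind
      (isCharacter_of_irr hη'i) hξ' hd1 hd2 (by
        funext t
        simp only [Pi.add_apply, Pi.sub_apply]
        ring)
    have h1 := irr_inner_self (⟨fun g => χ g * χ (g ^ k), hirr⟩ : IrrCharacter G)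
    simp only at h1
    rw [hn] at h1
    have : n = 1 := by exact_mod_cast h1
    omega

end Cfsg.Agent.Lib.Helper79.GalProd
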