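import Mathlib
import Cfsg.Prelude.Def_Characters
import Cfsg.Prelude.Def_Solvable
import Cfsg.Agent.Lib.Helper79.GalProdA
import Cfsg.Agent.Lib.Helper79.GalProdB
import Cfsg.Agent.Lib.Helper79.GalProdC

/-!
# Products of Galois conjugate characters: `F(G) = Z(G)` (helper79)

If `χ` is a faithful irreducible character of `G` and `g ↦ χ(g) χ(g^k)` is irreducible
(`k` prime to `|G|`), then `F(G) = Z(G)`.
-/

set_option autoImplicit false

namespace Cfsg.Agent.Lib.Helper79.GalProd

open scoped ComplexConjugate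
open Cfsg
open Cfsg.Agent.Lib.Helper83

universe u
variable {G : Type u} [Group G]

/-- the elements of `N` all of whose commutators with `N` are central in `G` -/
def secOf (N : Subgroup G) : Subgroup G where
  carrier := {b | b ∈ N ∧ ∀ n ∈ N, cm b n ∈ Subgroup.center G}
  one_mem' := ⟨N.one_mem, fun n _ => by rw [cm_one_left]; exact Subgroup.one_mem _⟩
  mul_mem' := by
    rintro b c ⟨hb, hb'⟩ ⟨hc, hc'⟩
    refine ⟨N.mul_mem hb hc, fun n hn => ?_⟩
    rw [cm_mul_left]
    have hz := hb' n hn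
    have : c⁻¹ * cm b n * c = cm b n := by
      have := Subgroup.mem_center_iff.mp hz c
      calc c⁻¹ * cm b n * c = c⁻¹ * (cm b n * c) := by group
        _ = c⁻¹ * (c * cm b n) := by rw [this]
        _ = cm b n := by group
    rw [this]
    exact (Subgroup.center G).mul_mem hz (hc' n hn)
  inv_mem' := by
    rintro b ⟨hb, hb'⟩
    refine ⟨N.inv_mem hb, fun n hn => ?_⟩
    have hz := hb' n hn
    have h1 : cm b⁻¹ n = b * (cm b n)⁻¹ * b⁻¹ := by
      unfold cm; group
    have h2 : b * (cm b n)⁻¹ * b⁻¹ = (cm b n)⁻¹ := by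
      have hz' := (Subgroup.center G).inv_mem hz
      have := Subgroup.mem_center_iff.mp hz' b
      calc b * (cm b n)⁻¹ * b⁻¹ = (b * (cm b n)⁻¹) * b⁻¹ := by group
        _ = ((cm b n)⁻¹ * b) * b⁻¹ := by rw [this]
        _ = (cm b n)⁻¹ := by group
    rw [h1, h2]
    exact (Subgroup.center G).inv_mem hz

theorem mem_secOf (N : Subgroup G) (b : G) :
    b ∈ secOf N ↔ b ∈ N ∧ ∀ n ∈ N, cm b n ∈ Subgroup.center G := Iff.rfl

theorem secOf_le (N : Subgroup G) : secOf N ≤ N := fun _ hb => hb.1

theorem secOf_normal (N : Subgroup G) [hN : N.Normal] : (secOf N).Normal := by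
  constructor
  rintro b ⟨hb, hb'⟩ g
  refine ⟨hN.conj_mem b hb g, fun n hn => ?_⟩
  have hn' : g⁻¹ * n * g ∈ N := by
    have := hN.conj_mem n hn g⁻¹
    simpa using this
  have hz := hb' _ hn'
  have h1 : cm (g * b * g⁻¹) n = g * cm b (g⁻¹ * n * g) * g⁻¹ := by
    unfold cm; group
  have h2 : g * cm b (g⁻¹ * n * g) * g⁻¹ = cm b (g⁻¹ * n * g) := by
    have := Subgroup.mem_center_iff.mp hz g
    calc g * cm b (g⁻¹ * n * g) * g⁻¹ = (g * cm b (g⁻¹ * n * g)) * g⁻¹ := by group
      _ = (cm b (g⁻¹ * n * g) * g) * g⁻¹ := by rw [this]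
      _ = cm b (g⁻¹ * n * g) := by group
  rw [h1, h2]
  exact hz

/-- for a nilpotent normal subgroup `N` that is not central, `secOf N` is not central -/
theorem secOf_not_le_center (N : Subgroup G) (hnil : Group.IsNilpotent N)
    (hnc : ¬ N ≤ Subgroup.center G) : ¬ secOf N ≤ Subgroup.center G := by
  classical
  obtain ⟨c, hc⟩ := hnil.nilpotent'
  have hex : ∃ i : ℕ, ¬ (Subgroup.upperCentralSeries N i).map N.subtype ≤ Subgroup.center G := by
    refine ⟨c, ?_⟩
    rw [hc, ← MonoidHom.range_eq_map, Subgroup.range_subtype]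
    exact hnc
  set i := Nat.find hex with hi
  have hi1 : ¬ (Subgroup.upperCentralSeries N i).map N.subtype ≤ Subgroup.center G :=
    Nat.find_spec hex
  have hi0 : i ≠ 0 := by
    intro h0
    apply hi1
    rw [h0, Subgroup.upperCentralSeries_zero, Subgroup.map_bot]
    exact bot_le
  obtain ⟨j, hj⟩ := Nat.exists_eq_succ_of_ne_zero hi0
  have hjle : (Subgroup.upperCentralSeries N j).map N.subtype ≤ Subgroup.center G := by
    by_contra h
    have := Nat.find_min' hex h
    omega
  rw [hj] at hi1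
  obtain ⟨x, hx, hxc⟩ := SetLike.not_le_iff_exists.1 hi1
  obtain ⟨y, hy, rfl⟩ := Subgroup.mem_map.1 hx
  intro hle
  apply hxc
  apply hle
  refine ⟨y.2, fun n hn => ?_⟩
  apply hjle
  have hy' : y⁻¹ ∈ Subgroup.upperCentralSeries N (j + 1) := Subgroup.inv_mem _ hy
  have := (Subgroup.mem_upperCentralSeries_succ_iff).1 hy' ⟨n, hn⟩
  refine Subgroup.mem_map.2 ⟨_, this, ?_⟩
  simp [cm, commutatorElement_def]

section Final

variable [Fintype G] {χ : G → ℂ} (hχ : IsIrrCharacter G χ)
  (hf : ∀ g : G, χ g = χ 1 → g = 1) (k : ℕ) (hk : k.Coprime (Nat.card G))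
  (hirr : IsIrrCharacter G (fun g => χ g * χ (g ^ k)))

include hχ hf hk hirr in
/-- every nilpotent normal subgroup is central -/
theorem nilpotent_normal_le_center (N : Subgroup G) [hN : N.Normal]
    (hnil : Group.IsNilpotent N) : N ≤ Subgroup.center G := by
  classical
  by_contra hnc
  set B := secOf N with hB
  haveI hBn : B.Normal := secOf_normal N
  haveI : Fintype B := Fintype.ofFinite _
  have hnc' : ¬ B ≤ Subgroup.center G := secOf_not_le_center N hnil hnc
  -- the centre of `B` is an abelian normal subgroup of `G`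
  set ZB : Subgroup G := B ⊓ Subgroup.centralizer (B : Set G) with hZB
  haveI : ZB.Normal := inferInstance
  have hZBc : ZB ≤ Subgroup.center G := by
    apply abelian_normal_le_center hχ hf k hk hirr ZB
    intro a ha b hb
    exact (Subgroup.mem_centralizer_iff.1 hb.2 a ha.1)
  have hsec : Sec B := by
    refine ⟨hBn, ?_, ?_⟩
    · intro b hb c hc
      exact hb.2 c (secOf_le N hc)
    · intro b hb hcomm
      apply hZBc
      refine ⟨hb, ?_⟩
      show b ∈ Subgroup.centralizer (B : Set G)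
      rw [Subgroup.mem_centralizer_iff]
      intro c hc
      exact hcomm c hc
  -- the Galois conjugate
  set χ' : G → ℂ := fun g => χ (g ^ k) with hχ'
  have hχ'i : IsIrrCharacter G χ' := Cfsg.Agent.Lib.Helper80.isIrrCharacter_pow_coprime hχ k hk
  have hf' : ∀ g : G, χ' g = χ' 1 → g = 1 := by
    intro g hg
    simp only [hχ', one_pow] at hg
    have h1 := hf _ hg
    have h2 : orderOf g ∣ k := orderOf_dvd_of_pow_eq_one h1
    have h3 : orderOf g ∣ Nat.card G := orderOf_dvd_natCard g
    have h4 : orderOf g ∣ Nat.gcd k (Nat.card G) := Nat.dvd_gcd h2 h3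
    rw [hk] at h4
    exact orderOf_eq_one_iff.1 (Nat.dvd_one.1 h4)
  have hW := card_le_sum_normSq_mul_Dav hχ hχ'i B
  have hlt := lt_sum_normSq_mul hχ hf hsec hχ'i hf' hnc' hW
  have hsum := irr_sum_normSq (⟨fun g => χ g * χ (g ^ k), hirr⟩ : IrrCharacter G)
  simp only [Complex.normSq_mul] at hsum
  rw [Nat.card_eq_fintype_card] at hsum
  rw [hsum] at hlt
  exact lt_irrefl _ hlt

include hχ hf hk hirr in
/-- **`F(G) = Z(G)`** -/
theorem fitting_eq_center : Cfsg.fittingSubgroup G = Subgroup.center G := by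
  apply le_antisymm
  · unfold Cfsg.fittingSubgroup
    apply sSup_le
    rintro N ⟨hNn, hNnil⟩
    haveI := hNn
    exact nilpotent_normal_le_center hχ hf k hk hirr N hNnil
  · unfold Cfsg.fittingSubgroup
    apply le_sSup
    refine ⟨inferInstance, ⟨⟨1, ?_⟩⟩⟩
    rw [Subgroup.upperCentralSeries_one, eq_top_iff]
    intro x _
    rw [Subgroup.mem_center_iff]
    intro y
    exact Subtype.ext (Subgroup.mem_center_iff.mp x.2 y)

end Final

end Cfsg.Agent.Lib.Helper79.GalProd
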