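import Mathlib
import Cfsg.Prelude.Def_Blocks
import Cfsg.Agent.Lib.Helper70.IPDefs
import Cfsg.Agent.Lib.Helper83.LinearCount
import Cfsg.Agent.Lib.Helper83.CharMisc

/-!
# Pack K-IP (S4463), Case A leaf 446323 IPA-RAM: a nonabelian `p`-group all of whose nontrivial
normal subgroups contain the commutator subgroup has a character fully ramified over its centre.
-/

set_option autoImplicit false

namespace Cfsg.Agent.Lib.Helper79.IPA

open Cfsg Cfsg.Agent.Lib.Helper70.IP Cfsg.Agent.Lib.Helper83
open scoped ComplexConjugate commutatorElement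

universe u

theorem exists_ramified {X : Type u} [Group X] [Finite X] {p : ℕ} [Fact p.Prime] (hp : IsPGroup p X)
    (hnab : ∃ a c : X, a * c ≠ c * a) (hmono : MonoQ X) :
    ∃ θ : X → ℂ, IsIrrCharacter X θ ∧ 1 < charDegree θ ∧
      (∀ g : X, g ∉ Subgroup.center X → θ g = 0) ∧
      (∀ z : X, z ∈ Subgroup.center X → ‖θ z‖ = (charDegree θ : ℝ)) ∧
      (charDegree θ) ^ 2 = (Subgroup.center X).index := by
  classical
  haveI := Fintype.ofFinite X
  obtain ⟨a, c, hac⟩ := hnab
  haveI : Nontrivial X := ⟨⟨a, c, by rintro rfl; exact hac rfl⟩⟩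
  haveI := hp.center_nontrivial
  have hZne : Subgroup.center X ≠ ⊥ := (Subgroup.nontrivial_iff_ne_bot _).1 inferInstance
  have hcomm : commutator X ≤ Subgroup.center X := hmono _ inferInstance hZne
  obtain ⟨θ, hθ1⟩ := exists_nonlinear_of_not_comm (G := X) (by intro h; exact hac (h a c))
  have hθc := IrrCharacter_isCharacter θ
  have hne : ∀ z ∈ commutator X, z ≠ 1 → (θ : X → ℂ) z ≠ (θ : X → ℂ) 1 := by
    intro z _ hz1 h
    apply hθ1
    apply irr_linear_of_commutator_le θ
    have hker : charKer hθc ≠ ⊥ := by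
      intro hb
      have : z ∈ charKer hθc := h
      rw [hb, Subgroup.mem_bot] at this
      exact hz1 this
    have hle := hmono _ (charKer_normal hθc) hker
    intro x hx
    exact hle hx
  have hvan : ∀ g : X, g ∉ Subgroup.center X → (θ : X → ℂ) g = 0 := by
    intro g hg
    rw [Subgroup.mem_center_iff] at hg
    push Not at hg
    obtain ⟨x, hx⟩ := hg
    set z := g⁻¹ * x⁻¹ * g * x with hzdef
    have hzc : z ∈ commutator X := by
      rw [commutator_def]
      have : z = ⁅g⁻¹, x⁻¹⁆ := by rw [commutatorElement_def, hzdef]; group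
      rw [this]
      exact Subgroup.commutator_mem_commutator (Subgroup.mem_top _) (Subgroup.mem_top _)
    have hz1 : z ≠ 1 := by
      intro h
      apply hx
      have : x * g = x * g * z := by rw [h, mul_one]
      rw [this, hzdef]; group
    have hconj : x⁻¹ * g * x = g * z := by rw [hzdef]; group
    exact irr_eq_zero_of_conj_eq_mul_central θ (hcomm hzc) hconj (hne z hzc hz1)
  have hd : ((charDegree (θ : X → ℂ) : ℕ) : ℂ) = (θ : X → ℂ) 1 := charDegree_cast hθc
  have hd0 := irr_degree_ne_zero θ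
  -- `conj (θ z) * θ z = d ^ 2` on the centre
  have hsq : ∀ z : X, z ∈ Subgroup.center X →
      (θ : X → ℂ) z * conj ((θ : X → ℂ) z) = ((charDegree (θ : X → ℂ) : ℕ) : ℂ) ^ 2 := by
    intro z hz
    have h1 := irr_mul_central θ hz z⁻¹
    rw [inv_mul_cancel, char_inv hθc] at h1
    rw [hd]
    field_simp at h1
    linear_combination -h1
  have hnorm : ∀ z : X, z ∈ Subgroup.center X →
      ‖(θ : X → ℂ) z‖ = (charDegree (θ : X → ℂ) : ℝ) := by
    intro z hz
    have h2 := hsq z hz
    rw [Complex.mul_conj, Complex.normSq_eq_norm_sq] at h2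
    have h3 : ‖(θ : X → ℂ) z‖ ^ 2 = (charDegree (θ : X → ℂ) : ℝ) ^ 2 := by
      have : ((‖(θ : X → ℂ) z‖ ^ 2 : ℝ) : ℂ) = (((charDegree (θ : X → ℂ) : ℝ) ^ 2 : ℝ) : ℂ) := by
        rw [h2]; push_cast; rfl
      exact Complex.ofReal_injective this
    exact (sq_eq_sq₀ (norm_nonneg _) (Nat.cast_nonneg _)).1 h3
  -- index
  have hinner := irr_inner_self θ
  rw [classInner_def] at hinner
  have hsum : ∑ g : X, (θ : X → ℂ) g * conj ((θ : X → ℂ) g)
      = ((charDegree (θ : X → ℂ) : ℕ) : ℂ) ^ 2 * (Nat.card (Subgroup.center X) : ℂ) := by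
    have h1 : ∀ g : X, (θ : X → ℂ) g * conj ((θ : X → ℂ) g)
        = if g ∈ Subgroup.center X then ((charDegree (θ : X → ℂ) : ℕ) : ℂ) ^ 2 else 0 := by
      intro g
      by_cases hg : g ∈ Subgroup.center X
      · rw [if_pos hg, hsq g hg]
      · rw [if_neg hg, hvan g hg, zero_mul]
    rw [Finset.sum_congr rfl (fun g _ => h1 g), Finset.sum_ite, Finset.sum_const_zero, add_zero,
      Finset.sum_const, nsmul_eq_mul, mul_comm]
    congr 1
    rw [Nat.card_eq_fintype_card, Fintype.card_subtype]
  rw [hsum] at hinner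
  have hXne : (Nat.card X : ℂ) ≠ 0 := by
    have : Nat.card X ≠ 0 := Nat.card_pos.ne'
    exact_mod_cast this
  have hnat : charDegree (θ : X → ℂ) ^ 2 * Nat.card (Subgroup.center X) = Nat.card X := by
    have : ((charDegree (θ : X → ℂ) ^ 2 * Nat.card (Subgroup.center X) : ℕ) : ℂ)
        = (Nat.card X : ℂ) := by
      push_cast
      field_simp at hinner
      linear_combination hinner
    exact_mod_cast this
  have hidx : charDegree (θ : X → ℂ) ^ 2 = (Subgroup.center X).index := by
    have hm := Subgroup.card_mul_index (Subgroup.center X)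
    rw [← hm, mul_comm] at hnat
    exact Nat.eq_of_mul_eq_mul_left Nat.card_pos hnat
  have hdeg : 1 < charDegree (θ : X → ℂ) := by
    have h0 : charDegree (θ : X → ℂ) ≠ 0 := by
      intro h; apply hd0; rw [← hd, h]; simp
    have h1 : charDegree (θ : X → ℂ) ≠ 1 := by
      intro h; apply hθ1; rw [← hd, h]; simp
    omega
  exact ⟨θ, θ.2, hdeg, hvan, hnorm, hidx⟩

end Cfsg.Agent.Lib.Helper79.IPA
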