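import Mathlib
import Cfsg.Prelude.Def_Blocks
import Cfsg.Agent.Lib.Helper70.IPDefs
import Cfsg.Agent.Lib.Helper22.BlockRegular

/-!
# Pack K-IP (S4463) leaf 446303 IP-SUB: the degree bound passes to subgroups.
-/

set_option autoImplicit false

namespace Cfsg.Agent.Lib.Helper79.IP

open Cfsg Cfsg.Agent.Lib.Helper70.IP

universe u

theorem degLE_subgroup {G : Type u} [Group G] [Finite G] (b : ℕ) (hb : DegLE G b)
    (H : Subgroup G) : DegLE H b := by
  classical
  haveI := Fintype.ofFinite G
  haveI : Fintype H := Fintype.ofFinite H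
  intro θ
  obtain ⟨χ, hχ⟩ := Cfsg.Agent.Lib.Helper22.exists_irr_over H θ
  have hres : IsCharacter H (fun h : H => (χ : G → ℂ) h) :=
    Cfsg.Agent.Lib.Helper83.isCharacter_restrict H
      (Cfsg.Agent.Lib.Helper83.IrrCharacter_isCharacter χ)
  have hle := Cfsg.Agent.Lib.Helper33.degree_le_of_constituent hres θ.2 hχ
  have h1 : charDegree (θ : H → ℂ) ≤ charDegree (χ : G → ℂ) := by
    unfold charDegree
    apply Nat.floor_le_floor
    simpa using hle
  exact h1.trans (hb χ)

end Cfsg.Agent.Lib.Helper79.IP
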