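import Mathlib
import Cfsg.Prelude.Def_Characters
import Cfsg.Prelude.Def_Local
import Cfsg.Agent.Lib.Helper79.ItoSolvable
import Cfsg.Agent.Lib.Helper79.CoprimeFix
import Cfsg.Agent.Lib.Helper81.PSolvable
import Cfsg.Agent.Lib.Helper40.PSolv

set_option autoImplicit false
set_option linter.style.haveILetI false
set_option linter.unusedSectionVars false

namespace Cfsg.Agent.Lib.Helper79

open scoped ComplexConjugate
open Cfsg

universe u

/-- Itô's theorem for `p`-solvable groups, the hard direction. -/
theorem ito_psolvable_aux (p : ℕ) [Fact p.Prime] : ∀ n : ℕ, ∀ (G : Type u) [Group G] [Finite G],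
    Nat.card G = n → Cfsg.IsPSolvable p G →
    (∀ χ : IrrCharacter G, ¬ p ∣ charDegree (χ : G → ℂ)) →
    ∃ P : Subgroup G, P.Normal ∧ (∀ x ∈ P, ∀ y ∈ P, x * y = y * x) ∧ IsPGroup p P ∧
      ¬ p ∣ P.index := by
  intro n
  induction n using Nat.strong_induction_on with
  | _ n ih =>
  intro G _ _ hcard hsolv hdeg
  classical
  haveI : Fintype G := Fintype.ofFinite G
  have hp : p.Prime := Fact.out
  by_cases htriv : Subsingleton G
  · refine ⟨⊥, inferInstance, ?_, IsPGroup.of_bot, ?_⟩
    · intro x hx y hy
      rw [Subgroup.mem_bot] at hx hy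
      rw [hx, hy]
    · rw [Subgroup.index_bot, Nat.card_unique]
      exact hp.one_lt.ne' ∘ Nat.dvd_one.mp
  rw [not_subsingleton_iff_nontrivial] at htriv
  obtain ⟨N, hNmin⟩ := Cfsg.Agent.Lib.Helper13.exists_isMinNormal (G := G)
  haveI hNn : N.Normal := hNmin.1
  obtain ⟨Y, hYn, -, hYN, hYne, hY⟩ :=
    Cfsg.Agent.Lib.Helper81.IsPSolvable.exists_normal_between hp hsolv ⊥ N bot_le
      (Ne.symm hNmin.2.1)
  have hYN' : Y = N := (hNmin.2.2 Y hYn hYN).resolve_left (Ne.symm hYne)
  rw [hYN', Subgroup.relIndex_bot_left] at hY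
  have hcardQ : Nat.card (G ⧸ N) < n := by
    rw [← hcard, Subgroup.card_eq_card_quotient_mul_card_subgroup N]
    have h1 : 1 < Nat.card N := (Subgroup.one_lt_card_iff_ne_bot (H := N)).mpr hNmin.2.1
    have h2 : 0 < Nat.card (G ⧸ N) := Nat.card_pos
    nlinarith
  obtain ⟨Pbar, hPn, hPab, hPp, hPidx⟩ :=
    ih _ hcardQ (G ⧸ N) rfl (Cfsg.Agent.Lib.Helper81.IsPSolvable.quotient hp hsolv N)
      (degree_hyp_quotient p N hdeg)
  set M : Subgroup G := Pbar.comap (QuotientGroup.mk' N) with hM
  haveI hMn : M.Normal := hPn.comap _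
  have hMidx : ¬ p ∣ M.index := by
    rw [hM, Subgroup.index_comap_of_surjective _ (QuotientGroup.mk'_surjective N)]
    exact hPidx
  have hdegM : ∀ θ : IrrCharacter M, ¬ p ∣ charDegree (θ : M → ℂ) := by
    intro θ hd
    obtain ⟨χ, e, hχ⟩ := exists_irr_over M hMn θ
    exact hdeg χ (by rw [hχ]; exact Dvd.dvd.mul_left hd _)
  rcases hY with ⟨m0, hm0⟩ | hcop
  · -- the minimal normal subgroup is a p-group
    have hqN : IsPGroup p N := IsPGroup.of_card hm0
    have hMp : IsPGroup p M := by
      rintro ⟨m, hm⟩
      have hm' : (QuotientGroup.mk' N m) ∈ Pbar := hm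
      obtain ⟨a, ha⟩ := hPp ⟨QuotientGroup.mk' N m, hm'⟩
      have ha' : (QuotientGroup.mk' N m) ^ (p ^ a) = 1 := by
        have := congrArg Subtype.val ha
        simpa using this
      have hmN : m ^ (p ^ a) ∈ N := by
        rw [← QuotientGroup.eq_one_iff]
        simpa using ha'
      obtain ⟨b, hb⟩ := hqN ⟨m ^ (p ^ a), hmN⟩
      have hb' : (m ^ (p ^ a)) ^ (p ^ b) = 1 := by
        have := congrArg Subtype.val hb
        simpa using this
      refine ⟨a + b, ?_⟩
      apply Subtype.ext
      simp only [Subgroup.coe_pow, Subgroup.coe_one]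
      rw [pow_add, pow_mul, hb']
    refine ⟨M, hMn, ?_, hMp, hMidx⟩
    have hlin : ∀ θ : IrrCharacter M, charDegree (θ : M → ℂ) = 1 := by
      intro θ
      have h2 : charDegree (θ : M → ℂ) ∣ Nat.card M :=
        Cfsg.Agent.Lib.Helper83.irr_charDegree_dvd_card θ
      obtain ⟨k, hk⟩ := IsPGroup.iff_card.mp hMp
      rw [hk] at h2
      obtain ⟨j, _, hj⟩ := (Nat.dvd_prime_pow hp).mp h2
      rcases Nat.eq_zero_or_pos j with h0 | h0
      · rw [hj, h0, pow_zero]
      · exfalso
        apply hdegM θ
        rw [hj]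
        exact dvd_pow_self p h0.ne'
    have hcomm := comm_of_all_linear hlin
    intro x hx y hy
    exact congrArg Subtype.val (hcomm ⟨x, hx⟩ ⟨y, hy⟩)
  · -- the minimal normal subgroup is a p'-group
    have hpN : ¬ p ∣ Nat.card N := by
      intro hd
      have := Nat.Coprime.eq_one_of_dvd hcop.symm hd
      exact hp.one_lt.ne' this
    by_cases hMtop : M = ⊤
    · -- G/N is an abelian p-group
      have hPtop : Pbar = ⊤ := by
        rw [eq_top_iff]
        intro x _
        obtain ⟨g, rfl⟩ := QuotientGroup.mk'_surjective N x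
        have : g ∈ M := by rw [hMtop]; exact Subgroup.mem_top g
        exact this
      have hQab : ∀ a b : G ⧸ N, a * b = b * a := by
        intro a b
        exact hPab a (by rw [hPtop]; exact Subgroup.mem_top a) b
          (by rw [hPtop]; exact Subgroup.mem_top b)
      have hidxN : ∃ k, N.index = p ^ k := by
        rw [Subgroup.index_eq_card]
        have h1 : IsPGroup p (G ⧸ N) := by
          intro x
          obtain ⟨a, ha⟩ := hPp ⟨x, by rw [hPtop]; exact Subgroup.mem_top x⟩
          refine ⟨a, ?_⟩
          have := congrArg Subtype.val ha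
          simpa using this
        exact IsPGroup.iff_card.mp h1
      -- every irreducible character of N is invariant
      have hinv : ∀ (θ : IrrCharacter N) (g : G),
          Cfsg.Agent.Lib.Helper85.conjFun hNn (θ : N → ℂ) g = (θ : N → ℂ) := by
        intro θ g
        by_contra hne
        obtain ⟨χ, e, hχ⟩ := exists_irr_over N hNn θ
        set S := Finset.univ.image (fun g : G => Cfsg.Agent.Lib.Helper85.conjFun hNn (θ : N → ℂ) g)
          with hS
        have hdvd : S.card ∣ N.index := by
          rw [hS, Cfsg.Agent.Lib.Helper85.card_conj_orbit_eq_index hNn (θ : N → ℂ)]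
          apply Subgroup.index_dvd_of_le
          exact Cfsg.Agent.Lib.Helper85.le_conjStab hNn
            (Cfsg.Agent.Lib.Helper83.char_isClassFunction
              (Cfsg.Agent.Lib.Helper83.IrrCharacter_isCharacter θ))
        have h1mem : (θ : N → ℂ) ∈ S := by
          rw [hS, Finset.mem_image]
          refine ⟨1, Finset.mem_univ _, ?_⟩
          funext n
          rw [Cfsg.Agent.Lib.Helper85.conjFun_apply]
          have : (⟨1 * (n : G) * 1⁻¹, hNn.conj_mem _ n.2 1⟩ : N) = n := by
            apply Subtype.ext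
            simp
          rw [this]
        have hgmem : Cfsg.Agent.Lib.Helper85.conjFun hNn (θ : N → ℂ) g ∈ S := by
          rw [hS, Finset.mem_image]
          exact ⟨g, Finset.mem_univ _, rfl⟩
        have hcard2 : 1 < S.card := Finset.one_lt_card.mpr ⟨_, hgmem, _, h1mem, hne⟩
        obtain ⟨k, hk⟩ := hidxN
        rw [hk] at hdvd
        obtain ⟨j, _, hj⟩ := (Nat.dvd_prime_pow hp).mp hdvd
        have hj0 : j ≠ 0 := by
          intro h0
          rw [hj, h0, pow_zero] at hcard2
          exact lt_irrefl _ hcard2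
        apply hdeg χ
        rw [hχ, hj]
        exact Dvd.dvd.mul_right (Dvd.dvd.mul_left (dvd_pow_self p hj0) _) _
      -- p-elements centralize N
      have hcenp : ∀ (y : G) (k : ℕ), y ^ (p ^ k) = 1 → ∀ n ∈ N, y * n = n * y := by
        intro y k hy n hn
        set φ : MulAut N := MulAut.conjNormal y with hφ
        have hφpow : φ ^ (p ^ k) = 1 := by
          rw [hφ, ← map_pow, hy, map_one]
        have hφinv : ∀ θ : IrrCharacter N, (fun n => (θ : N → ℂ) (φ n)) = (θ : N → ℂ) := by
          intro θ
          exact (Cfsg.Agent.Lib.Helper85.conjFun_eq_comp hNn (θ : N → ℂ) y).symm.trans (hinv θ y)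
        have hcl := isConj_of_irr_invariant φ hφinv
        have hfix := eq_of_isConj_of_pow p hpN φ k hφpow hcl ⟨n, hn⟩
        have h2 : y * n * y⁻¹ = n := by
          have := congrArg Subtype.val hfix
          rw [hφ, MulAut.conjNormal_apply] at this
          exact this
        calc y * n = y * n * y⁻¹ * y := by group
          _ = n * y := by rw [h2]
      -- take a Sylow p-subgroup
      obtain ⟨P⟩ : Nonempty (Sylow p G) := inferInstance
      have hcentral : ∀ y ∈ (P : Subgroup G), ∀ g : G, g * y * g⁻¹ = y := by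
        intro y hy g
        obtain ⟨k, hk⟩ := P.2 ⟨y, hy⟩
        have hk' : y ^ (p ^ k) = 1 := by
          have := congrArg Subtype.val hk
          simpa using this
        exact conj_eq_of_centralizing p N hpN hQab y k hk' (hcenp y k hk') g
      refine ⟨P, ⟨fun y hy g => ?_⟩, ?_, P.2, P.not_dvd_index⟩
      · rw [hcentral y hy g]; exact hy
      · intro x hx y hy
        have := hcentral y hy x
        calc x * y = x * y * x⁻¹ * x := by group
          _ = y * x := by rw [this]
    · -- M is proper: induct
      have hcardM : Nat.card M < n := by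
        rw [← hcard]
        have h1 : M.index ≠ 1 := fun h => hMtop (Subgroup.index_eq_one.mp h)
        have h2 : M.index ≠ 0 := Subgroup.index_ne_zero_of_finite
        have h3 := Subgroup.card_mul_index M
        have h4 : 0 < Nat.card M := Nat.card_pos
        have h5 : 2 ≤ M.index := by omega
        nlinarith
      obtain ⟨P', hP'n, hP'ab, hP'p, hP'idx⟩ := ih _ hcardM M rfl
        (Cfsg.Agent.Lib.Helper40.isPSolvable_subgroup hp hsolv M) hdegM
      haveI := hP'n
      refine ⟨P'.map M.subtype, ⟨?_⟩, ?_, ?_, ?_⟩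
      · rintro y ⟨y', hy', rfl⟩ g
        have hmem : g * (y' : G) * g⁻¹ ∈ M := hMn.conj_mem _ y'.2 g
        obtain ⟨k, hk⟩ := hP'p ⟨y', hy'⟩
        have hk' : y' ^ (p ^ k) = 1 := by
          have := congrArg Subtype.val hk
          simpa using this
        have hz : (⟨g * (y' : G) * g⁻¹, hmem⟩ : M) ^ (p ^ k) = 1 := by
          apply Subtype.ext
          simp only [Subgroup.coe_pow, Subgroup.coe_one]
          rw [conj_pow]
          have : (y' : G) ^ (p ^ k) = 1 := by
            have := congrArg Subtype.val hk'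
            simpa using this
          rw [this, mul_one, mul_inv_cancel]
        have := mem_of_pow_eq_one p P' hP'idx _ k hz
        exact ⟨⟨g * (y' : G) * g⁻¹, hmem⟩, this, rfl⟩
      · rintro x ⟨x', hx', rfl⟩ y ⟨y', hy', rfl⟩
        have := hP'ab x' hx' y' hy'
        exact congrArg Subtype.val this
      · exact hP'p.map M.subtype
      · rw [Subgroup.index_map_subtype]
        intro hd
        rcases (Nat.Prime.dvd_mul hp).mp hd with h | h
        · exact hP'idx h
        · exact hMidx h

end Cfsg.Agent.Lib.Helper79
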