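import Mathlib
import Cfsg.Prelude.Def_Blocks
import Cfsg.Prelude.Def_Solvable
import Cfsg.Agent.Lib.Helper22.KleinFourSylow
import Cfsg.Agent.Lib.Helper01.PPrimeCore

set_option autoImplicit false
open Cfsg
open scoped Pointwise

namespace Cfsg.Agent.Lib.Helper79

universe u

section KleinFourOrder

variable {G : Type u} [Group G] [Finite G]

/-- the Sylow `2`-subgroup of a group of order `4 g₀`, `g₀` odd, has order four. -/
theorem card_sylow_eq_four (g₀ : ℕ) (hg₀ : Odd g₀) (hG : Nat.card G = 4 * g₀) (P : Sylow 2 G) :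
    Nat.card (P : Subgroup G) = 4 := by
  haveI : Fact (Nat.Prime 2) := ⟨Nat.prime_two⟩
  have h := P.card_eq_multiplicity
  have hg0 : g₀ ≠ 0 := by
    rintro rfl
    exact (Nat.not_odd_iff_even.2 (by decide : Even 0)) hg₀
  have h2 : ¬ 2 ∣ g₀ := by
    intro hd
    exact (Nat.not_even_iff_odd.2 hg₀) (even_iff_two_dvd.2 hd)
  have hf : (4 * g₀).factorization 2 = 2 := by
    rw [Nat.factorization_mul (by norm_num) hg0]
    have h4 : (4 : ℕ).factorization 2 = 2 := by
      rw [show (4 : ℕ) = 2 ^ 2 by norm_num, Nat.Prime.factorization_pow Nat.prime_two]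
      simp
    simp [h4, Nat.factorization_eq_zero_of_not_dvd h2]
  rw [hG, hf] at h
  rw [h]; norm_num

/-- with no normal subgroup of order `g₀`, the normalizer of a Sylow `2`-subgroup does not
centralize it. -/
theorem not_normalizer_le_centralizer (g₀ : ℕ) (hg₀ : Odd g₀) (hG : Nat.card G = 4 * g₀)
    (hnc : ¬ ∃ N : Subgroup G, N.Normal ∧ Nat.card N = g₀) (P : Sylow 2 G) :
    ¬ Subgroup.normalizer ((P : Subgroup G) : Set G) ≤
      Subgroup.centralizer ((P : Subgroup G) : Set G) := by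
  haveI : Fact (Nat.Prime 2) := ⟨Nat.prime_two⟩
  intro hN
  obtain ⟨k, hk⟩ := Cfsg.Agent.Lib.Helper22.exists_index_pPrimeCore_of_normalizer_le P hN
  apply hnc
  refine ⟨pPrimeCore 2 G, Cfsg.Agent.Lib.Helper01.pPrimeCore_normal 2, ?_⟩
  have hcop := Cfsg.Agent.Lib.Helper01.pPrimeCore_card_coprime (G := G) 2
  have hmul := (pPrimeCore 2 G).card_mul_index
  rw [hk, hG] at hmul
  set c := Nat.card (pPrimeCore 2 G) with hc
  have hg0cop : Nat.Coprime g₀ 2 := by
    rw [Nat.coprime_two_right]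
    exact hg₀
  apply Nat.dvd_antisymm
  · have h1 : c ∣ 4 * g₀ := ⟨2 ^ k, hmul.symm⟩
    have h2 : Nat.Coprime c 4 := by
      rw [show (4 : ℕ) = 2 ^ 2 by norm_num]
      exact Nat.Coprime.pow_right 2 hcop
    exact h2.dvd_of_dvd_mul_left h1
  · have h1 : g₀ ∣ c * 2 ^ k := ⟨4, by rw [hmul]; ring⟩
    have h2 : Nat.Coprime g₀ (2 ^ k) := Nat.Coprime.pow_right k hg0cop
    exact h2.dvd_of_dvd_mul_right h1

/-- an element of odd order whose square commutes with `x` commutes with `x`. -/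
theorem conj_eq_of_sq_conj_eq {h x : G} (hodd : Odd (orderOf h))
    (h2 : h ^ 2 * x * (h ^ 2)⁻¹ = x) : h * x * h⁻¹ = x := by
  obtain ⟨k, hk⟩ := hodd
  have hc : Commute (h ^ 2) x := by
    have : h ^ 2 * x = x * h ^ 2 := by
      calc h ^ 2 * x = (h ^ 2 * x * (h ^ 2)⁻¹) * h ^ 2 := by group
        _ = x * h ^ 2 := by rw [h2]
    exact this
  have hpow : (h ^ 2) ^ (k + 1) = h := by
    rw [← pow_mul]
    have : 2 * (k + 1) = orderOf h + 1 := by omega
    rw [this, pow_succ, pow_orderOf_eq_one, one_mul]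
  have hc' : Commute h x := by
    have := hc.pow_left (k + 1)
    rwa [hpow] at this
  calc h * x * h⁻¹ = x * h * h⁻¹ := by rw [hc'.eq]
    _ = x := by group

/-- the normalizer of an abelian Sylow `2`-subgroup which does not centralize it contains an
element of odd order which does not centralize it. -/
theorem exists_odd_not_centralizer (P : Sylow 2 G)
    (hcomm : ∀ a ∈ (P : Subgroup G), ∀ b ∈ (P : Subgroup G), a * b = b * a)
    (hN : ¬ Subgroup.normalizer ((P : Subgroup G) : Set G) ≤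
      Subgroup.centralizer ((P : Subgroup G) : Set G)) :
    ∃ h : G, h ∈ Subgroup.normalizer ((P : Subgroup G) : Set G) ∧
      h ∉ Subgroup.centralizer ((P : Subgroup G) : Set G) ∧ Odd (orderOf h) := by
  haveI : Fact (Nat.Prime 2) := ⟨Nat.prime_two⟩
  obtain ⟨g, hgN, hgC⟩ := SetLike.not_le_iff_exists.1 hN
  have hpos : 0 < orderOf g := orderOf_pos g
  obtain ⟨a, m, hm, hn⟩ := Nat.exists_eq_two_pow_mul_odd (n := orderOf g) hpos.ne'
  -- g ^ m is a 2-element of the normalizer, hence in P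
  have h2elt : (g ^ m) ^ 2 ^ a = 1 := by
    rw [← pow_mul, mul_comm, ← hn, pow_orderOf_eq_one]
  have hgmN : g ^ m ∈ Subgroup.normalizer ((P : Subgroup G) : Set G) := Subgroup.pow_mem _ hgN m
  have hzp : IsPGroup 2 (Subgroup.zpowers (g ^ m)) := by
    intro x
    obtain ⟨y, hy⟩ := x
    obtain ⟨k, rfl⟩ := Subgroup.mem_zpowers_iff.1 hy
    refine ⟨a, ?_⟩
    apply Subtype.ext
    simp only [Subgroup.coe_pow, Subgroup.coe_one]
    rw [← zpow_natCast, ← zpow_mul, mul_comm, zpow_mul, zpow_natCast, h2elt, one_zpow]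
  have hinf := hzp.inf_normalizer_sylow P
  have hgmP : g ^ m ∈ (P : Subgroup G) := by
    have h' : g ^ m ∈ Subgroup.zpowers (g ^ m) ⊓ (P : Subgroup G) := by
      rw [← hinf]
      exact ⟨Subgroup.mem_zpowers _, hgmN⟩
    exact h'.2
  have hgmC : g ^ m ∈ Subgroup.centralizer ((P : Subgroup G) : Set G) := by
    rw [Subgroup.mem_centralizer_iff]
    intro x hx
    exact hcomm x hx _ hgmP
  refine ⟨g ^ 2 ^ a, Subgroup.pow_mem _ hgN _, ?_, ?_⟩
  · intro hC
    apply hgC
    -- Bezout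
    have hcop : Nat.Coprime m (2 ^ a) := by
      apply Nat.Coprime.pow_right
      rw [Nat.coprime_two_right]
      exact hm
    have hb := Int.gcd_eq_gcd_ab (m : ℤ) ((2 ^ a : ℕ) : ℤ)
    have hg1 : Int.gcd (m : ℤ) ((2 ^ a : ℕ) : ℤ) = 1 := by
      rw [Int.gcd_natCast_natCast]; exact hcop
    rw [hg1] at hb
    have : g = (g ^ m) ^ (Int.gcdA (m : ℤ) ((2 ^ a : ℕ) : ℤ)) *
        (g ^ 2 ^ a) ^ (Int.gcdB (m : ℤ) ((2 ^ a : ℕ) : ℤ)) := by
      rw [← zpow_natCast g m, ← zpow_natCast g (2 ^ a), ← zpow_mul, ← zpow_mul, ← zpow_add]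
      have : ((m : ℤ) * Int.gcdA (m : ℤ) ((2 ^ a : ℕ) : ℤ) +
          ((2 ^ a : ℕ) : ℤ) * Int.gcdB (m : ℤ) ((2 ^ a : ℕ) : ℤ)) = 1 := by
        rw [← hb]; simp
      rw [this, zpow_one]
    rw [this]
    exact Subgroup.mul_mem _ (Subgroup.zpow_mem _ hgmC _) (Subgroup.zpow_mem _ hC _)
  · have hdvd : orderOf (g ^ 2 ^ a) ∣ m := by
      apply orderOf_dvd_of_pow_eq_one
      rw [← pow_mul, ← hn, pow_orderOf_eq_one]
    exact Odd.of_dvd_nat hm hdvd

/-- a subgroup of order four is exhausted by four distinct members. -/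
theorem mem_four_of_card (P : Subgroup G) (hcard : Nat.card P = 4) (a b c d : G)
    (ha : a ∈ P) (hb : b ∈ P) (hc : c ∈ P) (hd : d ∈ P)
    (hab : a ≠ b) (hac : a ≠ c) (had : a ≠ d) (hbc : b ≠ c) (hbd : b ≠ d) (hcd : c ≠ d) :
    ∀ z ∈ P, z = a ∨ z = b ∨ z = c ∨ z = d := by
  classical
  haveI : Fintype P := Fintype.ofFinite P
  intro z hz
  let S : Finset P := {⟨a, ha⟩, ⟨b, hb⟩, ⟨c, hc⟩, ⟨d, hd⟩}
  have hS : S.card = 4 := by
    have h1 : (⟨a, ha⟩ : P) ∉ ({⟨b, hb⟩, ⟨c, hc⟩, ⟨d, hd⟩} : Finset P) := by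
      simp only [Finset.mem_insert, Finset.mem_singleton, Subtype.mk.injEq]
      tauto
    have h2 : (⟨b, hb⟩ : P) ∉ ({⟨c, hc⟩, ⟨d, hd⟩} : Finset P) := by
      simp only [Finset.mem_insert, Finset.mem_singleton, Subtype.mk.injEq]
      tauto
    have h3 : (⟨c, hc⟩ : P) ∉ ({⟨d, hd⟩} : Finset P) := by
      simp only [Finset.mem_singleton, Subtype.mk.injEq]
      tauto
    show (insert (⟨a, ha⟩ : P) (insert (⟨b, hb⟩ : P) (insert (⟨c, hc⟩ : P) ({⟨d, hd⟩} : Finset P)))).card = 4
    rw [Finset.card_insert_of_notMem h1, Finset.card_insert_of_notMem h2,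
      Finset.card_insert_of_notMem h3, Finset.card_singleton]
  have hU : S = Finset.univ := by
    apply Finset.eq_univ_of_card
    rw [hS, ← Nat.card_eq_fintype_card, hcard]
  have hzS : (⟨z, hz⟩ : P) ∈ S := by rw [hU]; exact Finset.mem_univ _
  simp only [S, Finset.mem_insert, Finset.mem_singleton, Subtype.mk.injEq] at hzS
  exact hzS

/-- an odd order element of the normalizer of a Sylow `2`-subgroup of order four which does not
centralize it fixes no non-identity element. -/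
theorem conj_ne_self_of_odd (P : Sylow 2 G) (hcard : Nat.card (P : Subgroup G) = 4)
    (h : G) (hhN : h ∈ Subgroup.normalizer ((P : Subgroup G) : Set G))
    (hhC : h ∉ Subgroup.centralizer ((P : Subgroup G) : Set G)) (hodd : Odd (orderOf h))
    (x : G) (hx : x ∈ (P : Subgroup G)) (hx1 : x ≠ 1) : h * x * h⁻¹ ≠ x := by
  intro hfix
  have hφP : ∀ z, z ∈ (P : Subgroup G) → h * z * h⁻¹ ∈ (P : Subgroup G) := fun z hz =>
    (Subgroup.mem_normalizer_iff.1 hhN z).1 hz
  have hφinj : ∀ z w : G, h * z * h⁻¹ = h * w * h⁻¹ → z = w := by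
    intro z w hzw
    have := congrArg (fun t => h⁻¹ * t * h) hzw
    simpa [mul_assoc] using this
  have hφmul : ∀ z w : G, h * (z * w) * h⁻¹ = (h * z * h⁻¹) * (h * w * h⁻¹) := by
    intro z w; group
  obtain ⟨y, hyP, hy⟩ : ∃ y ∈ (P : Subgroup G), h * y * h⁻¹ ≠ y := by
    by_contra hall
    push Not at hall
    apply hhC
    rw [Subgroup.mem_centralizer_iff]
    intro y hy
    have := hall y hy
    calc y * h = (h * y * h⁻¹) * h := by rw [this]
      _ = h * y := by group
  have hy1 : y ≠ 1 := by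
    rintro rfl
    apply hy; group
  have hyx : y ≠ x := by
    rintro rfl
    exact hy hfix
  have hxy1 : x * y ≠ 1 := by
    intro h1
    have hyinv : y = x⁻¹ := by
      rw [eq_inv_iff_mul_eq_one, ← h1]
      have := hφP
      -- x * y = 1 gives y * x = 1
      have : y * x = 1 := by
        have := mul_eq_one_iff_eq_inv.1 h1
        rw [this]; group
      rw [this, h1]
    apply hy
    rw [hyinv]
    calc h * x⁻¹ * h⁻¹ = (h * x * h⁻¹)⁻¹ := by group
      _ = x⁻¹ := by rw [hfix]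
  have hxyx : x * y ≠ x := by
    intro h1
    exact hy1 (mul_eq_left.1 h1)
  have hxyy : x * y ≠ y := by
    intro h1
    exact hx1 (mul_eq_right.1 h1)
  have hall := mem_four_of_card (P : Subgroup G) hcard 1 x y (x * y) (Subgroup.one_mem _) hx hyP
    (Subgroup.mul_mem _ hx hyP) hx1.symm hy1.symm hxy1.symm hyx.symm hxyx.symm hxyy.symm
  -- the image of y
  have hφy : h * y * h⁻¹ = x * y := by
    rcases hall _ (hφP y hyP) with h1 | h1 | h1 | h1
    · exfalso; apply hy1
      apply hφinj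
      rw [h1]; group
    · exfalso; apply hyx
      apply hφinj
      rw [h1, hfix]
    · exact absurd h1 hy
    · exact h1
  -- x has order two
  have hxx : x * x = 1 := by
    rcases hall _ (Subgroup.mul_mem _ hx hx) with h1 | h1 | h1 | h1
    · exact h1
    · exfalso; exact hx1 (mul_eq_left.1 h1)
    · exfalso; apply hy
      rw [← h1, hφmul, hfix]
    · exfalso; apply hyx
      exact (mul_left_cancel h1).symm
  have hφxy : h * (x * y) * h⁻¹ = y := by
    rw [hφmul, hfix, hφy, ← mul_assoc, hxx, one_mul]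
  have h2 : h ^ 2 * y * (h ^ 2)⁻¹ = y := by
    calc h ^ 2 * y * (h ^ 2)⁻¹ = h * (h * y * h⁻¹) * h⁻¹ := by
          rw [pow_two, mul_inv_rev]; simp only [mul_assoc]
      _ = y := by rw [hφy, hφxy]
  exact hy (conj_eq_of_sq_conj_eq hodd h2)

/-- with such an element, the non-identity elements of the Sylow `2`-subgroup are conjugate. -/
theorem isConj_of_mem_of_odd (P : Sylow 2 G) (hcard : Nat.card (P : Subgroup G) = 4)
    (h : G) (hhN : h ∈ Subgroup.normalizer ((P : Subgroup G) : Set G))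
    (hhC : h ∉ Subgroup.centralizer ((P : Subgroup G) : Set G)) (hodd : Odd (orderOf h))
    (a b : G) (ha : a ∈ (P : Subgroup G)) (hb : b ∈ (P : Subgroup G)) (ha1 : a ≠ 1)
    (hb1 : b ≠ 1) : IsConj a b := by
  have hφP : ∀ z, z ∈ (P : Subgroup G) → h * z * h⁻¹ ∈ (P : Subgroup G) := fun z hz =>
    (Subgroup.mem_normalizer_iff.1 hhN z).1 hz
  have hne1 : ∀ z : G, z ≠ 1 → h * z * h⁻¹ ≠ 1 := by
    intro z hz h1
    apply hz
    have := congrArg (fun t => h⁻¹ * t * h) h1
    simpa [mul_assoc] using this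
  have hnofix := conj_ne_self_of_odd P hcard h hhN hhC hodd
  set b' := h * a * h⁻¹ with hb'
  set c' := h * b' * h⁻¹ with hc'
  have hb'P : b' ∈ (P : Subgroup G) := hφP a ha
  have hc'P : c' ∈ (P : Subgroup G) := hφP b' hb'P
  have hb'1 : b' ≠ 1 := hne1 a ha1
  have hc'1 : c' ≠ 1 := hne1 b' hb'1
  have hab' : a ≠ b' := (hnofix a ha ha1).symm
  have hb'c' : b' ≠ c' := (hnofix b' hb'P hb'1).symm
  have hac' : a ≠ c' := by
    intro hh
    have h2 : h ^ 2 * a * (h ^ 2)⁻¹ = a := by
      calc h ^ 2 * a * (h ^ 2)⁻¹ = h * (h * a * h⁻¹) * h⁻¹ := by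
            rw [pow_two, mul_inv_rev]; simp only [mul_assoc]
        _ = a := hh.symm
    exact hnofix a ha ha1 (conj_eq_of_sq_conj_eq hodd h2)
  have hall := mem_four_of_card (P : Subgroup G) hcard 1 a b' c' (Subgroup.one_mem _) ha hb'P
    hc'P ha1.symm hb'1.symm hc'1.symm hab' hac' hb'c'
  rcases hall b hb with h1 | h1 | h1 | h1
  · exact absurd h1 hb1
  · rw [h1]
  · rw [h1]; exact isConj_iff.2 ⟨h, rfl⟩
  · rw [h1]
    exact isConj_iff.2 ⟨h ^ 2, by rw [hc', hb', pow_two, mul_inv_rev]; simp only [mul_assoc]⟩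

/-- **Klein four Sylow `2`-subgroups from the absence of a normal `2`-complement**: in a group of
order `4 g₀` (`g₀` odd) without a normal subgroup of order `g₀`, the Sylow `2`-subgroup is a Klein
four group and all involutions are conjugate. -/
theorem kleinFour_of_no_complement (g₀ : ℕ) (hg₀ : Odd g₀) (hG : Nat.card G = 4 * g₀)
    (hnc : ¬ ∃ N : Subgroup G, N.Normal ∧ Nat.card N = g₀) (P : Sylow 2 G) :
    IsKleinFour (P : Subgroup G) ∧
      ∀ s t : G, orderOf s = 2 → orderOf t = 2 → IsConj s t := by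
  haveI : Fact (Nat.Prime 2) := ⟨Nat.prime_two⟩
  have hcard := card_sylow_eq_four g₀ hg₀ hG P
  have hcomm : ∀ a ∈ (P : Subgroup G), ∀ b ∈ (P : Subgroup G), a * b = b * a := by
    have hsq : Nat.card (P : Subgroup G) = 2 ^ 2 := by rw [hcard]; norm_num
    intro a ha b hb
    have := IsPGroup.commutative_of_card_eq_prime_sq hsq ⟨a, ha⟩ ⟨b, hb⟩
    exact congrArg Subtype.val this
  have hN := not_normalizer_le_centralizer g₀ hg₀ hG hnc P
  obtain ⟨h, hhN, hhC, hodd⟩ := exists_odd_not_centralizer P hcomm hN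
  have hconj := isConj_of_mem_of_odd P hcard h hhN hhC hodd
  -- an involution of P
  have h2dvd : 2 ∣ Nat.card (P : Subgroup G) := by rw [hcard]; norm_num
  obtain ⟨t₀, ht₀⟩ := exists_prime_orderOf_dvd_card' 2 h2dvd
  have ht₀1 : (t₀ : G) ≠ 1 := by
    intro h1
    have : t₀ = 1 := Subtype.ext h1
    rw [this, orderOf_one] at ht₀
    omega
  have ht₀sq : (t₀ : G) * t₀ = 1 := by
    have := pow_orderOf_eq_one t₀
    rw [ht₀, pow_two] at this
    exact congrArg Subtype.val this
  have hsq : ∀ z ∈ (P : Subgroup G), z * z = 1 := by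
    intro z hz
    by_cases hz1 : z = 1
    · rw [hz1, one_mul]
    · obtain ⟨c, hc⟩ := isConj_iff.1 (hconj t₀ z t₀.2 hz ht₀1 hz1)
      rw [← hc]
      calc c * t₀ * c⁻¹ * (c * t₀ * c⁻¹) = c * ((t₀ : G) * t₀) * c⁻¹ := by group
        _ = 1 := by rw [ht₀sq]; group
  refine ⟨⟨hcard, ?_⟩, ?_⟩
  · have hdvd : Monoid.exponent (P : Subgroup G) ∣ 2 := by
      apply Monoid.exponent_dvd_of_forall_pow_eq_one
      intro z
      apply Subtype.ext
      rw [pow_two]
      exact hsq z z.2
    rcases (Nat.dvd_prime Nat.prime_two).1 hdvd with h1 | h1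
    · exfalso
      have hsub : Subsingleton (P : Subgroup G) := Monoid.exp_eq_one_iff.1 h1
      have : Nat.card (P : Subgroup G) = 1 := Nat.card_unique
      omega
    · exact h1
  · -- every involution is conjugate into P
    have hinto : ∀ s : G, orderOf s = 2 → ∃ g : G, g * s * g⁻¹ ∈ (P : Subgroup G) := by
      intro s hs
      have hzp : IsPGroup 2 (Subgroup.zpowers s) := by
        apply IsPGroup.of_card (n := 1)
        rw [Nat.card_zpowers, hs, pow_one]
      obtain ⟨Q, hQ⟩ := hzp.exists_le_sylow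
      obtain ⟨g, hg⟩ := MulAction.exists_smul_eq G Q P
      refine ⟨g, ?_⟩
      have hsQ : s ∈ (Q : Subgroup G) := hQ (Subgroup.mem_zpowers s)
      have : MulAut.conj g • s ∈ MulAut.conj g • (Q : Subgroup G) :=
        Subgroup.smul_mem_pointwise_smul _ _ _ hsQ
      rw [← Sylow.coe_subgroup_smul, hg] at this
      simpa [MulAut.smul_def] using this
    intro s t hs ht
    obtain ⟨g, hg⟩ := hinto s hs
    obtain ⟨g', hg'⟩ := hinto t ht
    have hs1 : s ≠ 1 := by
      rintro rfl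
      rw [orderOf_one] at hs; omega
    have ht1 : t ≠ 1 := by
      rintro rfl
      rw [orderOf_one] at ht; omega
    have h1 : g * s * g⁻¹ ≠ 1 := by
      intro h1
      apply hs1
      have := congrArg (fun z => g⁻¹ * z * g) h1
      simpa [mul_assoc] using this
    have h2 : g' * t * g'⁻¹ ≠ 1 := by
      intro h1
      apply ht1
      have := congrArg (fun z => g'⁻¹ * z * g') h1
      simpa [mul_assoc] using this
    have hc := hconj _ _ hg hg' h1 h2
    have e1 : IsConj s (g * s * g⁻¹) := isConj_iff.2 ⟨g, rfl⟩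
    have e2 : IsConj t (g' * t * g'⁻¹) := isConj_iff.2 ⟨g', rfl⟩
    exact (e1.trans hc).trans e2.symm

end KleinFourOrder

end Cfsg.Agent.Lib.Helper79
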