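import Mathlib
import Cfsg.Prelude.Def_Blocks
import Cfsg.Prelude.Def_BlockRank
import Cfsg.Agent.S4426
import Cfsg.Agent.Lib.Helper79.RealOdd2
import Cfsg.Agent.Lib.Helper79.DefectSep
import Cfsg.Agent.Lib.Helper82.BlockRank
import Cfsg.Agent.Lib.Helper83.Decompose
import Cfsg.Agent.Lib.Helper05.CharDecomp

set_option autoImplicit false
set_option linter.unusedSectionVars false
set_option linter.style.haveILetI false

namespace Cfsg.Agent.Lib.Helper79

open Cfsg
open Cfsg.Agent.Lib.Helper21 Cfsg.Agent.Lib.Helper82 Cfsg.Agent.Lib.Helper22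
open scoped ComplexConjugate

section RealBlock

/-- the square of a sum of algebraic integers is the sum of the squares modulo `2`. -/
theorem exists_sum_sq_eq {ι : Type*} (s : Finset ι) (f : ι → ℂ)
    (hf : ∀ i ∈ s, IsIntegral ℤ (f i)) :
    ∃ T : ℂ, IsIntegral ℤ T ∧ (∑ i ∈ s, f i) ^ 2 = ∑ i ∈ s, f i ^ 2 + 2 * T := by
  classical
  induction s using Finset.induction_on with
  | empty => exact ⟨0, isIntegral_zero, by simp⟩
  | insert a s ha ih =>
    obtain ⟨T, hT, hTe⟩ := ih (fun i hi => hf i (Finset.mem_insert_of_mem hi))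
    refine ⟨T + f a * ∑ i ∈ s, f i, hT.add ((hf a (Finset.mem_insert_self a s)).mul
      (IsIntegral.sum _ fun i hi => hf i (Finset.mem_insert_of_mem hi))), ?_⟩
    rw [Finset.sum_insert ha, Finset.sum_insert ha]
    linear_combination hTe

universe u
variable {G : Type u} [Group G] [Fintype G] {M : Ideal AlgInt}

/-- the complex conjugate of an irreducible character. -/
noncomputable def conjIrr (χ : IrrCharacter G) : IrrCharacter G :=
  ⟨fun g => conj ((χ : G → ℂ) g), Cfsg.Agent.Lib.Helper05.isIrrCharacter_conj χ.2⟩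

theorem conjIrr_apply (χ : IrrCharacter G) (g : G) :
    (conjIrr χ : G → ℂ) g = conj ((χ : G → ℂ) g) := rfl

/-- a `2`-block of full defect that is stable under complex conjugation is the principal block. -/
theorem eq_principalBlock_of_conj_mem (hM : IsPModular 2 M) {B : Set (IrrCharacter G)}
    (hB : IsPBlock M B) (hfull : blockDefect 2 B = (Nat.card G).factorization 2)
    (hconj : ∀ χ ∈ B, conjIrr χ ∈ B) : B = principalBlock M G := by
  classical
  haveI : Fact (Nat.Prime 2) := ⟨Nat.prime_two⟩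
  let _ : Fintype (IrrCharacter G) := Fintype.ofFinite _
  have hMp : M.IsPrime := hM.2.1.isPrime
  have hG0 : Nat.card G ≠ 0 := Nat.card_pos.ne'
  have hG0' : (Nat.card G : ℂ) ≠ 0 := Nat.cast_ne_zero.2 hG0
  set a := (Nat.card G).factorization 2 with ha
  have hsum0 := sInf_add_blockDefect (p := 2) hMp hB
  have hsInf : sInf ((fun χ : IrrCharacter G => (charDegree (χ : G → ℂ)).factorization 2) '' B)
      = 0 := by omega
  obtain ⟨χ₀, hχ₀⟩ := IsPBlock.nonempty hMp hB
  have hne : ((fun χ : IrrCharacter G => (charDegree (χ : G → ℂ)).factorization 2) '' B).Nonempty :=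
    ⟨_, Set.mem_image_of_mem _ hχ₀⟩
  obtain ⟨χ, hχ, hχe⟩ := Nat.sInf_mem hne
  have hχν : (charDegree (χ : G → ℂ)).factorization 2 = 0 := by
    have : (charDegree (χ : G → ℂ)).factorization 2 =
      sInf ((fun χ : IrrCharacter G => (charDegree (χ : G → ℂ)).factorization 2) '' B) := hχe
    rw [this, hsInf]
  have hheight : blockHeight 2 B (χ : G → ℂ) = 0 := by
    rw [blockHeight, hχν]
    exact Nat.zero_sub _
  have hχc : IsCharacter G (χ : G → ℂ) := IsIrrCharacter.isCharacter χ.2
  obtain ⟨n, hn, hn0, hnν⟩ := ((Cfsg.Agent.S4426.result 2 M hM B hB χ hχ).2.mp hheight)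
    (conjIrr χ) (hconj χ hχ)
  have hdegconj : charDegree (conjIrr χ : G → ℂ) = charDegree (χ : G → ℂ) := by
    simp [charDegree, conjIrr_apply]
  rw [hdegconj, hχν] at hnν
  have hnodd : ¬ (2 : ℤ) ∣ n := by
    intro h2
    have h3 : padicValInt 2 n ≠ 0 := by
      have : 1 ≤ padicValInt 2 n := by
        rw [padicValInt]
        apply one_le_padicValNat_of_dvd (Int.natAbs_ne_zero.2 hn0)
        exact Int.natAbs_dvd_natAbs.2 h2
      omega
    exact h3 hnν
  -- the two sums
  set S1 : ℂ := ∑ x : G, if 2 ∣ orderOf x then 0 else (χ : G → ℂ) x with hS1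
  set S2 : ℂ := ∑ x : G, if 2 ∣ orderOf x then 0 else (χ : G → ℂ) x ^ 2 with hS2
  obtain ⟨g₀, hg₀⟩ : 2 ^ a ∣ Nat.card G := Nat.ordProj_dvd _ _
  have hg₀odd : ¬ 2 ∣ g₀ := by
    have h1 : g₀ = Nat.card G / 2 ^ a := by
      rw [hg₀, Nat.mul_div_cancel_left _ (pow_pos (by norm_num) a)]
    rw [h1]
    exact Nat.not_dvd_ordCompl Nat.prime_two hG0
  have hS2n : S2 = ((n * (g₀ : ℤ) : ℤ) : ℂ) := by
    rw [Cfsg.Agent.Lib.Helper83.classInner_def] at hn
    have h1 : ∑ g : G, (if 2 ∣ orderOf g then (0 : ℂ) else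
        ((2 ^ (Nat.card G).factorization 2 : ℕ) : ℂ) * (χ : G → ℂ) g) *
        conj ((conjIrr χ : G → ℂ) g) = ((2 ^ a : ℕ) : ℂ) * S2 := by
      rw [hS2, Finset.mul_sum]
      refine Finset.sum_congr rfl fun x _ => ?_
      rw [conjIrr_apply, Complex.conj_conj]
      split_ifs
      · simp
      · ring
    rw [h1] at hn
    have hgC : (Nat.card G : ℂ) = ((2 ^ a : ℕ) : ℂ) * (g₀ : ℂ) := by exact_mod_cast hg₀
    have h2a : ((2 ^ a : ℕ) : ℂ) ≠ 0 := by
      exact_mod_cast (pow_pos (by norm_num : 0 < 2) a).ne'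
    have hg0C : (g₀ : ℂ) ≠ 0 := by
      intro h
      rw [h, mul_zero] at hgC
      exact hG0' hgC
    rw [hgC] at hn
    push_cast
    field_simp at hn
    linear_combination hn
  have hS1ne : S1 ≠ 0 := by
    intro h0
    obtain ⟨T, hT, hTe⟩ := exists_sum_sq_eq (Finset.univ : Finset G)
      (fun x => if 2 ∣ orderOf x then 0 else (χ : G → ℂ) x) (by
        intro x _
        split_ifs
        · exact isIntegral_zero
        · exact IsCharacter.isIntegral hχc x)
    have h1 : ∑ x : G, (if 2 ∣ orderOf x then (0 : ℂ) else (χ : G → ℂ) x) ^ 2 = S2 := by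
      rw [hS2]
      refine Finset.sum_congr rfl fun x _ => ?_
      split_ifs <;> simp
    rw [h1, ← hS1, h0, hS2n] at hTe
    have hTq : T = (((-(n * (g₀ : ℤ)) : ℤ) : ℚ) / 2 : ℚ) := by
      push_cast
      push_cast at hTe
      linear_combination (-1 / 2 : ℂ) * hTe
    obtain ⟨t, ht⟩ := exists_int_of_rat_of_isIntegral hT _ hTq
    rw [ht] at hTe
    have h2 : (n * (g₀ : ℤ) : ℤ) + 2 * t = 0 := by
      have : (((n * (g₀ : ℤ) : ℤ) + 2 * t : ℤ) : ℂ) = 0 := by
        push_cast
        push_cast at hTe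
        linear_combination -hTe
      exact_mod_cast this
    have h3 : (2 : ℤ) ∣ n * (g₀ : ℤ) := ⟨-t, by linarith⟩
    rcases (Int.prime_two.dvd_or_dvd h3) with h | h
    · exact hnodd h
    · exact hg₀odd (by exact_mod_cast h)
  -- block orthogonality
  set τ : IrrCharacter G := Cfsg.Agent.Lib.Helper83.trivChar G with hτ
  have hsame : SameBlock M (χ : G → ℂ) (τ : G → ℂ) := by
    by_contra hnot
    have h1 := classInner_pRegularPart_eq_zero hM χ τ hnot
    rw [classInner_pRegularPart_left] at h1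
    have h2 : (∑ x : G, if 2 ∣ orderOf x then 0 else (χ : G → ℂ) x *
        conj ((τ : G → ℂ) x)) = S1 := by
      rw [hS1]
      refine Finset.sum_congr rfl fun x _ => ?_
      split_ifs
      · rfl
      · show (χ : G → ℂ) x * conj (1 : ℂ) = _
        rw [map_one, mul_one]
    rw [h2] at h1
    rcases mul_eq_zero.mp h1 with h | h
    · exact inv_ne_zero hG0' h
    · exact hS1ne h
  rw [IsPBlock.eq_blockOf hMp hB hχ, blockOf_eq_of_sameBlock hMp hsame]
  rfl

end RealBlock

end Cfsg.Agent.Lib.Helper79
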