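import Mathlib
import Cfsg.Agent.Lib.Helper79.KleinFourOrder
import Cfsg.Agent.Lib.Helper79.RealBlock
import Cfsg.Agent.Lib.Helper79.OddDegree
import Cfsg.Agent.Lib.Helper79.FrobSchurCount
import Cfsg.Agent.Lib.Helper05.CharValues
import Cfsg.Agent.Lib.Helper05.CharBasic
import Cfsg.Agent.Lib.Helper83.CharBasic
import Cfsg.Agent.Lib.Helper21.Osima
import Cfsg.Agent.S0925
import Cfsg.Agent.Lib.Helper79.PermFS
import Cfsg.Agent.Lib.Helper83.Decompose
import Cfsg.Agent.S0942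

set_option autoImplicit false
open Cfsg
open scoped Pointwise ComplexConjugate

namespace Cfsg.Agent.Lib.Helper79

universe u

section KleinFourReal

variable {G : Type u} [Group G] [Fintype G]

theorem centralizer_inv_eq (g : G) :
    Subgroup.centralizer ({g⁻¹} : Set G) = Subgroup.centralizer ({g} : Set G) := by
  ext x
  simp only [Subgroup.mem_centralizer_iff, Set.mem_singleton_iff, forall_eq]
  constructor
  · intro h
    have := congrArg (fun t => g * t * g) h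
    simpa [mul_assoc] using this.symm
  · intro h
    have := congrArg (fun t => g⁻¹ * t * g⁻¹) h
    simpa [mul_assoc] using this.symm

/-- the central character of the complex conjugate is the central character at the inverse. -/
theorem centralChar_conjIrr (χ : IrrCharacter G) (g : G) :
    centralChar (conjIrr χ : G → ℂ) g = centralChar (χ : G → ℂ) g⁻¹ := by
  obtain ⟨n, ρ, hρ, hχ⟩ := χ.2
  unfold centralChar
  rw [conjIrr_apply, conjIrr_apply, centralizer_inv_eq]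
  have h1 : conj ((χ : G → ℂ) g) = (χ : G → ℂ) g⁻¹ := by
    rw [← hχ]
    exact (Cfsg.Agent.Lib.Helper05.char_inv_eq_conj ρ g).symm
  have h2 : conj ((χ : G → ℂ) 1) = (χ : G → ℂ) 1 := by
    have := Cfsg.Agent.Lib.Helper83.charDegree_cast
      (Cfsg.Agent.Lib.Helper83.IrrCharacter_isCharacter χ)
    rw [← this]
    simp
  rw [h1, h2]

/-- the principal block is closed under complex conjugation. -/
theorem conjIrr_mem_principalBlock (M : Ideal AlgInt) (χ : IrrCharacter G)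
    (hχ : χ ∈ principalBlock M G) : conjIrr χ ∈ principalBlock M G := by
  intro g
  have h := hχ g⁻¹
  rw [centralChar_conjIrr]
  have h1 : centralChar (fun _ : G => (1 : ℂ)) g = centralChar (fun _ : G => (1 : ℂ)) g⁻¹ := by
    unfold centralChar
    rw [centralizer_inv_eq]
  rw [h1]
  exact h

/-- a `p`-element is conjugate into any Sylow `p`-subgroup. -/
theorem exists_conj_mem_sylow {p : ℕ} [Fact p.Prime] (P : Sylow p G) (v : G) (k : ℕ)
    (hv : v ^ p ^ k = 1) : ∃ g : G, g * v * g⁻¹ ∈ (P : Subgroup G) := by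
  have hzp : IsPGroup p (Subgroup.zpowers v) := by
    intro x
    obtain ⟨y, hy⟩ := x
    obtain ⟨j, rfl⟩ := Subgroup.mem_zpowers_iff.1 hy
    refine ⟨k, ?_⟩
    apply Subtype.ext
    simp only [Subgroup.coe_pow, Subgroup.coe_one]
    rw [← zpow_natCast, ← zpow_mul, mul_comm, zpow_mul, zpow_natCast, hv, one_zpow]
  obtain ⟨Q, hQ⟩ := hzp.exists_le_sylow
  obtain ⟨g, hg⟩ := MulAction.exists_smul_eq G Q P
  refine ⟨g, ?_⟩
  have hsQ : v ∈ (Q : Subgroup G) := hQ (Subgroup.mem_zpowers v)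
  have : MulAut.conj g • v ∈ MulAut.conj g • (Q : Subgroup G) :=
    Subgroup.smul_mem_pointwise_smul _ _ _ hsQ
  rw [← Sylow.coe_subgroup_smul, hg] at this
  simpa [MulAut.smul_def] using this

/-- with a Klein four Sylow `2`-subgroup, squares have odd order. -/
theorem not_two_dvd_orderOf_sq (P : Sylow 2 G) (hP : IsKleinFour (P : Subgroup G)) (u : G) :
    ¬ 2 ∣ orderOf (u * u) := by
  haveI : Fact (Nat.Prime 2) := ⟨Nat.prime_two⟩
  obtain ⟨a, m, hm, hn⟩ := Nat.exists_eq_two_pow_mul_odd (n := orderOf u) (orderOf_pos u).ne'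
  have h2elt : (u ^ m) ^ 2 ^ a = 1 := by
    rw [← pow_mul, mul_comm, ← hn, pow_orderOf_eq_one]
  obtain ⟨g, hg⟩ := exists_conj_mem_sylow P (u ^ m) a h2elt
  have hsq : (g * u ^ m * g⁻¹) * (g * u ^ m * g⁻¹) = 1 := by
    have := IsKleinFour.mul_self (⟨g * u ^ m * g⁻¹, hg⟩ : (P : Subgroup G))
    exact congrArg Subtype.val this
  have hsq' : u ^ m * u ^ m = 1 := by
    have : g * (u ^ m * u ^ m) * g⁻¹ = 1 := by
      rw [← hsq]; group
    have := congrArg (fun t => g⁻¹ * t * g) this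
    simpa [mul_assoc] using this
  have hpow : (u * u) ^ m = 1 := by
    rw [(Commute.refl u).mul_pow]
    exact hsq'
  have hdvd : orderOf (u * u) ∣ m := orderOf_dvd_of_pow_eq_one hpow
  intro h2
  have : 2 ∣ m := dvd_trans h2 hdvd
  exact (Nat.not_even_iff_odd.2 hm) (even_iff_two_dvd.2 this)

/-- a finite sum over a principal block made of the trivial character and three more. -/
theorem finsum_principal_four (M : Ideal AlgInt) (χ₁ χ₂ χ₃ : IrrCharacter G)
    (hB : principalBlock M G = {χ : IrrCharacter G | (χ : G → ℂ) = (fun _ => 1) ∨ χ = χ₁ ∨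
      χ = χ₂ ∨ χ = χ₃})
    (hdist : (χ₁ : G → ℂ) ≠ (fun _ => 1) ∧ (χ₂ : G → ℂ) ≠ (fun _ => 1) ∧
      (χ₃ : G → ℂ) ≠ (fun _ => 1) ∧ χ₁ ≠ χ₂ ∧ χ₁ ≠ χ₃ ∧ χ₂ ≠ χ₃)
    (f : IrrCharacter G → ℂ) :
    ∑ᶠ χ ∈ principalBlock M G, f χ =
      f (Cfsg.Agent.Lib.Helper83.trivChar G) + f χ₁ + f χ₂ + f χ₃ := by
  classical
  obtain ⟨h1, h2, h3, h12, h13, h23⟩ := hdist
  set t : IrrCharacter G := Cfsg.Agent.Lib.Helper83.trivChar G with ht
  have ht1 : t ≠ χ₁ := fun h => h1 (by rw [← h]; rfl)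
  have ht2 : t ≠ χ₂ := fun h => h2 (by rw [← h]; rfl)
  have ht3 : t ≠ χ₃ := fun h => h3 (by rw [← h]; rfl)
  have hset : principalBlock M G = ↑({t, χ₁, χ₂, χ₃} : Finset (IrrCharacter G)) := by
    rw [hB]
    ext χ
    simp only [Set.mem_setOf_eq, Finset.coe_insert, Finset.coe_singleton, Set.mem_insert_iff,
      Set.mem_singleton_iff]
    constructor
    · rintro (h | h | h | h)
      · left; exact Subtype.ext h
      · right; left; exact h
      · right; right; left; exact h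
      · right; right; right; exact h
    · rintro (h | h | h | h)
      · left; rw [h]; rfl
      · right; left; exact h
      · right; right; left; exact h
      · right; right; right; exact h
  rw [hset, finsum_mem_coe_finset]
  rw [Finset.sum_insert (by simp [ht1, ht2, ht3]), Finset.sum_insert (by simp [h12, h13]),
    Finset.sum_insert (by simp [h23]), Finset.sum_singleton]
  ring

/-- a real-valued irreducible character of odd degree has Frobenius–Schur indicator one. -/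
theorem fsInd_eq_one_of_real_of_odd (χ : IrrCharacter G)
    (hreal : ∀ g : G, ((χ : G → ℂ) g).im = 0) (hodd : Odd (charDegree (χ : G → ℂ))) :
    fsInd (χ : G → ℂ) = 1 := by
  obtain ⟨n, ρ, hρ, hχ⟩ := χ.2
  haveI := hρ
  have hreal' : ∀ g : G, (ρ.character g).im = 0 := by rw [hχ]; exact hreal
  have hdeg : charDegree (χ : G → ℂ) = n := by
    have h1 := Cfsg.Agent.Lib.Helper83.charDegree_cast
      (Cfsg.Agent.Lib.Helper83.IrrCharacter_isCharacter χ)
    have h2 : (χ : G → ℂ) 1 = (n : ℂ) := by rw [← hχ, character_one_eq_dim]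
    rw [h2] at h1
    exact_mod_cast h1
  rcases fsInd_real_cases ρ hreal' with h | ⟨_, h⟩
  · rw [← hχ]; exact h
  · exfalso
    rw [hdeg] at hodd
    exact (Nat.not_even_iff_odd.2 hodd) h

/-- with a Klein four Sylow `2`-subgroup, the indicator-weighted sum of the values at an
involution over the principal `2`-block vanishes. -/
theorem sum_fsInd_principal_four (M : Ideal AlgInt) (hM : IsPModular 2 M) (P : Sylow 2 G)
    (hP : IsKleinFour (P : Subgroup G)) (J : G) (hJ2 : orderOf J = 2)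
    (χ₁ χ₂ χ₃ : IrrCharacter G)
    (hB : principalBlock M G = {χ : IrrCharacter G | (χ : G → ℂ) = (fun _ => 1) ∨ χ = χ₁ ∨
      χ = χ₂ ∨ χ = χ₃})
    (hdist : (χ₁ : G → ℂ) ≠ (fun _ => 1) ∧ (χ₂ : G → ℂ) ≠ (fun _ => 1) ∧
      (χ₃ : G → ℂ) ≠ (fun _ => 1) ∧ χ₁ ≠ χ₂ ∧ χ₁ ≠ χ₃ ∧ χ₂ ≠ χ₃) :
    1 + fsInd (χ₁ : G → ℂ) * (χ₁ : G → ℂ) J + fsInd (χ₂ : G → ℂ) * (χ₂ : G → ℂ) J +
      fsInd (χ₃ : G → ℂ) * (χ₃ : G → ℂ) J = 0 := by
  haveI : Fact (Nat.Prime 2) := ⟨Nat.prime_two⟩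
  have hJ1 : J ≠ 1 := by
    rintro rfl
    rw [orderOf_one] at hJ2; omega
  have hJinv : J⁻¹ = J := by
    rw [inv_eq_iff_mul_eq_one, ← pow_two, ← hJ2, pow_orderOf_eq_one]
  have hblock : IsPBlock M (principalBlock M G) := Cfsg.Agent.S0942.isPBlock_principalBlock M G
  have hppJ : IsPPart 2 J J := by
    refine ⟨1, mul_one J, Commute.one_right J, ⟨1, by rw [hJ2, pow_one]⟩, ?_⟩
    rw [orderOf_one]; norm_num
  have hnconj : ¬ IsConj (1 : G) J := by
    intro h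
    rw [isConj_iff] at h
    obtain ⟨c, hc⟩ := h
    apply hJ1
    rw [← hc]; group
  have hterm : ∀ u : G, 1 + (χ₁ : G → ℂ) (u * u) * (χ₁ : G → ℂ) J +
      (χ₂ : G → ℂ) (u * u) * (χ₂ : G → ℂ) J + (χ₃ : G → ℂ) (u * u) * (χ₃ : G → ℂ) J = 0 := by
    intro u
    have hppu : IsPPart 2 (u * u) 1 := by
      refine ⟨u * u, one_mul _, Commute.one_left _, ⟨0, by rw [orderOf_one, pow_zero]⟩, ?_⟩
      exact not_two_dvd_orderOf_sq P hP u
    have h := (Cfsg.Agent.S0925.result 2 M hM).2 (u * u) J 1 J hppu hppJ hnconj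
      (principalBlock M G) hblock
    rw [finsum_principal_four M χ₁ χ₂ χ₃ hB hdist
      (fun χ => (χ : G → ℂ) (u * u) * (χ : G → ℂ) J⁻¹), hJinv] at h
    simpa [Cfsg.Agent.Lib.Helper83.trivChar_apply] using h
  have hsum : ∑ u : G, (1 + (χ₁ : G → ℂ) (u * u) * (χ₁ : G → ℂ) J +
      (χ₂ : G → ℂ) (u * u) * (χ₂ : G → ℂ) J + (χ₃ : G → ℂ) (u * u) * (χ₃ : G → ℂ) J) = 0 :=
    Finset.sum_eq_zero fun u _ => hterm u
  have hcard : (Nat.card G : ℂ) ≠ 0 := by
    have : Nat.card G ≠ 0 := Nat.card_pos.ne'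
    exact_mod_cast this
  unfold fsInd
  have hexp : (1 : ℂ) + (Nat.card G : ℂ)⁻¹ * (∑ u : G, (χ₁ : G → ℂ) (u * u)) * (χ₁ : G → ℂ) J +
      (Nat.card G : ℂ)⁻¹ * (∑ u : G, (χ₂ : G → ℂ) (u * u)) * (χ₂ : G → ℂ) J +
      (Nat.card G : ℂ)⁻¹ * (∑ u : G, (χ₃ : G → ℂ) (u * u)) * (χ₃ : G → ℂ) J =
      (Nat.card G : ℂ)⁻¹ * ∑ u : G, (1 + (χ₁ : G → ℂ) (u * u) * (χ₁ : G → ℂ) J +
      (χ₂ : G → ℂ) (u * u) * (χ₂ : G → ℂ) J + (χ₃ : G → ℂ) (u * u) * (χ₃ : G → ℂ) J) := by
    simp only [Finset.sum_add_distrib, Finset.sum_const, Finset.card_univ, nsmul_eq_mul, mul_one,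
      ← Finset.sum_mul]
    rw [Nat.card_eq_fintype_card] at hcard ⊢
    field_simp
  rw [hexp, hsum, mul_zero]

/-- the degree relation `1 + Σ χᵢ(1) χᵢ(J) = 0` for a four-character principal `2`-block. -/
theorem degree_relation_four (M : Ideal AlgInt) (hM : IsPModular 2 M) (J : G)
    (hJ2 : orderOf J = 2) (χ₁ χ₂ χ₃ : IrrCharacter G)
    (hB : principalBlock M G = {χ : IrrCharacter G | (χ : G → ℂ) = (fun _ => 1) ∨ χ = χ₁ ∨
      χ = χ₂ ∨ χ = χ₃})
    (hdist : (χ₁ : G → ℂ) ≠ (fun _ => 1) ∧ (χ₂ : G → ℂ) ≠ (fun _ => 1) ∧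
      (χ₃ : G → ℂ) ≠ (fun _ => 1) ∧ χ₁ ≠ χ₂ ∧ χ₁ ≠ χ₃ ∧ χ₂ ≠ χ₃) :
    1 + (χ₁ : G → ℂ) 1 * (χ₁ : G → ℂ) J + (χ₂ : G → ℂ) 1 * (χ₂ : G → ℂ) J +
      (χ₃ : G → ℂ) 1 * (χ₃ : G → ℂ) J = 0 := by
  haveI : Fact (Nat.Prime 2) := ⟨Nat.prime_two⟩
  have hJ1 : J ≠ 1 := by
    rintro rfl
    rw [orderOf_one] at hJ2; omega
  have hJinv : J⁻¹ = J := by
    rw [inv_eq_iff_mul_eq_one, ← pow_two, ← hJ2, pow_orderOf_eq_one]
  have hblock : IsPBlock M (principalBlock M G) := Cfsg.Agent.S0942.isPBlock_principalBlock M G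
  have hppJ : IsPPart 2 J J := by
    refine ⟨1, mul_one J, Commute.one_right J, ⟨1, by rw [hJ2, pow_one]⟩, ?_⟩
    rw [orderOf_one]; norm_num
  have hpp1 : IsPPart 2 (1 : G) 1 := by
    refine ⟨1, mul_one 1, Commute.one_right 1, ⟨0, by rw [orderOf_one, pow_zero]⟩, ?_⟩
    rw [orderOf_one]; norm_num
  have hnconj : ¬ IsConj (1 : G) J := by
    intro h
    rw [isConj_iff] at h
    obtain ⟨c, hc⟩ := h
    apply hJ1
    rw [← hc]; group
  have h := (Cfsg.Agent.S0925.result 2 M hM).2 1 J 1 J hpp1 hppJ hnconj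
    (principalBlock M G) hblock
  rw [finsum_principal_four M χ₁ χ₂ χ₃ hB hdist
    (fun χ => (χ : G → ℂ) 1 * (χ : G → ℂ) J⁻¹), hJinv] at h
  simpa [Cfsg.Agent.Lib.Helper83.trivChar_apply] using h

end KleinFourReal

/-- the arithmetic behind Brauer's order formula in the case `ε₁ε₂ε₃ = -1`. -/theorem order_formula_arith (n a b x q : ℕ) (hb : b ∣ a) (ha : a ∣ n) (hn : 0 < n)
    (hq : q = 2 * x + 1) (h4 : 4 ∣ q + 1)
    (hE : n * ((x + 1) ^ 2 * b ^ 2) = 4 * x * q * a ^ 3) :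
    ∃ m : ℕ, 4 * a = m * b * (q + 1) ∧ 8 * n = m ^ 3 * b * (q ^ 3 - q) := by
  obtain ⟨r, rfl⟩ := hb
  obtain ⟨k, rfl⟩ := ha
  obtain ⟨e, he⟩ := h4
  have hbr : 0 < b * r := Nat.pos_of_mul_pos_right hn |> fun h => by
    rcases Nat.eq_zero_or_pos (b * r) with h0 | h0
    · rw [h0, zero_mul] at hn; exact absurd hn (lt_irrefl 0)
    · exact h0
  have hb0 : 0 < b := Nat.pos_of_mul_pos_right hbr |> fun _ => by
    rcases Nat.eq_zero_or_pos b with h0 | h0
    · rw [h0, zero_mul] at hbr; exact absurd hbr (lt_irrefl 0)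
    · exact h0
  have hr0 : 0 < r := by
    rcases Nat.eq_zero_or_pos r with h0 | h0
    · rw [h0, mul_zero] at hbr; exact absurd hbr (lt_irrefl 0)
    · exact h0
  have hx1 : x + 1 = 2 * e := by omega
  have he0 : 0 < e := by omega
  -- cancel b^3 * r
  have h1 : k * (x + 1) ^ 2 = 4 * x * q * r ^ 2 := by
    have : (b ^ 3 * r) * (k * (x + 1) ^ 2) = (b ^ 3 * r) * (4 * x * q * r ^ 2) := by
      calc (b ^ 3 * r) * (k * (x + 1) ^ 2) = b * r * k * ((x + 1) ^ 2 * b ^ 2) := by ring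
        _ = 4 * x * q * (b * r) ^ 3 := hE
        _ = (b ^ 3 * r) * (4 * x * q * r ^ 2) := by ring
    exact Nat.eq_of_mul_eq_mul_left (by positivity) this
  have h2 : k * e ^ 2 = x * q * r ^ 2 := by
    rw [hx1] at h1
    have : 4 * (k * e ^ 2) = 4 * (x * q * r ^ 2) := by
      calc 4 * (k * e ^ 2) = k * (2 * e) ^ 2 := by ring
        _ = 4 * x * q * r ^ 2 := h1
        _ = 4 * (x * q * r ^ 2) := by ring
    exact Nat.eq_of_mul_eq_mul_left (by norm_num) this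
  have hcx : Nat.Coprime e x := by
    have h : Nat.Coprime (x + 1) x := by simp
    exact Nat.Coprime.coprime_dvd_left ⟨2, by rw [hx1]; ring⟩ h
  have hcq : Nat.Coprime e q := by
    have h : Nat.Coprime (q + 1) q := by simp
    exact Nat.Coprime.coprime_dvd_left ⟨4, by rw [he]; ring⟩ h
  have hc : Nat.Coprime (e ^ 2) (x * q) := Nat.Coprime.pow_left 2 (Nat.Coprime.mul_right hcx hcq)
  have hd : e ^ 2 ∣ x * q * r ^ 2 := ⟨k, by rw [← h2]; ring⟩
  have hd' : e ^ 2 ∣ r ^ 2 := hc.dvd_of_dvd_mul_left hd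
  have hd'' : e ∣ r := (Nat.pow_dvd_pow_iff two_ne_zero).1 hd'
  obtain ⟨m, rfl⟩ := hd''
  have hk : k = x * q * m ^ 2 := by
    have : e ^ 2 * k = e ^ 2 * (x * q * m ^ 2) := by
      calc e ^ 2 * k = k * e ^ 2 := by ring
        _ = x * q * (e * m) ^ 2 := h2
        _ = e ^ 2 * (x * q * m ^ 2) := by ring
    exact Nat.eq_of_mul_eq_mul_left (by positivity) this
  refine ⟨m, ?_, ?_⟩
  · rw [he]; ring
  · have hq3 : q ^ 3 - q = 8 * e * x * q := by
      have : q ^ 3 = 8 * e * x * q + q := by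
        have hqe : q + 1 = 4 * e := he
        zify at hqe hx1 ⊢
        have hq' : (q : ℤ) = 4 * e - 1 := by linarith
        have hx' : (x : ℤ) = 2 * e - 1 := by linarith
        rw [hq', hx']; ring
      rw [this]; simp
    rw [hq3, hk]; ring


end Cfsg.Agent.Lib.Helper79
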