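import Mathlib

/-!
# K-3806 pack (S3806), leaf B: the norm identity

`T` abelian normal, `δ y = s⁻¹ y s y⁻¹` nilpotent of index `< p` on `T`; if `(s x)^p = s^p` then `x^p = 1`.
-/

set_option autoImplicit false

namespace Cfsg.Agent.Lib.Helper79.MC3806

open Polynomial

/-- In `ℤ[X]`: `∑_{i<p} (X+1)^i = X^(p-1) + p * S` with `S(0) = 1`. -/
theorem mc3806b_poly (p : ℕ) (hp : p.Prime) :
    ∃ S : ℤ[X], (∑ i ∈ Finset.range p, (X + 1 : ℤ[X]) ^ i) = X ^ (p - 1) + (p : ℤ[X]) * S ∧
      S.coeff 0 = 1 := by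
  refine ⟨∑ k ∈ Finset.Ioo 0 p, (X : ℤ[X]) ^ (k - 1) * 1 ^ (p - k - 1) * ((p.choose k / p : ℕ) : ℤ[X]),
    ?_, ?_⟩
  · have h1 := geom_sum_mul (X + 1 : ℤ[X]) p
    have h2 := add_pow_prime_eq hp (X : ℤ[X]) 1
    have hX : (X : ℤ[X]) ≠ 0 := X_ne_zero
    apply mul_right_cancel₀ hX
    have h3 : (X + 1 - 1 : ℤ[X]) = X := by ring
    rw [h3] at h1
    rw [h1, h2]
    obtain ⟨m, rfl⟩ : ∃ m, p = m + 1 := ⟨p - 1, (Nat.succ_pred_eq_of_pos hp.pos).symm⟩
    simp only [Nat.add_sub_cancel]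
    ring
  · rw [Polynomial.finset_sum_coeff]
    rw [Finset.sum_eq_single 1]
    · simp [hp.ne_zero]
    · intro k hk hk1
      have hk0 : 0 < k := (Finset.mem_Ioo.1 hk).1
      have : k - 1 ≠ 0 := by omega
      simp only [one_pow, mul_one]
      rw [← Polynomial.C_eq_natCast, Polynomial.coeff_mul_C, Polynomial.coeff_X_pow]
      simp [this.symm]
    · intro h
      exact absurd (Finset.mem_Ioo.2 ⟨Nat.one_pos, hp.one_lt⟩) h

/-- The abstract norm lemma: `δ = σ - 1` with `δ^(p-1) = 0` and `N z = 0` give `p • z = 0`. -/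
theorem mc3806b_norm {M : Type*} [AddCommGroup M] (p : ℕ) (hp : p.Prime) (σ : AddMonoid.End M)
    (hδ : (σ - 1) ^ (p - 1) = 0) (z : M) (hz : (∑ i ∈ Finset.range p, σ ^ i) z = 0) :
    p • z = 0 := by
  obtain ⟨S, hS, hS0⟩ := mc3806b_poly p hp
  set δ : AddMonoid.End M := σ - 1 with hδdef
  set φ : ℤ[X] →ₐ[ℤ] AddMonoid.End M := Polynomial.aeval δ with hφ
  have hφX : φ X = δ := Polynomial.aeval_X δ
  have hφσ : φ (X + 1) = σ := by
    rw [map_add, hφX, map_one, hδdef]; abel
  have h1 : (∑ i ∈ Finset.range p, σ ^ i) = (p : AddMonoid.End M) * φ S := by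
    have := congrArg φ hS
    rw [map_sum] at this
    simp only [map_pow, hφσ, map_add, map_mul, map_natCast, hφX, hδ, zero_add] at this
    exact this
  -- `φ S = 1 + nilpotent`
  have hSd : S = 1 + X * S.divX := by
    have := Polynomial.divX_mul_X_add S
    rw [hS0] at this
    conv_lhs => rw [← this]
    simp only [map_one]
    ring
  have hnil : IsNilpotent (φ (X * S.divX)) := by
    refine ⟨p - 1, ?_⟩
    rw [← map_pow, mul_pow, map_mul, map_pow, hφX, hδ, zero_mul]
  have hunit : IsUnit (φ S) := by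
    have : φ S = 1 + φ (X * S.divX) := by
      conv_lhs => rw [hSd]
      rw [map_add, map_one]
    rw [this]
    exact hnil.isUnit_one_add
  obtain ⟨u, hu⟩ := hunit
  have h2 : (φ S) (p • z) = 0 := by
    rw [map_nsmul]
    have := hz
    rw [h1] at this
    simpa [AddMonoid.End.natCast_apply] using this
  have h3 : (↑(u⁻¹) : AddMonoid.End M) ((φ S) (p • z)) = p • z := by
    rw [← hu]
    have : (↑(u⁻¹) : AddMonoid.End M) * (↑u : AddMonoid.End M) = 1 := Units.inv_mul u
    calc (↑(u⁻¹) : AddMonoid.End M) ((↑u : AddMonoid.End M) (p • z))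
        = ((↑(u⁻¹) : AddMonoid.End M) * (↑u : AddMonoid.End M)) (p • z) := rfl
      _ = p • z := by rw [this]; rfl
  rw [← h3, h2, map_zero]

/-- The commutative group version. -/
theorem mc3806b_comm {A : Type*} [CommGroup A] (p : ℕ) (hp : p.Prime) (σ : A →* A)
    (hδ : ∀ y : A, (fun y : A => σ y * y⁻¹)^[p - 1] y = 1) (x : A) (P : ℕ → A) (hP0 : P 0 = 1)
    (hPs : ∀ k, P (k + 1) = σ (P k) * x) (hPp : P p = 1) : x ^ p = 1 := by
  let σa : AddMonoid.End (Additive A) := MonoidHom.toAdditive σ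
  have hσa : ∀ y : A, σa (Additive.ofMul y) = Additive.ofMul (σ y) := fun y => rfl
  have hδa : ∀ y : A, (σa - 1) (Additive.ofMul y) = Additive.ofMul (σ y * y⁻¹) := by
    intro y
    show σa (Additive.ofMul y) - Additive.ofMul y = _
    rw [hσa, ← ofMul_div, div_eq_mul_inv]
  have hpow : ∀ (k : ℕ) (y : A), ((σa - 1) ^ k) (Additive.ofMul y)
      = Additive.ofMul ((fun y : A => σ y * y⁻¹)^[k] y) := by
    intro k
    induction k with
    | zero => intro y; rfl
    | succ k ih =>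
      intro y
      rw [pow_succ', Function.iterate_succ_apply']
      show (σa - 1) (((σa - 1) ^ k) (Additive.ofMul y)) = _
      rw [ih, hδa]
  have hnil : (σa - 1) ^ (p - 1) = 0 := by
    ext m
    obtain ⟨y, rfl⟩ : ∃ y : A, Additive.ofMul y = m := ⟨Additive.toMul m, rfl⟩
    rw [hpow, hδ]
    rfl
  have hP : ∀ k : ℕ, Additive.ofMul (P k) = (∑ i ∈ Finset.range k, σa ^ i) (Additive.ofMul x) := by
    intro k
    induction k with
    | zero => rw [hP0]; simp
    | succ k ih =>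
      rw [hPs, Finset.sum_range_succ']
      have : (∑ i ∈ Finset.range k, σa ^ (i + 1)) = σa * ∑ i ∈ Finset.range k, σa ^ i := by
        rw [Finset.mul_sum]
        exact Finset.sum_congr rfl fun i _ => pow_succ' σa i
      rw [this, pow_zero]
      show _ = σa ((∑ i ∈ Finset.range k, σa ^ i) (Additive.ofMul x)) + Additive.ofMul x
      rw [← ih, hσa]
      rfl
  have hz : (∑ i ∈ Finset.range p, σa ^ i) (Additive.ofMul x) = 0 := by
    rw [← hP, hPp]; rfl
  have := mc3806b_norm p hp σa hnil (Additive.ofMul x) hz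
  have h2 : Additive.ofMul (x ^ p) = 0 := by rw [ofMul_pow]; exact this
  exact h2

/-- LEAF B (norm identity). -/
theorem pow_eq_one_of_mul_pow_eq {G : Type*} [Group G] (p : ℕ) (hp : p.Prime) (T : Subgroup G) [T.Normal]
    (hT : ∀ a ∈ T, ∀ b ∈ T, a * b = b * a) (s : G)
    (hd : ∀ x ∈ T, (fun y : G => s⁻¹ * y * s * y⁻¹)^[p - 1] x = 1)
    (x : G) (hx : x ∈ T) (h : (s * x) ^ p = s ^ p) : x ^ p = 1 := by
  letI : CommGroup T :=
    { (inferInstance : Group T) with mul_comm := fun a b => Subtype.ext (hT a a.2 b b.2) }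
  let σT : T →* T := (MulAut.conjNormal (s⁻¹) : MulAut T).toMonoidHom
  have hσT : ∀ y : T, (σT y : G) = s⁻¹ * y * s := by
    intro y
    show ((MulAut.conjNormal (s⁻¹) : MulAut T) y : G) = _
    rw [MulAut.conjNormal_apply, inv_inv]
  -- iterates
  have hsemi : Function.Semiconj (Subtype.val : T → G) (fun y : T => σT y * y⁻¹)
      (fun y : G => s⁻¹ * y * s * y⁻¹) := by
    intro y
    show ((σT y * y⁻¹ : T) : G) = s⁻¹ * (y : G) * s * (y : G)⁻¹
    rw [Subgroup.coe_mul, hσT, Subgroup.coe_inv]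
  have hδ : ∀ y : T, (fun y : T => σT y * y⁻¹)^[p - 1] y = 1 := by
    intro y
    apply Subtype.ext
    rw [(hsemi.iterate_right (p - 1)).eq y]
    exact hd y y.2
  -- the partial norms
  let P : ℕ → T := fun k => Nat.rec 1 (fun _ Pk => σT Pk * ⟨x, hx⟩) k
  have hP0 : P 0 = 1 := rfl
  have hPs : ∀ k, P (k + 1) = σT (P k) * ⟨x, hx⟩ := fun k => rfl
  have hpow : ∀ k : ℕ, (s * x) ^ k = s ^ k * (P k).1 := by
    intro k
    induction k with
    | zero => simp [hP0]
    | succ k ih =>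
      rw [pow_succ, ih, hPs, Subgroup.coe_mul, hσT, pow_succ]
      generalize (P k).1 = y
      group
  have hPp : P p = 1 := by
    apply Subtype.ext
    have := hpow p
    rw [h] at this
    have h2 : s ^ p * 1 = s ^ p * (P p).1 := by rw [mul_one]; exact this
    exact (mul_left_cancel h2).symm
  have := mc3806b_comm p hp σT hδ ⟨x, hx⟩ P hP0 hPs hPp
  have h3 := congrArg (Subtype.val : T → G) this
  simpa using h3

end Cfsg.Agent.Lib.Helper79.MC3806
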