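import Mathlib
import Cfsg.Agent.Lib.Helper22.NseDefs
import Cfsg.Agent.Lib.Helper07.Order60

/-!
# S3431 pack K-NSE leaf D5: a group of order 60 with 20 elements of order 3, 24 of order 5 and
all element orders at most 5 is isomorphic to `A_5`.
-/

set_option autoImplicit false

namespace Cfsg.Agent.Lib.Helper79.Nse

open Cfsg.Agent.Lib.Helper22.Nse
open Cfsg.Agent.S3995 (s)

/-- elements of prime order `p` lie in every normal subgroup of index prime to `p` -/
theorem nse_d5_mem_of_order {G : Type*} [Group G] [Finite G] (K : Subgroup G) [K.Normal] {p : ℕ}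
    (hp : p.Prime) (hpi : ¬ p ∣ K.index) (g : G) (hg : orderOf g = p) : g ∈ K := by
  rw [← QuotientGroup.eq_one_iff]
  have h1 : orderOf (g : G ⧸ K) ∣ p := by
    apply orderOf_dvd_of_pow_eq_one
    rw [← QuotientGroup.mk_pow, ← hg, pow_orderOf_eq_one, QuotientGroup.mk_one]
  have h2 : orderOf (g : G ⧸ K) ∣ K.index := by
    rw [Subgroup.index_eq_card]
    exact orderOf_dvd_natCard _
  rcases (Nat.dvd_prime hp).1 h1 with h | h
  · exact orderOf_eq_one_iff.1 h
  · rw [h] at h2
    exact absurd h2 hpi

/-- counting elements of two different orders inside a subgroup -/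
theorem nse_d5_count {G : Type*} [Group G] [Finite G] (K : Subgroup G) (p q : ℕ) (hp1 : p ≠ 1)
    (hq1 : q ≠ 1) (hpq : p ≠ q) (hp : ∀ g : G, orderOf g = p → g ∈ K)
    (hq : ∀ g : G, orderOf g = q → g ∈ K) : s G p + s G q + 1 ≤ Nat.card K := by
  let f : ({g : G // orderOf g = p} ⊕ {g : G // orderOf g = q}) ⊕ Unit → K :=
    Sum.elim (Sum.elim (fun g => ⟨g.1, hp g.1 g.2⟩) (fun g => ⟨g.1, hq g.1 g.2⟩)) (fun _ => 1)
  have hf : Function.Injective f := by
    rintro ((a | a) | a) ((b | b) | b) h
    · have : a.1 = b.1 := congrArg (fun z : K => (z : G)) h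
      rw [Subtype.ext this]
    · exfalso
      have : a.1 = b.1 := congrArg (fun z : K => (z : G)) h
      have h1 := a.2
      rw [this, b.2] at h1
      exact hpq h1.symm
    · exfalso
      have : a.1 = 1 := congrArg (fun z : K => (z : G)) h
      have h1 := a.2
      rw [this, orderOf_one] at h1
      exact hp1 h1.symm
    · exfalso
      have : a.1 = b.1 := congrArg (fun z : K => (z : G)) h
      have h1 := a.2
      rw [this, b.2] at h1
      exact hpq h1
    · have : a.1 = b.1 := congrArg (fun z : K => (z : G)) h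
      rw [Subtype.ext this]
    · exfalso
      have : a.1 = 1 := congrArg (fun z : K => (z : G)) h
      have h1 := a.2
      rw [this, orderOf_one] at h1
      exact hq1 h1.symm
    · exfalso
      have : (1 : G) = b.1 := congrArg (fun z : K => (z : G)) h
      have h1 := b.2
      rw [← this, orderOf_one] at h1
      exact hp1 h1.symm
    · exfalso
      have : (1 : G) = b.1 := congrArg (fun z : K => (z : G)) h
      have h1 := b.2
      rw [← this, orderOf_one] at h1
      exact hq1 h1.symm
    · rfl
  have := Nat.card_le_card_of_injective f hf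
  rw [Nat.card_sum, Nat.card_sum, Nat.card_unique (α := Unit)] at this
  exact this

/-- a fixed-point-free element of order 5 forces `|K| ≡ 1 mod 5` -/
theorem nse_d5_card_mod {G : Type*} [Group G] [Finite G] (K : Subgroup G) [K.Normal] (x : G)
    (hx : orderOf x = 5) (hfix : ∀ k : K, x * (k : G) * x⁻¹ = k → k = 1) : Nat.card K % 5 = 1 := by
  classical
  haveI : Fact (Nat.Prime 5) := ⟨by norm_num⟩
  let P : Subgroup (ConjAct G) := Subgroup.zpowers (ConjAct.toConjAct x)
  have hP : IsPGroup 5 P := by
    apply IsPGroup.of_card (n := 1)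
    rw [pow_one, Nat.card_zpowers, ← hx]
    exact (MulEquiv.orderOf_eq ConjAct.toConjAct x)
  have h := hP.card_modEq_card_fixedPoints K
  have hfp : MulAction.fixedPoints P K = {1} := by
    ext k
    rw [MulAction.mem_fixedPoints, Set.mem_singleton_iff]
    constructor
    · intro hk
      apply hfix
      have := hk ⟨ConjAct.toConjAct x, Subgroup.mem_zpowers _⟩
      have h2 := congrArg (Subtype.val : K → G) this
      exact (show x * (k : G) * x⁻¹ =
        (((⟨ConjAct.toConjAct x, Subgroup.mem_zpowers _⟩ : P) • k : K) : G) from rfl).trans h2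
    · rintro rfl p
      exact smul_one p
  have h1 : Nat.card (({1} : Set K) : Type _) = 1 := by simp
  rw [hfp, h1] at h
  exact h

theorem nse_d5_simple {G : Type*} [Group G] [Finite G] (hN : Nat.card G = 60) (h3 : s G 3 = 20)
    (h5 : s G 5 = 24) (hsp : ∀ m, s G m ≠ 0 → m ≤ 5) : IsSimpleGroup G := by
  haveI : Nontrivial G := by
    rw [← Finite.one_lt_card_iff_nontrivial, hN]
    norm_num
  have hord : ∀ g : G, orderOf g ≤ 5 := fun g =>
    hsp (orderOf g) ((Cfsg.Agent.S3995.s_ne_zero_iff _).2 ⟨g, rfl⟩)
  obtain ⟨x, hx⟩ : ∃ x : G, orderOf x = 5 := by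
    rw [← Cfsg.Agent.S3995.s_ne_zero_iff, h5]
    norm_num
  refine ⟨fun K hK => ?_⟩
  haveI := hK
  have hmul : Nat.card K * K.index = 60 := by rw [Subgroup.card_mul_index, hN]
  have hq7 : ∀ g : G, orderOf g = 7 → g ∈ K := by
    intro g hg
    have := hord g
    omega
  have H3 : ¬ 3 ∣ K.index → 21 ≤ Nat.card K := by
    intro h
    have := nse_d5_count K 3 7 (by norm_num) (by norm_num) (by norm_num)
      (fun g hg => nse_d5_mem_of_order K Nat.prime_three h g hg) hq7
    omega
  have H5 : ¬ 5 ∣ K.index → 25 ≤ Nat.card K := by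
    intro h
    have := nse_d5_count K 5 7 (by norm_num) (by norm_num) (by norm_num)
      (fun g hg => nse_d5_mem_of_order K Nat.prime_five h g hg) hq7
    omega
  have H15 : ¬ 3 ∣ K.index → ¬ 5 ∣ K.index → 45 ≤ Nat.card K := by
    intro h h'
    have := nse_d5_count K 3 5 (by norm_num) (by norm_num) (by norm_num)
      (fun g hg => nse_d5_mem_of_order K Nat.prime_three h g hg)
      (fun g hg => nse_d5_mem_of_order K Nat.prime_five h' g hg)
    omega
  have Hfix : ¬ 5 ∣ Nat.card K → Nat.card K % 5 = 1 := by
    intro h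
    apply nse_d5_card_mod K x hx
    intro k hk
    have hcomm : Commute x (k : G) := by
      have : x * (k : G) = (k : G) * x := by
        calc x * (k : G) = x * (k : G) * x⁻¹ * x := by group
          _ = (k : G) * x := by rw [hk]
      exact this
    have hdvd : orderOf (k : G) ∣ Nat.card K := by
      rw [Subgroup.orderOf_coe]
      exact orderOf_dvd_natCard k
    have hcop : Nat.Coprime (orderOf x) (orderOf (k : G)) := by
      rw [hx]
      exact (Nat.Prime.coprime_iff_not_dvd (by norm_num)).2 (fun h' => h (h'.trans hdvd))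
    have ho := hcomm.orderOf_mul_eq_mul_orderOf_of_coprime hcop
    have hle := hord (x * (k : G))
    rw [ho, hx] at hle
    have hpos := orderOf_pos (k : G)
    have h1 : orderOf (k : G) = 1 := by nlinarith
    have := orderOf_eq_one_iff.1 h1
    exact Subtype.ext this
  have hk1 : Nat.card K = 1 ∨ Nat.card K = 60 := by
    have hpos : 0 < Nat.card K := Nat.card_pos
    have hle : Nat.card K ≤ 60 := Nat.le_of_dvd (by norm_num) ⟨_, hmul.symm⟩
    generalize Nat.card K = k at *
    generalize K.index = i at *
    interval_cases k <;> omega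
  rcases hk1 with h | h
  · left
    exact Subgroup.card_eq_one.1 h
  · right
    rw [← hN] at h
    exact (Subgroup.card_eq_iff_eq_top K).1 h

theorem recog_A5 {G : Type*} [Group G] [Finite G] (hN : Nat.card G = 60) (h3 : Cfsg.Agent.S3995.s G 3 = 20)
    (h5 : Cfsg.Agent.S3995.s G 5 = 24) (hsp : ∀ m, Cfsg.Agent.S3995.s G m ≠ 0 → m ≤ 5) :
    Nonempty (G ≃* ↥(alternatingGroup (Fin 5))) := by
  haveI : IsSimpleGroup G := nse_d5_simple hN h3 h5 hsp
  exact Cfsg.Agent.Lib.Helper07.nonempty_mulEquiv_alternatingGroup_five_of_card_eq_sixty hN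

end Cfsg.Agent.Lib.Helper79.Nse
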