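import Mathlib

/-!
# K-O10m-Y4, field-theoretic part (helper79): in an odd-degree extension `L / F` of finite fields of odd characteristic,
`Lˣ = Fˣ (Lˣ)²`
-/

set_option autoImplicit false

namespace Cfsg.Agent.Lib.Helper79.O10m

open Module

/-- an element of `F` which becomes a square in an odd-degree extension is a square (norm argument) -/
theorem isSquare_of_isSquare_algebraMap {F L : Type*} [Field F] [Field L] [Algebra F L] [FiniteDimensional F L]
    (hodd : Odd (finrank F L)) {d : F} (h : IsSquare (algebraMap F L d)) : IsSquare d := by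
  obtain ⟨t, ht⟩ := h
  obtain ⟨k, hk⟩ := hodd
  have h1 : d ^ (2 * k + 1) = Algebra.norm F t * Algebra.norm F t := by
    rw [← map_mul, ← ht, Algebra.norm_algebraMap, hk]
  by_cases hd : d = 0
  · exact ⟨0, by rw [hd, mul_zero]⟩
  · refine ⟨Algebra.norm F t / d ^ k, ?_⟩
    have hdk : d ^ k ≠ 0 := pow_ne_zero _ hd
    field_simp
    linear_combination h1

theorem ringChar_ne_two_of_two_ne_zero {K : Type*} [Field K] (h2 : (2 : K) ≠ 0) : ringChar K ≠ 2 := by
  intro h
  apply h2
  have := ringChar.Nat.cast_ringChar (R := K)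
  rw [h] at this
  exact_mod_cast this

/-- `Lˣ = Fˣ (Lˣ)²` -/
theorem exists_mul_sq_eq_algebraMap {F L : Type*} [Field F] [Fintype F] [Field L] [Finite L] [Algebra F L]
    (h2 : (2 : F) ≠ 0) (hodd : Odd (finrank F L)) (s : L) (hs : s ≠ 0) :
    ∃ e : L, e ≠ 0 ∧ ∃ δ : F, δ ≠ 0 ∧ s * e * e = algebraMap F L δ := by
  classical
  haveI : Fintype L := Fintype.ofFinite L
  haveI : FiniteDimensional F L := Module.Finite.of_finite
  by_cases hsq : IsSquare s
  · obtain ⟨t, rfl⟩ := hsq
    have ht : t ≠ 0 := fun h => hs (by rw [h, mul_zero])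
    refine ⟨t⁻¹, inv_ne_zero ht, 1, one_ne_zero, ?_⟩
    rw [map_one]
    field_simp
  · obtain ⟨d, hd⟩ := FiniteField.exists_nonsquare (ringChar_ne_two_of_two_ne_zero h2)
    have hd0 : d ≠ 0 := fun h => hd ⟨0, by rw [h, mul_zero]⟩
    have hD : ¬ IsSquare (algebraMap F L d) := fun h => hd (isSquare_of_isSquare_algebraMap hodd h)
    have hD0 : algebraMap F L d ≠ 0 := fun h => hd0 ((map_eq_zero _).1 h)
    have h2L : (2 : L) ≠ 0 := by
      intro h
      apply h2
      have : algebraMap F L 2 = 0 := by rw [map_ofNat]; exact h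
      exact (map_eq_zero _).1 this
    have hL := ringChar_ne_two_of_two_ne_zero h2L
    have e1 : s ^ (Fintype.card L / 2) = -1 := by
      rcases FiniteField.pow_dichotomy hL hs with h | h
      · exact absurd ((FiniteField.isSquare_iff hL hs).2 h) hsq
      · exact h
    have e2 : (algebraMap F L d) ^ (Fintype.card L / 2) = -1 := by
      rcases FiniteField.pow_dichotomy hL hD0 with h | h
      · exact absurd ((FiniteField.isSquare_iff hL hD0).2 h) hD
      · exact h
    have hsD0 : s * algebraMap F L d ≠ 0 := mul_ne_zero hs hD0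
    have e3 : IsSquare (s * algebraMap F L d) := by
      rw [FiniteField.isSquare_iff hL hsD0, mul_pow, e1, e2]
      ring
    obtain ⟨t, ht⟩ := e3
    have ht0 : t ≠ 0 := fun h => hsD0 (by rw [ht, h, mul_zero])
    refine ⟨t⁻¹, inv_ne_zero ht0, d⁻¹, inv_ne_zero hd0, ?_⟩
    rw [map_inv₀]
    have : s = t * t / algebraMap F L d := by
      rw [← ht]
      field_simp
    rw [this]
    field_simp

/-- the same for a ring which is a field -/
theorem exists_mul_sq_eq_algebraMap_of_isField {F R : Type*} [Field F] [Fintype F] [Ring R] [Algebra F R]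
    (hR : IsField R) [Finite R] (h2 : (2 : F) ≠ 0) (hodd : Odd (finrank F R)) (s : R) (hs : s ≠ 0) :
    ∃ e : R, e ≠ 0 ∧ ∃ δ : F, δ ≠ 0 ∧ s * e * e = algebraMap F R δ := by
  letI := hR.toField
  exact exists_mul_sq_eq_algebraMap h2 hodd s hs

end Cfsg.Agent.Lib.Helper79.O10m
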