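import Mathlib
import Cfsg.Prelude.Def_GeometricClasses
import Cfsg.Agent.Lib.Helper46.AschOBasic
import Cfsg.Agent.Lib.Helper42.AschOB2a
import Cfsg.Agent.Lib.Helper79.O10mY4a

/-!
# K-O10m-Y4, geometric part I (helper79): a self-adjoint field subalgebra `E` of degree `r` (odd) acting on a
minus-type quadratic space of dimension `2 r`, `q` odd: coordinates `V = E v₁ ⊕ E v₂`
-/

set_option autoImplicit false
set_option linter.unusedSectionVars false
set_option linter.unusedVariables false

namespace Cfsg.Agent.Lib.Helper79.O10m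

open Cfsg Cfsg.Geo Module QuadraticMap Cfsg.Agent.Lib.Helper46.AschO
open scoped Matrix

variable {F : Type*} [Field F] {n : ℕ}

local notation "V" => (Fin n → F)
local notation "Mat" => Matrix (Fin n) (Fin n) F

theorem ring_aux {R : Type*} [Ring R] (s e c : R) (hc : c * e = e * c) :
    s * (e * (c * e)) = -((-s * e * e) * c) := by
  rw [hc]
  noncomm_ring

/-- the action of the subalgebra on vectors -/
def act (E : Subalgebra F Mat) (a : E) (v : V) : V := (a : Mat) *ᵥ v

section act
variable (E : Subalgebra F (Matrix (Fin n) (Fin n) F))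

theorem act_mul (a b : E) (v : V) : act E (a * b) v = act E a (act E b v) := by
  unfold act
  rw [Subalgebra.coe_mul, Matrix.mulVec_mulVec]

theorem act_add (a b : E) (v : V) : act E (a + b) v = act E a v + act E b v := by
  unfold act
  rw [Subalgebra.coe_add, Matrix.add_mulVec]

theorem act_smul (c : F) (a : E) (v : V) : act E (c • a) v = c • act E a v := by
  unfold act
  rw [Subalgebra.coe_smul, Matrix.smul_mulVec]

theorem act_neg (a : E) (v : V) : act E (-a) v = - act E a v := by
  unfold act
  rw [Subalgebra.coe_neg, Matrix.neg_mulVec]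

theorem act_one (v : V) : act E 1 v = v := by
  unfold act
  rw [Subalgebra.coe_one, Matrix.one_mulVec]

theorem act_zero (v : V) : act E 0 v = 0 := by
  unfold act
  rw [Subalgebra.coe_zero, Matrix.zero_mulVec]

theorem act_add_right (a : E) (v w : V) : act E a (v + w) = act E a v + act E a w := by
  unfold act
  rw [Matrix.mulVec_add]

theorem act_smul_right (a : E) (c : F) (v : V) : act E a (c • v) = c • act E a v := by
  unfold act
  rw [Matrix.mulVec_smul]

theorem act_neg_right (a : E) (v : V) : act E a (-v) = - act E a v := by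
  unfold act
  rw [Matrix.mulVec_neg]

theorem act_zero_right (a : E) : act E a (0 : V) = 0 := by
  unfold act
  rw [Matrix.mulVec_zero]

/-- `a ↦ a v` as a linear map -/
def evL (v : V) : E →ₗ[F] V where
  toFun a := act E a v
  map_add' a b := act_add E a b v
  map_smul' c a := act_smul E c a v

theorem evL_apply (v : V) (a : E) : evL E v a = act E a v := rfl

end act

section field
variable {E : Subalgebra F (Matrix (Fin n) (Fin n) F)} {r : ℕ} (hE : IsFieldSubalgebra r E)
include hE

theorem mul_comm_of (a b : E) : a * b = b * a := Subtype.ext (hE.comm a a.2 b b.2)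

theorem exists_inv_of {a : E} (ha : a ≠ 0) : ∃ y : E, a * y = 1 := by
  have ha' : (a : Mat) ≠ 0 := fun h => ha (Subtype.ext h)
  obtain ⟨y, hy, hay⟩ := hE.inv a a.2 ha'
  exact ⟨⟨y, hy⟩, Subtype.ext hay⟩

theorem act_eq_zero {a : E} (ha : a ≠ 0) {v : V} (h : act E a v = 0) : v = 0 := by
  obtain ⟨y, hy⟩ := exists_inv_of hE ha
  have : act E (y * a) v = v := by rw [mul_comm_of hE y a, hy, act_one]
  rw [← this, act_mul, h, act_zero_right]

theorem evL_injective {v : V} (hv : v ≠ 0) : Function.Injective (evL E v) := by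
  rw [injective_iff_map_eq_zero]
  intro a ha
  by_contra h0
  exact hv (act_eq_zero hE h0 ha)

theorem isField_of (hr : 0 < r) : IsField E := by
  have hpos : 0 < finrank F E := by rw [hE.finrank_eq]; exact hr
  have hnt : Nontrivial E := Module.nontrivial_of_finrank_pos hpos
  refine ⟨exists_pair_ne _, mul_comm_of hE, ?_⟩
  intro a ha
  exact exists_inv_of hE ha

end field

section form
variable (Q : (Fin n → F) → F) (hQ : IsNondegenerateQuadraticForm Q)
  (E : Subalgebra F (Matrix (Fin n) (Fin n) F))

/-- the polar form as a bilinear map -/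
def Bf : V →ₗ[F] V →ₗ[F] F :=
  LinearMap.mk₂ F (polar Q) hQ.polar_bilinear.add_left hQ.polar_bilinear.smul_left
    hQ.polar_bilinear.add_right hQ.polar_bilinear.smul_right

theorem Bf_apply (x y : V) : Bf Q hQ x y = polar Q x y := rfl

/-- the functional `a ↦ B (a v) w` on `E` -/
def lamL (v w : V) : E →ₗ[F] F := ((Bf Q hQ).flip w).comp (evL E v)

theorem lamL_apply (v w : V) (a : E) : lamL Q hQ E v w a = polar Q (act E a v) w := rfl

variable {Q} {E}
variable (hsa : IsSelfAdjointFor (polar Q) E)
include hsa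

theorem polar_act_left (a : E) (x y : V) : polar Q (act E a x) y = polar Q x (act E a y) :=
  hsa a a.2 x y

end form

section main
variable [Fintype F] {Q : (Fin n → F) → F} (hQ : IsNondegenerateQuadraticForm Q)
  {E : Subalgebra F (Matrix (Fin n) (Fin n) F)} {r : ℕ}
  (hE : IsFieldSubalgebra r E) (hsa : IsSelfAdjointFor (polar Q) E) (h2 : (2 : F) ≠ 0)
  (hminus : ¬ IsPlusTypeOn Q ⊤) (hn : n = 2 * r)
include hQ hE hsa h2 hminus hn

/-- the `E`-line through a non-zero vector is non-degenerate (else `Q` would be of plus type) -/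
theorem lam_nondeg {v : V} (hv : v ≠ 0) {a : E} (ha : a ≠ 0) : ∃ b : E, polar Q (act E (a * b) v) v ≠ 0 := by
  by_contra hcon
  push Not at hcon
  apply hminus
  have h1 : ∀ c : E, polar Q (act E c v) v = 0 := by
    intro c
    obtain ⟨y, hy⟩ := exists_inv_of hE ha
    have := hcon (y * c)
    rwa [← mul_assoc, hy, one_mul] at this
  have h3 : ∀ c d : E, polar Q (act E c v) (act E d v) = 0 := by
    intro c d
    rw [← polar_act_left hsa d, ← act_mul]
    exact h1 _
  refine ⟨LinearMap.range (evL E v), le_top, ?_, ?_⟩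
  · rintro _ ⟨c, rfl⟩
    rw [evL_apply]
    have h4 := two_mul_Q hQ (act E c v)
    rw [h3 c c] at h4
    rcases mul_eq_zero.1 h4 with h | h
    · exact absurd h h2
    · exact h
  · rw [LinearMap.finrank_range_of_inj (evL_injective hE hv), hE.finrank_eq, finrank_top,
      Module.finrank_fin_fun, hn]

theorem eq_zero_of_lam {v : V} (hv : v ≠ 0) {a : E} (h : ∀ b : E, polar Q (act E (a * b) v) v = 0) : a = 0 := by
  by_contra ha
  obtain ⟨b, hb⟩ := lam_nondeg hQ hE hsa h2 hminus hn hv ha
  exact hb (h b)

/-- adapted coordinates -/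
theorem exists_frame (hodd : Odd r) :
    ∃ (v₁ v₂ : V) (δ : F), δ ≠ 0 ∧ v₁ ≠ 0 ∧ v₂ ≠ 0 ∧
      (∀ a b : E, polar Q (act E a v₁) (act E b v₂) = 0) ∧
      (∀ c : E, polar Q (act E c v₂) v₂ = -δ * polar Q (act E c v₁) v₁) := by
  classical
  have hr : 0 < r := hodd.pos
  have hnpos : 0 < n := by omega
  haveI : NeZero n := ⟨by omega⟩
  haveI : FiniteDimensional F E := FiniteDimensional.finiteDimensional_subalgebra E
  -- first vector
  let v₁ : V := Pi.single 0 1
  have hv₁ : v₁ ≠ 0 := by
    intro h
    have := congrFun h 0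
    simp [v₁] at this
  -- the orthogonal of `E v₁`
  let T : V →ₗ[F] (E →ₗ[F] F) := (LinearMap.lcomp F F (evL E v₁)).comp (Bf Q hQ).flip
  have hT : ∀ (y : V) (a : E), T y a = polar Q (act E a v₁) y := fun y a => rfl
  have hker : 0 < finrank F (LinearMap.ker T) := by
    have h1 := LinearMap.finrank_range_add_finrank_ker T
    have h2' : finrank F (LinearMap.range T) ≤ finrank F (E →ₗ[F] F) := Submodule.finrank_le _
    have h3 : finrank F (E →ₗ[F] F) = r := by
      have : finrank F (Module.Dual F E) = finrank F E := Subspace.dual_finrank_eq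
      rw [hE.finrank_eq] at this
      exact this
    rw [Module.finrank_fin_fun] at h1
    omega
  obtain ⟨⟨w, hw⟩, hw0⟩ := finrank_pos_iff_exists_ne_zero.1 hker
  have hw0' : w ≠ 0 := fun h => hw0 (Subtype.ext h)
  have hw1 : ∀ a : E, polar Q (act E a v₁) w = 0 := by
    intro a
    have := LinearMap.mem_ker.1 hw
    rw [← hT w a, this]
    rfl
  have hw2 : ∀ a b : E, polar Q (act E a v₁) (act E b w) = 0 := by
    intro a b
    rw [← polar_act_left hsa b, ← act_mul]
    exact hw1 _
  -- comparison of the two functionals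
  let lam₁ : E →ₗ[F] F := lamL Q hQ E v₁ v₁
  let lam₂ : E →ₗ[F] F := lamL Q hQ E w w
  let Λ : E →ₗ[F] (E →ₗ[F] F) := (LinearMap.mul F E).compr₂ lam₁
  have hΛ : ∀ s c : E, Λ s c = polar Q (act E (s * c) v₁) v₁ := fun s c => rfl
  have hΛinj : Function.Injective Λ := by
    rw [injective_iff_map_eq_zero]
    intro s hs
    apply eq_zero_of_lam hQ hE hsa h2 hminus hn hv₁
    intro b
    rw [← hΛ, hs]
    rfl
  have hΛsurj : Function.Surjective Λ := by
    have hfin : finrank F E = finrank F (E →ₗ[F] F) :=
      (Subspace.dual_finrank_eq : finrank F (Module.Dual F E) = finrank F E).symm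
    exact (LinearMap.injective_iff_surjective_of_finrank_eq_finrank hfin).1 hΛinj
  obtain ⟨s, hs⟩ := hΛsurj lam₂
  have hs' : ∀ c : E, polar Q (act E (s * c) v₁) v₁ = polar Q (act E c w) w := by
    intro c
    rw [← hΛ, hs]
    rfl
  have hs0 : s ≠ 0 := by
    intro h
    obtain ⟨b, hb⟩ := lam_nondeg hQ hE hsa h2 hminus hn hw0' (one_ne_zero' E)
    apply hb
    rw [one_mul, ← hs' b, h, zero_mul, act_zero]
    have := hQ.polar_bilinear.smul_left 0 (0 : V) v₁
    simpa using this
  -- normalisation of `s`
  haveI : Finite E := Finite.of_injective (fun x : E => (x : Mat)) Subtype.val_injective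
  obtain ⟨e, he0, δ, hδ, hse⟩ := exists_mul_sq_eq_algebraMap_of_isField (isField_of hE hr) h2
    (by rw [hE.finrank_eq]; exact hodd) (-s) (neg_ne_zero.2 hs0)
  refine ⟨v₁, act E e w, δ, hδ, hv₁, ?_, ?_, ?_⟩
  · intro h
    exact hw0' (act_eq_zero hE he0 h)
  · intro a b
    rw [← act_mul]
    exact hw2 a (b * e)
  · intro c
    have e1 : polar Q (act E c (act E e w)) (act E e w) = polar Q (act E (e * (c * e)) w) w := by
      rw [← polar_act_left hsa e, ← act_mul, ← act_mul, mul_assoc]
    have e2 : s * (e * (c * e)) = -(δ • c) := by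
      have := ring_aux s e c (mul_comm_of hE c e)
      rw [this, hse, Algebra.smul_def]
    rw [e1, ← hs', e2, act_neg, act_smul, ← neg_smul, hQ.polar_bilinear.smul_left]

end main

end Cfsg.Agent.Lib.Helper79.O10m
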