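import Mathlib
import Cfsg.Prelude.Def_GeometricClasses
import Cfsg.Agent.Lib.Helper46.AschOBasic
import Cfsg.Agent.Lib.Helper42.AschOB2a
import Cfsg.Agent.Lib.Helper79.O10mY4b

/-!
# K-O10m-Y4 (helper79, architect helper91): `O₂⁻(q^r).r ≤ GU_r(q).2` — a skew-adjoint `J` with `J² = δ`, unique up to sign,
attached to a self-adjoint field subalgebra of odd degree `r` on a minus-type quadratic space of dimension `2 r`, `q` odd

With the coordinates `Ψ (a, b) = a v₁ + b v₂` of part I (`B (Ψ(a,b)) (Ψ(a',b')) = λ₁ (a a') - δ λ₁ (b b')`),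
`J (Ψ (a, b)) = Ψ (δ b, a)`.  Uniqueness: a skew-adjoint `A` commuting with `E` is `c J` with `c ∈ E`, and `A² = δ` gives `c² = 1`.
-/

set_option autoImplicit false
set_option linter.unusedSectionVars false
set_option linter.unusedVariables false

namespace Cfsg.Agent.Lib.Helper79.O10m

open Cfsg Cfsg.Geo Module QuadraticMap Cfsg.Agent.Lib.Helper46.AschO
open scoped Matrix

variable {F : Type*} [Field F] [Fintype F] {n : ℕ}

local notation "V" => (Fin n → F)
local notation "Mat" => Matrix (Fin n) (Fin n) F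

/-- general form of K-O10m-Y4: `n = 2 r`, `r` odd. -/
theorem exists_skew_of_field_odd (h2 : (2 : F) ≠ 0) (Q : (Fin n → F) → F) (hQ : IsNondegenerateQuadraticForm Q)
    (hminus : ¬ IsPlusTypeOn Q ⊤) (E : Subalgebra F (Matrix (Fin n) (Fin n) F)) {r : ℕ} (hE : IsFieldSubalgebra r E)
    (hn : n = 2 * r) (hodd : Odd r) (hsa : IsSelfAdjointFor (QuadraticMap.polar Q) E) :
    ∃ (J : Matrix (Fin n) (Fin n) F) (δ : F), δ ≠ 0 ∧ J * J = δ • (1 : Matrix (Fin n) (Fin n) F) ∧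
      (∀ u v : Fin n → F, QuadraticMap.polar Q (J *ᵥ u) v = - QuadraticMap.polar Q u (J *ᵥ v)) ∧
      (∀ g ∈ subalgebraNormalizer E ⊓ isometryGroup F Q,
        (g : Matrix (Fin n) (Fin n) F) * J * ((g⁻¹ : GL (Fin n) F) : Matrix (Fin n) (Fin n) F) = J ∨
        (g : Matrix (Fin n) (Fin n) F) * J * ((g⁻¹ : GL (Fin n) F) : Matrix (Fin n) (Fin n) F) = -J) := by
  classical
  have hr : 0 < r := hodd.pos
  haveI : FiniteDimensional F E := FiniteDimensional.finiteDimensional_subalgebra E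
  obtain ⟨v₁, v₂, δ, hδ, hv₁, hv₂, horth, hlam⟩ := exists_frame hQ hE hsa h2 hminus hn hodd
  have hcomm : ∀ a b : E, a * b = b * a := mul_comm_of hE
  have hsymm : ∀ x y : V, polar Q x y = polar Q y x := fun x y => polar_comm Q x y
  have hB := hQ.polar_bilinear
  -- the functional `λ₁`
  let lam : E →ₗ[F] F := lamL Q hQ E v₁ v₁
  have hlam1 : ∀ a : E, lam a = polar Q (act E a v₁) v₁ := fun a => rfl
  have hnd : ∀ a : E, (∀ b : E, lam (a * b) = 0) → a = 0 := fun a h =>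
    eq_zero_of_lam hQ hE hsa h2 hminus hn hv₁ h
  have hB11 : ∀ a a' : E, polar Q (act E a v₁) (act E a' v₁) = lam (a * a') := by
    intro a a'
    calc polar Q (act E a v₁) (act E a' v₁) = polar Q (act E a' v₁) (act E a v₁) := hsymm _ _
      _ = polar Q (act E a (act E a' v₁)) v₁ := (polar_act_left hsa a _ _).symm
      _ = lam (a * a') := by rw [hlam1, act_mul]
  have hB22 : ∀ b b' : E, polar Q (act E b v₂) (act E b' v₂) = -δ * lam (b * b') := by
    intro b b'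
    calc polar Q (act E b v₂) (act E b' v₂) = polar Q (act E b' v₂) (act E b v₂) := hsymm _ _
      _ = polar Q (act E b (act E b' v₂)) v₂ := (polar_act_left hsa b _ _).symm
      _ = polar Q (act E (b * b') v₂) v₂ := by rw [act_mul]
      _ = -δ * lam (b * b') := by rw [hlam, hlam1]
  have hB12 : ∀ a b : E, polar Q (act E a v₁) (act E b v₂) = 0 := horth
  have hB21 : ∀ a b : E, polar Q (act E b v₂) (act E a v₁) = 0 := fun a b => by rw [hsymm]; exact horth a b
  -- coordinates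
  let Ψ₀ : E × E →ₗ[F] V := (evL E v₁).coprod (evL E v₂)
  have hΨ₀ : ∀ a b : E, Ψ₀ (a, b) = act E a v₁ + act E b v₂ := fun a b => rfl
  have hBΨ : ∀ a b a' b' : E, polar Q (Ψ₀ (a, b)) (Ψ₀ (a', b')) = lam (a * a') - δ * lam (b * b') := by
    intro a b a' b'
    rw [hΨ₀, hΨ₀, hB.add_left, hB.add_right, hB.add_right, hB11, hB12, hB21, hB22]
    ring
  have hΨinj : Function.Injective Ψ₀ := by
    rw [injective_iff_map_eq_zero]
    rintro ⟨a, b⟩ hab
    have ha : a = 0 := by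
      apply hnd
      intro c
      have h1 := hBΨ a b c 0
      rw [hab, mul_zero, map_zero, mul_zero, sub_zero] at h1
      rw [← h1]
      have := hB.smul_left 0 (0 : V) (Ψ₀ (c, 0))
      simpa using this
    subst ha
    rw [hΨ₀, act_zero, zero_add] at hab
    have hb : b = 0 := by
      by_contra hb0
      exact hv₂ (act_eq_zero hE hb0 hab)
    rw [hb]
    rfl
  have hdim : finrank F (E × E) = finrank F V := by
    rw [Module.finrank_prod, hE.finrank_eq, Module.finrank_fin_fun, hn]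
    ring
  let Ψ : (E × E) ≃ₗ[F] V := LinearEquiv.ofInjectiveOfFinrankEq Ψ₀ hΨinj hdim
  have hΨ : ∀ p : E × E, Ψ p = Ψ₀ p := fun p => rfl
  have hΨact : ∀ (e a b : E), act E e (Ψ (a, b)) = Ψ (e * a, e * b) := by
    intro e a b
    rw [hΨ, hΨ, hΨ₀, hΨ₀, act_add_right, ← act_mul, ← act_mul]
  -- the operator `J`
  let σ : E × E →ₗ[F] E × E := LinearMap.prod (δ • LinearMap.snd F E E) (LinearMap.fst F E E)
  have hσ : ∀ a b : E, σ (a, b) = (δ • b, a) := fun a b => rfl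
  let Jl : V →ₗ[F] V := Ψ.toLinearMap ∘ₗ σ ∘ₗ Ψ.symm.toLinearMap
  let J : Mat := LinearMap.toMatrix' Jl
  have hJ : ∀ x : V, J *ᵥ x = Jl x := by
    intro x
    rw [← Matrix.toLin'_apply, Matrix.toLin'_toMatrix']
  have hJΨ : ∀ a b : E, J *ᵥ Ψ (a, b) = Ψ (δ • b, a) := by
    intro a b
    rw [hJ]
    show Ψ (σ (Ψ.symm (Ψ (a, b)))) = _
    rw [LinearEquiv.symm_apply_apply, hσ]
  have hJJ : J * J = δ • (1 : Mat) := by
    apply Matrix.mulVec_injective
    funext x
    obtain ⟨⟨a, b⟩, rfl⟩ := Ψ.surjective x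
    rw [← Matrix.mulVec_mulVec, hJΨ, hJΨ, Matrix.smul_mulVec, Matrix.one_mulVec, ← map_smul]
    rfl
  have hJskew : ∀ u v : V, polar Q (J *ᵥ u) v = - polar Q u (J *ᵥ v) := by
    intro u v
    obtain ⟨⟨a, b⟩, rfl⟩ := Ψ.surjective u
    obtain ⟨⟨a', b'⟩, rfl⟩ := Ψ.surjective v
    rw [hJΨ, hJΨ, hΨ, hΨ, hΨ, hΨ, hBΨ, hBΨ, smul_mul_assoc, mul_smul_comm, map_smul, map_smul]
    simp only [smul_eq_mul]
    ring
  have hJE : ∀ e : E, J * (e : Mat) = (e : Mat) * J := by
    intro e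
    apply Matrix.mulVec_injective
    funext x
    obtain ⟨⟨a, b⟩, rfl⟩ := Ψ.surjective x
    rw [← Matrix.mulVec_mulVec, ← Matrix.mulVec_mulVec, hJΨ]
    show J *ᵥ act E e (Ψ (a, b)) = act E e (Ψ (δ • b, a))
    rw [hΨact, hJΨ, hΨact, mul_smul_comm]
  refine ⟨J, δ, hδ, hJJ, hJskew, ?_⟩
  -- uniqueness up to sign
  rintro g ⟨hgN, hgI⟩
  have hgi : ((g : GL (Fin n) F) : Mat) * ((g⁻¹ : GL (Fin n) F) : Mat) = 1 := by
    rw [← Units.val_mul, mul_inv_cancel, Units.val_one]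
  have hig : ((g⁻¹ : GL (Fin n) F) : Mat) * ((g : GL (Fin n) F) : Mat) = 1 := by
    rw [← Units.val_mul, inv_mul_cancel, Units.val_one]
  set G : Mat := (g : Mat) with hG
  set Gi : Mat := ((g⁻¹ : GL (Fin n) F) : Mat) with hGi
  obtain ⟨A, hA⟩ : ∃ A : Mat, A = G * J * Gi := ⟨_, rfl⟩
  rw [← hA]
  -- `g` preserves the polar form
  have hgQ : ∀ x : V, Q (G *ᵥ x) = Q x := (mem_isometryGroup_iff Q g).1 hgI
  have hgB : ∀ x y : V, polar Q (G *ᵥ x) (G *ᵥ y) = polar Q x y := by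
    intro x y
    unfold polar
    rw [← Matrix.mulVec_add, hgQ, hgQ, hgQ]
  have hGGi : ∀ x : V, G *ᵥ (Gi *ᵥ x) = x := by
    intro x
    rw [Matrix.mulVec_mulVec, hgi, Matrix.one_mulVec]
  -- `A` commutes with `E`
  have hAE : ∀ e : E, A * (e : Mat) = (e : Mat) * A := by
    intro e
    have he' : Gi * (e : Mat) * G ∈ E := by
      have h1 := (hgN (Gi * (e : Mat) * G)).2
      apply h1
      have : G * (Gi * (e : Mat) * G) * Gi = (e : Mat) := by
        calc G * (Gi * (e : Mat) * G) * Gi = (G * Gi) * (e : Mat) * (G * Gi) := by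
              simp only [mul_assoc]
          _ = (e : Mat) := by rw [hgi, one_mul, mul_one]
      rw [this]
      exact e.2
    have h2 := hJE ⟨_, he'⟩
    simp only at h2
    calc A * (e : Mat) = G * (J * (Gi * (e : Mat) * G)) * Gi := by
          rw [hA]
          simp only [mul_assoc]
          rw [hgi, mul_one]
      _ = G * ((Gi * (e : Mat) * G) * J) * Gi := by rw [h2]
      _ = (G * Gi) * (e : Mat) * (G * J * Gi) := by simp only [mul_assoc]
      _ = (e : Mat) * A := by rw [hgi, one_mul, hA]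
  have hAact : ∀ (e : E) (x : V), A *ᵥ act E e x = act E e (A *ᵥ x) := by
    intro e x
    unfold act
    rw [Matrix.mulVec_mulVec, Matrix.mulVec_mulVec, hAE]
  -- `A` is skew-adjoint
  have hAskew : ∀ u v : V, polar Q (A *ᵥ u) v = - polar Q u (A *ᵥ v) := by
    intro u v
    have e1 : A *ᵥ u = G *ᵥ (J *ᵥ (Gi *ᵥ u)) := by
      rw [hA, Matrix.mulVec_mulVec, Matrix.mulVec_mulVec, mul_assoc]
    have e2 : A *ᵥ v = G *ᵥ (J *ᵥ (Gi *ᵥ v)) := by
      rw [hA, Matrix.mulVec_mulVec, Matrix.mulVec_mulVec, mul_assoc]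
    calc polar Q (A *ᵥ u) v = polar Q (G *ᵥ (J *ᵥ (Gi *ᵥ u))) (G *ᵥ (Gi *ᵥ v)) := by rw [e1, hGGi]
      _ = polar Q (J *ᵥ (Gi *ᵥ u)) (Gi *ᵥ v) := hgB _ _
      _ = - polar Q (Gi *ᵥ u) (J *ᵥ (Gi *ᵥ v)) := hJskew _ _
      _ = - polar Q (G *ᵥ (Gi *ᵥ u)) (G *ᵥ (J *ᵥ (Gi *ᵥ v))) := by rw [hgB]
      _ = - polar Q u (A *ᵥ v) := by rw [hGGi, e2]
  have hAA : A * A = δ • (1 : Mat) := by
    calc A * A = G * (J * ((Gi * G) * J)) * Gi := by
          rw [hA]
          simp only [mul_assoc]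
      _ = G * (J * J) * Gi := by rw [hig, one_mul]
      _ = δ • (1 : Mat) := by
          rw [hJJ, Matrix.mul_smul, Matrix.smul_mul, mul_one, hgi]
  -- `B (A v) (b v) = 0`
  have hAalt : ∀ (v : V) (b : E), polar Q (A *ᵥ v) (act E b v) = 0 := by
    intro v b
    have e1 : polar Q (A *ᵥ v) (act E b v) = - polar Q (A *ᵥ v) (act E b v) := by
      calc polar Q (A *ᵥ v) (act E b v) = polar Q (act E b (A *ᵥ v)) v := (polar_act_left hsa b _ _).symm
        _ = polar Q (A *ᵥ act E b v) v := by rw [hAact]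
        _ = - polar Q (act E b v) (A *ᵥ v) := hAskew _ _
        _ = - polar Q (A *ᵥ v) (act E b v) := by rw [hsymm]
    have e2 : (2 : F) * polar Q (A *ᵥ v) (act E b v) = 0 := by linear_combination e1
    rcases mul_eq_zero.1 e2 with h | h
    · exact absurd h h2
    · exact h
  -- `v₁ = Ψ (1, 0)`, `v₂ = Ψ (0, 1)`
  have hΨ10 : ∀ a : E, Ψ (a, 0) = act E a v₁ := by
    intro a
    rw [hΨ, hΨ₀, act_zero, add_zero]
  have hΨ01 : ∀ b : E, Ψ (0, b) = act E b v₂ := by
    intro b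
    rw [hΨ, hΨ₀, act_zero, zero_add]
  have hlam0 : lam 0 = 0 := map_zero lam
  -- images of `v₁`, `v₂`
  obtain ⟨⟨p, c⟩, hpc⟩ := Ψ.surjective (A *ᵥ v₁)
  obtain ⟨⟨c', p'⟩, hcp⟩ := Ψ.surjective (A *ᵥ v₂)
  have hp : p = 0 := by
    apply hnd
    intro b
    have h1 := hAalt v₁ b
    rw [← hpc, ← hΨ10, hΨ, hΨ, hBΨ, mul_zero, hlam0, mul_zero, sub_zero] at h1
    exact h1
  have hp' : p' = 0 := by
    apply hnd
    intro b
    have h1 := hAalt v₂ b
    rw [← hcp, ← hΨ01, hΨ, hΨ, hBΨ, mul_zero, hlam0, zero_sub] at h1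
    rcases mul_eq_zero.1 (neg_eq_zero.1 h1) with h | h
    · exact absurd h hδ
    · exact h
  subst hp
  subst hp'
  have hc' : c' = δ • c := by
    have h0 : c' - δ • c = 0 := by
      apply hnd
      intro a
      -- skewness between `a v₁` and `v₂`
      have h1 := hAskew (act E a v₁) v₂
      rw [hAact, ← hpc, hΨact, mul_zero, ← hcp] at h1
      have hv2 : v₂ = Ψ (0, 1) := by rw [hΨ01, act_one]
      rw [← hΨ10] at h1
      nth_rewrite 1 [hv2] at h1
      rw [hΨ, hΨ, hΨ, hΨ, hBΨ, hBΨ] at h1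
      simp only [mul_zero, mul_one, hlam0, zero_sub, sub_zero] at h1
      rw [hcomm, mul_sub, map_sub, mul_smul_comm, map_smul, smul_eq_mul]
      linear_combination h1
    exact sub_eq_zero.1 h0
  -- `A = c J`
  have hAcJ : A = (c : Mat) * J := by
    apply Matrix.mulVec_injective
    funext x
    obtain ⟨⟨a, b⟩, rfl⟩ := Ψ.surjective x
    have e1 : Ψ (a, b) = act E a v₁ + act E b v₂ := by rw [hΨ, hΨ₀]
    rw [← Matrix.mulVec_mulVec, hJΨ]
    show _ = act E c (Ψ (δ • b, a))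
    rw [hΨact, e1, Matrix.mulVec_add, hAact, hAact, ← hpc, ← hcp, hΨact, hΨact, ← map_add, hc']
    congr 1
    rw [Prod.mk_add_mk, mul_zero, mul_zero, add_zero, zero_add, mul_smul_comm, mul_smul_comm, hcomm a c, hcomm b c]
  -- `c² = 1`
  have hcc : (c : Mat) * (c : Mat) = 1 := by
    have h1 : A * A = δ • ((c : Mat) * (c : Mat)) := by
      calc A * A = (c : Mat) * (J * (c : Mat)) * J := by rw [hAcJ]; simp only [mul_assoc]
        _ = (c : Mat) * ((c : Mat) * J) * J := by rw [hJE]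
        _ = ((c : Mat) * (c : Mat)) * (J * J) := by simp only [mul_assoc]
        _ = δ • ((c : Mat) * (c : Mat)) := by rw [hJJ, Matrix.mul_smul, mul_one]
    rw [hAA] at h1
    have h3 : δ • ((c : Mat) * (c : Mat) - 1) = 0 := by
      rw [smul_sub, ← h1, sub_self]
    rcases smul_eq_zero.1 h3 with h | h
    · exact absurd h hδ
    · exact sub_eq_zero.1 h
  have hprod : ((c : Mat) - 1) * ((c : Mat) + 1) = 0 := by
    rw [sub_mul, mul_add, mul_add, hcc]
    simp only [mul_one, one_mul]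
    abel
  have hmem : (c : Mat) - 1 ∈ E := E.sub_mem c.2 E.one_mem
  rcases Cfsg.Agent.Lib.Helper42.AschO.eq_zero_of_mul_eq_zero hE hmem hprod with h | h
  · left
    rw [hAcJ, sub_eq_zero.1 h, one_mul]
  · right
    rw [hAcJ, eq_neg_of_add_eq_zero_left h, neg_mul, one_mul]

/-- **K-O10m-Y4.** -/
theorem exists_skew_of_field_five (h2 : (2 : F) ≠ 0) (Q : (Fin 10 → F) → F) (hQ : IsNondegenerateQuadraticForm Q)
    (hminus : ¬ IsPlusTypeOn Q ⊤) (E : Subalgebra F (Matrix (Fin 10) (Fin 10) F)) (hE : IsFieldSubalgebra 5 E)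
    (hsa : IsSelfAdjointFor (QuadraticMap.polar Q) E) :
    ∃ (J : Matrix (Fin 10) (Fin 10) F) (δ : F), δ ≠ 0 ∧ J * J = δ • (1 : Matrix (Fin 10) (Fin 10) F) ∧
      (∀ u v : Fin 10 → F, QuadraticMap.polar Q (J *ᵥ u) v = - QuadraticMap.polar Q u (J *ᵥ v)) ∧
      (∀ g ∈ subalgebraNormalizer E ⊓ isometryGroup F Q,
        (g : Matrix (Fin 10) (Fin 10) F) * J * ((g⁻¹ : GL (Fin 10) F) : Matrix (Fin 10) (Fin 10) F) = J ∨
        (g : Matrix (Fin 10) (Fin 10) F) * J * ((g⁻¹ : GL (Fin 10) F) : Matrix (Fin 10) (Fin 10) F) = -J) :=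
  exists_skew_of_field_odd h2 Q hQ hminus E hE (by norm_num) (by decide) hsa

end Cfsg.Agent.Lib.Helper79.O10m
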