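import Mathlib
import Cfsg.Agent.Lib.Helper09.AnisoExt
import Cfsg.Agent.Lib.Helper46.Char2Field

/-!
# K-O10m-Y5, field-theoretic part (helper79): finite fields of characteristic two

* `exists_linear_of_sq_semilinear`: a Frobenius-semilinear map `q : L → F` (`q (c • a) = c² q a`) is `a ↦ ℓ (a²)` for an `F`-linear `ℓ`.
* `exists_add_wp_eq_algebraMap`: in an odd-degree extension `L / F`, every `γ ∈ L` is congruent to an element of `F` modulo
  the Artin–Schreier image `{t² + t}`.
-/

set_option autoImplicit false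

namespace Cfsg.Agent.Lib.Helper79.O10m

open Module

theorem comm_ring_aux {R : Type*} [Ring R] (hc : ∀ a b : R, a * b = b * a) (γ t b : R) :
    γ * (b * b) + (b * t) * (b * t) + b * (b * t) = (γ + t * t + t) * (b * b) := by
  letI : CommRing R := { (inferInstance : Ring R) with mul_comm := hc }
  ring

theorem charP_two_of_two_eq_zero {K : Type*} [Field K] (h2 : (2 : K) = 0) : CharP K 2 :=
  CharTwo.of_one_ne_zero_of_two_eq_zero one_ne_zero h2

/-- linearisation of a Frobenius-semilinear map -/
theorem exists_linear_of_sq_semilinear {F L : Type*} [Field F] [Fintype F] [Field L] [Finite L] [Algebra F L]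
    (h2 : (2 : F) = 0) (q : L → F) (hadd : ∀ a b : L, q (a + b) = q a + q b)
    (hsmul : ∀ (c : F) (a : L), q (c • a) = c ^ 2 * q a) :
    ∃ ℓ : L →ₗ[F] F, ∀ a : L, ℓ (a * a) = q a := by
  classical
  haveI : Fintype L := Fintype.ofFinite L
  haveI : CharP F 2 := charP_two_of_two_eq_zero h2
  have h2L : (2 : L) = 0 := by
    have : algebraMap F L 2 = 0 := by rw [h2, map_zero]
    rwa [map_ofNat] at this
  haveI : CharP L 2 := charP_two_of_two_eq_zero h2L
  have hbF := Helper46.sq_bijective (F := F)
  have hbL := Helper46.sq_bijective (F := L)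
  let rtF : F → F := Function.surjInv hbF.2
  let rtL : L → L := Function.surjInv hbL.2
  have hrtF : ∀ c : F, rtF c * rtF c = c := fun c => Function.surjInv_eq hbF.2 c
  have hrtL : ∀ e : L, rtL e * rtL e = e := fun e => Function.surjInv_eq hbL.2 e
  have hrtL' : ∀ a : L, rtL (a * a) = a := fun a => hbL.1 (hrtL (a * a))
  have hrt_add : ∀ e e' : L, rtL (e + e') = rtL e + rtL e' := by
    intro e e'
    apply hbL.1
    show rtL (e + e') * rtL (e + e') = (rtL e + rtL e') * (rtL e + rtL e')
    rw [hrtL]
    have : (rtL e + rtL e') * (rtL e + rtL e') = rtL e * rtL e + rtL e' * rtL e' + 2 * (rtL e * rtL e') := by ring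
    rw [this, h2L, zero_mul, add_zero, hrtL, hrtL]
  have hrt_smul : ∀ (c : F) (e : L), rtL (c • e) = rtF c • rtL e := by
    intro c e
    apply hbL.1
    show rtL (c • e) * rtL (c • e) = (rtF c • rtL e) * (rtF c • rtL e)
    rw [hrtL, smul_mul_smul_comm, hrtF, hrtL]
  refine ⟨{ toFun := fun e => q (rtL e), map_add' := ?_, map_smul' := ?_ }, ?_⟩
  · intro e e'
    show q (rtL (e + e')) = q (rtL e) + q (rtL e')
    rw [hrt_add, hadd]
  · intro c e
    show q (rtL (c • e)) = c • q (rtL e)
    rw [hrt_smul, hsmul, pow_two, hrtF, smul_eq_mul]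
  · intro a
    show q (rtL (a * a)) = q a
    rw [hrtL']

/-- the same for a ring which is a field -/
theorem exists_linear_of_sq_semilinear_of_isField {F R : Type*} [Field F] [Fintype F] [Ring R] [Algebra F R]
    (hR : IsField R) [Finite R] (h2 : (2 : F) = 0) (q : R → F) (hadd : ∀ a b : R, q (a + b) = q a + q b)
    (hsmul : ∀ (c : F) (a : R), q (c • a) = c ^ 2 * q a) :
    ∃ ℓ : R →ₗ[F] F, ∀ a : R, ℓ (a * a) = q a := by
  letI := hR.toField
  exact exists_linear_of_sq_semilinear h2 q hadd hsmul

/-- Artin–Schreier normal form: `L = F + ℘ L` for `[L : F]` odd, characteristic two -/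
theorem exists_add_wp_eq_algebraMap {F L : Type*} [Field F] [Fintype F] [Field L] [Finite L] [Algebra F L]
    (h2 : (2 : F) = 0) (hodd : Odd (finrank F L)) (γ : L) :
    ∃ (t : L) (c₀ : F), γ + t * t + t = algebraMap F L c₀ := by
  classical
  haveI : Fintype L := Fintype.ofFinite L
  haveI : CharP F 2 := charP_two_of_two_eq_zero h2
  have h2L : (2 : L) = 0 := by
    have : algebraMap F L 2 = 0 := by rw [h2, map_zero]
    rwa [map_ofNat] at this
  haveI : CharP L 2 := charP_two_of_two_eq_zero h2L
  -- an element of `F` outside `℘ F`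
  obtain ⟨c₁, hc₁⟩ : ∃ c₁ : F, ∀ t : F, t * t + t ≠ c₁ := by
    by_contra hcon
    push Not at hcon
    have hsurj : Function.Surjective (Helper46.asMap (F := F)) := fun c => by
      obtain ⟨t, ht⟩ := hcon c
      exact ⟨t, ht⟩
    have hinj := Finite.injective_iff_surjective.2 hsurj
    have h01 : Helper46.asMap (0 : F) = Helper46.asMap (1 : F) := by
      rw [map_zero]
      exact ((Helper46.asMap_eq_zero_iff (1 : F)).2 (Or.inr rfl)).symm
    exact zero_ne_one (hinj h01)
  -- it stays outside `℘ L`
  have hc₁L : ∀ t : L, t * t + t ≠ algebraMap F L c₁ := by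
    intro t ht
    have h := Helper09.AnisoExt.no_root_of_odd_finrank hodd (1 : F) c₁ (by
      intro s hs
      apply hc₁ s
      have : s * s + s + c₁ = 0 := by linear_combination hs
      exact CharTwo.add_eq_zero.1 this) t
    apply h
    rw [map_one, one_mul, pow_two, ht]
    exact CharTwo.add_self_eq_zero _
  -- `℘ L` has index 2
  let wp : L →+ L := Helper46.asMap
  have hwp : ∀ t : L, wp t = t * t + t := fun t => rfl
  have hker : Nat.card wp.ker = 2 := by
    rw [Nat.card_eq_two_iff]
    refine ⟨⟨0, map_zero wp⟩, ⟨1, ?_⟩, ?_, ?_⟩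
    · rw [AddMonoidHom.mem_ker]
      exact (Helper46.asMap_eq_zero_iff (1 : L)).2 (Or.inr rfl)
    · intro h
      exact zero_ne_one (congrArg Subtype.val h)
    · ext ⟨x, hx⟩
      simp only [Set.mem_insert_iff, Set.mem_singleton_iff, Set.mem_univ, iff_true]
      rcases (Helper46.asMap_eq_zero_iff x).1 hx with h | h
      · exact Or.inl (Subtype.ext h)
      · exact Or.inr (Subtype.ext h)
  have hidx : wp.range.index = 2 := by
    rw [AddSubgroup.index_range, hker]
  by_cases hγ : γ ∈ wp.range
  · obtain ⟨t, ht⟩ := hγ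
    refine ⟨t, 0, ?_⟩
    rw [map_zero, add_assoc, ← hwp, ht]
    exact CharTwo.add_self_eq_zero _
  · have hc : algebraMap F L c₁ ∉ wp.range := by
      rintro ⟨t, ht⟩
      exact hc₁L t ht
    obtain ⟨t, ht⟩ := (AddSubgroup.add_mem_iff_of_index_two hidx (a := γ) (b := algebraMap F L c₁)).2
      (iff_of_false hγ hc)
    refine ⟨t, c₁, ?_⟩
    rw [add_assoc, ← hwp, ht, ← add_assoc, CharTwo.add_self_eq_zero, zero_add]

/-- the same for a ring which is a field -/
theorem exists_add_wp_eq_algebraMap_of_isField {F R : Type*} [Field F] [Fintype F] [Ring R] [Algebra F R]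
    (hR : IsField R) [Finite R] (h2 : (2 : F) = 0) (hodd : Odd (finrank F R)) (γ : R) :
    ∃ (t : R) (c₀ : F), γ + t * t + t = algebraMap F R c₀ := by
  letI := hR.toField
  exact exists_add_wp_eq_algebraMap h2 hodd γ

end Cfsg.Agent.Lib.Helper79.O10m
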