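import Mathlib
import Cfsg.Prelude.Def_GeometricClasses
import Cfsg.Agent.Lib.Helper46.AschOBasic
import Cfsg.Agent.Lib.Helper42.AschOB2a
import Cfsg.Agent.Lib.Helper90.O10mY45U
import Cfsg.Agent.Lib.Helper79.O10mY4b
import Cfsg.Agent.Lib.Helper79.O10mY5a

/-!
# K-O10m-Y5, geometric part I (helper79): a self-adjoint field subalgebra `E` of odd degree `r` acting on a
quadratic space of dimension `2 r` in characteristic two: adapted coordinates `V = E v₁ ⊕ E v₂` with
`B (a v₁) v₂ = μ a`, `Q (a v₁) = μ (a²)`, `Q (b v₂) = c₀ μ (b²)`.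
-/

set_option autoImplicit false
set_option linter.unusedSectionVars false
set_option linter.unusedVariables false

namespace Cfsg.Agent.Lib.Helper79.O10m

open Cfsg Cfsg.Geo Module QuadraticMap Cfsg.Agent.Lib.Helper46.AschO
open scoped Matrix

variable {F : Type*} [Field F] [Fintype F] {n : ℕ}

local notation "V" => (Fin n → F)
local notation "Mat" => Matrix (Fin n) (Fin n) F

section char2
variable {Q : (Fin n → F) → F} (hQ : IsNondegenerateQuadraticForm Q)
  {E : Subalgebra F (Matrix (Fin n) (Fin n) F)} {r : ℕ}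
  (hE : IsFieldSubalgebra r E) (hsa : IsSelfAdjointFor (polar Q) E) (h2 : (2 : F) = 0)

theorem Q_add (Q : (Fin n → F) → F) (x y : V) : Q (x + y) = Q x + Q y + polar Q x y := by
  unfold polar
  ring

include hQ h2 in
theorem polar_self_of_char_two (x : V) : polar Q x x = 0 := by
  rw [← two_mul_Q hQ x, h2, zero_mul]

include hQ hE hsa h2 in
/-- `B (e v) v = 0` for `e ∈ E` (`e` is a square) -/
theorem polar_act_self (a : E) (v : V) : polar Q (act E a v) v = 0 := by
  obtain ⟨l, hl, hk⟩ := Cfsg.Agent.Lib.Helper90.O10m.exists_sq_of_char_two h2 E hE a a.2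
  have ha : a = (⟨l, hl⟩ : E) * ⟨l, hl⟩ := Subtype.ext hk
  rw [ha, act_mul, polar_act_left hsa]
  exact polar_self_of_char_two hQ h2 _

include hQ hE hsa h2 in
/-- every `E v` is totally isotropic -/
theorem polar_act_act (a a' : E) (v : V) : polar Q (act E a v) (act E a' v) = 0 := by
  rw [← polar_act_left hsa a', ← act_mul]
  exact polar_act_self hQ hE hsa h2 _ v

include hQ hE hsa h2 in
/-- the linearised restriction of `Q` to `E v` -/
theorem exists_sqLin (hr : 0 < r) (v : V) : ∃ ℓ : E →ₗ[F] F, ∀ a : E, ℓ (a * a) = Q (act E a v) := by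
  haveI : Finite E := Finite.of_injective (fun x : E => (x : Mat)) Subtype.val_injective
  refine exists_linear_of_sq_semilinear_of_isField (isField_of hE hr) h2 (fun a : E => Q (act E a v)) ?_ ?_
  · intro a b
    show Q (act E (a + b) v) = Q (act E a v) + Q (act E b v)
    rw [act_add, Q_add Q, polar_act_act hQ hE hsa h2, add_zero]
  · intro c a
    show Q (act E (c • a) v) = c ^ 2 * Q (act E a v)
    rw [act_smul, hQ.smul]

include hQ hE hsa h2 in
/-- adapted coordinates in characteristic two -/
theorem exists_frame_two (hn : n = 2 * r) (hodd : Odd r) :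
    ∃ (v₁ v₂ : V) (μ : E →ₗ[F] F) (c₀ : F), v₁ ≠ 0 ∧ μ 1 ≠ 0 ∧
      (∀ a : E, polar Q (act E a v₁) v₂ = μ a) ∧
      (∀ a : E, Q (act E a v₁) = μ (a * a)) ∧
      (∀ b : E, Q (act E b v₂) = c₀ * μ (b * b)) := by
  classical
  have hr : 0 < r := hodd.pos
  have hnpos : 0 < n := by omega
  haveI : NeZero n := ⟨by omega⟩
  haveI : FiniteDimensional F E := FiniteDimensional.finiteDimensional_subalgebra E
  haveI : Finite E := Finite.of_injective (fun x : E => (x : Mat)) Subtype.val_injective
  have hB := hQ.polar_bilinear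
  have hsymm : ∀ x y : V, polar Q x y = polar Q y x := fun x y => polar_comm Q x y
  have hcomm : ∀ a b : E, a * b = b * a := mul_comm_of hE
  -- a non-singular vector
  obtain ⟨v₁, hQv₁⟩ : ∃ v₁ : V, Q v₁ ≠ 0 := by
    by_contra hcon
    push Not at hcon
    have hw : (Pi.single 0 1 : V) ≠ 0 := by
      intro h
      have := congrFun h 0
      simp at this
    obtain ⟨-, y, hy⟩ := hQ.nondegenerate _ hw
    apply hy
    unfold polar
    rw [hcon, hcon, hcon]
    ring
  have hQ0 : Q 0 = 0 := by
    have := hQ.smul 0 (0 : V)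
    simpa using this
  have hv₁ : v₁ ≠ 0 := by
    intro h
    exact hQv₁ (by rw [h, hQ0])
  -- Riesz representation along `E v₁`
  let T : V →ₗ[F] (E →ₗ[F] F) := (evL E v₁).dualMap.comp (Bf Q hQ).flip
  have hT : ∀ (y : V) (a : E), T y a = polar Q (act E a v₁) y := fun y a => rfl
  have hTsurj : Function.Surjective T := by
    have h1 : Function.Surjective (Bf Q hQ).flip := by
      have hinj : Function.Injective (Bf Q hQ).flip := by
        rw [injective_iff_map_eq_zero]
        intro y hy
        by_contra hy0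
        obtain ⟨⟨x, hx⟩, -⟩ := hQ.nondegenerate y hy0
        apply hx
        have : (Bf Q hQ).flip y x = 0 := by rw [hy]; rfl
        exact this
      have hfin : finrank F V = finrank F (V →ₗ[F] F) :=
        (Subspace.dual_finrank_eq : finrank F (Module.Dual F V) = finrank F V).symm
      exact (LinearMap.injective_iff_surjective_of_finrank_eq_finrank hfin).1 hinj
    have h2' : Function.Surjective (evL E v₁).dualMap :=
      LinearMap.dualMap_surjective_of_injective (evL_injective hE hv₁)
    exact h2'.comp h1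
  obtain ⟨μ, hμ⟩ := exists_sqLin hQ hE hsa h2 hr v₁
  obtain ⟨w, hw⟩ := hTsurj μ
  have hw' : ∀ a : E, polar Q (act E a v₁) w = μ a := by
    intro a
    rw [← hT, hw]
  have hμ1 : μ 1 ≠ 0 := by
    have := hμ 1
    rw [one_mul, act_one] at this
    rw [this]
    exact hQv₁
  -- `Hom_F (E, F)` is one-dimensional over `E`
  let Λ : E →ₗ[F] (E →ₗ[F] F) := (LinearMap.mul F E).compr₂ μ
  have hΛ : ∀ s c : E, Λ s c = μ (s * c) := fun s c => rfl
  have hΛinj : Function.Injective Λ := by
    rw [injective_iff_map_eq_zero]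
    intro s hs
    by_contra hs0
    obtain ⟨y, hy⟩ := exists_inv_of hE hs0
    apply hμ1
    rw [← hy, ← hΛ, hs]
    rfl
  have hΛsurj : Function.Surjective Λ := by
    have hfin : finrank F E = finrank F (E →ₗ[F] F) :=
      (Subspace.dual_finrank_eq : finrank F (Module.Dual F E) = finrank F E).symm
    exact (LinearMap.injective_iff_surjective_of_finrank_eq_finrank hfin).1 hΛinj
  obtain ⟨ℓ₂, hℓ₂⟩ := exists_sqLin hQ hE hsa h2 hr w
  obtain ⟨γ, hγ⟩ := hΛsurj ℓ₂
  have hγ' : ∀ c : E, μ (γ * c) = ℓ₂ c := by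
    intro c
    rw [← hΛ, hγ]
  -- Artin–Schreier normalisation
  obtain ⟨t, c₀, htc⟩ := exists_add_wp_eq_algebraMap_of_isField (isField_of hE hr) h2
    (by rw [hE.finrank_eq]; exact hodd) γ
  refine ⟨v₁, w + act E t v₁, μ, c₀, hv₁, hμ1, ?_, fun a => (hμ a).symm, ?_⟩
  · intro a
    rw [hB.add_right, hw', polar_act_act hQ hE hsa h2, add_zero]
  · intro b
    have e1 : act E b (w + act E t v₁) = act E b w + act E (b * t) v₁ := by
      rw [act_add_right, ← act_mul]
    have e2 : polar Q (act E b w) (act E (b * t) v₁) = μ (b * (b * t)) := by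
      rw [hsymm, ← polar_act_left hsa b, ← act_mul, hw']
    rw [e1, Q_add Q, ← hℓ₂, ← hγ', ← hμ, e2, ← map_add, ← map_add, comm_ring_aux hcomm, htc, ← Algebra.smul_def,
      map_smul, smul_eq_mul]

end char2

end Cfsg.Agent.Lib.Helper79.O10m
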