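import Mathlib
import Cfsg.Prelude.Def_GeometricClasses
import Cfsg.Agent.Lib.Helper46.AschOBasic
import Cfsg.Agent.Lib.Helper42.AschOB2a
import Cfsg.Agent.Lib.Helper90.O10mY45U
import Cfsg.Agent.Lib.Helper79.O10mY5b

/-!
# K-O10m-Y5 (helper79, architect helper91): `O₂⁻(q^r).r ≤ GU_r(q).2`, `q` even — an Artin–Schreier element `u`
(`u² + u = c₀`, `B (u x) x = Q x`), unique up to `u ↦ u + 1`, attached to a self-adjoint field subalgebra of odd degree `r`
on a quadratic space of dimension `2 r` in characteristic two.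

With the coordinates `Ψ (a, b) = a v₁ + b v₂` of part I, `u (Ψ (a, b)) = Ψ (c₀ b, a + b)`.  Uniqueness uses
`Helper90.O10m.exists_mem_eq_mul_of_commute_alternating_gen` (with `d₀ = 1`).
-/

set_option autoImplicit false
set_option linter.unusedSectionVars false
set_option linter.unusedVariables false

namespace Cfsg.Agent.Lib.Helper79.O10m

open Cfsg Cfsg.Geo Module QuadraticMap Cfsg.Agent.Lib.Helper46.AschO
open scoped Matrix

variable {F : Type*} [Field F] [Fintype F] {n : ℕ}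

local notation "V" => (Fin n → F)
local notation "Mat" => Matrix (Fin n) (Fin n) F

/-- general form of K-O10m-Y5: `n = 2 r`, `r` odd. -/
theorem exists_artinSchreier_of_field_odd (h2 : (2 : F) = 0) (Q : (Fin n → F) → F) (hQ : IsNondegenerateQuadraticForm Q)
    (E : Subalgebra F (Matrix (Fin n) (Fin n) F)) {r : ℕ} (hE : IsFieldSubalgebra r E)
    (hn : n = 2 * r) (hodd : Odd r) (hsa : IsSelfAdjointFor (QuadraticMap.polar Q) E) :
    ∃ (u : Matrix (Fin n) (Fin n) F) (c₀ : F), u * u + u = c₀ • (1 : Matrix (Fin n) (Fin n) F) ∧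
      (∀ x : Fin n → F, QuadraticMap.polar Q (u *ᵥ x) x = Q x) ∧
      (∀ g ∈ subalgebraNormalizer E ⊓ isometryGroup F Q,
        (g : Matrix (Fin n) (Fin n) F) * u * ((g⁻¹ : GL (Fin n) F) : Matrix (Fin n) (Fin n) F) = u ∨
        (g : Matrix (Fin n) (Fin n) F) * u * ((g⁻¹ : GL (Fin n) F) : Matrix (Fin n) (Fin n) F) = u + 1) := by
  classical
  have hr : 0 < r := hodd.pos
  haveI : NeZero n := ⟨by omega⟩
  haveI : FiniteDimensional F E := FiniteDimensional.finiteDimensional_subalgebra E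
  obtain ⟨v₁, v₂, μ, c₀, hv₁, hμ1, hμB, hμQ₁, hμQ₂⟩ := exists_frame_two hQ hE hsa h2 hn hodd
  have hcomm : ∀ a b : E, a * b = b * a := mul_comm_of hE
  have hsymm : ∀ x y : V, polar Q x y = polar Q y x := fun x y => polar_comm Q x y
  have hB := hQ.polar_bilinear
  have hEadd : ∀ x : E, x + x = 0 := by
    intro x
    rw [← two_smul F x, h2, zero_smul]
  have hFadd : ∀ x : F, x + x = 0 := by
    intro x
    rw [← two_mul, h2, zero_mul]
  have hMadd : ∀ M : Mat, M + M = 0 := by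
    intro M
    rw [← two_smul F M, h2, zero_smul]
  have hnd : ∀ s : E, (∀ c : E, μ (s * c) = 0) → s = 0 := by
    intro s hs
    by_contra hs0
    obtain ⟨y, hy⟩ := exists_inv_of hE hs0
    apply hμ1
    rw [← hy]
    exact hs y
  have hB11 : ∀ a a' : E, polar Q (act E a v₁) (act E a' v₁) = 0 := fun a a' =>
    polar_act_act hQ hE hsa h2 a a' v₁
  have hB22 : ∀ b b' : E, polar Q (act E b v₂) (act E b' v₂) = 0 := fun b b' =>
    polar_act_act hQ hE hsa h2 b b' v₂
  have hB12 : ∀ a b' : E, polar Q (act E a v₁) (act E b' v₂) = μ (b' * a) := by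
    intro a b'
    rw [← polar_act_left hsa b', ← act_mul, hμB]
  have hB21 : ∀ b a' : E, polar Q (act E b v₂) (act E a' v₁) = μ (b * a') := by
    intro b a'
    rw [hsymm, hB12]
  -- coordinates
  let Ψ₀ : E × E →ₗ[F] V := (evL E v₁).coprod (evL E v₂)
  have hΨ₀ : ∀ a b : E, Ψ₀ (a, b) = act E a v₁ + act E b v₂ := fun a b => rfl
  have hBΨ : ∀ a b a' b' : E, polar Q (Ψ₀ (a, b)) (Ψ₀ (a', b')) = μ (b' * a) + μ (b * a') := by
    intro a b a' b'
    rw [hΨ₀, hΨ₀, hB.add_left, hB.add_right, hB.add_right, hB11, hB12, hB21, hB22]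
    ring
  have hQΨ : ∀ a b : E, Q (Ψ₀ (a, b)) = μ (a * a) + c₀ * μ (b * b) + μ (b * a) := by
    intro a b
    rw [hΨ₀, Q_add Q, hμQ₁, hμQ₂, hB12]
  have hΨinj : Function.Injective Ψ₀ := by
    rw [injective_iff_map_eq_zero]
    rintro ⟨a, b⟩ hab
    have hb : b = 0 := by
      apply hnd
      intro c
      have h1 := hBΨ a b c 0
      rw [hab, zero_mul, map_zero, zero_add] at h1
      rw [← h1]
      have := hB.smul_left 0 (0 : V) (Ψ₀ (c, 0))
      simpa using this
    subst hb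
    rw [hΨ₀, act_zero, add_zero] at hab
    have ha : a = 0 := by
      by_contra ha0
      exact hv₁ (act_eq_zero hE ha0 hab)
    rw [ha]
    rfl
  have hdim : finrank F (E × E) = finrank F V := by
    rw [Module.finrank_prod, hE.finrank_eq, Module.finrank_fin_fun, hn]
    ring
  let Ψ : (E × E) ≃ₗ[F] V := LinearEquiv.ofInjectiveOfFinrankEq Ψ₀ hΨinj hdim
  have hΨ : ∀ p : E × E, Ψ p = Ψ₀ p := fun p => rfl
  have hΨact : ∀ (e a b : E), act E e (Ψ (a, b)) = Ψ (e * a, e * b) := by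
    intro e a b
    rw [hΨ, hΨ, hΨ₀, hΨ₀, act_add_right, ← act_mul, ← act_mul]
  -- the operator `u`
  let τ : E × E →ₗ[F] E × E :=
    LinearMap.prod (c₀ • LinearMap.snd F E E) (LinearMap.fst F E E + LinearMap.snd F E E)
  have hτ : ∀ a b : E, τ (a, b) = (c₀ • b, a + b) := fun a b => rfl
  let ul : V →ₗ[F] V := Ψ.toLinearMap ∘ₗ τ ∘ₗ Ψ.symm.toLinearMap
  let u : Mat := LinearMap.toMatrix' ul
  have hu : ∀ x : V, u *ᵥ x = ul x := by
    intro x
    rw [← Matrix.toLin'_apply, Matrix.toLin'_toMatrix']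
  have huΨ : ∀ a b : E, u *ᵥ Ψ (a, b) = Ψ (c₀ • b, a + b) := by
    intro a b
    rw [hu]
    show Ψ (τ (Ψ.symm (Ψ (a, b)))) = _
    rw [LinearEquiv.symm_apply_apply, hτ]
  have huu : u * u + u = c₀ • (1 : Mat) := by
    apply Matrix.mulVec_injective
    funext x
    obtain ⟨⟨a, b⟩, rfl⟩ := Ψ.surjective x
    rw [Matrix.add_mulVec, ← Matrix.mulVec_mulVec, huΨ, huΨ, Matrix.smul_mulVec, Matrix.one_mulVec, ← map_add,
      ← map_smul]
    congr 1
    rw [Prod.mk_add_mk, Prod.smul_mk, smul_add]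
    congr 1
    · rw [add_assoc, hEadd, add_zero]
    · rw [add_assoc, hEadd, add_zero]
  have huQ : ∀ x : V, polar Q (u *ᵥ x) x = Q x := by
    intro x
    obtain ⟨⟨a, b⟩, rfl⟩ := Ψ.surjective x
    rw [huΨ, hΨ, hΨ, hBΨ, hQΨ, mul_smul_comm, map_smul, smul_eq_mul, add_mul, map_add]
    ring
  have huE : ∀ e : E, u * (e : Mat) = (e : Mat) * u := by
    intro e
    apply Matrix.mulVec_injective
    funext x
    obtain ⟨⟨a, b⟩, rfl⟩ := Ψ.surjective x
    rw [← Matrix.mulVec_mulVec, ← Matrix.mulVec_mulVec, huΨ]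
    show u *ᵥ act E e (Ψ (a, b)) = act E e (Ψ (c₀ • b, a + b))
    rw [hΨact, huΨ, hΨact, mul_smul_comm, mul_add]
  refine ⟨u, c₀, huu, huQ, ?_⟩
  -- uniqueness up to `u ↦ u + 1`
  rintro g ⟨hgN, hgI⟩
  have hgi : ((g : GL (Fin n) F) : Mat) * ((g⁻¹ : GL (Fin n) F) : Mat) = 1 := by
    rw [← Units.val_mul, mul_inv_cancel, Units.val_one]
  have hig : ((g⁻¹ : GL (Fin n) F) : Mat) * ((g : GL (Fin n) F) : Mat) = 1 := by
    rw [← Units.val_mul, inv_mul_cancel, Units.val_one]
  set G : Mat := (g : Mat) with hG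
  set Gi : Mat := ((g⁻¹ : GL (Fin n) F) : Mat) with hGi
  obtain ⟨A, hA⟩ : ∃ A : Mat, A = G * u * Gi := ⟨_, rfl⟩
  rw [← hA]
  have hgQ : ∀ x : V, Q (G *ᵥ x) = Q x := (mem_isometryGroup_iff Q g).1 hgI
  have hgB : ∀ x y : V, polar Q (G *ᵥ x) (G *ᵥ y) = polar Q x y := by
    intro x y
    unfold polar
    rw [← Matrix.mulVec_add, hgQ, hgQ, hgQ]
  have hGGi : ∀ x : V, G *ᵥ (Gi *ᵥ x) = x := by
    intro x
    rw [Matrix.mulVec_mulVec, hgi, Matrix.one_mulVec]
  -- `A` commutes with `E`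
  have hAE : ∀ e : E, A * (e : Mat) = (e : Mat) * A := by
    intro e
    have he' : Gi * (e : Mat) * G ∈ E := by
      have h1 := (hgN (Gi * (e : Mat) * G)).2
      apply h1
      have : G * (Gi * (e : Mat) * G) * Gi = (e : Mat) := by
        calc G * (Gi * (e : Mat) * G) * Gi = (G * Gi) * (e : Mat) * (G * Gi) := by
              simp only [mul_assoc]
          _ = (e : Mat) := by rw [hgi, one_mul, mul_one]
      rw [this]
      exact e.2
    have h2' := huE ⟨_, he'⟩
    simp only at h2'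
    calc A * (e : Mat) = G * (u * (Gi * (e : Mat) * G)) * Gi := by
          rw [hA]
          simp only [mul_assoc]
          rw [hgi, mul_one]
      _ = G * ((Gi * (e : Mat) * G) * u) * Gi := by rw [h2']
      _ = (G * Gi) * (e : Mat) * (G * u * Gi) := by simp only [mul_assoc]
      _ = (e : Mat) * A := by rw [hgi, one_mul, hA]
  have hAQ : ∀ x : V, polar Q (A *ᵥ x) x = Q x := by
    intro x
    have e1 : A *ᵥ x = G *ᵥ (u *ᵥ (Gi *ᵥ x)) := by
      rw [hA, Matrix.mulVec_mulVec, Matrix.mulVec_mulVec, mul_assoc]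
    calc polar Q (A *ᵥ x) x = polar Q (G *ᵥ (u *ᵥ (Gi *ᵥ x))) (G *ᵥ (Gi *ᵥ x)) := by rw [e1, hGGi]
      _ = polar Q (u *ᵥ (Gi *ᵥ x)) (Gi *ᵥ x) := hgB _ _
      _ = Q (Gi *ᵥ x) := huQ _
      _ = Q (G *ᵥ (Gi *ᵥ x)) := (hgQ _).symm
      _ = Q x := by rw [hGGi]
  have hAA : A * A + A = c₀ • (1 : Mat) := by
    calc A * A + A = G * (u * ((Gi * G) * u)) * Gi + G * u * Gi := by
          rw [hA]
          simp only [mul_assoc]
      _ = G * (u * u + u) * Gi := by rw [hig, one_mul, mul_add, add_mul]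
      _ = c₀ • (1 : Mat) := by
          rw [huu, Matrix.mul_smul, Matrix.smul_mul, mul_one, hgi]
  -- the difference `d = A + u` is an element of `E`
  obtain ⟨s, hsE, hds⟩ := Cfsg.Agent.Lib.Helper90.O10m.exists_mem_eq_mul_of_commute_alternating_gen Q hQ E hE hsa hr hn
    (1 : Mat) (A + u)
    (fun e _ => by rw [mul_one, one_mul])
    (fun e he => by
      have h1 := hAE ⟨e, he⟩
      have h3 := huE ⟨e, he⟩
      simp only at h1 h3
      rw [mul_add, add_mul, h1, h3])
    (fun x => by rw [Matrix.one_mulVec]; exact polar_self_of_char_two hQ h2 x)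
    (fun x => by rw [Matrix.add_mulVec, hB.add_left, hAQ, huQ]; exact hFadd _)
    one_ne_zero
  rw [mul_one] at hds
  have hAus : A = u + s := by
    calc A = A + (u + u) := by rw [hMadd, add_zero]
      _ = (A + u) + u := by rw [add_assoc]
      _ = u + s := by rw [hds, add_comm]
  have hus : u * s = s * u := huE ⟨s, hsE⟩
  have hss : s * (s + 1) = 0 := by
    have h1 : A * A + A = (u * u + u) + (s * s + s) + (s * u + s * u) := by
      rw [hAus, mul_add, add_mul, add_mul, hus]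
      abel
    rw [hAA, huu, hMadd, add_zero] at h1
    have h3 : s * s + s = 0 := by
      have := congrArg (fun M => c₀ • (1 : Mat) + M) h1
      rw [hMadd, ← add_assoc, hMadd, zero_add] at this
      exact this.symm
    rw [mul_add, mul_one]
    exact h3
  rcases Cfsg.Agent.Lib.Helper42.AschO.eq_zero_of_mul_eq_zero hE hsE hss with h | h
  · left
    rw [hAus, h, add_zero]
  · right
    have hs1 : s = 1 := by
      calc s = s + ((1 : Mat) + 1) := by rw [hMadd, add_zero]
        _ = (s + 1) + 1 := by rw [add_assoc]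
        _ = 1 := by rw [h, zero_add]
    rw [hAus, hs1]

/-- **K-O10m-Y5.** -/
theorem exists_artinSchreier_of_field_five (h2 : (2 : F) = 0) (Q : (Fin 10 → F) → F) (hQ : IsNondegenerateQuadraticForm Q)
    (E : Subalgebra F (Matrix (Fin 10) (Fin 10) F)) (hE : IsFieldSubalgebra 5 E)
    (hsa : IsSelfAdjointFor (QuadraticMap.polar Q) E) :
    ∃ (u : Matrix (Fin 10) (Fin 10) F) (c₀ : F), u * u + u = c₀ • (1 : Matrix (Fin 10) (Fin 10) F) ∧
      (∀ x : Fin 10 → F, QuadraticMap.polar Q (u *ᵥ x) x = Q x) ∧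
      (∀ g ∈ subalgebraNormalizer E ⊓ isometryGroup F Q,
        (g : Matrix (Fin 10) (Fin 10) F) * u * ((g⁻¹ : GL (Fin 10) F) : Matrix (Fin 10) (Fin 10) F) = u ∨
        (g : Matrix (Fin 10) (Fin 10) F) * u * ((g⁻¹ : GL (Fin 10) F) : Matrix (Fin 10) (Fin 10) F) = u + 1) :=
  exists_artinSchreier_of_field_odd h2 Q hQ E hE (by norm_num) (by decide) hsa

end Cfsg.Agent.Lib.Helper79.O10m
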