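import Cfsg.Agent.Lib.Helper69.OPbDefs
import Cfsg.Agent.Lib.Helper50.PlusForm
import Cfsg.Prelude.Def_GeometricClasses

/-!
# K-OPb-19 (keystone 598919, architect helper69): `case_card`, the concrete form of LEAF 14

`case_card_of`: LEAF 19 with the facts of LEAVES 0, 14, 15 it uses taken as hypotheses (instantiated at
`V = Fin d ⊕ Fin d → F`, `B = polarBilin (QPlus d F)`), so that this file depends on nothing undelivered.
The exact spec signature `case_card` is in `OPb19Final.lean` (imports the delivered leaves).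
-/

set_option autoImplicit false

namespace Cfsg.Agent.Lib.Helper79.OPb

open Module Cfsg.Agent.Lib.Helper98.Sy Cfsg.Agent.Lib.Helper98.Oh
  Cfsg.Agent.Lib.Helper69.OPb

universe u
variable {F : Type u} [Field F]

/-- LEAF 19 from its inputs: `h15a`, `h15b` = LEAF 15 (`nonDeg_polarBilin_iff`, `isoCls_polarBilin_iff`), `h0` = LEAF 0
(`isoCls_finrank`), `h14` = LEAF 14 (`mod_lt_of_dvd_card`) applied to `V = Fin d ⊕ Fin d → F`, `B = polarBilin (QPlus d F)`. -/
theorem case_card_of [Fintype F] (d m : ℕ)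
    (W₀ : Submodule F (Fin d ⊕ Fin d → F))
    (hW₀ : Module.finrank F ↥W₀ = m ∧
      Cfsg.Geo.IsNondegenerateOn (QuadraticMap.polar (Cfsg.quadFormPlus d F)) W₀)
    (r : ℕ)
    (h15a : ∀ W : Submodule F (Fin d ⊕ Fin d → F),
      NonDeg (QuadraticMap.polarBilin (Cfsg.Agent.Lib.Helper50.QPlus d F)) W ↔
        Cfsg.Geo.IsNondegenerateOn (QuadraticMap.polar (Cfsg.quadFormPlus d F)) W)
    (h15b : ∀ W W' : Submodule F (Fin d ⊕ Fin d → F),
      IsoCls (QuadraticMap.polarBilin (Cfsg.Agent.Lib.Helper50.QPlus d F)) W W' ↔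
        Cfsg.Geo.AreIsometricFor (Cfsg.quadFormPlus d F) W W')
    (h0 : ∀ W W' : Submodule F (Fin d ⊕ Fin d → F),
      IsoCls (QuadraticMap.polarBilin (Cfsg.Agent.Lib.Helper50.QPlus d F)) W W' → finrank F W = finrank F W')
    (h14 : NonDeg (QuadraticMap.polarBilin (Cfsg.Agent.Lib.Helper50.QPlus d F)) W₀ → finrank F W₀ = m →
      r ∣ Nat.card {W : Submodule F (Fin d ⊕ Fin d → F) //
        NonDeg (QuadraticMap.polarBilin (Cfsg.Agent.Lib.Helper50.QPlus d F)) W ∧
        IsoCls (QuadraticMap.polarBilin (Cfsg.Agent.Lib.Helper50.QPlus d F)) W W₀} →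
      finrank F (Fin d ⊕ Fin d → F) % cOf (orderOf ((Fintype.card F : ℕ) : ZMod r)) ≤ m)
    (hrΩ : r ∣ Nat.card {W : Submodule F (Fin d ⊕ Fin d → F) // Module.finrank F ↥W = m ∧ Cfsg.Geo.IsNondegenerateOn (QuadraticMap.polar (Cfsg.quadFormPlus d F)) W ∧ Cfsg.Geo.AreIsometricFor (Cfsg.quadFormPlus d F) W W₀}) :
    (2 * d) % cOf (orderOf ((Fintype.card F : ℕ) : ZMod r)) ≤ m := by
  classical
  have hW₀nd : NonDeg (QuadraticMap.polarBilin (Cfsg.Agent.Lib.Helper50.QPlus d F)) W₀ := (h15a W₀).mpr hW₀.2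
  have hcard : Nat.card {W : Submodule F (Fin d ⊕ Fin d → F) // Module.finrank F ↥W = m ∧ Cfsg.Geo.IsNondegenerateOn (QuadraticMap.polar (Cfsg.quadFormPlus d F)) W ∧ Cfsg.Geo.AreIsometricFor (Cfsg.quadFormPlus d F) W W₀} =
      Nat.card {W : Submodule F (Fin d ⊕ Fin d → F) //
        NonDeg (QuadraticMap.polarBilin (Cfsg.Agent.Lib.Helper50.QPlus d F)) W ∧
        IsoCls (QuadraticMap.polarBilin (Cfsg.Agent.Lib.Helper50.QPlus d F)) W W₀} := by
    apply Nat.card_congr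
    apply Equiv.subtypeEquivRight
    intro W
    constructor
    · rintro ⟨-, hnd, hiso⟩
      exact ⟨(h15a W).mpr hnd, (h15b W W₀).mpr hiso⟩
    · rintro ⟨hnd, hiso⟩
      exact ⟨(h0 W W₀ hiso).trans hW₀.1, (h15a W).mp hnd, (h15b W W₀).mp hiso⟩
  rw [hcard] at hrΩ
  have key := h14 hW₀nd hW₀.1 hrΩ
  have hfin : finrank F (Fin d ⊕ Fin d → F) = 2 * d := by
    rw [Module.finrank_fintype_fun_eq_card, Fintype.card_sum, Fintype.card_fin]
    ring
  rwa [hfin] at key

end Cfsg.Agent.Lib.Helper79.OPb
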