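import Mathlib

/-!
# Pack K-OTF (S3999) leaf 399908 NS5a: `SL(2,5)` has order 120 and exactly 24 elements of order 5.
-/

set_option autoImplicit false
set_option maxRecDepth 100000

namespace Cfsg.Agent.Lib.Helper79.OTF

theorem otf_card_sl25 : Fintype.card (Matrix.SpecialLinearGroup (Fin 2) (ZMod 5)) = 120 := by
  decide +kernel

theorem otf_card_ord5 :
    Fintype.card {x : Matrix.SpecialLinearGroup (Fin 2) (ZMod 5) // x ^ 5 = 1 ∧ x ≠ 1} = 24 := by
  decide +kernel

theorem sl25_card_order_five :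
    Nat.card {x : Matrix.SpecialLinearGroup (Fin 2) (ZMod 5) // orderOf x = 5} = 24 ∧
      Nat.card (Matrix.SpecialLinearGroup (Fin 2) (ZMod 5)) = 120 := by
  haveI : Fact (Nat.Prime 5) := ⟨by norm_num⟩
  constructor
  · have h : ∀ x : Matrix.SpecialLinearGroup (Fin 2) (ZMod 5),
        orderOf x = 5 ↔ x ^ 5 = 1 ∧ x ≠ 1 := fun x => orderOf_eq_prime_iff
    rw [Nat.card_congr (Equiv.subtypeEquivRight h), Nat.card_eq_fintype_card]
    exact otf_card_ord5
  · rw [Nat.card_eq_fintype_card]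
    exact otf_card_sl25

end Cfsg.Agent.Lib.Helper79.OTF
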