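import Mathlib

/-!
# Pack K-OTF (S3999) leaf NS5b, core: a group with the `SL(2,5) × M` structure has `5`-part `5`
and exactly 24 elements of order 5 (the count in `SL(2,5)` is taken as a hypothesis here).
-/

set_option autoImplicit false

namespace Cfsg.Agent.Lib.Helper79.OTF

/-- elements of prime order `p` lie in every normal subgroup of index prime to `p` -/
theorem otf_mem_of_order {G : Type*} [Group G] [Finite G] (K : Subgroup G) [K.Normal] {p : ℕ}
    (hp : p.Prime) (hpi : ¬ p ∣ K.index) (g : G) (hg : orderOf g = p) : g ∈ K := by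
  rw [← QuotientGroup.eq_one_iff]
  have h1 : orderOf (g : G ⧸ K) ∣ p := by
    apply orderOf_dvd_of_pow_eq_one
    rw [← QuotientGroup.mk_pow, ← hg, pow_orderOf_eq_one, QuotientGroup.mk_one]
  have h2 : orderOf (g : G ⧸ K) ∣ K.index := by
    rw [Subgroup.index_eq_card]
    exact orderOf_dvd_natCard _
  rcases (Nat.dvd_prime hp).1 h1 with h | h
  · exact orderOf_eq_one_iff.1 h
  · rw [h] at h2
    exact absurd h2 hpi

theorem otf_ns5b_core {C : Type*} [Group C] [Finite C]
    (n24 : Nat.card {x : Matrix.SpecialLinearGroup (Fin 2) (ZMod 5) // orderOf x = 5} = 24)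
    (c120 : Nat.card (Matrix.SpecialLinearGroup (Fin 2) (ZMod 5)) = 120)
    (h : ∃ G₀ : Subgroup C, G₀.Normal ∧ (G₀.index = 1 ∨ G₀.index = 2) ∧
      ∃ S M : Subgroup C, S ⊔ M = G₀ ∧ S ⊓ M = ⊥ ∧ (∀ s ∈ S, ∀ x ∈ M, s * x = x * s) ∧
        Nonempty (S ≃* Matrix.SpecialLinearGroup (Fin 2) (ZMod 5)) ∧
        (∀ (p : ℕ) [Fact p.Prime] (P : Sylow p M), IsCyclic P) ∧ (Nat.card M).Coprime 30) :
    (Nat.card C).factorization 5 = 1 ∧ Nat.card {x : C // orderOf x = 5} = 24 := by
  obtain ⟨G₀, hG₀n, hidx, S, M, hsup, hinf, hcomm, ⟨e⟩, _, hcop⟩ := h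
  haveI := hG₀n
  have h5M : ¬ 5 ∣ Nat.card M := by
    intro h5
    have : 5 ∣ Nat.gcd (Nat.card M) 30 := Nat.dvd_gcd h5 (by norm_num)
    rw [hcop] at this
    norm_num at this
  -- the product map
  let φ : S × M →* C := MonoidHom.noncommCoprod S.subtype M.subtype
    (fun s y => hcomm s s.2 y y.2)
  have hφinj : Function.Injective φ := by
    refine (MonoidHom.noncommCoprod_injective S.subtype M.subtype
      (fun s y => hcomm s s.2 y y.2)).2 ⟨S.subtype_injective, M.subtype_injective, ?_⟩
    rw [Subgroup.range_subtype, Subgroup.range_subtype]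
    exact disjoint_iff.2 hinf
  have hφrange : φ.range = G₀ := by
    have := MonoidHom.noncommCoprod_range S.subtype M.subtype (fun s y => hcomm s s.2 y y.2)
    rw [Subgroup.range_subtype, Subgroup.range_subtype, hsup] at this
    exact this
  have hcardS : Nat.card S = 120 := by rw [Nat.card_congr e.toEquiv, c120]
  have hcardG₀ : Nat.card G₀ = 120 * Nat.card M := by
    rw [← hφrange, ← Nat.card_congr (MonoidHom.ofInjective hφinj).toEquiv, Nat.card_prod, hcardS]
  have hcardC : Nat.card C = 5 * (24 * Nat.card M * G₀.index) := by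
    rw [← Subgroup.card_mul_index G₀, hcardG₀]
    ring
  have hi5 : ¬ 5 ∣ G₀.index := by
    rcases hidx with h | h <;> rw [h] <;> norm_num
  constructor
  · -- the 5-part
    have hnd : ¬ 5 ∣ 24 * Nat.card M * G₀.index := by
      intro hd
      have hp5 : Nat.Prime 5 := by norm_num
      rcases (hp5.dvd_mul).1 hd with hd1 | hd1
      · rcases (hp5.dvd_mul).1 hd1 with hd2 | hd2
        · norm_num at hd2
        · exact h5M hd2
      · exact hi5 hd1
    have hne : 24 * Nat.card M * G₀.index ≠ 0 := by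
      intro h0
      rw [h0] at hnd
      exact hnd (dvd_zero 5)
    rw [hcardC, Nat.factorization_mul (by norm_num) hne]
    simp only [Finsupp.coe_add, Pi.add_apply]
    rw [Nat.Prime.factorization_self (by norm_num), Nat.factorization_eq_zero_of_not_dvd hnd]
  · -- the count
    have hsurj : ∀ x : C, orderOf x = 5 → ∃ s : S, orderOf s = 5 ∧ (s : C) = x := by
      intro x hx
      have hxG : x ∈ G₀ := otf_mem_of_order G₀ (by norm_num) hi5 x hx
      rw [← hφrange] at hxG
      obtain ⟨⟨s, y⟩, hsy⟩ := hxG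
      have hsy' : (s : C) * (y : C) = x := by
        rw [← hsy]
        rfl
      have hcm : Commute (s : C) (y : C) := hcomm s s.2 y y.2
      have hx5 : x ^ 5 = 1 := by rw [← hx]; exact pow_orderOf_eq_one x
      rw [← hsy', hcm.mul_pow] at hx5
      have hs5 : (s : C) ^ 5 ∈ S ⊓ M := by
        refine ⟨S.pow_mem s.2 5, ?_⟩
        have : (s : C) ^ 5 = ((y : C) ^ 5)⁻¹ := eq_inv_of_mul_eq_one_left hx5
        rw [this]
        exact M.inv_mem (M.pow_mem y.2 5)
      rw [hinf, Subgroup.mem_bot] at hs5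
      rw [hs5, one_mul] at hx5
      have hy1 : (y : C) = 1 := by
        have h1 : orderOf (y : C) ∣ 5 := orderOf_dvd_of_pow_eq_one hx5
        have h2 : orderOf (y : C) ∣ Nat.card M := by
          rw [Subgroup.orderOf_coe]
          exact orderOf_dvd_natCard y
        rcases (Nat.dvd_prime (by norm_num : Nat.Prime 5)).1 h1 with h | h
        · exact orderOf_eq_one_iff.1 h
        · rw [h] at h2
          exact absurd h2 h5M
      refine ⟨s, ?_, ?_⟩
      · rw [← Subgroup.orderOf_coe, ← hx, ← hsy', hy1, mul_one]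
      · rw [← hsy', hy1, mul_one]
    have e1 : {s : S // orderOf s = 5} ≃ {x : C // orderOf x = 5} := by
      refine Equiv.ofBijective
        (fun s => ⟨(s.1 : C), by rw [Subgroup.orderOf_coe]; exact s.2⟩) ⟨?_, ?_⟩
      · intro s t hst
        apply Subtype.ext
        apply Subtype.ext
        exact congrArg (fun z : {x : C // orderOf x = 5} => (z : C)) hst
      · intro x
        obtain ⟨s, hs, hsx⟩ := hsurj x.1 x.2
        exact ⟨⟨s, hs⟩, Subtype.ext hsx⟩
    have e2 : {s : S // orderOf s = 5} ≃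
        {t : Matrix.SpecialLinearGroup (Fin 2) (ZMod 5) // orderOf t = 5} :=
      e.toEquiv.subtypeEquiv (fun s => by
        rw [MulEquiv.toEquiv_eq_coe, MulEquiv.coe_toEquiv, MulEquiv.orderOf_eq])
    rw [← Nat.card_congr e1, Nat.card_congr e2, n24]

end Cfsg.Agent.Lib.Helper79.OTF
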