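import Mathlib
import Cfsg.Prelude.Def_Blocks
import Cfsg.Agent.Lib.Helper78.PDDefs
import Cfsg.Agent.Lib.Helper86.CD3Z
import Cfsg.Agent.Lib.Helper83.Quotient
import Cfsg.Agent.Lib.Helper83.Orthogonality

/-!
# S4466 pack K-PD leaf DEG2: a finite simple group of non-prime order has no irreducible
character of degree 2.
-/

set_option autoImplicit false

namespace Cfsg.Agent.Lib.Helper79.PD

open Cfsg Cfsg.Agent.Lib.Helper78.PD

universe u

/-- a 2×2 involutive matrix of determinant one has squared trace four -/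
theorem pd_trace_sq (M : Matrix (Fin 2) (Fin 2) ℂ) (h2 : M * M = 1) (hd : M.det = 1) :
    M.trace ^ 2 = 4 := by
  have e00 := congrFun (congrFun h2 0) 0
  have e11 := congrFun (congrFun h2 1) 1
  simp only [Matrix.mul_apply, Fin.sum_univ_two, Matrix.one_apply_eq] at e00 e11
  rw [Matrix.det_fin_two] at hd
  rw [Matrix.trace_fin_two]
  linear_combination e00 + e11 + 2 * hd

theorem no_degree_two {G : Type u} [Group G] [Finite G] [IsSimpleGroup G]
    (hnp : ¬ (Nat.card G).Prime) (χ : IrrCharacter G) : charDegree (χ : G → ℂ) ≠ 2 := by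
  intro hdeg
  haveI := Fintype.ofFinite G
  -- G is nonabelian
  have hnonab : ¬ ∀ a b : G, a * b = b * a := by
    intro hab
    letI : CommGroup G := { ‹Group G› with mul_comm := hab }
    exact hnp (IsSimpleGroup.prime_card)
  -- the centre is trivial
  have hZ : Subgroup.center G = ⊥ := by
    rcases (Subgroup.Normal.eq_bot_or_eq_top (inferInstance : (Subgroup.center G).Normal)) with h | h
    · exact h
    · exfalso
      apply hnonab
      intro a b
      have hb : b ∈ Subgroup.center G := by rw [h]; exact Subgroup.mem_top b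
      exact (Subgroup.mem_center_iff.1 hb a)
  obtain ⟨χ, hχ⟩ := χ
  have hχ' := hχ
  obtain ⟨n, ρ, hirr, rfl⟩ := hχ
  simp only at hdeg
  have h1 : ρ.character 1 = (n : ℂ) := by
    rw [Representation.char_one]
    simp
  have hn : n = 2 := by
    rw [← hdeg]
    unfold charDegree
    rw [h1]
    simp
  subst hn
  -- an involution
  have h2dvd : 2 ∣ Nat.card G := by
    have := Cfsg.Agent.Lib.Helper83.irr_charDegree_dvd_card (⟨ρ.character, hχ'⟩ : IrrCharacter G)
    simp only at this
    rwa [hdeg] at this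
  haveI : Fact (Nat.Prime 2) := ⟨Nat.prime_two⟩
  obtain ⟨t, ht⟩ := exists_prime_orderOf_dvd_card' 2 h2dvd
  have htt : t * t = 1 := by
    have := pow_orderOf_eq_one t
    rw [ht, pow_two] at this
    exact this
  have ht1 : t ≠ 1 := by
    intro h
    rw [h, orderOf_one] at ht
    omega
  -- the determinant character is trivial
  let φ : G →* ℂ := (LinearMap.det : ((Fin 2 → ℂ) →ₗ[ℂ] (Fin 2 → ℂ)) →* ℂ).comp ρ
  have hφ : ∀ g : G, φ g = 1 := by
    have hker : (MonoidHom.ker φ) = ⊤ := by
      rcases (Subgroup.Normal.eq_bot_or_eq_top (inferInstance : (MonoidHom.ker φ).Normal)) with h | h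
      · exfalso
        apply hnonab
        intro a b
        have hmem : a * b * a⁻¹ * b⁻¹ ∈ MonoidHom.ker φ := by
          rw [MonoidHom.mem_ker]
          have ha : φ a * φ a⁻¹ = 1 := by rw [← map_mul, mul_inv_cancel, map_one]
          have hb : φ b * φ b⁻¹ = 1 := by rw [← map_mul, mul_inv_cancel, map_one]
          rw [map_mul, map_mul, map_mul]
          calc φ a * φ b * φ a⁻¹ * φ b⁻¹ = (φ a * φ a⁻¹) * (φ b * φ b⁻¹) := by ring
            _ = 1 := by rw [ha, hb, one_mul]
        rw [h, Subgroup.mem_bot] at hmem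
        have : a * b = (a * b * a⁻¹ * b⁻¹) * (b * a) := by group
        rw [this, hmem, one_mul]
      · exact h
    intro g
    have : g ∈ MonoidHom.ker φ := by rw [hker]; exact Subgroup.mem_top g
    exact MonoidHom.mem_ker.1 this
  -- the matrix of ρ t
  set B := Pi.basisFun ℂ (Fin 2) with hB
  set M : Matrix (Fin 2) (Fin 2) ℂ := LinearMap.toMatrix B B (ρ t) with hM
  have hMM : M * M = 1 := by
    rw [hM, ← LinearMap.toMatrix_mul, ← map_mul, htt, map_one, LinearMap.toMatrix_one]
  have hdet : M.det = 1 := by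
    rw [hM, LinearMap.det_toMatrix]
    exact hφ t
  have htr : M.trace = ρ.character t := by
    rw [hM, ← LinearMap.trace_eq_matrix_trace]
    rfl
  have hsq : ρ.character t ^ 2 = 4 := by
    rw [← htr]
    exact pd_trace_sq M hMM hdet
  have hnorm : ‖ρ.character t‖ = ((2 : ℕ) : ℝ) := by
    have h : ‖ρ.character t‖ ^ 2 = 2 ^ 2 := by
      rw [← norm_pow, hsq]
      norm_num
    have := (sq_eq_sq₀ (norm_nonneg _) (by norm_num : (0:ℝ) ≤ 2)).1 h
    rw [this]
    norm_num
  -- faithfulness
  have hfaith : ∀ g : G, ρ.character g = ρ.character 1 → g = 1 := by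
    rcases (Subgroup.Normal.eq_bot_or_eq_top (inferInstance : (MonoidHom.ker ρ).Normal)) with h | h
    · intro g hg
      rw [Cfsg.Agent.Lib.Helper83.rep_char_eq_one_iff] at hg
      have : g ∈ MonoidHom.ker ρ := MonoidHom.mem_ker.2 hg
      rw [h] at this
      exact Subgroup.mem_bot.1 this
    · exfalso
      have hall : ∀ g : G, ρ.character g = 2 := by
        intro g
        have : g ∈ MonoidHom.ker ρ := by rw [h]; exact Subgroup.mem_top g
        have hg : ρ g = 1 := MonoidHom.mem_ker.1 this
        have := (Cfsg.Agent.Lib.Helper83.rep_char_eq_one_iff ρ g).2 hg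
        rw [this, h1]
        norm_num
      have hinner := Cfsg.Agent.Lib.Helper83.irr_inner_self (⟨ρ.character, hχ'⟩ : IrrCharacter G)
      simp only [Cfsg.Agent.Lib.Helper83.classInner_def, hall] at hinner
      rw [Finset.sum_const, Finset.card_univ, ← Nat.card_eq_fintype_card] at hinner
      have hc : (Nat.card G : ℂ) ≠ 0 := by
        have : Nat.card G ≠ 0 := Nat.card_pos.ne'
        exact_mod_cast this
      rw [nsmul_eq_mul] at hinner
      have h4 : (2 : ℂ) * (starRingEnd ℂ) 2 = 4 := by
        rw [Complex.conj_ofNat]; norm_num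
      rw [h4, ← mul_assoc, inv_mul_cancel₀ hc, one_mul] at hinner
      norm_num at hinner
  exact ht1 (Cfsg.Agent.Lib.Helper86.CD3.eq_one_of_norm_eq_degree hχ' hfaith hZ hdeg t hnorm)

end Cfsg.Agent.Lib.Helper79.PD
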