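import Mathlib

set_option autoImplicit false
set_option linter.unusedSectionVars false
set_option linter.unusedVariables false

/-!
# K-PG2 leaf F3240 (keystone 345208, row S3452, architect helper59): the Frobenius group `3⁴ : (5 : 8)`

`V = F₃⁴`, `C = ⟨A, B⟩ ≤ GL₄(3)` of order `40` (`A⁵ = 1`, `B⁸ = 1`, `B A = A³ B`; from `F₈₁ = F₃[x]/(x⁴+x+2)`,
`A = ζ¹⁶·`, `B = v ↦ ζ v³`), acting without fixed points; `G = V ⋊ C` has spectrum `{1,2,3,4,5,8,10}`.
-/

namespace Cfsg.Agent.Lib.Helper79.PG2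

open Matrix

/-- `V = F₃⁴` -/
abbrev f_V : Type := Fin 4 → ZMod 3

/-- multiplication by `ζ¹⁶` on `F₈₁` -/
def f_mA : Matrix (Fin 4) (Fin 4) (ZMod 3) := !![2,2,0,1; 1,0,2,2; 0,1,0,2; 2,0,1,0]

/-- `v ↦ ζ v³` on `F₈₁` -/
def f_mB : Matrix (Fin 4) (Fin 4) (ZMod 3) := !![0,1,2,1; 1,2,1,2; 0,0,0,1; 0,0,1,1]

theorem f_mA_pow5 : f_mA ^ 5 = 1 := by decide +kernel
theorem f_mB_pow8 : f_mB ^ 8 = 1 := by decide +kernel
theorem f_mA_ne : f_mA ≠ 1 := by decide +kernel
theorem f_mB4_ne : f_mB ^ 4 ≠ 1 := by decide +kernel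
theorem f_mB2_2_ne : (f_mB ^ 2) ^ 2 ≠ 1 := by decide +kernel
theorem f_mB2_4 : (f_mB ^ 2) ^ 4 = 1 := by decide +kernel
theorem f_mB4_2 : (f_mB ^ 4) ^ 2 = 1 := by decide +kernel
theorem f_mAB4_10 : (f_mA * f_mB ^ 4) ^ 10 = 1 := by decide +kernel
theorem f_mAB4_5 : (f_mA * f_mB ^ 4) ^ 5 ≠ 1 := by decide +kernel
theorem f_mAB4_2 : (f_mA * f_mB ^ 4) ^ 2 ≠ 1 := by decide +kernel

set_option maxRecDepth 100000 in
theorem f_m_ord : ∀ i : Fin 5, ∀ j : Fin 8,
    (f_mA ^ (i:ℕ) * f_mB ^ (j:ℕ)) ^ 8 = 1 ∨ (f_mA ^ (i:ℕ) * f_mB ^ (j:ℕ)) ^ 10 = 1 := by decide +kernel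

set_option maxRecDepth 100000 in
theorem f_m_fpf : ∀ i : Fin 5, ∀ j : Fin 8, f_mA ^ (i:ℕ) * f_mB ^ (j:ℕ) ≠ 1 →
    ∀ v : Fin 4 → ZMod 3, (f_mA ^ (i:ℕ) * f_mB ^ (j:ℕ)) *ᵥ v = v → v = 0 := by decide +kernel

set_option maxRecDepth 100000 in
theorem f_m_rightA : ∀ i : Fin 5, ∀ j : Fin 8, ∃ i' : Fin 5,
    f_mA ^ (i:ℕ) * f_mB ^ (j:ℕ) * f_mA = f_mA ^ (i':ℕ) * f_mB ^ (j:ℕ) := by decide +kernel

set_option maxRecDepth 100000 in
theorem f_m_rightAinv : ∀ i : Fin 5, ∀ j : Fin 8, ∃ i' : Fin 5,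
    f_mA ^ (i:ℕ) * f_mB ^ (j:ℕ) * f_mA ^ 4 = f_mA ^ (i':ℕ) * f_mB ^ (j:ℕ) := by decide +kernel

set_option maxRecDepth 100000 in
theorem f_m_rightB : ∀ i : Fin 5, ∀ j : Fin 8, ∃ j' : Fin 8,
    f_mA ^ (i:ℕ) * f_mB ^ (j:ℕ) * f_mB = f_mA ^ (i:ℕ) * f_mB ^ (j':ℕ) := by decide +kernel

set_option maxRecDepth 100000 in
theorem f_m_rightBinv : ∀ i : Fin 5, ∀ j : Fin 8, ∃ j' : Fin 8,
    f_mA ^ (i:ℕ) * f_mB ^ (j:ℕ) * f_mB ^ 7 = f_mA ^ (i:ℕ) * f_mB ^ (j':ℕ) := by decide +kernel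

/-- `GL₄(3)` -/
abbrev f_GL : Type := Matrix.GeneralLinearGroup (Fin 4) (ZMod 3)

/-- `A` as a unit -/
def f_gA : f_GL :=
  ⟨f_mA, f_mA ^ 4, by rw [← pow_succ']; exact f_mA_pow5, by rw [← pow_succ]; exact f_mA_pow5⟩

/-- `B` as a unit -/
def f_gB : f_GL :=
  ⟨f_mB, f_mB ^ 7, by rw [← pow_succ']; exact f_mB_pow8, by rw [← pow_succ]; exact f_mB_pow8⟩

/-- the complement `C = ⟨A, B⟩` -/
def f_C : Subgroup f_GL := Subgroup.closure {f_gA, f_gB}

theorem f_C_form : ∀ g ∈ f_C, ∃ i : Fin 5, ∃ j : Fin 8,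
    (g : Matrix (Fin 4) (Fin 4) (ZMod 3)) = f_mA ^ (i:ℕ) * f_mB ^ (j:ℕ) := by
  intro g hg
  unfold f_C at hg
  induction hg using Subgroup.closure_induction_right with
  | one => exact ⟨0, 0, by simp⟩
  | mul_right x hx y hy ih =>
    obtain ⟨i, j, hij⟩ := ih
    rcases hy with rfl | rfl
    · obtain ⟨i', hi'⟩ := f_m_rightA i j
      exact ⟨i', j, by rw [Units.val_mul, hij]; exact hi'⟩
    · obtain ⟨j', hj'⟩ := f_m_rightB i j
      exact ⟨i, j', by rw [Units.val_mul, hij]; exact hj'⟩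
  | mul_inv_cancel x hx y hy ih =>
    obtain ⟨i, j, hij⟩ := ih
    rcases hy with rfl | rfl
    · obtain ⟨i', hi'⟩ := f_m_rightAinv i j
      exact ⟨i', j, by rw [Units.val_mul, hij]; exact hi'⟩
    · obtain ⟨j', hj'⟩ := f_m_rightBinv i j
      exact ⟨i, j', by rw [Units.val_mul, hij]; exact hj'⟩

/-- the action of `GL₄(3)` on `V` -/
def f_act : f_GL →* MulAut (Multiplicative f_V) where
  toFun g :=
    { toFun := fun w => Multiplicative.ofAdd
        ((g : Matrix (Fin 4) (Fin 4) (ZMod 3)) *ᵥ Multiplicative.toAdd w)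
      invFun := fun w => Multiplicative.ofAdd
        (((g⁻¹ : f_GL) : Matrix (Fin 4) (Fin 4) (ZMod 3)) *ᵥ Multiplicative.toAdd w)
      left_inv := fun w => by
        show Multiplicative.ofAdd (((g⁻¹ : f_GL) : Matrix (Fin 4) (Fin 4) (ZMod 3)) *ᵥ
          ((g : Matrix (Fin 4) (Fin 4) (ZMod 3)) *ᵥ Multiplicative.toAdd w)) = w
        rw [Matrix.mulVec_mulVec, ← Units.val_mul, inv_mul_cancel]
        simp
      right_inv := fun w => by
        show Multiplicative.ofAdd ((g : Matrix (Fin 4) (Fin 4) (ZMod 3)) *ᵥ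
          (((g⁻¹ : f_GL) : Matrix (Fin 4) (Fin 4) (ZMod 3)) *ᵥ Multiplicative.toAdd w)) = w
        rw [Matrix.mulVec_mulVec, ← Units.val_mul, mul_inv_cancel]
        simp
      map_mul' := fun w w' => by
        show Multiplicative.ofAdd ((g : Matrix (Fin 4) (Fin 4) (ZMod 3)) *ᵥ
          (Multiplicative.toAdd w + Multiplicative.toAdd w')) = _
        rw [Matrix.mulVec_add]
        rfl }
  map_one' := by
    apply MulEquiv.ext
    intro w
    show Multiplicative.ofAdd (((1 : f_GL) : Matrix (Fin 4) (Fin 4) (ZMod 3)) *ᵥ Multiplicative.toAdd w) = w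
    simp
  map_mul' := fun g h => by
    apply MulEquiv.ext
    intro w
    show Multiplicative.ofAdd (((g * h : f_GL) : Matrix (Fin 4) (Fin 4) (ZMod 3)) *ᵥ Multiplicative.toAdd w) =
      Multiplicative.ofAdd ((g : Matrix (Fin 4) (Fin 4) (ZMod 3)) *ᵥ
        ((h : Matrix (Fin 4) (Fin 4) (ZMod 3)) *ᵥ Multiplicative.toAdd w))
    rw [Matrix.mulVec_mulVec, Units.val_mul]

theorem f_act_apply (g : f_GL) (w : Multiplicative f_V) :
    f_act g w = Multiplicative.ofAdd ((g : Matrix (Fin 4) (Fin 4) (ZMod 3)) *ᵥ Multiplicative.toAdd w) := rfl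

/-- the action of `C` -/
def f_phi : f_C →* MulAut (Multiplicative f_V) := f_act.comp f_C.subtype

/-- the Frobenius group `3⁴ : (5 : 8)` -/
abbrev f_G : Type := Multiplicative f_V ⋊[f_phi] f_C

theorem f_fpf (c : f_C) (hc : c ≠ 1) (w : Multiplicative f_V) (hw : f_phi c w = w) : w = 1 := by
  obtain ⟨i, j, hij⟩ := f_C_form c.1 c.2
  have hne : f_mA ^ (i:ℕ) * f_mB ^ (j:ℕ) ≠ 1 := by
    intro h1
    apply hc
    apply Subtype.ext
    apply Units.ext
    rw [hij, h1]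
    rfl
  have h2 : (f_mA ^ (i:ℕ) * f_mB ^ (j:ℕ)) *ᵥ Multiplicative.toAdd w = Multiplicative.toAdd w := by
    have := congrArg Multiplicative.toAdd hw
    rw [← hij]
    exact this
  have h3 := f_m_fpf i j hne _ h2
  exact Multiplicative.toAdd.injective h3

theorem f_ord (c : f_C) : c ^ 8 = 1 ∨ c ^ 10 = 1 := by
  obtain ⟨i, j, hij⟩ := f_C_form c.1 c.2
  rcases f_m_ord i j with h | h
  · left
    apply Subtype.ext
    apply Units.ext
    rw [Subgroup.coe_pow, Units.val_pow_eq_pow_val, hij, h]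
    rfl
  · right
    apply Subtype.ext
    apply Units.ext
    rw [Subgroup.coe_pow, Units.val_pow_eq_pow_val, hij, h]
    rfl

section SDP
variable {N G : Type*} [CommGroup N] [Group G] (φ : G →* MulAut N)

theorem f_sdp_pow_right (h : N ⋊[φ] G) (m : ℕ) : (h ^ m).right = h.right ^ m :=
  map_pow (SemidirectProduct.rightHom : N ⋊[φ] G →* G) h m

theorem f_sdp_exists_fixed (h : N ⋊[φ] G) (m : ℕ) (hm : h.right ^ m = 1) :
    ∃ w : N, h ^ m = SemidirectProduct.inl w ∧ φ h.right w = w := by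
  have hr : (h ^ m).right = 1 := by rw [f_sdp_pow_right, hm]
  refine ⟨(h ^ m).left, ?_, ?_⟩
  · ext
    · simp
    · simp [hr]
  · have hc : h * h ^ m = h ^ m * h := (Commute.refl h).pow_right m
    have h1 := congrArg SemidirectProduct.left hc
    simp only [SemidirectProduct.mul_left, hr, map_one, MulAut.one_apply] at h1
    have h2 : h.left * φ h.right (h ^ m).left = h.left * (h ^ m).left := by
      rw [h1, mul_comm]
    exact mul_left_cancel h2

end SDP

theorem f_orderOf_of_ne (h : f_G) (hc : h.right ≠ 1) : orderOf h = orderOf h.right := by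
  apply Nat.dvd_antisymm
  · apply orderOf_dvd_of_pow_eq_one
    obtain ⟨w, hw, hfix⟩ := f_sdp_exists_fixed f_phi h (orderOf h.right) (pow_orderOf_eq_one _)
    rw [hw, f_fpf h.right hc w hfix, map_one]
  · exact orderOf_map_dvd (SemidirectProduct.rightHom : f_G →* f_C) h

theorem f_cube (w : Multiplicative f_V) : w ^ 3 = 1 := by
  apply Multiplicative.toAdd.injective
  rw [toAdd_pow, toAdd_one]
  ext k
  simp only [Pi.smul_apply, Pi.zero_apply, nsmul_eq_mul]
  have : ((3 : ℕ) : ZMod 3) = 0 := by decide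
  rw [this, zero_mul]

theorem f_mem_of_dvd8 (m : ℕ) (h : m ∣ 8) : m ∈ ({1, 2, 3, 4, 5, 8, 10} : Set ℕ) := by
  have hm : m ∈ Nat.divisors 8 := Nat.mem_divisors.mpr ⟨h, by norm_num⟩
  have : Nat.divisors 8 = {1, 2, 4, 8} := by decide
  rw [this] at hm
  simp only [Finset.mem_insert, Finset.mem_singleton] at hm
  rcases hm with rfl | rfl | rfl | rfl <;> simp

theorem f_mem_of_dvd10 (m : ℕ) (h : m ∣ 10) : m ∈ ({1, 2, 3, 4, 5, 8, 10} : Set ℕ) := by
  have hm : m ∈ Nat.divisors 10 := Nat.mem_divisors.mpr ⟨h, by norm_num⟩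
  have : Nat.divisors 10 = {1, 2, 5, 10} := by decide
  rw [this] at hm
  simp only [Finset.mem_insert, Finset.mem_singleton] at hm
  rcases hm with rfl | rfl | rfl | rfl <;> simp

/-- order of `inr c` computed from the matrix -/
theorem f_orderOf_inr (c : f_C) :
    orderOf (SemidirectProduct.inr c : f_G) = orderOf ((c : f_GL) : Matrix (Fin 4) (Fin 4) (ZMod 3)) := by
  rw [orderOf_injective (SemidirectProduct.inr : f_C →* f_G) SemidirectProduct.inr_injective c,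
    ← Subgroup.orderOf_coe, ← orderOf_units]

theorem f_gA_mem : f_gA ∈ f_C := Subgroup.subset_closure (by simp)
theorem f_gB_mem : f_gB ∈ f_C := Subgroup.subset_closure (by simp)

theorem f_spectrum : Set.range (orderOf : f_G → ℕ) = {1, 2, 3, 4, 5, 8, 10} := by
  apply Set.Subset.antisymm
  · rintro _ ⟨h, rfl⟩
    by_cases hc : h.right = 1
    · have h3 : h ^ 3 = 1 := by
        ext
        · have : (h ^ 3).left = h.left ^ 3 := by
            simp [pow_succ, hc]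
          rw [this, f_cube]; rfl
        · rw [f_sdp_pow_right, hc, one_pow]; rfl
      have hd : orderOf h ∣ 3 := orderOf_dvd_of_pow_eq_one h3
      rcases (Nat.dvd_prime Nat.prime_three).mp hd with h1 | h1 <;> rw [h1] <;> simp
    · rw [f_orderOf_of_ne h hc]
      rcases f_ord h.right with h8 | h10
      · exact f_mem_of_dvd8 _ (orderOf_dvd_of_pow_eq_one h8)
      · exact f_mem_of_dvd10 _ (orderOf_dvd_of_pow_eq_one h10)
  · intro m hm
    simp only [Set.mem_insert_iff, Set.mem_singleton_iff] at hm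
    rcases hm with rfl | rfl | rfl | rfl | rfl | rfl | rfl
    · exact ⟨1, orderOf_one⟩
    · refine ⟨SemidirectProduct.inr ⟨f_gB ^ 4, f_C.pow_mem f_gB_mem 4⟩, ?_⟩
      rw [f_orderOf_inr]
      show orderOf (((f_gB ^ 4 : f_GL) : Matrix (Fin 4) (Fin 4) (ZMod 3))) = 2
      rw [Units.val_pow_eq_pow_val]
      exact orderOf_eq_prime f_mB4_2 f_mB4_ne
    · let e : f_V := Pi.single 0 1
      refine ⟨SemidirectProduct.inl (Multiplicative.ofAdd e), ?_⟩
      rw [orderOf_injective (SemidirectProduct.inl : Multiplicative f_V →* f_G)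
        SemidirectProduct.inl_injective]
      apply orderOf_eq_prime (f_cube _)
      intro h1
      have := congrFun (congrArg Multiplicative.toAdd h1) 0
      simp [e] at this
    · refine ⟨SemidirectProduct.inr ⟨f_gB ^ 2, f_C.pow_mem f_gB_mem 2⟩, ?_⟩
      rw [f_orderOf_inr]
      show orderOf (((f_gB ^ 2 : f_GL) : Matrix (Fin 4) (Fin 4) (ZMod 3))) = 4
      rw [Units.val_pow_eq_pow_val]
      exact orderOf_eq_prime_pow (p := 2) (n := 1) f_mB2_2_ne f_mB2_4
    · refine ⟨SemidirectProduct.inr ⟨f_gA, f_gA_mem⟩, ?_⟩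
      rw [f_orderOf_inr]
      haveI : Fact (Nat.Prime 5) := ⟨by norm_num⟩
      exact orderOf_eq_prime f_mA_pow5 f_mA_ne
    · refine ⟨SemidirectProduct.inr ⟨f_gB, f_gB_mem⟩, ?_⟩
      rw [f_orderOf_inr]
      exact orderOf_eq_prime_pow (p := 2) (n := 2) f_mB4_ne f_mB_pow8
    · refine ⟨SemidirectProduct.inr ⟨f_gA * f_gB ^ 4, f_C.mul_mem f_gA_mem (f_C.pow_mem f_gB_mem 4)⟩, ?_⟩
      rw [f_orderOf_inr]
      show orderOf (((f_gA * f_gB ^ 4 : f_GL) : Matrix (Fin 4) (Fin 4) (ZMod 3))) = 10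
      rw [Units.val_mul, Units.val_pow_eq_pow_val]
      apply orderOf_eq_of_pow_and_pow_div_prime (by norm_num) f_mAB4_10
      intro p hp hp10
      have hp' : p = 2 ∨ p = 5 := by
        have h25 : p ∣ 2 * 5 := by norm_num; exact hp10
        rcases (Nat.Prime.dvd_mul hp).mp h25 with h | h
        · exact Or.inl ((Nat.prime_dvd_prime_iff_eq hp Nat.prime_two).mp h)
        · exact Or.inr ((Nat.prime_dvd_prime_iff_eq hp (by norm_num)).mp h)
      rcases hp' with rfl | rfl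
      · exact f_mAB4_5
      · exact f_mAB4_2

/-- **LEAF F3240** -/
theorem exists_spec_pgl29 : ∃ (G : Type) (_ : Group G) (_ : Finite G) (K : Subgroup G),
    K.Normal ∧ K ≠ ⊥ ∧ Group.IsSolvable ↥K ∧ Set.range (orderOf : G → ℕ) = {1, 2, 3, 4, 5, 8, 10} := by
  refine ⟨f_G, inferInstance, Finite.of_equiv _ (SemidirectProduct.equivProd (φ := f_phi)).symm,
    (SemidirectProduct.inl : Multiplicative f_V →* f_G).range, ?_, ?_, ?_, f_spectrum⟩
  · rw [SemidirectProduct.range_inl_eq_ker_rightHom]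
    infer_instance
  · intro hbot
    have hmem : (SemidirectProduct.inl (Multiplicative.ofAdd (Pi.single 0 1 : f_V)) : f_G) ∈
        (SemidirectProduct.inl : Multiplicative f_V →* f_G).range := ⟨_, rfl⟩
    rw [hbot, Subgroup.mem_bot] at hmem
    have h1 := SemidirectProduct.inl_injective (hmem.trans (map_one _).symm)
    have := congrFun (congrArg Multiplicative.toAdd h1) 0
    simp at this
  · exact Group.isSolvable_of_surjective
      (f := (SemidirectProduct.inl : Multiplicative f_V →* f_G).rangeRestrict)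
      (MonoidHom.rangeRestrict_surjective _)

end Cfsg.Agent.Lib.Helper79.PG2
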