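import Mathlib
import Cfsg.Agent.Lib.Helper48.RSpDefs2

set_option autoImplicit false
set_option linter.unusedVariables false

/-!
# K-RSp leaf X3 (keystone 228109, row S2281, architect helper48): the quadratic Levi step for `n = 2`

`c = cMat 0 t σ`, `S = [[α,β],[β,0]]`: `c x(S) = g_S c` with `g_S = [[τ, L S Lᵀ],[0, τ⁻ᵀ]]`, `τ = tauMat t σ β`,
and `g_S x(S₂) = x(τ S₂ τᵀ) g_S`.
-/

namespace Cfsg.Agent.Lib.Helper79.RSp

open Matrix Cfsg.Agent.Lib.Helper48.RSp Cfsg.Agent.Lib.Helper18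

variable {F : Type*} [Field F]

/-- `Llow 0 t = [[1,0],[t,1]]` -/
theorem x3_Llow (t : F) (ht : t ≠ 0) : Llow 0 t = !![1, 0; t, 1] := by
  ext i j
  fin_cases i <;> fin_cases j <;>
    simp [Llow, Uup, Nup, dvec, Matrix.mul_apply, Fin.sum_univ_two, Matrix.diagonal,
      Matrix.transpose_apply, Matrix.one_apply, ht]

/-- `Dlow 0 t = [[1,-t],[0,1]]` -/
theorem x3_Dlow (t : F) (ht : t ≠ 0) : Dlow 0 t = !![1, -t; 0, 1] := by
  ext i j
  fin_cases i <;> fin_cases j <;>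
    simp [Dlow, Aalt, dvec, Matrix.mul_apply, Fin.sum_univ_two, Matrix.diagonal, ht]

/-- `Elast 0 F = E_11` -/
theorem x3_Elast : Elast 0 F = !![0, 0; 0, 1] := by
  ext i j
  fin_cases i <;> fin_cases j <;> simp [Elast, Matrix.single, Fin.last]

/-- the inverse transpose of `tauMat` -/
def x3_tauIT (t σ β : F) : Matrix (Fin 2) (Fin 2) F :=
  !![1 - σ * β * t, -(σ * β * t ^ 2); σ * β, 1 + σ * β * t]

/-- `L S Lᵀ` for `S = [[α,β],[β,0]]` -/
def x3_B (t α β : F) : Matrix (Fin 2) (Fin 2) F :=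
  !![α, α * t + β; t * α + β, t ^ 2 * α + 2 * t * β]

/-- `g_S` -/
def x3_gS (t σ α β : F) : BM 0 F :=
  Matrix.fromBlocks (tauMat t σ β) (x3_B t α β) 0 (x3_tauIT t σ β)

theorem x3_tau_mul (t σ β : F) : (tauMat t σ β)ᵀ * x3_tauIT t σ β = 1 := by
  ext i j
  fin_cases i <;> fin_cases j <;>
    simp [tauMat, x3_tauIT, Matrix.mul_apply, Fin.sum_univ_two, Matrix.transpose_apply] <;> ring

theorem x3_cMat (t σ : F) (ht : t ≠ 0) :
    cMat 0 t σ = Matrix.fromBlocks !![1, 0; t, 1] 0 !![0, -(σ * t); 0, σ] !![1, -t; 0, 1] := by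
  unfold cMat
  rw [x3_Llow t ht, x3_Dlow t ht, x3_Elast]
  congr 1
  ext i j
  fin_cases i <;> fin_cases j <;>
    simp [Matrix.mul_apply, Fin.sum_univ_two] <;> ring

theorem x3_step1 (t σ α β : F) (ht : t ≠ 0) :
    cMat 0 t σ * xMat 0 !![α, β; β, 0] = x3_gS t σ α β * cMat 0 t σ := by
  rw [x3_cMat t σ ht]
  unfold xMat x3_gS
  rw [Matrix.fromBlocks_multiply, Matrix.fromBlocks_multiply]
  congr 1 <;>
  · ext i j
    fin_cases i <;> fin_cases j <;>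
      simp [tauMat, x3_tauIT, x3_B, Matrix.mul_apply, Fin.sum_univ_two] <;> ring

theorem x3_step2 (t σ α β : F) (S₂ : SM 0 F) :
    x3_gS t σ α β * xMat 0 S₂ =
      xMat 0 (tauMat t σ β * S₂ * (tauMat t σ β)ᵀ) * x3_gS t σ α β := by
  unfold xMat x3_gS
  rw [Matrix.fromBlocks_multiply, Matrix.fromBlocks_multiply]
  have e : tauMat t σ β * S₂ * (tauMat t σ β)ᵀ * x3_tauIT t σ β = tauMat t σ β * S₂ := by
    rw [Matrix.mul_assoc, x3_tau_mul, Matrix.mul_one]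
  simp only [Matrix.mul_one, Matrix.mul_zero, Matrix.zero_mul, Matrix.one_mul, add_zero, zero_add, e]
  rw [add_comm (x3_B t α β)]

/-- **LEAF X3** -/
theorem XG_conj_tau {F : Type*} [Field F] {G : Subgroup (SpG 0 F)} (t σ : F) (ht : t ≠ 0)
    (hc : InG G (cMat 0 t σ)) :
    ∀ S ∈ XG G, S 1 1 = 0 → ∀ S₂ ∈ XG G,
      tauMat t σ (S 0 1) * S₂ * (tauMat t σ (S 0 1))ᵀ ∈ XG G := by
  intro S hS h11 S₂ hS₂
  obtain ⟨hSsym, hSG⟩ := hS
  obtain ⟨hS₂sym, hS₂G⟩ := hS₂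
  have h10 : S 1 0 = S 0 1 := by
    have := congrFun (congrFun hSsym 1) 0
    simpa [Matrix.transpose_apply] using this.symm
  have hSeq : S = !![S 0 0, S 0 1; S 0 1, 0] := by
    ext i j
    fin_cases i <;> fin_cases j <;> simp [h10, h11]
  have hg : InG G (x3_gS t σ (S 0 0) (S 0 1)) := by
    refine inG_of_conj hc hSG ?_
    conv_lhs => rw [hSeq]
    exact x3_step1 t σ (S 0 0) (S 0 1) ht
  refine ⟨?_, inG_of_conj hg hS₂G (x3_step2 t σ (S 0 0) (S 0 1) S₂)⟩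
  rw [Matrix.transpose_mul, Matrix.transpose_mul, Matrix.transpose_transpose, hS₂sym, Matrix.mul_assoc]

end Cfsg.Agent.Lib.Helper79.RSp
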