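import Mathlib
import Cfsg.Agent.Lib.Helper20.RU2Defs
import Cfsg.Agent.Lib.Helper73.RUDefs

set_option autoImplicit false
set_option linter.unusedVariables false
set_option linter.unusedSectionVars false

/-!
# K-RU2 leaf B (keystone 227802, row S2278, architect helper20): `dM μ ^ (q - 1)` is a transvection
-/

namespace Cfsg.Agent.Lib.Helper79.RU2

open Matrix Cfsg.Agent.Lib.Helper73.RU Cfsg.Agent.Lib.Helper20.RU2

variable {F : Type*} [Field F]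

/-- the closed form of `dM μ ^ k` -/
def b_P (μ : F) (k : ℕ) : Matrix (Fin 3) (Fin 3) F :=
  !![μ ^ k, 0, 0;
     (3 - 2 * μ - μ⁻¹ ^ 2) * (μ ^ k - (μ⁻¹ ^ 2) ^ k) * (μ - μ⁻¹ ^ 2)⁻¹, (μ⁻¹ ^ 2) ^ k, 0;
     (k : F) * (-(μ * (μ - 1) ^ 3)) * μ ^ k * μ⁻¹, 0, μ ^ k]

theorem b_ne {μ : F} (hμ : μ ≠ 0) (hμ3 : μ ^ 3 ≠ 1) : μ - μ⁻¹ ^ 2 ≠ 0 := by
  intro h
  apply hμ3
  have h1 : μ = μ⁻¹ ^ 2 := sub_eq_zero.mp h
  have h2 : μ ^ 3 = μ * μ ^ 2 := by ring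
  rw [h2]
  nth_rewrite 1 [h1]
  rw [← mul_pow, inv_mul_cancel₀ hμ, one_pow]

theorem b_pow {μ : F} (hμ : μ ≠ 0) (hμ3 : μ ^ 3 ≠ 1) (k : ℕ) : dM μ ^ k = b_P μ k := by
  have hne := b_ne hμ hμ3
  have hD : (μ - μ⁻¹ ^ 2) * (μ - μ⁻¹ ^ 2)⁻¹ = 1 := mul_inv_cancel₀ hne
  have hμi : μ * μ⁻¹ = 1 := mul_inv_cancel₀ hμ
  induction k with
  | zero =>
    ext i j
    fin_cases i <;> fin_cases j <;> simp [b_P]
  | succ k ih =>
    rw [pow_succ, ih]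
    ext i j
    fin_cases i <;> fin_cases j <;>
      simp [b_P, dM, Matrix.mul_apply, Fin.sum_univ_three, pow_succ]
    · set D := (μ - μ⁻¹ ^ 2)⁻¹ with hDdef
      set ν := μ⁻¹ with hν
      linear_combination ((3 - 2 * μ - ν ^ 2) * (ν ^ 2) ^ k * (-1)) * hD + 0 * hμi
    · linear_combination (-(μ ^ k * μ * (1 - 3 * μ + 3 * μ ^ 2 - μ ^ 3))) * hμi

/-- **LEAF B** -/
theorem dM_pow_card_sub_one {F : Type*} [Field F] [Fintype F] {μ : F} (hμ : μ ≠ 0) (hμ3 : μ ^ 3 ≠ 1) :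
    dM μ ^ (Fintype.card F - 1) =
      tvm ((μ - 1) ^ 3 • (Pi.single 2 1 : Fin 3 → F)) (Pi.single 0 1) := by
  rw [b_pow hμ hμ3]
  have h1 : μ ^ (Fintype.card F - 1) = 1 := FiniteField.pow_card_sub_one_eq_one μ hμ
  have h2 : (μ⁻¹ ^ 2) ^ (Fintype.card F - 1) = 1 :=
    FiniteField.pow_card_sub_one_eq_one _ (pow_ne_zero _ (inv_ne_zero hμ))
  have h3 : ((Fintype.card F - 1 : ℕ) : F) = -1 := by
    rw [Nat.cast_sub Fintype.card_pos, FiniteField.cast_card_eq_zero]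
    simp
  have hμi : μ * μ⁻¹ = 1 := mul_inv_cancel₀ hμ
  unfold b_P
  rw [h1, h2, h3]
  ext i j
  fin_cases i <;> fin_cases j <;>
    simp [tvm, vecMulVec]
  linear_combination ((μ - 1) ^ 3) * hμi

end Cfsg.Agent.Lib.Helper79.RU2
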