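import Mathlib
import Cfsg.Agent.Lib.Helper73.RUDefs

set_option autoImplicit false

/-!
# K-RU leaf C (S2280): the induction `mset_induction`, pure linear algebra
-/

namespace Cfsg.Agent.Lib.Helper79.RU

open Matrix Cfsg.Agent.Lib.Helper73.RU

theorem mset_induction {m : ℕ} {F : Type*} [Field F] (M : Set (Fin (m + 3) → F))
    (A C : Matrix (Fin (m + 3)) (Fin (m + 3)) F) (μ : Fin (m + 3) → F) (l κ : F)
    (hl : ∀ x : F, x ≠ 0 → ∃ k : ℕ, x = l ^ (k + 1))
    (hκ : κ * μ 0 = l ∨ κ * μ 0 = -l) (hκ0 : κ ≠ 0) (hμ : ∀ j, μ j ≠ 0)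
    (h0 : (0 : Fin (m + 3) → F) ∈ M) (hadd : ∀ v w, v ∈ M → w ∈ M → v + w ∈ M)
    (hneg : ∀ v, v ∈ M → -v ∈ M)
    (hA : ∀ v, v ∈ M → A *ᵥ v ∈ M)
    (hC : ∀ v, v ∈ M → (C *ᵥ v) (Fin.last (m + 2)) = 0 → κ • (C *ᵥ v) ∈ M)
    (hz : l • (Pi.single 0 1 : Fin (m + 3) → F) ∈ M)
    (hA0 : A *ᵥ (Pi.single 0 1 : Fin (m + 3) → F) = Pi.single 0 1)
    (hA1 : A *ᵥ (Pi.single 1 1 : Fin (m + 3) → F) = Pi.single 1 1 + Pi.single 0 1)
    (hCj : ∀ (j : Fin (m + 3)) (hj : j.val + 1 < m + 3),
      C *ᵥ (Pi.single j 1 : Fin (m + 3) → F) = Pi.single j 1 + μ j • Pi.single ⟨j.val + 1, hj⟩ 1) :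
    ∀ v : Fin (m + 3) → F, v (Fin.last (m + 2)) = 0 → v ∈ M := by
  classical
  -- subtraction
  have hsub : ∀ v w, v ∈ M → w ∈ M → v - w ∈ M := by
    intro v w hv hw
    rw [sub_eq_add_neg]
    exact hadd v (-w) hv (hneg w hw)
  -- `C (t e_j) = t e_j + (t μ_j) e_(j+1)`
  have hCt : ∀ (j : Fin (m + 3)) (hj : j.val + 1 < m + 3) (t : F),
      C *ᵥ (t • (Pi.single j 1 : Fin (m + 3) → F)) =
        t • Pi.single j 1 + (t * μ j) • Pi.single ⟨j.val + 1, hj⟩ 1 := by
    intro j hj t
    rw [mulVec_smul, hCj j hj, smul_add, smul_smul]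
  -- last coordinate of that
  have hlast : ∀ (j : Fin (m + 3)) (hj : j.val + 1 < m + 2) (t : F),
      (C *ᵥ (t • (Pi.single j 1 : Fin (m + 3) → F))) (Fin.last (m + 2)) = 0 := by
    intro j hj t
    rw [hCt j (by omega) t]
    have h1 : (Fin.last (m + 2)) ≠ j := by
      intro h
      have := congrArg Fin.val h
      simp at this
      omega
    have h2 : (Fin.last (m + 2)) ≠ (⟨j.val + 1, by omega⟩ : Fin (m + 3)) := by
      intro h
      have := congrArg Fin.val h
      simp at this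
      omega
    simp [Pi.single_apply, h1, h2]
  -- step 1 : `t e_0 ∈ M → (l t) e_0 ∈ M`
  have hstep0 : ∀ t : F, t • (Pi.single 0 1 : Fin (m + 3) → F) ∈ M →
      (l * t) • (Pi.single 0 1 : Fin (m + 3) → F) ∈ M := by
    intro t ht
    have h01 : ((0 : Fin (m + 3)).val + 1 < m + 3) := by simp
    have h1 := hC _ ht (hlast 0 (by simp) t)
    rw [hCt 0 h01 t] at h1
    have he1 : (⟨(0 : Fin (m + 3)).val + 1, h01⟩ : Fin (m + 3)) = 1 := by
      apply Fin.ext
      simp
    rw [he1] at h1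
    set w : Fin (m + 3) → F := κ • (t • (Pi.single 0 1 : Fin (m + 3) → F) + (t * μ 0) • Pi.single 1 1) with hw
    have h2 : A *ᵥ w - w = (κ * μ 0 * t) • (Pi.single 0 1 : Fin (m + 3) → F) := by
      rw [hw, mulVec_smul, mulVec_add, mulVec_smul, mulVec_smul, hA0, hA1]
      ext i
      simp only [Pi.sub_apply, Pi.smul_apply, Pi.add_apply, smul_eq_mul]
      ring
    have h3 : (κ * μ 0 * t) • (Pi.single 0 1 : Fin (m + 3) → F) ∈ M := by
      rw [← h2]
      exact hsub _ _ (hA w h1) h1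
    rcases hκ with h | h
    · rw [h] at h3
      exact h3
    · rw [h] at h3
      have := hneg _ h3
      rw [← neg_smul] at this
      convert this using 2
      ring
  -- `F e_0 ⊆ M`
  have hpow : ∀ k : ℕ, (l ^ (k + 1)) • (Pi.single 0 1 : Fin (m + 3) → F) ∈ M := by
    intro k
    induction k with
    | zero => simpa using hz
    | succ k ih =>
      have := hstep0 _ ih
      rw [pow_succ' l (k + 1)]
      exact this
  have hbase : ∀ t : F, t • (Pi.single 0 1 : Fin (m + 3) → F) ∈ M := by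
    intro t
    by_cases ht : t = 0
    · rw [ht, zero_smul]
      exact h0
    · obtain ⟨k, hk⟩ := hl t ht
      rw [hk]
      exact hpow k
  -- the induction on `j`
  have hall : ∀ (k : ℕ) (hk : k < m + 2) (t : F),
      t • (Pi.single (⟨k, by omega⟩ : Fin (m + 3)) 1 : Fin (m + 3) → F) ∈ M := by
    intro k
    induction k with
    | zero =>
      intro hk t
      exact hbase t
    | succ k ih =>
      intro hk t
      have hk' : k < m + 2 := by omega
      set j : Fin (m + 3) := ⟨k, by omega⟩ with hj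
      have hj1 : j.val + 1 < m + 3 := by simp [hj]; omega
      -- use `s = t / (κ μ_j)`
      set s : F := t / (κ * μ j) with hs
      have h1 := hC _ (ih hk' s) (hlast j (by simp [hj]; omega) s)
      rw [hCt j hj1 s, smul_add, smul_smul, smul_smul] at h1
      have h2 := hsub _ _ h1 (ih hk' (κ * s))
      rw [add_sub_cancel_left] at h2
      have h3 : κ * (s * μ j) = t := by
        rw [hs]
        field_simp [hκ0, hμ j]
      rw [h3] at h2
      exact h2
  -- conclusion
  intro v hv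
  have hsum : v = ∑ j : Fin (m + 3), v j • (Pi.single j 1 : Fin (m + 3) → F) := by
    ext i
    simp [Finset.sum_apply, Pi.single_apply]
  rw [hsum]
  refine Finset.sum_induction _ (· ∈ M) hadd h0 ?_
  intro j _
  by_cases hjl : j.val < m + 2
  · exact hall j.val hjl (v j)
  · have : j = Fin.last (m + 2) := by
      apply Fin.ext
      simp
      omega
    rw [this, hv, zero_smul]
    exact h0

end Cfsg.Agent.Lib.Helper79.RU
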