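import Mathlib
import Cfsg.Agent.Lib.Helper73.RUDefs

set_option autoImplicit false

/-!
# K-RU leaf G (S2280): columns and rows of `cMat δ`, and `phi δ * cMat δ = e_last`
-/

namespace Cfsg.Agent.Lib.Helper79.RU

open Matrix Cfsg.Agent.Lib.Helper73.RU

theorem cMat_apply (m : ℕ) (F : Type*) [Field F] (δ : F) (i j : Fin (m + 3)) :
    cMat m F δ i j =
      if i = j then 1 else if i.val = j.val + 1 then (if i = Fin.last (m + 2) then δ else 1) else 0 := by
  unfold cMat
  rw [of_apply]

theorem cMat_mulVec_single (m : ℕ) (F : Type*) [Field F] (δ : F) (j : Fin (m + 3))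
    (hj : j.val + 1 < m + 3) :
    cMat m F δ *ᵥ (Pi.single j 1 : Fin (m + 3) → F) =
      Pi.single j 1 + cMu m F δ j • Pi.single ⟨j.val + 1, hj⟩ 1 := by
  ext i
  rw [mulVec_single_one]
  simp only [col_apply, Pi.add_apply, Pi.smul_apply, smul_eq_mul, Pi.single_apply, cMat_apply]
  unfold cMu
  by_cases h1 : i = j
  · have h2 : ¬ i = (⟨j.val + 1, hj⟩ : Fin (m + 3)) := by
      intro h
      have := congrArg Fin.val h
      rw [h1] at this
      simp at this
    rw [if_pos h1, if_pos h1, if_neg h2]
    ring
  · rw [if_neg h1, if_neg h1]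
    by_cases h2 : i.val = j.val + 1
    · have h3 : i = (⟨j.val + 1, hj⟩ : Fin (m + 3)) := Fin.ext h2
      rw [if_pos h2, if_pos h3]
      have hiff : (i = Fin.last (m + 2)) ↔ (j.val + 2 = m + 3) := by
        constructor
        · intro h
          have := congrArg Fin.val h
          simp at this
          omega
        · intro h
          apply Fin.ext
          simp
          omega
      by_cases h4 : i = Fin.last (m + 2)
      · rw [if_pos h4, if_pos (hiff.mp h4)]
        ring
      · rw [if_neg h4, if_neg (fun h => h4 (hiff.mpr h))]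
        ring
    · have h3 : ¬ i = (⟨j.val + 1, hj⟩ : Fin (m + 3)) := by
        intro h
        apply h2
        have := congrArg Fin.val h
        simpa using this
      rw [if_neg h2, if_neg h3]
      ring

theorem single_vecMul_cMat (m : ℕ) (F : Type*) [Field F] (δ : F) (j : Fin (m + 3))
    (hj : j.val + 1 < m + 3) :
    (Pi.single ⟨j.val + 1, hj⟩ 1 : Fin (m + 3) → F) ᵥ* cMat m F δ =
      Pi.single ⟨j.val + 1, hj⟩ 1 + cMu m F δ j • Pi.single j 1 := by
  ext k
  rw [single_one_vecMul]
  simp only [row_apply, Pi.add_apply, Pi.smul_apply, smul_eq_mul, Pi.single_apply, cMat_apply]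
  unfold cMu
  by_cases h1 : (⟨j.val + 1, hj⟩ : Fin (m + 3)) = k
  · have h2 : ¬ k = j := by
      intro h
      have := congrArg Fin.val h1
      rw [h] at this
      simp at this
    rw [if_pos h1, if_pos h1.symm, if_neg h2]
    ring
  · have h1' : ¬ k = (⟨j.val + 1, hj⟩ : Fin (m + 3)) := fun h => h1 h.symm
    rw [if_neg h1, if_neg h1']
    by_cases h2 : k = j
    · have h3 : (⟨j.val + 1, hj⟩ : Fin (m + 3)).val = k.val + 1 := by
        rw [h2]
      rw [if_pos h3, if_pos h2]
      have hiff : ((⟨j.val + 1, hj⟩ : Fin (m + 3)) = Fin.last (m + 2)) ↔ (j.val + 2 = m + 3) := by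
        constructor
        · intro h
          have := congrArg Fin.val h
          simp at this
          omega
        · intro h
          apply Fin.ext
          simp
          omega
      by_cases h4 : (⟨j.val + 1, hj⟩ : Fin (m + 3)) = Fin.last (m + 2)
      · rw [if_pos h4, if_pos (hiff.mp h4)]
        ring
      · rw [if_neg h4, if_neg (fun h => h4 (hiff.mpr h))]
        ring
    · have h3 : ¬ (⟨j.val + 1, hj⟩ : Fin (m + 3)).val = k.val + 1 := by
        intro h
        apply h2
        apply Fin.ext
        simp at h
        omega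
      rw [if_neg h3, if_neg h2]
      ring

/-- `(φ c)_j = φ_j + φ_(j+1) c_(j+1,j)` -/
theorem phi_vecMul_cMat (m : ℕ) (F : Type*) [Field F] (δ : F) :
    phi m F δ ᵥ* cMat m F δ = Pi.single (Fin.last (m + 2)) 1 := by
  ext j
  have hsplit : ∀ i : Fin (m + 3), phi m F δ i * cMat m F δ i j =
      (if i = j then phi m F δ i else 0) +
        (if i.val = j.val + 1 then phi m F δ i * (if i = Fin.last (m + 2) then δ else 1) else 0) := by
    intro i
    rw [cMat_apply]
    by_cases h1 : i = j
    · have h2 : ¬ i.val = j.val + 1 := by
        rw [h1]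
        omega
      rw [if_pos h1, if_pos h1, if_neg h2]
      ring
    · rw [if_neg h1, if_neg h1]
      by_cases h2 : i.val = j.val + 1
      · rw [if_pos h2, if_pos h2]
        ring
      · rw [if_neg h2, if_neg h2]
        ring
  have hsum : (phi m F δ ᵥ* cMat m F δ) j = ∑ i, phi m F δ i * cMat m F δ i j := rfl
  rw [hsum, Finset.sum_congr rfl (fun i _ => hsplit i), Finset.sum_add_distrib,
    Finset.sum_ite_eq' Finset.univ j (fun i => phi m F δ i), if_pos (Finset.mem_univ j)]
  have hjl := j.isLt
  by_cases hj : j.val + 1 < m + 3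
  · rw [Finset.sum_eq_single (⟨j.val + 1, hj⟩ : Fin (m + 3))]
    · rw [if_pos rfl]
      have hjne : j ≠ Fin.last (m + 2) := by
        intro h
        have := congrArg Fin.val h
        simp at this
        omega
      rw [Pi.single_apply, if_neg hjne]
      unfold phi
      rw [if_neg hjne]
      by_cases h4 : j.val + 2 = m + 3
      · have h5 : (⟨j.val + 1, hj⟩ : Fin (m + 3)) = Fin.last (m + 2) := by
          apply Fin.ext
          simp
          omega
        rw [if_pos h5, if_pos h5]
        have : m + 2 - j.val = 1 := by omega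
        rw [this]
        ring
      · have h5 : ¬ (⟨j.val + 1, hj⟩ : Fin (m + 3)) = Fin.last (m + 2) := by
          intro h
          have := congrArg Fin.val h
          simp at this
          omega
        rw [if_neg h5, if_neg h5]
        have : m + 2 - j.val = (m + 2 - (j.val + 1)) + 1 := by omega
        rw [this, pow_succ]
        ring
    · intro i _ hi
      have : ¬ i.val = j.val + 1 := by
        intro h
        apply hi
        exact Fin.ext h
      rw [if_neg this]
    · intro h
      exact absurd (Finset.mem_univ _) h
  · have hjlast : j = Fin.last (m + 2) := by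
      apply Fin.ext
      simp
      omega
    rw [Finset.sum_eq_zero]
    · rw [add_zero, Pi.single_apply, if_pos hjlast]
      unfold phi
      rw [if_pos hjlast]
    · intro i _
      have : ¬ i.val = j.val + 1 := by
        have := i.isLt
        omega
      rw [if_neg this]

end Cfsg.Agent.Lib.Helper79.RU
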