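import Mathlib
import Cfsg.Agent.Lib.Helper73.RUDefs

set_option autoImplicit false

/-!
# K-RU leaf J (S2280): the conjugator `hMat = w₀ diag(δ,1,…,1)`
-/

namespace Cfsg.Agent.Lib.Helper79.RU

open Matrix Cfsg.Agent.Lib.Helper73.RU

theorem dlt_eq (m : ℕ) (F : Type*) [Field F] : dlt m F = 1 ∨ dlt m F = -1 := by
  unfold dlt
  rcases Int.units_eq_one_or (Equiv.Perm.sign (Fin.revPerm : Equiv.Perm (Fin (m + 3)))) with h | h
  · left
    rw [h]
    simp
  · right
    rw [h]
    simp

theorem dlt_mul_self (m : ℕ) (F : Type*) [Field F] : dlt m F * dlt m F = 1 := by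
  rcases dlt_eq m F with h | h <;> rw [h] <;> simp

theorem hMat_apply (m : ℕ) (F : Type*) [Field F] (i j : Fin (m + 3)) :
    hMat m F i j = if Fin.rev i = j then (if j = 0 then dlt m F else 1) else 0 := by
  unfold hMat
  rw [PEquiv.toMatrix_toPEquiv_mul]
  simp only [submatrix_apply, id, Fin.revPerm_apply, diagonal_apply]
  split_ifs with h1 h2 h3 <;> simp_all

theorem det_hMat (m : ℕ) (F : Type*) [Field F] : (hMat m F).det = 1 := by
  unfold hMat
  rw [det_mul, det_permutation, det_diagonal]
  have h1 : (∏ i : Fin (m + 3), (if i = 0 then dlt m F else 1)) = dlt m F := by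
    rw [Finset.prod_ite_eq' Finset.univ (0 : Fin (m + 3)) (fun _ => dlt m F)]
    simp
  rw [h1]
  exact dlt_mul_self m F

theorem hMat_mul_aMat (m : ℕ) (F : Type*) [Field F] :
    hMat m F * aMat m F = cMat m F (dlt m F) * hMat m F := by
  ext i j
  have hL : (hMat m F * aMat m F) i j =
      (if Fin.rev i = 0 then dlt m F else 1) * aMat m F (Fin.rev i) j := by
    rw [Matrix.mul_apply, Finset.sum_eq_single (Fin.rev i)]
    · rw [hMat_apply, if_pos rfl]
    · intro k _ hk
      rw [hMat_apply, if_neg (Ne.symm hk), zero_mul]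
    · intro h
      exact absurd (Finset.mem_univ _) h
  have hR : (cMat m F (dlt m F) * hMat m F) i j =
      cMat m F (dlt m F) i (Fin.rev j) * (if j = 0 then dlt m F else 1) := by
    rw [Matrix.mul_apply, Finset.sum_eq_single (Fin.rev j)]
    · rw [hMat_apply, Fin.rev_rev, if_pos rfl]
    · intro k _ hk
      have : Fin.rev k ≠ j := by
        intro h
        apply hk
        rw [← h, Fin.rev_rev]
      rw [hMat_apply, if_neg this, mul_zero]
    · intro h
      exact absurd (Finset.mem_univ _) h
  rw [hL, hR]
  unfold aMat cMat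
  simp only [of_apply]
  have hi := i.isLt
  have hj := j.isLt
  by_cases h1 : Fin.rev i = j
  · have h1' : i = Fin.rev j := by rw [← h1, Fin.rev_rev]
    rw [if_pos (Or.inl h1), if_pos h1', h1]
    ring
  · have h1' : ¬ i = Fin.rev j := by
      intro h
      apply h1
      rw [h, Fin.rev_rev]
    rw [if_neg h1']
    by_cases h2 : (Fin.rev i).val + 1 = j.val
    · have h2' : i.val = (Fin.rev j).val + 1 := by
        rw [Fin.val_rev] at h2 ⊢
        omega
      rw [if_pos (Or.inr h2), if_pos h2']
      have hj0 : ¬ j = 0 := by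
        intro h
        rw [h] at h2
        simp at h2
      rw [if_neg hj0]
      have hiff : (Fin.rev i = 0) ↔ (i = Fin.last (m + 2)) := by
        constructor
        · intro h
          apply Fin.ext
          have := congrArg Fin.val h
          rw [Fin.val_rev] at this
          simp at this ⊢
          omega
        · intro h
          apply Fin.ext
          rw [Fin.val_rev, h]
          simp
      by_cases h3 : i = Fin.last (m + 2)
      · rw [if_pos (hiff.mpr h3), if_pos h3]
      · rw [if_neg (fun h => h3 (hiff.mp h)), if_neg h3]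
    · have h2' : ¬ i.val = (Fin.rev j).val + 1 := by
        intro h
        apply h2
        rw [Fin.val_rev] at h ⊢
        omega
      have hor : ¬ (Fin.rev i = j ∨ (Fin.rev i).val + 1 = j.val) := fun h => h.elim h1 h2
      rw [if_neg hor, if_neg h2']
      ring

end Cfsg.Agent.Lib.Helper79.RU
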