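import Mathlib
import Cfsg.Prelude.Def_Blocks
import Cfsg.Prelude.Def_BlockRank
import Cfsg.Agent.Lib.Helper79.RealOdd2
import Cfsg.Agent.Lib.Helper79.DefectSep
import Cfsg.Agent.Lib.Helper82.BlockRank
import Cfsg.Agent.Lib.Helper82.CharSchur
import Cfsg.Agent.Lib.Helper21.OsimaApps
import Cfsg.Agent.Lib.Helper05.CharBasic
import Cfsg.Agent.Lib.Helper05.CharDecomp

set_option autoImplicit false
set_option linter.unusedSectionVars false
set_option linter.style.haveILetI false

namespace Cfsg.Agent.Lib.Helper79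

open Cfsg
open Cfsg.Agent.Lib.Helper21 Cfsg.Agent.Lib.Helper82 Cfsg.Agent.Lib.Helper22
open scoped ComplexConjugate

section RegSpan

universe u
variable {G : Type u} [Group G] [Fintype G] {p : ℕ} [Fact p.Prime] {M : Ideal AlgInt}

/-- `p ^ d` times the multiplicity of an irreducible character in the `p`-regular part of a
member of a block of defect `d` is an integer. -/
theorem pow_defect_mul_classInner_pRegularPart_int (hM : IsPModular p M)
    {B : Set (IrrCharacter G)} (hB : IsPBlock M B) (ψ ξ : IrrCharacter G) (hψ : ψ ∈ B) :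
    ∃ n : ℤ, (p : ℂ) ^ blockDefect p B *
      classInner (pRegularPart p (ψ : G → ℂ)) (ξ : G → ℂ) = (n : ℂ) := by
  classical
  have hp : p.Prime := hM.1
  have hMp : M.IsPrime := hM.2.1.isPrime
  have hψc : IsCharacter G (ψ : G → ℂ) := IsIrrCharacter.isCharacter ψ.2
  have hξc : IsCharacter G (ξ : G → ℂ) := IsIrrCharacter.isCharacter ξ.2
  set a := (Nat.card G).factorization p with ha
  set d := blockDefect p B with hd
  set r := classInner (pRegularPart p (ψ : G → ℂ)) (ξ : G → ℂ) with hr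
  have hG0 : Nat.card G ≠ 0 := Nat.card_pos.ne'
  have hG0' : (Nat.card G : ℂ) ≠ 0 := Nat.cast_ne_zero.2 hG0
  have hp0 : (p : ℂ) ≠ 0 := Nat.cast_ne_zero.2 hp.ne_zero
  have hrsum : r = (Nat.card G : ℂ)⁻¹ *
      ∑ x : G, (if p ∣ orderOf x then 0 else (ψ : G → ℂ) x * conj ((ξ : G → ℂ) x)) :=
    classInner_pRegularPart_left _ _
  -- (i) `r` is rational
  have hrat : ∃ q : ℚ, r = (q : ℂ) := by
    have hθ : IsCharacter G ((ψ : G → ℂ) * fun x => conj ((ξ : G → ℂ) x)) :=
      Cfsg.Agent.Lib.Helper05.isCharacter_mul hψc (Cfsg.Agent.Lib.Helper05.isCharacter_conj hξc)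
    obtain ⟨q, hq⟩ := sum_pow_stable_rat hθ (fun x : G => ¬ p ∣ orderOf x) (by
      intro m hm x
      have hco : (orderOf x).Coprime m :=
        Nat.Coprime.coprime_dvd_left (orderOf_dvd_natCard x) hm.symm
      rw [hco.orderOf_pow])
    refine ⟨q / (Nat.card G : ℚ), ?_⟩
    rw [hrsum]
    have : ∑ x : G, (if p ∣ orderOf x then 0 else (ψ : G → ℂ) x * conj ((ξ : G → ℂ) x)) =
        (q : ℂ) := by
      rw [← hq]
      refine Finset.sum_congr rfl fun x _ => ?_
      rw [ite_not]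
      rfl
    rw [this]
    push_cast
    field_simp
  -- (ii) `p ^ a * r` is an algebraic integer
  have hint1 : IsIntegral ℤ ((p : ℂ) ^ a * r) := by
    have hθ : IsCharacter G ((fun x => conj ((ψ : G → ℂ) x)) * (ξ : G → ℂ)) :=
      Cfsg.Agent.Lib.Helper05.isCharacter_mul (Cfsg.Agent.Lib.Helper05.isCharacter_conj hψc) hξc
    have h1 := pRegular_sum_isIntegral p hp hθ
    have h2 : classInner
        (fun x : G => if p ∣ orderOf x then 0 else ((p ^ (Nat.card G).factorization p : ℕ) : ℂ))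
        ((fun x => conj ((ψ : G → ℂ) x)) * (ξ : G → ℂ)) = (p : ℂ) ^ a * r := by
      have h3 : (p : ℂ) ^ a * r = (Nat.card G : ℂ)⁻¹ * ∑ x : G, (p : ℂ) ^ a *
          (if p ∣ orderOf x then 0 else (ψ : G → ℂ) x * conj ((ξ : G → ℂ) x)) := by
        rw [hrsum, ← Finset.mul_sum]
        ring
      rw [h3, Cfsg.Agent.Lib.Helper83.classInner_def]
      refine congrArg _ (Finset.sum_congr rfl fun x _ => ?_)
      split_ifs
      · simp
      · simp only [Pi.mul_apply, map_mul, Complex.conj_conj]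
        push_cast
        rfl
    rw [← h2]
    exact h1
  -- (iii) `g₀ * p ^ d * r` is an algebraic integer
  set f : G → ℂ := fun x => if p ∣ orderOf x then 0 else conj ((ξ : G → ℂ) x) with hf
  have hfcl : IsClassFunction G f := by
    intro g h
    have hord : orderOf (h * g * h⁻¹) = orderOf g := by
      have := (MulAut.conj h).orderOf_eq g
      rwa [MulAut.conj_apply] at this
    simp only [hf, hord, Cfsg.Agent.Lib.Helper83.isClassFunction_irr ξ g h]
  have hfint : ∀ x, IsIntegral ℤ (f x) := by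
    intro x
    simp only [hf]
    split_ifs
    · exact isIntegral_zero
    · exact Cfsg.Agent.S0908.isIntegral_conj (IsCharacter.isIntegral hξc x)
  have homint : IsIntegral ℤ (omega f (ψ : G → ℂ)) := by
    rw [omega_eq_sum_classes hfcl (Cfsg.Agent.Lib.Helper83.isClassFunction_irr ψ)]
    refine IsIntegral.sum _ fun K _ => ?_
    exact (hfint _).mul (IsIrrCharacter.isIntegral_centralChar ψ.2 _)
  have hdeg : ((charDegree (ψ : G → ℂ) : ℕ) : ℂ) = (ψ : G → ℂ) 1 :=
    IsCharacter.charDegree_cast hψc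
  have hdegpos : 0 < charDegree (ψ : G → ℂ) := IsIrrCharacter.charDegree_pos ψ.2
  have hψ1 : (ψ : G → ℂ) 1 ≠ 0 := by
    rw [← hdeg]
    exact Nat.cast_ne_zero.2 hdegpos.ne'
  have hom : omega f (ψ : G → ℂ) = (Nat.card G : ℂ) * r / (ψ : G → ℂ) 1 := by
    rw [omega, hrsum, ← mul_assoc, mul_inv_cancel₀ hG0', one_mul]
    congr 1
    refine Finset.sum_congr rfl fun x _ => ?_
    simp only [hf]
    split_ifs
    · simp
    · ring
  have hsum0 := sInf_add_blockDefect (p := p) hMp hB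
  have hle : sInf ((fun χ : IrrCharacter G => (charDegree (χ : G → ℂ)).factorization p) '' B) ≤
      (charDegree (ψ : G → ℂ)).factorization p := Nat.sInf_le (Set.mem_image_of_mem _ hψ)
  have hda : d ≤ a := by omega
  obtain ⟨c, hc⟩ : p ^ a ∣ charDegree (ψ : G → ℂ) * p ^ d := by
    have h1 : p ^ ((charDegree (ψ : G → ℂ)).factorization p + d) ∣
        charDegree (ψ : G → ℂ) * p ^ d := by
      rw [pow_add]
      exact Nat.mul_dvd_mul (Nat.ordProj_dvd _ _) (dvd_refl _)
    exact dvd_trans (pow_dvd_pow p (by omega)) h1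
  obtain ⟨g₀, hg₀⟩ : p ^ a ∣ Nat.card G := Nat.ordProj_dvd _ _
  have hg₀' : g₀ = Nat.card G / p ^ a := by
    rw [hg₀, Nat.mul_div_cancel_left _ (pow_pos hp.pos a)]
  have hcop : (p ^ (a - d)).Coprime g₀ := by
    apply Nat.Coprime.pow_left
    rw [Nat.Prime.coprime_iff_not_dvd hp, hg₀']
    exact Nat.not_dvd_ordCompl hp hG0
  have hint2 : IsIntegral ℤ ((g₀ : ℂ) * (p : ℂ) ^ d * r) := by
    have h1 : (g₀ : ℂ) * (p : ℂ) ^ d * r = (c : ℂ) * omega f (ψ : G → ℂ) := by
      rw [hom, ← hdeg]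
      have hcC : ((charDegree (ψ : G → ℂ) : ℕ) : ℂ) * (p : ℂ) ^ d = (p : ℂ) ^ a * (c : ℂ) := by
        exact_mod_cast hc
      have hgC : (Nat.card G : ℂ) = (p : ℂ) ^ a * (g₀ : ℂ) := by
        exact_mod_cast hg₀
      have hdeg0 : ((charDegree (ψ : G → ℂ) : ℕ) : ℂ) ≠ 0 := Nat.cast_ne_zero.2 hdegpos.ne'
      have hpa : (p : ℂ) ^ a ≠ 0 := pow_ne_zero _ hp0
      rw [hgC]
      field_simp
      linear_combination ((g₀ : ℂ) * r) * hcC
    rw [h1]
    have h2 : IsIntegral ℤ ((c : ℂ)) := by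
      have := isIntegral_algebraMap (R := ℤ) (A := ℂ) (x := (c : ℤ))
      simpa using this
    exact h2.mul homint
  -- (iv) Bezout
  have hbez : IsCoprime ((p ^ (a - d) : ℕ) : ℤ) (g₀ : ℤ) := Nat.isCoprime_iff_coprime.2 hcop
  obtain ⟨u, v, huv⟩ := hbez
  have hcomb : (p : ℂ) ^ d * r = (u : ℂ) * ((p : ℂ) ^ a * r) +
      (v : ℂ) * ((g₀ : ℂ) * (p : ℂ) ^ d * r) := by
    have h1 : (u : ℂ) * (p : ℂ) ^ (a - d) + (v : ℂ) * (g₀ : ℂ) = 1 := by
      exact_mod_cast huv
    have h2 : (p : ℂ) ^ a = (p : ℂ) ^ (a - d) * (p : ℂ) ^ d := by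
      rw [← pow_add, Nat.sub_add_cancel hda]
    rw [h2]
    linear_combination (-(p : ℂ) ^ d * r) * h1
  have hint : IsIntegral ℤ ((p : ℂ) ^ d * r) := by
    rw [hcomb]
    exact ((isIntegral_algebraMap (R := ℤ) (A := ℂ) (x := u)).mul hint1).add
      ((isIntegral_algebraMap (R := ℤ) (A := ℂ) (x := v)).mul hint2)
  obtain ⟨q, hq⟩ := hrat
  exact exists_int_of_rat_of_isIntegral hint ((p : ℚ) ^ d * q) (by rw [hq]; push_cast; rfl)

end RegSpan

end Cfsg.Agent.Lib.Helper79
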