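import Mathlib
import Cfsg.Prelude.Def_Blocks
import Cfsg.Prelude.Def_BlockRank
import Cfsg.Agent.S4426
import Cfsg.Agent.Lib.Helper79.RegSpan
import Cfsg.Agent.Lib.Helper79.DefectSep
import Cfsg.Agent.Lib.Helper82.BlockRank
import Cfsg.Agent.Lib.Helper83.Orthogonality

set_option autoImplicit false
set_option linter.unusedSectionVars false
set_option linter.style.haveILetI false
set_option maxHeartbeats 800000

namespace Cfsg.Agent.Lib.Helper79

open Cfsg
open Cfsg.Agent.Lib.Helper21 Cfsg.Agent.Lib.Helper82 Cfsg.Agent.Lib.Helper22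
open scoped ComplexConjugate

section RankOne

universe u
variable {G : Type u} [Group G] [Fintype G] {p : ℕ} [Fact p.Prime] {M : Ideal AlgInt}

/-- structure of a block of `p`-regular rank one: all members are natural multiples, on the
`p`-regular elements, of one integer combination of them, and the squares of the multipliers add up
to `p ^ d`, `d` the defect. -/
theorem rank_one_structure (hM : IsPModular p M) {B : Set (IrrCharacter G)} (hB : IsPBlock M B)
    [DecidablePred (· ∈ B)] [Fintype (IrrCharacter G)]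
    (hl : blockRank p B = 1) :
    ∃ φ : G → ℂ, ∃ d : IrrCharacter G → ℕ,
      (∃ n : IrrCharacter G → ℤ, ∀ x : G, ¬ p ∣ orderOf x →
        φ x = ∑ ψ : IrrCharacter G, if ψ ∈ B then (n ψ : ℂ) * (ψ : G → ℂ) x else 0) ∧
      (∀ χ ∈ B, ∀ x : G, ¬ p ∣ orderOf x → (χ : G → ℂ) x = (d χ : ℂ) * φ x) ∧
      ∑ χ : IrrCharacter G, (if χ ∈ B then d χ ^ 2 else 0) = p ^ blockDefect p B := by
  classical
  have hp : p.Prime := hM.1
  have hMp : M.IsPrime := hM.2.1.isPrime
  set a := (Nat.card G).factorization p with ha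
  set dB := blockDefect p B with hdB
  -- a height zero character
  have hsum0 := sInf_add_blockDefect (p := p) hMp hB
  obtain ⟨χ₁, hχ₁⟩ := IsPBlock.nonempty hMp hB
  have hne : ((fun χ : IrrCharacter G => (charDegree (χ : G → ℂ)).factorization p) '' B).Nonempty :=
    ⟨_, Set.mem_image_of_mem _ hχ₁⟩
  obtain ⟨χ₀, hχ₀, hχ₀e⟩ := Nat.sInf_mem hne
  have hχ₀e' : (charDegree (χ₀ : G → ℂ)).factorization p =
      sInf ((fun χ : IrrCharacter G => (charDegree (χ : G → ℂ)).factorization p) '' B) := hχ₀e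
  have hν₀ : (charDegree (χ₀ : G → ℂ)).factorization p + dB = a := by rw [hχ₀e']; exact hsum0
  have hheight : blockHeight p B (χ₀ : G → ℂ) = 0 := by
    rw [blockHeight, hχ₀e']
    exact Nat.sub_self _
  -- degrees
  have hdegC : ∀ χ : IrrCharacter G, ((charDegree (χ : G → ℂ) : ℕ) : ℂ) = (χ : G → ℂ) 1 :=
    fun χ => IsCharacter.charDegree_cast (IsIrrCharacter.isCharacter χ.2)
  have hdegpos : ∀ χ : IrrCharacter G, 0 < charDegree (χ : G → ℂ) :=
    fun χ => IsIrrCharacter.charDegree_pos χ.2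
  have hχ₀1 : (χ₀ : G → ℂ) 1 ≠ 0 := by
    rw [← hdegC]
    exact Nat.cast_ne_zero.2 (hdegpos χ₀).ne'
  have hone : ¬ p ∣ orderOf (1 : G) := by
    rw [orderOf_one]
    intro h
    exact hp.one_lt.ne' (Nat.dvd_one.1 h)
  -- Step 1: proportionality
  set S : Set (G → ℂ) := (fun χ : IrrCharacter G => pRegularPart p (χ : G → ℂ)) '' B with hS
  have hfin : Module.finrank ℂ ↥(Submodule.span ℂ S) = 1 := hl
  have hv0 : pRegularPart p (χ₀ : G → ℂ) ≠ 0 := by
    intro h
    have := congrFun h 1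
    rw [pRegularPart_of_regular _ hone] at this
    exact hχ₀1 this
  have hprop : ∀ χ ∈ B, ∀ x : G, pRegularPart p (χ : G → ℂ) x =
      ((χ : G → ℂ) 1 / (χ₀ : G → ℂ) 1) * pRegularPart p (χ₀ : G → ℂ) x := by
    intro χ hχ x
    have hmem₀ : pRegularPart p (χ₀ : G → ℂ) ∈ Submodule.span ℂ S :=
      Submodule.subset_span ⟨χ₀, hχ₀, rfl⟩
    have hmem : pRegularPart p (χ : G → ℂ) ∈ Submodule.span ℂ S :=
      Submodule.subset_span ⟨χ, hχ, rfl⟩
    have hnz : (⟨_, hmem₀⟩ : ↥(Submodule.span ℂ S)) ≠ 0 := by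
      intro h
      exact hv0 (congrArg Subtype.val h)
    obtain ⟨c, hc⟩ := (finrank_eq_one_iff_of_nonzero' _ hnz).1 hfin ⟨_, hmem⟩
    have hc' : c • pRegularPart p (χ₀ : G → ℂ) = pRegularPart p (χ : G → ℂ) :=
      congrArg Subtype.val hc
    have h1 := congrFun hc' 1
    rw [Pi.smul_apply, smul_eq_mul, pRegularPart_of_regular _ hone,
      pRegularPart_of_regular _ hone] at h1
    have hcval : c = (χ : G → ℂ) 1 / (χ₀ : G → ℂ) 1 := by
      rw [← h1]
      field_simp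
    rw [← hcval, ← hc']
    rfl
  -- Step 2: gcd
  set s : Finset (IrrCharacter G) := Finset.univ.filter (· ∈ B) with hs
  have hmems : ∀ χ, χ ∈ s ↔ χ ∈ B := fun χ => by rw [hs, Finset.mem_filter]; simp
  set f : IrrCharacter G → ℤ := fun χ => (charDegree (χ : G → ℂ) : ℤ) with hf
  obtain ⟨n, hn⟩ := Finset.gcd_eq_sum_mul s f
  have hg0 : s.gcd f ≠ 0 := by
    rw [Finset.gcd_ne_zero_iff]
    exact ⟨χ₀, (hmems χ₀).2 hχ₀, by simp only [hf]; exact_mod_cast (hdegpos χ₀).ne'⟩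
  have hgnn : 0 ≤ s.gcd f := Finset.Int.finsetGcd_nonneg
  set G0 : ℕ := (s.gcd f).toNat with hG0
  have hG0g : (G0 : ℤ) = s.gcd f := Int.toNat_of_nonneg hgnn
  have hG0pos : 0 < G0 := by
    rcases Nat.eq_zero_or_pos G0 with h | h
    · exfalso
      rw [h] at hG0g
      exact hg0 hG0g.symm
    · exact h
  have hG0dvd : ∀ χ ∈ B, G0 ∣ charDegree (χ : G → ℂ) := by
    intro χ hχ
    have : s.gcd f ∣ f χ := Finset.gcd_dvd ((hmems χ).2 hχ)
    rw [← hG0g] at this
    exact Int.natCast_dvd_natCast.1 this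
  set d : IrrCharacter G → ℕ := fun χ => charDegree (χ : G → ℂ) / G0 with hd
  have hdmul : ∀ χ ∈ B, G0 * d χ = charDegree (χ : G → ℂ) :=
    fun χ hχ => Nat.mul_div_cancel' (hG0dvd χ hχ)
  have hG0C : (G0 : ℂ) ≠ 0 := Nat.cast_ne_zero.2 hG0pos.ne'
  set φ : G → ℂ := fun x => ((G0 : ℂ) / (χ₀ : G → ℂ) 1) * pRegularPart p (χ₀ : G → ℂ) x with hφ
  have hclaimB' : ∀ χ ∈ B, ∀ x : G, pRegularPart p (χ : G → ℂ) x = (d χ : ℂ) * φ x := by
    intro χ hχ x
    rw [hprop χ hχ x, hφ, ← hdegC χ, ← hdmul χ hχ]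
    push_cast
    field_simp
  have hbez : ∑ χ ∈ s, (d χ : ℤ) * n χ = 1 := by
    have h1 : (G0 : ℤ) = ∑ χ ∈ s, f χ * n χ := by rw [hG0g, hn]
    have h2 : ∑ χ ∈ s, f χ * n χ = (G0 : ℤ) * ∑ χ ∈ s, (d χ : ℤ) * n χ := by
      rw [Finset.mul_sum]
      refine Finset.sum_congr rfl fun χ hχ => ?_
      simp only [hf]
      rw [← hdmul χ ((hmems χ).1 hχ)]
      push_cast
      ring
    rw [h2] at h1
    have hG0Z : (G0 : ℤ) ≠ 0 := by exact_mod_cast hG0pos.ne'
    have h3 : (G0 : ℤ) * 1 = (G0 : ℤ) * ∑ χ ∈ s, (d χ : ℤ) * n χ := by rw [mul_one]; exact h1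
    exact (mul_left_cancel₀ hG0Z h3).symm
  refine ⟨φ, d, ⟨n, ?_⟩, ?_, ?_⟩
  · -- Claim A
    intro x hx
    have h1 : ∑ ψ : IrrCharacter G, (if ψ ∈ B then (n ψ : ℂ) * (ψ : G → ℂ) x else 0) =
        ∑ ψ ∈ s, ((d ψ : ℤ) * n ψ : ℤ) * φ x := by
      rw [hs, Finset.sum_filter]
      refine Finset.sum_congr rfl fun ψ _ => ?_
      split_ifs with hψ
      · have := hclaimB' ψ hψ x
        rw [pRegularPart_of_regular _ hx] at this
        rw [this]
        push_cast
        ring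
      · rfl
    rw [h1, ← Finset.sum_mul, ← Int.cast_sum, hbez, Int.cast_one, one_mul]
  · -- Claim B
    intro χ hχ x hx
    have := hclaimB' χ hχ x
    rw [pRegularPart_of_regular _ hx] at this
    exact this
  · -- Claim C
    set c : ℕ := ∑ χ : IrrCharacter G, (if χ ∈ B then d χ ^ 2 else 0) with hc
    set N : ℂ := classInner φ φ with hN
    have hfun : ∀ χ ∈ B, pRegularPart p (χ : G → ℂ) = (d χ : ℂ) • φ := by
      intro χ hχ
      funext x
      rw [hclaimB' χ hχ x]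
      rfl
    have hinner : ∀ χ ∈ B, ∀ ψ ∈ B, classInner (pRegularPart p (χ : G → ℂ)) (ψ : G → ℂ) =
        (d χ : ℂ) * (d ψ : ℂ) * N := by
      intro χ hχ ψ hψ
      have h1 : classInner (pRegularPart p (χ : G → ℂ)) (ψ : G → ℂ) =
          classInner (pRegularPart p (χ : G → ℂ)) (pRegularPart p (ψ : G → ℂ)) := by
        rw [← classInner_pRegularPart_comm, pRegularPart_idem]
      rw [h1, hfun χ hχ, hfun ψ hψ, Cfsg.Agent.Lib.Helper83.classInner_smul_left,
        Cfsg.Agent.Lib.Helper83.classInner_smul_right, Complex.conj_natCast]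
      ring
    -- trace formula
    obtain ⟨χ₂, rfl⟩ := hB
    have htrace := blockRank_eq_sum (p := p) hM χ₂
    rw [hl] at htrace
    have hcN : (c : ℂ) * N = 1 := by
      rw [Nat.cast_one] at htrace
      rw [htrace, hc]
      push_cast
      rw [Finset.sum_mul]
      refine Finset.sum_congr rfl fun χ _ => ?_
      split_ifs with hχ
      · rw [hinner χ hχ χ hχ]
        ring
      · simp
    have hc0 : (c : ℂ) ≠ 0 := by
      intro h
      rw [h, zero_mul] at hcN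
      exact zero_ne_one hcN
    have hcpos : 0 < c := by
      rcases Nat.eq_zero_or_pos c with h | h
      · exfalso; apply hc0; rw [h]; simp
      · exact h
    have hNval : N = 1 / (c : ℂ) := by
      field_simp
      rw [mul_comm]
      exact hcN
    -- integrality
    have hint : ∀ χ ∈ blockOf M (χ₂ : G → ℂ), ∀ ψ ∈ blockOf M (χ₂ : G → ℂ), ∃ m : ℤ,
        (p : ℂ) ^ dB * ((d χ : ℂ) * (d ψ : ℂ) * N) = (m : ℂ) := by
      intro χ hχ ψ hψ
      obtain ⟨m, hm⟩ := pow_defect_mul_classInner_pRegularPart_int hM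
        (isPBlock_blockOf (M := M) χ₂) χ ψ hχ
      exact ⟨m, by rw [← hinner χ hχ ψ hψ]; exact hm⟩
    choose! m hm using hint
    have hpdN : (p : ℂ) ^ dB * N =
        ((∑ χ ∈ s, ∑ ψ ∈ s, n χ * n ψ * m χ ψ : ℤ) : ℂ) := by
      have h1 : ((∑ χ ∈ s, (d χ : ℤ) * n χ : ℤ) : ℂ) = 1 := by rw [hbez]; simp
      have h2 : (p : ℂ) ^ dB * N = (p : ℂ) ^ dB * N *
          (((∑ χ ∈ s, (d χ : ℤ) * n χ : ℤ) : ℂ) * ((∑ ψ ∈ s, (d ψ : ℤ) * n ψ : ℤ) : ℂ)) := by
        rw [h1]; ring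
      rw [h2]
      push_cast
      rw [Finset.sum_mul_sum, Finset.mul_sum]
      refine Finset.sum_congr rfl fun χ hχ => ?_
      rw [Finset.mul_sum]
      refine Finset.sum_congr rfl fun ψ hψ => ?_
      rw [← hm χ ((hmems χ).1 hχ) ψ ((hmems ψ).1 hψ)]
      ring
    set mm : ℤ := ∑ χ ∈ s, ∑ ψ ∈ s, n χ * n ψ * m χ ψ with hmm
    have hdvd1 : c ∣ p ^ dB := by
      have h1 : ((p ^ dB : ℕ) : ℤ) = mm * (c : ℤ) := by
        have : (((p ^ dB : ℕ) : ℤ) : ℂ) = ((mm * (c : ℤ) : ℤ) : ℂ) := by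
          push_cast
          rw [← hpdN, hNval]
          field_simp
        exact_mod_cast this
      have : (c : ℤ) ∣ ((p ^ dB : ℕ) : ℤ) := ⟨mm, by rw [h1]; ring⟩
      exact Int.natCast_dvd_natCast.1 this
    -- S4426 lower bound
    obtain ⟨n', hn', hn'0, hn'ν⟩ := ((Cfsg.Agent.S4426.result p M hM _
      (isPBlock_blockOf (M := M) χ₂) χ₀ hχ₀).2.mp hheight) χ₀ hχ₀
    have hG0' : (Nat.card G : ℂ) ≠ 0 := Nat.cast_ne_zero.2 Nat.card_pos.ne'
    have hn'' : (p : ℂ) ^ a * ((d χ₀ : ℂ) * (d χ₀ : ℂ) * N) = (n' : ℂ) := by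
      rw [← hinner χ₀ hχ₀ χ₀ hχ₀, ← hn', classInner_pRegularPart_left,
        Cfsg.Agent.Lib.Helper83.classInner_def]
      have h3 : (p : ℂ) ^ a * ((Nat.card G : ℂ)⁻¹ * ∑ x : G,
          (if p ∣ orderOf x then 0 else (χ₀ : G → ℂ) x * conj ((χ₀ : G → ℂ) x))) =
          (Nat.card G : ℂ)⁻¹ * ∑ x : G, (p : ℂ) ^ a *
          (if p ∣ orderOf x then 0 else (χ₀ : G → ℂ) x * conj ((χ₀ : G → ℂ) x)) := by
        rw [← Finset.mul_sum]
        ring
      rw [h3]
      refine congrArg _ (Finset.sum_congr rfl fun x _ => ?_)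
      split_ifs
      · simp
      · push_cast
        ring
    have heqZ : ((p ^ a * d χ₀ ^ 2 : ℕ) : ℤ) = n' * (c : ℤ) := by
      have : (((p ^ a * d χ₀ ^ 2 : ℕ) : ℤ) : ℂ) = ((n' * (c : ℤ) : ℤ) : ℂ) := by
        push_cast
        rw [← hn'', hNval]
        field_simp
      exact_mod_cast this
    have hd₀pos : 0 < d χ₀ := by
      rcases Nat.eq_zero_or_pos (d χ₀) with h | h
      · exfalso
        have := hdmul χ₀ hχ₀
        rw [h, mul_zero] at this
        exact (hdegpos χ₀).ne' this.symm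
      · exact h
    have hn'pos : 0 < n' := by
      have h1 : (0 : ℤ) < ((p ^ a * d χ₀ ^ 2 : ℕ) : ℤ) := by
        exact_mod_cast Nat.mul_pos (pow_pos hp.pos a) (pow_pos hd₀pos 2)
      rw [heqZ] at h1
      have hcZ : (0 : ℤ) < (c : ℤ) := by exact_mod_cast hcpos
      exact (mul_pos_iff_of_pos_right hcZ).1 h1
    obtain ⟨n'', rfl⟩ := Int.eq_ofNat_of_zero_le hn'pos.le
    have heqN : p ^ a * d χ₀ ^ 2 = n'' * c := by exact_mod_cast heqZ
    have hn''0 : n'' ≠ 0 := by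
      rintro rfl
      exact hn'0 rfl
    have hval := congrArg (padicValNat p) heqN
    rw [padicValNat.mul (pow_pos hp.pos a).ne' (pow_pos hd₀pos 2).ne',
      padicValNat.mul hn''0 hcpos.ne', padicValNat.prime_pow, padicValNat.pow] at hval
    rw [padicValInt.of_nat] at hn'ν
    have hdvd2 : p ^ dB ∣ c := by
      rw [padicValNat_dvd_iff_le hcpos.ne']
      omega
    exact Nat.dvd_antisymm hdvd1 hdvd2

end RankOne

end Cfsg.Agent.Lib.Helper79
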