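import Mathlib
import Cfsg.Prelude.Def_Blocks
import Cfsg.Agent.Lib.Helper82.ResidueField
import Cfsg.Agent.Lib.Helper82.CharBasic
import Cfsg.Agent.Lib.Helper83.CharBasic

set_option autoImplicit false
set_option linter.unusedSectionVars false
set_option linter.style.haveILetI false

namespace Cfsg.Agent.Lib.Helper79

open Cfsg
open Cfsg.Agent.Lib.Helper82
open scoped ComplexConjugate

section RealOdd

variable {G : Type*} [Group G] [Fintype G] {M : Ideal AlgInt}

/-- for a real-valued character of odd degree, the sum of the values on the elements of odd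
order is a unit modulo a maximal ideal over `2`. -/
theorem sum_odd_not_memLocalIdeal (hM : IsPModular 2 M) {χ : G → ℂ} (hχ : IsCharacter G χ)
    (hreal : ∀ g, (χ g).im = 0) (hodd : Odd (charDegree χ))
    [DecidablePred fun x : G => 2 ∣ orderOf x] :
    ¬ MemLocalIdeal M (∑ x : G, if 2 ∣ orderOf x then 0 else χ x) := by
  classical
  have hMp : M.IsPrime := hM.2.1.isPrime
  haveI : CharP (LocalResidue M hMp) 2 := localResidue_charP hM
  set c : G → localSubring M hMp := fun x =>
    ⟨χ x, memLocalRing_of_isIntegral hMp (IsCharacter.isIntegral hχ x)⟩ with hc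
  have hcoe : ((∑ x : G, if 2 ∣ orderOf x then 0 else c x : localSubring M hMp) : ℂ) =
      ∑ x : G, if 2 ∣ orderOf x then 0 else χ x := by
    push_cast
    apply Finset.sum_congr rfl
    intro x _
    split_ifs <;> rfl
  intro hmem
  rw [← hcoe, ← residueMap_eq_zero_iff, map_sum] at hmem
  rw [← Finset.add_sum_erase Finset.univ _ (Finset.mem_univ (1 : G))] at hmem
  have hinv : ∀ x : G, c x⁻¹ = c x := by
    intro x
    apply Subtype.ext
    show χ x⁻¹ = χ x
    rw [Cfsg.Agent.Lib.Helper83.char_inv hχ x, Complex.conj_eq_iff_im]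
    exact hreal x
  have hFinv : ∀ x : G, residueMap M hMp (if 2 ∣ orderOf x⁻¹ then 0 else c x⁻¹) =
      residueMap M hMp (if 2 ∣ orderOf x then 0 else c x) := by
    intro x
    by_cases h : 2 ∣ orderOf x
    · have h' : 2 ∣ orderOf x⁻¹ := by rwa [orderOf_inv]
      rw [if_pos h, if_pos h']
    · have h' : ¬ 2 ∣ orderOf x⁻¹ := by rwa [orderOf_inv]
      rw [if_neg h, if_neg h', hinv x]
  have hrest : ∑ x ∈ Finset.univ.erase (1 : G),
      residueMap M hMp (if 2 ∣ orderOf x then 0 else c x) = 0 := by
    refine Finset.sum_involution (fun x _ => x⁻¹) ?_ ?_ ?_ ?_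
    · intro x _
      rw [hFinv x]
      exact CharTwo.add_self_eq_zero _
    · intro x hx hne hxx
      have hx1 : x ≠ 1 := (Finset.mem_erase.mp hx).1
      have h2 : ¬ 2 ∣ orderOf x := by
        intro h
        apply hne
        rw [if_pos h, map_zero]
      have h3 : x ^ 2 = 1 := by
        rw [pow_two]
        nth_rewrite 1 [← hxx]
        exact inv_mul_cancel x
      have h4 : orderOf x ∣ 2 := orderOf_dvd_of_pow_eq_one h3
      rcases (Nat.dvd_prime Nat.prime_two).mp h4 with h5 | h5
      · exact hx1 (orderOf_eq_one_iff.mp h5)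
      · exact h2 (by rw [h5])
    · intro x hx
      rw [Finset.mem_erase] at hx ⊢
      exact ⟨fun h => hx.1 (inv_eq_one.mp h), Finset.mem_univ _⟩
    · intro x _
      exact inv_inv x
  have h11 : ¬ 2 ∣ orderOf (1 : G) := by rw [orderOf_one]; norm_num
  rw [hrest, add_zero, if_neg h11] at hmem
  -- the value at 1 is the degree, an odd number
  have h1 : c 1 = ((charDegree χ : ℕ) : localSubring M hMp) := by
    apply Subtype.ext
    show χ 1 = _
    rw [← IsCharacter.charDegree_cast hχ]
    push_cast
    rfl
  rw [h1, map_natCast] at hmem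
  obtain ⟨k, hk⟩ := hodd
  rw [hk] at hmem
  push_cast at hmem
  have h2 : (2 : LocalResidue M hMp) = 0 := by
    have := CharP.cast_eq_zero (LocalResidue M hMp) 2
    exact_mod_cast this
  rw [h2, zero_mul, zero_add] at hmem
  exact one_ne_zero hmem

end RealOdd

end Cfsg.Agent.Lib.Helper79
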