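import Mathlib

set_option autoImplicit false

namespace Cfsg.Agent.Lib.Helper79

section RealTwo

variable {G : Type*} [Group G]

/-- if `y` commutes with `v * v`, then `v` inverts the commutator `v⁻¹ * (y⁻¹ * v * y)`. -/
theorem conj_comm_eq_inv (v y : G) (h : y * (v * v) = (v * v) * y) :
    v⁻¹ * (v⁻¹ * (y⁻¹ * v * y)) * v⁻¹⁻¹ = (v⁻¹ * (y⁻¹ * v * y))⁻¹ := by
  have hw : (y⁻¹ * v * y) * (y⁻¹ * v * y) = v * v := by
    calc (y⁻¹ * v * y) * (y⁻¹ * v * y) = y⁻¹ * ((v * v) * y) := by group
      _ = y⁻¹ * (y * (v * v)) := by rw [h]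
      _ = v * v := by group
  set w := y⁻¹ * v * y with hw_def
  have h1 : v⁻¹ * v⁻¹ = w⁻¹ * w⁻¹ := by
    have : (v * v)⁻¹ = (w * w)⁻¹ := by rw [hw]
    simpa [mul_inv_rev] using this
  calc v⁻¹ * (v⁻¹ * w) * v⁻¹⁻¹ = (v⁻¹ * v⁻¹) * w * v := by rw [inv_inv]; group
    _ = (w⁻¹ * w⁻¹) * w * v := by rw [h1]
    _ = (v⁻¹ * w)⁻¹ := by group

/-- iterating a conjugation that multiplies by a central element. -/
theorem conj_pow_of_central (v y u : G) (hu : ∀ g : G, g * u = u * g)
    (h : y⁻¹ * v * y = v * u) (k : ℕ) : (y ^ k)⁻¹ * v * y ^ k = v * u ^ k := by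
  induction k with
  | zero => simp
  | succ k ih =>
    calc (y ^ (k + 1))⁻¹ * v * y ^ (k + 1) = y⁻¹ * ((y ^ k)⁻¹ * v * y ^ k) * y := by
          rw [pow_succ]; group
      _ = y⁻¹ * (v * u ^ k) * y := by rw [ih]
      _ = (y⁻¹ * v * y) * u ^ k := by
          have hk : ∀ g : G, g * u ^ k = u ^ k * g := by
            intro g
            induction k with
            | zero => simp
            | succ m ihm =>
              have := (Commute.pow_right (show Commute g u from hu g) (m + 1)).eq
              exact this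
          rw [mul_assoc y⁻¹ (v * u ^ k) y, mul_assoc v (u ^ k) y, ← hk y]
          group
      _ = v * u ^ (k + 1) := by rw [h, pow_succ', mul_assoc]

/-- If every real 2-element is central, odd-order elements of the normalizer of a 2-subgroup
centralize it (Frobenius' condition). -/
theorem mem_centralizer_of_real_central
    (h : ∀ x : G, (∃ j : ℕ, orderOf x = 2 ^ j) → IsConj x x⁻¹ → x ∈ Subgroup.center G)
    (Q : Subgroup G) (hQ : IsPGroup 2 Q) (y : G) (hy : y ∈ Subgroup.normalizer (Q : Set G))
    (hodd : Nat.Coprime (orderOf y) 2) : y ∈ Subgroup.centralizer (Q : Set G) := by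
  have key : ∀ j : ℕ, ∀ v ∈ Q, v ^ (2 ^ j) = 1 → y * v = v * y := by
    intro j
    induction j with
    | zero =>
      intro v _ hv
      rw [pow_zero, pow_one] at hv
      rw [hv, mul_one, one_mul]
    | succ j ih =>
      intro v hvQ hv
      have hv2 : (v * v) ^ (2 ^ j) = 1 := by
        rw [← pow_two, ← pow_mul, ← pow_succ']; exact hv
      have hcomm : y * (v * v) = (v * v) * y := ih (v * v) (Q.mul_mem hvQ hvQ) hv2
      set u := v⁻¹ * (y⁻¹ * v * y) with hu_def
      have hyinv : y⁻¹ ∈ Subgroup.normalizer (Q : Set G) := Subgroup.inv_mem _ hy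
      have hwQ : y⁻¹ * v * y ∈ Q := by
        have := (Subgroup.mem_normalizer_iff.mp hyinv v).mp hvQ
        rwa [inv_inv] at this
      have huQ : u ∈ Q := Q.mul_mem (Q.inv_mem hvQ) hwQ
      have huord : ∃ i : ℕ, orderOf u = 2 ^ i := by
        obtain ⟨k, hk⟩ := hQ ⟨u, huQ⟩
        have hk' : u ^ (2 ^ k) = 1 := by
          have := congrArg Subtype.val hk
          simpa using this
        have hdvd : orderOf u ∣ 2 ^ k := orderOf_dvd_of_pow_eq_one hk'
        obtain ⟨i, _, hi⟩ := (Nat.dvd_prime_pow Nat.prime_two).mp hdvd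
        exact ⟨i, hi⟩
      have hreal : IsConj u u⁻¹ := by
        rw [isConj_iff]
        exact ⟨v⁻¹, conj_comm_eq_inv v y hcomm⟩
      have hcen : u ∈ Subgroup.center G := h u huord hreal
      have hcen' : ∀ g : G, g * u = u * g := fun g => Subgroup.mem_center_iff.mp hcen g
      have hconj : y⁻¹ * v * y = v * u := by rw [hu_def]; group
      have hpow := conj_pow_of_central v y u hcen' hconj (orderOf y)
      rw [pow_orderOf_eq_one, inv_one, one_mul, mul_one] at hpow
      have hu1 : u ^ orderOf y = 1 := by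
        have : v * 1 = v * u ^ orderOf y := by rw [mul_one]; exact hpow
        exact (mul_left_cancel this).symm
      obtain ⟨i, hi⟩ := huord
      have hd1 : orderOf u ∣ orderOf y := orderOf_dvd_of_pow_eq_one hu1
      have hone : orderOf u = 1 := by
        have hcop : Nat.Coprime (orderOf u) (orderOf y) := by
          rw [hi]
          exact Nat.Coprime.pow_left i hodd.symm
        exact Nat.Coprime.eq_one_of_dvd hcop hd1
      have hu_one : u = 1 := orderOf_eq_one_iff.mp hone
      rw [hu_one, mul_one] at hconj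
      calc y * v = y * (y⁻¹ * v * y) := by rw [hconj]
        _ = v * y := by group
  rw [Subgroup.mem_centralizer_iff]
  intro v hv
  obtain ⟨k, hk⟩ := hQ ⟨v, hv⟩
  have hk' : v ^ (2 ^ k) = 1 := by
    have := congrArg Subtype.val hk
    simpa using this
  exact (key k v hv hk').symm

end RealTwo

end Cfsg.Agent.Lib.Helper79
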