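import Mathlib

set_option autoImplicit false

namespace Cfsg.Agent.Lib.Helper79.SN

open Matrix

theorem sn79_mul_apply {F : Type*} [Field F] (A B : SpecialLinearGroup (Fin 2) F) (i j : Fin 2) :
    ((A * B : SpecialLinearGroup (Fin 2) F) : Matrix (Fin 2) (Fin 2) F) i j
      = (A : Matrix (Fin 2) (Fin 2) F) i 0 * (B : Matrix (Fin 2) (Fin 2) F) 0 j
        + (A : Matrix (Fin 2) (Fin 2) F) i 1 * (B : Matrix (Fin 2) (Fin 2) F) 1 j := by
  rw [Matrix.SpecialLinearGroup.coe_mul, Matrix.mul_apply, Fin.sum_univ_two]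

theorem sn79_inv_00 {F : Type*} [Field F] (A : SpecialLinearGroup (Fin 2) F) :
    ((A⁻¹ : SpecialLinearGroup (Fin 2) F) : Matrix (Fin 2) (Fin 2) F) 0 0 = (A : Matrix (Fin 2) (Fin 2) F) 1 1 := by
  rw [Matrix.SpecialLinearGroup.coe_inv, Matrix.adjugate_fin_two]; simp

theorem sn79_inv_10 {F : Type*} [Field F] (A : SpecialLinearGroup (Fin 2) F) :
    ((A⁻¹ : SpecialLinearGroup (Fin 2) F) : Matrix (Fin 2) (Fin 2) F) 1 0 = - (A : Matrix (Fin 2) (Fin 2) F) 1 0 := by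
  rw [Matrix.SpecialLinearGroup.coe_inv, Matrix.adjugate_fin_two]; simp

/-- The subgroup of upper triangular matrices of `SL(2,F)` whose top-left entry is an `m`-th root of unity. -/
def sn79H (F : Type*) [Field F] (m : ℕ) : Subgroup (SpecialLinearGroup (Fin 2) F) where
  carrier := {M | (M : Matrix (Fin 2) (Fin 2) F) 1 0 = 0 ∧ ((M : Matrix (Fin 2) (Fin 2) F) 0 0) ^ m = 1}
  one_mem' := by
    refine ⟨?_, ?_⟩
    · simp
    · simp
  mul_mem' := by
    intro A B hA hB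
    obtain ⟨hA1, hA2⟩ := hA
    obtain ⟨hB1, hB2⟩ := hB
    refine ⟨?_, ?_⟩
    · rw [sn79_mul_apply, hA1, hB1]; ring
    · rw [sn79_mul_apply, hB1, mul_zero, add_zero, mul_pow, hA2, hB2, one_mul]
  inv_mem' := by
    intro A hA
    obtain ⟨hA1, hA2⟩ := hA
    have hdet : (A : Matrix (Fin 2) (Fin 2) F) 0 0 * (A : Matrix (Fin 2) (Fin 2) F) 1 1 = 1 := by
      have := A.2
      rw [Matrix.det_fin_two] at this
      have h0 : (A : Matrix (Fin 2) (Fin 2) F) 1 0 = 0 := hA1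
      rw [h0, mul_zero, sub_zero] at this
      exact this
    refine ⟨?_, ?_⟩
    · rw [sn79_inv_10, hA1, neg_zero]
    · rw [sn79_inv_00]
      have h1 : ((A : Matrix (Fin 2) (Fin 2) F) 0 0 * (A : Matrix (Fin 2) (Fin 2) F) 1 1) ^ m = 1 := by
        rw [hdet, one_pow]
      rw [mul_pow, hA2, one_mul] at h1
      exact h1

theorem sn79_mem_H {F : Type*} [Field F] (m : ℕ) (M : SpecialLinearGroup (Fin 2) F) :
    M ∈ sn79H F m ↔ (M : Matrix (Fin 2) (Fin 2) F) 1 0 = 0 ∧ ((M : Matrix (Fin 2) (Fin 2) F) 0 0) ^ m = 1 :=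
  Iff.rfl

/-- diagonal matrix diag(a, a⁻¹) -/
def sn79D {F : Type*} [Field F] (a : Fˣ) : SpecialLinearGroup (Fin 2) F :=
  ⟨!![(a : F), 0; 0, ((a⁻¹ : Fˣ) : F)], by simp [Matrix.det_fin_two]⟩

/-- the transvection -/
def sn79T (F : Type*) [Field F] : SpecialLinearGroup (Fin 2) F :=
  ⟨!![1, 1; 0, 1], by simp [Matrix.det_fin_two]⟩

theorem sn79D_00 {F : Type*} [Field F] (a : Fˣ) : ((sn79D a : SpecialLinearGroup (Fin 2) F) : Matrix (Fin 2) (Fin 2) F) 0 0 = (a : F) := rfl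
theorem sn79D_01 {F : Type*} [Field F] (a : Fˣ) : ((sn79D a : SpecialLinearGroup (Fin 2) F) : Matrix (Fin 2) (Fin 2) F) 0 1 = 0 := rfl
theorem sn79D_10 {F : Type*} [Field F] (a : Fˣ) : ((sn79D a : SpecialLinearGroup (Fin 2) F) : Matrix (Fin 2) (Fin 2) F) 1 0 = 0 := rfl
theorem sn79D_11 {F : Type*} [Field F] (a : Fˣ) :
    ((sn79D a : SpecialLinearGroup (Fin 2) F) : Matrix (Fin 2) (Fin 2) F) 1 1 = ((a⁻¹ : Fˣ) : F) := rfl
theorem sn79T_00 {F : Type*} [Field F] : ((sn79T F : SpecialLinearGroup (Fin 2) F) : Matrix (Fin 2) (Fin 2) F) 0 0 = 1 := rfl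
theorem sn79T_01 {F : Type*} [Field F] : ((sn79T F : SpecialLinearGroup (Fin 2) F) : Matrix (Fin 2) (Fin 2) F) 0 1 = 1 := rfl
theorem sn79T_10 {F : Type*} [Field F] : ((sn79T F : SpecialLinearGroup (Fin 2) F) : Matrix (Fin 2) (Fin 2) F) 1 0 = 0 := rfl
theorem sn79T_11 {F : Type*} [Field F] : ((sn79T F : SpecialLinearGroup (Fin 2) F) : Matrix (Fin 2) (Fin 2) F) 1 1 = 1 := rfl

theorem sn79_exists {F : Type*} [Field F] [Fintype F] (h2 : (2 : F) = 0) (m : ℕ)
    (hm1 : 1 < m) (hm2 : m < Fintype.card F - 1) (hmd : m ∣ Fintype.card F - 1) :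
    ∃ H : Subgroup (SpecialLinearGroup (Fin 2) F), ¬ IsMulCommutative H ∧
      Subgroup.normalizer (H : Set (SpecialLinearGroup (Fin 2) F)) ≠ H := by
  classical
  -- generator of the unit group
  obtain ⟨ζ, hζ⟩ := IsCyclic.exists_generator (α := Fˣ)
  have hord : orderOf ζ = Fintype.card F - 1 := by
    rw [orderOf_eq_card_of_forall_mem_zpowers hζ, Nat.card_eq_fintype_card, Fintype.card_units]
  obtain ⟨k, hk⟩ := hmd
  have hkpos : 0 < k := by
    rcases Nat.eq_zero_or_pos k with h0 | h0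
    · rw [h0, mul_zero] at hk; omega
    · exact h0
  set a : Fˣ := ζ ^ k with ha
  have ham : a ^ m = 1 := by
    rw [ha, ← pow_mul, mul_comm, ← hk, ← hord, pow_orderOf_eq_one]
  have ha1 : a ≠ 1 := by
    intro h1
    have : orderOf ζ ∣ k := orderOf_dvd_of_pow_eq_one h1
    rw [hord, hk] at this
    have hle := Nat.le_of_dvd hkpos this
    nlinarith
  have hζm : ζ ^ m ≠ 1 := by
    intro h1
    have : orderOf ζ ∣ m := orderOf_dvd_of_pow_eq_one h1
    rw [hord] at this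
    have := Nat.le_of_dvd (by omega) this
    omega
  refine ⟨sn79H F m, ?_, ?_⟩
  · -- non-abelian
    intro hc
    have hA : sn79D a ∈ sn79H F m := by
      rw [sn79_mem_H]
      refine ⟨sn79D_10 a, ?_⟩
      rw [sn79D_00, ← Units.val_pow_eq_pow_val, ham, Units.val_one]
    have hT : sn79T F ∈ sn79H F m := by
      rw [sn79_mem_H]
      exact ⟨sn79T_10, by rw [sn79T_00, one_pow]⟩
    have hcomm := hc.is_comm.comm (⟨sn79D a, hA⟩ : sn79H F m) ⟨sn79T F, hT⟩
    have hcomm' : sn79D a * sn79T F = sn79T F * sn79D a := congrArg Subtype.val hcomm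
    have h01 : ((sn79D a * sn79T F : SpecialLinearGroup (Fin 2) F) : Matrix (Fin 2) (Fin 2) F) 0 1
        = ((sn79T F * sn79D a : SpecialLinearGroup (Fin 2) F) : Matrix (Fin 2) (Fin 2) F) 0 1 := by rw [hcomm']
    rw [sn79_mul_apply, sn79_mul_apply, sn79D_00, sn79D_01, sn79D_11, sn79T_00, sn79T_01, sn79T_11] at h01
    have h01' : (a : F) = ((a⁻¹ : Fˣ) : F) := by
      have e1 : (a : F) * 1 + 0 * 1 = (a : F) := by ring
      have e2 : (1 : F) * 0 + 1 * ((a⁻¹ : Fˣ) : F) = ((a⁻¹ : Fˣ) : F) := by ring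
      rw [e1, e2] at h01; exact h01
    have hsq : (a : F) * (a : F) = 1 := by
      have h3 : ((a : Fˣ) : F) * ((a⁻¹ : Fˣ) : F) = 1 := by
        rw [← Units.val_mul, mul_inv_cancel, Units.val_one]
      rw [← h01'] at h3; exact h3
    have hsq' : ((a : F) - 1) * ((a : F) - 1) = 0 := by
      have e : ((a : F) - 1) * ((a : F) - 1) = (a : F) * (a : F) - 2 * (a : F) + 1 := by ring
      rw [e, hsq, h2]
      have e3 : (1 : F) - 0 * (a : F) + 1 = 2 := by ring
      rw [e3, h2]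
    have : (a : F) - 1 = 0 := mul_self_eq_zero.1 hsq'
    apply ha1
    ext
    rw [Units.val_one]
    exact sub_eq_zero.1 this
  · -- not self-normalizing
    intro hN
    have hg : sn79D ζ ∈ Subgroup.normalizer ((sn79H F m : Subgroup _) : Set (SpecialLinearGroup (Fin 2) F)) := by
      rw [Subgroup.mem_normalizer_iff]
      intro x
      have hzz : (ζ : F) * ((ζ⁻¹ : Fˣ) : F) = 1 := by
        rw [← Units.val_mul, mul_inv_cancel, Units.val_one]
      have e10 : ((sn79D ζ * x * (sn79D ζ)⁻¹ : SpecialLinearGroup (Fin 2) F) : Matrix (Fin 2) (Fin 2) F) 1 0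
          = ((ζ⁻¹ : Fˣ) : F) * (x : Matrix (Fin 2) (Fin 2) F) 1 0 * ((ζ⁻¹ : Fˣ) : F) := by
        rw [sn79_mul_apply, sn79_inv_00, sn79_inv_10, sn79_mul_apply, sn79D_10, sn79D_11]
        ring
      have e00 : ((sn79D ζ * x * (sn79D ζ)⁻¹ : SpecialLinearGroup (Fin 2) F) : Matrix (Fin 2) (Fin 2) F) 0 0
          = (x : Matrix (Fin 2) (Fin 2) F) 0 0 := by
        rw [sn79_mul_apply, sn79_inv_00, sn79_inv_10, sn79_mul_apply, sn79D_10, sn79D_11, sn79D_00, sn79D_01]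
        have : ((ζ : F) * (x : Matrix (Fin 2) (Fin 2) F) 0 0 + 0 * (x : Matrix (Fin 2) (Fin 2) F) 1 0)
              * ((ζ⁻¹ : Fˣ) : F) + ((sn79D ζ * x : SpecialLinearGroup (Fin 2) F) : Matrix (Fin 2) (Fin 2) F) 0 1 * -0
            = ((ζ : F) * ((ζ⁻¹ : Fˣ) : F)) * (x : Matrix (Fin 2) (Fin 2) F) 0 0 := by ring
        rw [this, hzz, one_mul]
      rw [sn79_mem_H, sn79_mem_H, e10, e00]
      have hz : ((ζ⁻¹ : Fˣ) : F) ≠ 0 := Units.ne_zero _
      constructor
      · rintro ⟨h1, h2'⟩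
        exact ⟨by rw [h1]; ring, h2'⟩
      · rintro ⟨h1, h2'⟩
        refine ⟨?_, h2'⟩
        rcases mul_eq_zero.1 h1 with h | h
        · rcases mul_eq_zero.1 h with h' | h'
          · exact absurd h' hz
          · exact h'
        · exact absurd h hz
    rw [hN] at hg
    have := ((sn79_mem_H m _).1 hg).2
    rw [sn79D_00, ← Units.val_pow_eq_pow_val] at this
    apply hζm
    ext
    rw [this, Units.val_one]

end Cfsg.Agent.Lib.Helper79.SN
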