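import Mathlib
import Cfsg.Agent.Lib.Helper79.SNBorel

set_option autoImplicit false

namespace Cfsg.Agent.Lib.Helper79.SN

/-- The centre of `SL(2,F)` is trivial in characteristic 2. -/
theorem sn79_center_eq_bot {F : Type*} [Field F] (h2 : (2 : F) = 0) :
    Subgroup.center (Matrix.SpecialLinearGroup (Fin 2) F) = ⊥ := by
  rw [eq_bot_iff]
  intro A hA
  rw [Matrix.SpecialLinearGroup.mem_center_iff] at hA
  obtain ⟨r, hr, hA⟩ := hA
  rw [Fintype.card_fin] at hr
  have hr1 : r = 1 := by
    have e : (r - 1) * (r - 1) = r ^ 2 - 2 * r + 1 := by ring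
    have e3 : (1 : F) - 0 * r + 1 = 2 := by ring
    have : (r - 1) * (r - 1) = 0 := by rw [e, hr, h2, e3, h2]
    exact sub_eq_zero.1 (mul_self_eq_zero.1 this)
  rw [Subgroup.mem_bot]
  apply Subtype.ext
  rw [← hA, hr1]
  simp

/-- Transport of "there is a non-abelian, non-self-normalizing subgroup" along an isomorphism. -/
theorem sn79_transport {A B : Type*} [Group A] [Group B] (e : A ≃* B)
    (h : ∃ H : Subgroup A, ¬ IsMulCommutative H ∧ Subgroup.normalizer (H : Set A) ≠ H) :
    ∃ H : Subgroup B, ¬ IsMulCommutative H ∧ Subgroup.normalizer (H : Set B) ≠ H := by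
  obtain ⟨H, hH1, hH2⟩ := h
  refine ⟨H.map e.toMonoidHom, ?_, ?_⟩
  · intro hc
    apply hH1
    refine ⟨⟨fun a b => ?_⟩⟩
    have ha : e a.1 ∈ H.map e.toMonoidHom := Subgroup.mem_map_of_mem _ a.2
    have hb : e b.1 ∈ H.map e.toMonoidHom := Subgroup.mem_map_of_mem _ b.2
    have := hc.is_comm.comm (⟨e a.1, ha⟩ : H.map e.toMonoidHom) ⟨e b.1, hb⟩
    have h' : e a.1 * e b.1 = e b.1 * e a.1 := congrArg Subtype.val this
    rw [← map_mul, ← map_mul] at h'
    exact Subtype.ext (e.injective h')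
  · intro hN
    apply hH2
    have h1 : (Subgroup.normalizer (H : Set A)).map e.toMonoidHom
        = Subgroup.normalizer ((H.map e.toMonoidHom : Subgroup B) : Set B) := by
      have := Subgroup.map_equiv_normalizer_eq H e
      simpa using this
    rw [← h1] at hN
    exact Subgroup.map_injective e.injective hN

/-- The Borel leaf for `PSL(2,F)`, `|F| = 2^f`, `2^f - 1` composite. -/
theorem sn79_exists_psl (F : Type*) [Field F] [Fintype F] (f : ℕ) (hf : 2 ≤ f)
    (hcard : Fintype.card F = 2 ^ f) (hcomp : ¬ (2 ^ f - 1).Prime) :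
    ∃ H : Subgroup (Matrix.ProjectiveSpecialLinearGroup (Fin 2) F), ¬ IsMulCommutative H ∧
      Subgroup.normalizer (H : Set (Matrix.ProjectiveSpecialLinearGroup (Fin 2) F)) ≠ H := by
  classical
  have h2 : (2 : F) = 0 := by
    have h0 : ((Fintype.card F : ℕ) : F) = 0 := Nat.cast_card_eq_zero F
    rw [hcard] at h0
    push_cast at h0
    exact pow_eq_zero_iff (by omega) |>.1 h0
  have h4 : 4 ≤ 2 ^ f := by
    calc 4 = 2 ^ 2 := by norm_num
      _ ≤ 2 ^ f := Nat.pow_le_pow_right (by norm_num) hf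
  obtain ⟨m, hmd, hm2, hmlt⟩ := Nat.exists_dvd_of_not_prime2 (by omega : 2 ≤ 2 ^ f - 1) hcomp
  have hSL := sn79_exists (F := F) h2 m (by omega) (by rw [hcard]; exact hmlt) (by rw [hcard]; exact hmd)
  -- the isomorphism SL ≃* PSL
  have hc := sn79_center_eq_bot (F := F) h2
  let φ : Matrix.SpecialLinearGroup (Fin 2) F →* Matrix.ProjectiveSpecialLinearGroup (Fin 2) F :=
    QuotientGroup.mk' (Subgroup.center (Matrix.SpecialLinearGroup (Fin 2) F))
  have hinj : Function.Injective φ := by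
    rw [← MonoidHom.ker_eq_bot_iff, QuotientGroup.ker_mk', hc]
  have hsurj : Function.Surjective φ := QuotientGroup.mk'_surjective _
  exact sn79_transport (MulEquiv.ofBijective φ ⟨hinj, hsurj⟩) hSL

end Cfsg.Agent.Lib.Helper79.SN
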