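import Mathlib
import Cfsg.Agent.Lib.Helper79.SNBorelP
import Cfsg.Agent.Lib.Helper07.PSL27

set_option autoImplicit false

namespace Cfsg.Agent.Lib.Helper79.SN

/-- End of the (=>) half of S4073: an (SN)-group isomorphic to `PSL(2,F)`, `|F| = 2^f`, `f ≥ 2`,
has `2^f - 1` prime and is isomorphic to `PSL(2, GaloisField 2 f)`. -/
theorem sn79_forward_end {G : Type*} [Group G]
    (hSN : ∀ H : Subgroup G, ¬ IsMulCommutative H → Subgroup.normalizer (H : Set G) = H)
    (F : Type) [Field F] [Fintype F] (f : ℕ) (hf : 2 ≤ f) (hcard : Fintype.card F = 2 ^ f)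
    (e : G ≃* Matrix.ProjectiveSpecialLinearGroup (Fin 2) F) :
    (2 ^ f - 1).Prime ∧
      Nonempty (G ≃* Matrix.ProjectiveSpecialLinearGroup (Fin 2) (GaloisField 2 f)) := by
  classical
  haveI : Fact (Nat.Prime 2) := ⟨Nat.prime_two⟩
  refine ⟨?_, ?_⟩
  · by_contra hcomp
    obtain ⟨H, hH1, hH2⟩ := sn79_transport e.symm (sn79_exists_psl F f hf hcard hcomp)
    exact hH2 (hSN H hH1)
  · haveI : Fintype (GaloisField 2 f) := Fintype.ofFinite _
    have hc : Fintype.card F = Fintype.card (GaloisField 2 f) := by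
      rw [hcard, ← Nat.card_eq_fintype_card, GaloisField.card 2 f (by omega)]
    exact ⟨e.trans (Cfsg.Agent.Lib.Helper07.pslCongr (FiniteField.ringEquivOfCardEq hc))⟩

end Cfsg.Agent.Lib.Helper79.SN
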