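import Mathlib
import Cfsg.Agent.S0280
import Cfsg.Agent.S0279
import Cfsg.Agent.Lib.Helper38.SQ.Defs

/-!
# K-SQ (S4625), shared piece for the two PSU leaves (462503 / 462504): the 2-part of `|PSU_n(q)|`, `q` even

`TwoPart (PSU n F q) (q ^ (n (n-1) / 2))` from the order formula S0280.
-/

set_option autoImplicit false

namespace Cfsg.Agent.Lib.Helper79.SQ

open Cfsg.Agent.Lib.Helper38.SQ

/-- in characteristic two, `|F| = q²` forces `q` to be a power of two -/
theorem q_pow_two (F : Type) [Field F] [Fintype F] [CharP F 2] (q : ℕ)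
    (hF : Fintype.card F = q ^ 2) : ∃ j : ℕ, q = 2 ^ j := by
  obtain ⟨f, -, hf⟩ := FiniteField.card F 2
  have hq : q ∣ 2 ^ (f : ℕ) := by rw [← hf, hF]; exact dvd_pow_self q two_ne_zero
  obtain ⟨j, -, rfl⟩ := (Nat.dvd_prime_pow Nat.prime_two).mp hq
  exact ⟨j, rfl⟩

/-- the factors `q^(i+1) ± 1` are odd for `q` even, `q ≥ 2` -/
theorem odd_factor (q : ℕ) (hq : Even q) (hq0 : 0 < q) (i : ℕ) :
    ¬ 2 ∣ (if Even i then q ^ (i + 1) + 1 else q ^ (i + 1) - 1) := by
  have h1 : Even (q ^ (i + 1)) := Nat.even_pow.mpr ⟨hq, by omega⟩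
  have h2 : 0 < q ^ (i + 1) := Nat.pow_pos hq0
  obtain ⟨c, hc⟩ := h1
  split_ifs <;> omega

theorem twoPart_psu (F : Type) [Field F] [Fintype F] [CharP F 2] (n q : ℕ)
    (hF : Fintype.card F = q ^ 2) (hn : 2 ≤ n) :
    TwoPart (Cfsg.PSU n F q) (q ^ (n * (n - 1) / 2)) := by
  obtain ⟨j, rfl⟩ := q_pow_two F q hF
  have hj : 0 < j := by
    rcases Nat.eq_zero_or_pos j with h | h
    · exfalso
      rw [h] at hF
      have h1 : 1 < Fintype.card F := Fintype.one_lt_card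
      rw [hF] at h1
      norm_num at h1
    · exact h
  have hqe : Even (2 ^ j) := Nat.even_pow.mpr ⟨even_two, by omega⟩
  have hq0 : 0 < 2 ^ j := by positivity
  have hord := Cfsg.Agent.S0280.result hF n hn
  set P := ∏ i ∈ Finset.range n, (if Even i then (2 ^ j) ^ (i + 1) + 1 else (2 ^ j) ^ (i + 1) - 1)
    with hP
  set A := Nat.gcd n (2 ^ j + 1) * (2 ^ j + 1) with hA
  set N := n * (n - 1) / 2 with hN
  have hPodd : ¬ 2 ∣ P := by
    rw [hP, Prime.dvd_finsetProd_iff (Nat.Prime.prime Nat.prime_two)]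
    rintro ⟨i, -, hi⟩
    exact odd_factor (2 ^ j) hqe hq0 i hi
  have hq1 : ¬ 2 ∣ 2 ^ j + 1 := by
    obtain ⟨c, hc⟩ := hqe
    omega
  have hAodd : ¬ 2 ∣ A := by
    rw [hA, Nat.Prime.dvd_mul Nat.prime_two]
    rintro (h | h)
    · exact hq1 (dvd_trans h (Nat.gcd_dvd_right _ _))
    · exact hq1 h
  have hord' : A * Nat.card (Cfsg.PSU n F (2 ^ j)) = (2 ^ j) ^ N * P := by
    rw [hA, mul_assoc]
    exact hord
  -- `(2^j)^N` is coprime to `A`
  have hcop : Nat.Coprime ((2 ^ j) ^ N) A := by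
    rw [← pow_mul]
    apply Nat.Coprime.pow_left
    rw [Nat.Prime.coprime_iff_not_dvd Nat.prime_two]
    exact hAodd
  have hdvd : (2 ^ j) ^ N ∣ Nat.card (Cfsg.PSU n F (2 ^ j)) := by
    have : (2 ^ j) ^ N ∣ A * Nat.card (Cfsg.PSU n F (2 ^ j)) := by
      rw [hord']
      exact dvd_mul_right _ _
    exact hcop.dvd_of_dvd_mul_left this
  obtain ⟨m, hm⟩ := hdvd
  refine ⟨m, ?_, hm⟩
  intro h2
  apply hPodd
  have hpos : 0 < (2 ^ j) ^ N := by positivity
  have : A * m = P := by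
    apply Nat.eq_of_mul_eq_mul_left hpos
    rw [← hord', hm]
    ring
  rw [← this]
  exact dvd_mul_of_dvd_right h2 _

/-- the 2-part of `|SU_n(q)|`, `n ≥ 3`, `q` even (S0279: the centre has odd order `gcd(n, q+1)`) -/
theorem twoPart_su (F : Type) [Field F] [Fintype F] [CharP F 2] (n q : ℕ)
    (hF : Fintype.card F = q ^ 2) (hn : 3 ≤ n) :
    TwoPart (Cfsg.SU n F q) (q ^ (n * (n - 1) / 2)) := by
  obtain ⟨m, hm, hcard⟩ := twoPart_psu F n q hF (by omega)
  have hZ := Cfsg.Agent.S0279.result hF n hn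
  obtain ⟨j, hj⟩ := q_pow_two F q hF
  have hq1 : ¬ 2 ∣ q + 1 := by
    rw [hj]
    rcases Nat.eq_zero_or_pos j with h | h
    · exfalso
      rw [hj, h] at hF
      have h1 : 1 < Fintype.card F := Fintype.one_lt_card
      rw [hF] at h1
      norm_num at h1
    · have : Even (2 ^ j) := Nat.even_pow.mpr ⟨even_two, by omega⟩
      obtain ⟨c, hc⟩ := this
      omega
  refine ⟨Nat.gcd n (q + 1) * m, ?_, ?_⟩
  · rw [Nat.Prime.dvd_mul Nat.prime_two]
    rintro (h | h)
    · exact hq1 (dvd_trans h (Nat.gcd_dvd_right _ _))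
    · exact hm h
  · have h1 := Subgroup.card_eq_card_quotient_mul_card_subgroup (Subgroup.center (Cfsg.SU n F q))
    rw [h1, hZ]
    have : Nat.card (Cfsg.SU n F q ⧸ Subgroup.center (Cfsg.SU n F q)) =
        q ^ (n * (n - 1) / 2) * m := hcard
    rw [this]
    ring

/-- final assembly for the two PSU leaves: a unipotent subgroup of `SU_n(q)` of the right order gives
`SylSq (PSU n F q)` -/
theorem sylSq_psu_of_unip (F : Type) [Field F] [Fintype F] [CharP F 2] (n q : ℕ)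
    (hF : Fintype.card F = q ^ 2) (hn : 3 ≤ n)
    (h : Unip2 (Cfsg.SU n F q) (q ^ (n * (n - 1) / 2))) : SylSq (Cfsg.PSU n F q) := by
  obtain ⟨j, rfl⟩ := q_pow_two F q hF
  have h2 := twoPart_su F n (2 ^ j) hF hn
  rw [← pow_mul] at h h2
  haveI : Finite (Cfsg.SU n F (2 ^ j)) := inferInstance
  exact SylSq.quotient _ (SylSq.of_unip_twoPart _ h h2)

end Cfsg.Agent.Lib.Helper79.SQ
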