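import Mathlib
import Cfsg.Agent.Lib.Helper79.SelfCentCount

set_option autoImplicit false
set_option linter.style.haveILetI false
set_option linter.unusedSectionVars false

namespace Cfsg.Agent.Lib.Helper79

open Subgroup
open scoped Pointwise commutatorElement

variable {G : Type*} [Group G]

/-- `|G| = (number of subgroups of order p) * |N_G(⟨x⟩)|`. -/
theorem card_eq_card_subgroups_mul [Finite G] {p : ℕ} (hp : p.Prime) {x : G} (hx : orderOf x = p)
    (hC : Subgroup.centralizer ({x} : Set G) = Subgroup.zpowers x) :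
    Nat.card G = Nat.card {H : Subgroup G // Nat.card H = p} *
      Nat.card (Subgroup.normalizer (Subgroup.zpowers x : Set G)) := by
  haveI : Fact p.Prime := ⟨hp⟩
  obtain ⟨Q₀, hQ₀⟩ := exists_sylow_eq_zpowers hp hx hC
  rw [card_subgroups_eq_card_sylow hp hx hC, Sylow.card_eq_index_normalizer Q₀,
    ← Sylow.coe_coe, hQ₀, mul_comm, Subgroup.card_mul_index]

/-- if `N_G(⟨x⟩) ⊔ S = ⊤` for a normal `S` then `G' ≤ ⟨x⟩ ⊔ S`. -/
theorem commutator_le_zpowers_sup [Finite G] {x : G}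
    (hC : Subgroup.centralizer ({x} : Set G) = Subgroup.zpowers x)
    (S : Subgroup G) [hS : S.Normal]
    (hfr : Subgroup.normalizer (Subgroup.zpowers x : Set G) ⊔ S = ⊤) :
    commutator G ≤ Subgroup.zpowers x ⊔ S := by
  rw [commutator_def, Subgroup.commutator_le]
  intro a _ b _
  have ha : a ∈ Subgroup.normalizer (Subgroup.zpowers x : Set G) ⊔ S := by rw [hfr]; trivial
  have hb : b ∈ Subgroup.normalizer (Subgroup.zpowers x : Set G) ⊔ S := by rw [hfr]; trivial
  obtain ⟨n₁, hn₁, s₁, hs₁, rfl⟩ := Subgroup.mem_sup_of_normal_right.mp ha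
  obtain ⟨n₂, hn₂, s₂, hs₂, rfl⟩ := Subgroup.mem_sup_of_normal_right.mp hb
  have hc : ⁅n₁, n₂⁆ ∈ Subgroup.zpowers x :=
    mem_zpowers_of_comm hC (commutator_comm_of_mem_normalizer hn₁ hn₂)
  have hq : ((⁅n₁ * s₁, n₂ * s₂⁆ : G) : G ⧸ S) = ((⁅n₁, n₂⁆ : G) : G ⧸ S) := by
    have e1 : ((n₁ * s₁ : G) : G ⧸ S) = (n₁ : G ⧸ S) := by
      rw [QuotientGroup.mk_mul, (QuotientGroup.eq_one_iff s₁).mpr hs₁, mul_one]
    have e2 : ((n₂ * s₂ : G) : G ⧸ S) = (n₂ : G ⧸ S) := by
      rw [QuotientGroup.mk_mul, (QuotientGroup.eq_one_iff s₂).mpr hs₂, mul_one]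
    simp only [commutatorElement_def, QuotientGroup.mk_mul, QuotientGroup.mk_inv] at e1 e2 ⊢
    rw [e1, e2]
  have hmem : (⁅n₁, n₂⁆)⁻¹ * ⁅n₁ * s₁, n₂ * s₂⁆ ∈ S := QuotientGroup.eq.mp hq.symm
  have : ⁅n₁ * s₁, n₂ * s₂⁆ = ⁅n₁, n₂⁆ * ((⁅n₁, n₂⁆)⁻¹ * ⁅n₁ * s₁, n₂ * s₂⁆) := by
    rw [mul_inv_cancel_left]
  rw [this]
  exact Subgroup.mul_mem_sup hc hmem

/-- if `G' ≤ ⟨x⟩ ⊔ S` for a normal `S` then `G'' ≤ S`. -/
theorem derivedSeries_two_le {x : G} (S : Subgroup G) [hS : S.Normal]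
    (h : commutator G ≤ Subgroup.zpowers x ⊔ S) : derivedSeries G 2 ≤ S := by
  rw [derivedSeries_succ, derivedSeries_one, Subgroup.commutator_le]
  intro a ha b hb
  obtain ⟨y₁, hy₁, s₁, hs₁, rfl⟩ := Subgroup.mem_sup_of_normal_right.mp (h ha)
  obtain ⟨y₂, hy₂, s₂, hs₂, rfl⟩ := Subgroup.mem_sup_of_normal_right.mp (h hb)
  rw [← QuotientGroup.eq_one_iff]
  have e1 : ((y₁ * s₁ : G) : G ⧸ S) = (y₁ : G ⧸ S) := by
    rw [QuotientGroup.mk_mul, (QuotientGroup.eq_one_iff s₁).mpr hs₁, mul_one]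
  have e2 : ((y₂ * s₂ : G) : G ⧸ S) = (y₂ : G ⧸ S) := by
    rw [QuotientGroup.mk_mul, (QuotientGroup.eq_one_iff s₂).mpr hs₂, mul_one]
  have hcomm : y₁ * y₂ = y₂ * y₁ := by
    obtain ⟨k, rfl⟩ := Subgroup.mem_zpowers_iff.mp hy₁
    obtain ⟨l, rfl⟩ := Subgroup.mem_zpowers_iff.mp hy₂
    rw [← zpow_add, ← zpow_add, add_comm]
  simp only [commutatorElement_def, QuotientGroup.mk_mul, QuotientGroup.mk_inv] at e1 e2 ⊢
  rw [e1, e2, ← QuotientGroup.mk_mul, hcomm, QuotientGroup.mk_mul]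
  simp

/-- if `x ∈ G'` and `x ∉ G''` then `|G'| = p * |G''|`. -/
theorem card_commutator_eq [Finite G] {p : ℕ} (hp : p.Prime) {x : G} (hx : orderOf x = p)
    (hC : Subgroup.centralizer ({x} : Set G) = Subgroup.zpowers x)
    (hxG : x ∈ commutator G) (hxG2 : x ∉ derivedSeries G 2) :
    Nat.card (commutator G) = p * Nat.card (derivedSeries G 2) := by
  haveI := derivedSeries_normal G 2
  have hcent := centralizer_mk_eq hp hx hC (derivedSeries G 2) hxG2
  have hord := orderOf_mk_eq hp hx (derivedSeries G 2) hxG2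
  have hle : derivedSeries G 2 ≤ commutator G := by
    rw [derivedSeries_succ, derivedSeries_one]
    exact Subgroup.commutator_le_left _ _
  -- image of G' in the quotient
  have himg : (commutator G).map (QuotientGroup.mk' (derivedSeries G 2)) =
      Subgroup.zpowers (QuotientGroup.mk x : G ⧸ derivedSeries G 2) := by
    apply le_antisymm
    · rw [← hcent]
      rintro _ ⟨a, ha, rfl⟩
      rw [Subgroup.mem_centralizer_singleton_iff, QuotientGroup.mk'_apply,
        ← QuotientGroup.mk_mul, ← QuotientGroup.mk_mul, QuotientGroup.eq]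
      have : (a * x)⁻¹ * (x * a) = ⁅x⁻¹, a⁻¹⁆ := by
        simp [commutatorElement_def, mul_assoc]
      rw [this, derivedSeries_succ, derivedSeries_one]
      exact Subgroup.commutator_mem_commutator (Subgroup.inv_mem _ hxG) (Subgroup.inv_mem _ ha)
    · rw [Subgroup.zpowers_le]
      exact ⟨x, hxG, rfl⟩
  have h1 : (derivedSeries G 2).relIndex (commutator G) = p := by
    have := Subgroup.relIndex_ker (QuotientGroup.mk' (derivedSeries G 2)) (K := commutator G)
    rw [QuotientGroup.ker_mk', himg, Nat.card_zpowers, hord] at this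
    exact this
  have h2 := Subgroup.relIndex_mul_relIndex (⊥ : Subgroup G) (derivedSeries G 2) (commutator G)
    bot_le hle
  rw [Subgroup.relIndex_bot_left, Subgroup.relIndex_bot_left, h1] at h2
  rw [← h2, mul_comm]


/-- a normal subgroup of order equal to the number of subgroups of order `p` is a complement
to the normalizer. -/
theorem normalizer_sup_eq_top_of_card [Finite G] {p : ℕ} (hp : p.Prime) {x : G}
    (hx : orderOf x = p) (hC : Subgroup.centralizer ({x} : Set G) = Subgroup.zpowers x)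
    (S : Subgroup G) [hS : S.Normal] (hxS : x ∉ S)
    (hcard : Nat.card S = Nat.card {H : Subgroup G // Nat.card H = p}) :
    Subgroup.normalizer (Subgroup.zpowers x : Set G) ⊔ S = ⊤ := by
  set N := Subgroup.normalizer (Subgroup.zpowers x : Set G) with hN
  have h := inf_normalizer_eq_bot hp hx hC S hxS
  have h1 : S.relIndex (N ⊔ S) = Nat.card N := by
    rw [Subgroup.relIndex_sup_right, ← Subgroup.inf_relIndex_right, h, Subgroup.relIndex_bot_left]
  have h2 := Subgroup.relIndex_mul_relIndex (⊥ : Subgroup G) S (N ⊔ S) bot_le le_sup_right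
  rw [Subgroup.relIndex_bot_left, Subgroup.relIndex_bot_left, h1, hcard,
    ← card_eq_card_subgroups_mul hp hx hC] at h2
  exact (Subgroup.card_eq_iff_eq_top _).mp h2.symm

end Cfsg.Agent.Lib.Helper79
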