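import Mathlib
import Cfsg.Prelude.Def_ClassicalGeometry
import Cfsg.Agent.Lib.Helper48.Sp2GDefs

set_option autoImplicit false
set_option linter.unusedVariables false

/-!
# K-Sp2G leaf M1 (keystone 241101, row S2411, architect helper48): membership in the symplectic group
-/

namespace Cfsg.Agent.Lib.Helper79.Sp2G

open Matrix Cfsg.Agent.Lib.Helper48.RSp Cfsg.Agent.Lib.Helper48.Sp2G Cfsg.Agent.Lib.Helper18

theorem hT_mem (m : ℕ) {F : Type*} [Field F] (k : F) (hk : k ≠ 0) :
    hT m k ∈ Matrix.symplecticGroup (Fin (m + 2)) F := by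
  unfold hT
  rw [SymplecticGroup.fromBlocks_mem_iff]
  refine ⟨by simp, by simp, ?_⟩
  rw [Matrix.transpose_zero, Matrix.zero_mul, sub_zero, Matrix.diagonal_transpose, Matrix.diagonal_mul_diagonal,
    ← Matrix.diagonal_one]
  congr 1
  funext j
  unfold kvec
  by_cases hj : j = 0
  · simp [hj, hk]
  · simp [hj]

theorem sx_mem (m : ℕ) {F : Type*} [Field F] (c : F) :
    sx m c ∈ Matrix.symplecticGroup (Fin (m + 2)) F := by
  unfold sx
  rw [SymplecticGroup.fromBlocks_mem_iff]
  refine ⟨by simp, by simp, ?_⟩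
  have h01 : (0 : Fin (m + 2)) ≠ 1 := by
    intro h
    have := congrArg Fin.val h
    simp at this
  rw [Matrix.transpose_zero, Matrix.zero_mul, sub_zero, Matrix.transpose_add, Matrix.transpose_one,
    Matrix.transpose_single, Matrix.add_mul, Matrix.mul_sub, Matrix.mul_sub, Matrix.one_mul, Matrix.mul_one,
    Matrix.one_mul, Matrix.single_mul_single_of_ne c 1 0 1 h01 c]
  abel

/-- `N * E = 0` -/
theorem m1_NE (m : ℕ) (F : Type*) [Field F] :
    Nup m F * Matrix.single (0 : Fin (m + 2)) (Fin.last (m + 1)) (1 : F) = 0 := by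
  ext i j
  rw [Matrix.mul_apply]
  apply Finset.sum_eq_zero
  intro k _
  by_cases hk : k = 0
  · subst hk
    simp [Nup]
  · simp [Matrix.single, hk, Ne.symm hk]

/-- `N * Nᵀ + Eᵀ * E = 1` -/
theorem m1_NNt (m : ℕ) (F : Type*) [Field F] :
    Nup m F * (Nup m F)ᵀ +
      (Matrix.single (0 : Fin (m + 2)) (Fin.last (m + 1)) (1 : F))ᵀ *
        Matrix.single (0 : Fin (m + 2)) (Fin.last (m + 1)) (1 : F) = 1 := by
  rw [Matrix.transpose_single, Matrix.single_mul_single_same, mul_one]
  ext i j
  rw [Matrix.add_apply, Matrix.mul_apply]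
  by_cases hi : i.val + 1 < m + 2
  · have hlast : i ≠ Fin.last (m + 1) := by
      intro h
      rw [h] at hi
      simp at hi
    have hlast' : ¬ Fin.last (m + 1) = i := fun h => hlast h.symm
    rw [Finset.sum_eq_single (⟨i.val + 1, hi⟩ : Fin (m + 2))]
    · by_cases hij : i = j
      · subst hij
        simp [Nup, Matrix.single, hlast']
      · have hv : ¬ j.val = i.val := fun h => hij (Fin.ext h.symm)
        simp [Nup, Matrix.single, hlast', hij, hv]
    · intro k _ hk
      have : ¬ i.val + 1 = k.val := by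
        intro h
        apply hk
        apply Fin.ext
        simp [h]
      simp [Nup, this]
    · intro h
      exact absurd (Finset.mem_univ _) h
  · have hlast : i = Fin.last (m + 1) := by
      apply Fin.ext
      have := i.isLt
      simp
      omega
    rw [Finset.sum_eq_zero]
    · by_cases hij : i = j
      · subst hij
        simp [Matrix.single, hlast]
      · have hj : ¬ (Fin.last (m + 1) = j) := fun h => hij (hlast.trans h)
        simp [Matrix.single, hlast, hj, Matrix.one_apply]
    · intro k _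
      have : ¬ i.val + 1 = k.val := by
        intro h
        have := k.isLt
        omega
      simp [Nup, this]

theorem wC_mem (m : ℕ) (F : Type*) [Field F] :
    wC m F ∈ Matrix.symplecticGroup (Fin (m + 2)) F := by
  unfold wC
  rw [SymplecticGroup.fromBlocks_mem_iff]
  have hNE := m1_NE m F
  have hNEt : (Matrix.single (0 : Fin (m + 2)) (Fin.last (m + 1)) (1 : F))ᵀ * (Nup m F)ᵀ = 0 := by
    rw [← Matrix.transpose_mul, hNE, Matrix.transpose_zero]
  refine ⟨?_, ?_, ?_⟩
  · rw [Matrix.transpose_transpose, hNE, hNEt]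
  · rw [Matrix.transpose_neg, Matrix.neg_mul, hNEt, Matrix.transpose_transpose, Matrix.mul_neg, hNE]
  · rw [Matrix.transpose_transpose, Matrix.mul_neg, sub_neg_eq_add]
    exact m1_NNt m F

theorem sO_mem (m : ℕ) (hm : 1 ≤ m) (F : Type*) [Field F] (h2 : (2 : F) = 0) :
    sO m F ∈ Matrix.symplecticGroup (Fin (m + 2)) F := by
  obtain ⟨m', rfl⟩ : ∃ m', m = m' + 1 := ⟨m - 1, by omega⟩
  unfold sO
  rw [SymplecticGroup.fromBlocks_mem_iff]
  refine ⟨by simp, by simp, ?_⟩
  have h12 : (1 : Fin (m' + 1 + 2)) ≠ 2 := by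
    intro h
    have := congrArg Fin.val h
    simp at this
    have h2' : 2 % (m' + 1 + 2) = 2 := Nat.mod_eq_of_lt (by omega)
    omega
  have h21 : (2 : Fin (m' + 1 + 2)) ≠ 1 := fun h => h12 h.symm
  rw [Matrix.transpose_zero, Matrix.zero_mul, sub_zero]
  unfold M3 M3'
  simp only [Matrix.transpose_add, Matrix.transpose_sub, Matrix.transpose_one, Matrix.transpose_single,
    Matrix.add_mul, Matrix.sub_mul, Matrix.mul_add, Matrix.mul_sub, Matrix.one_mul,
    Matrix.single_mul_single_same, Matrix.single_mul_single_of_ne _ _ _ _ h12,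
    Matrix.single_mul_single_of_ne _ _ _ _ h21, mul_one]
  have e : (Matrix.single (2 : Fin (m' + 1 + 2)) (1 : Fin (m' + 1 + 2)) (1 : F)) +
      Matrix.single (2 : Fin (m' + 1 + 2)) (1 : Fin (m' + 1 + 2)) (1 : F) = 0 := by
    rw [← Matrix.single_add]
    have : (1 : F) + 1 = 0 := by rw [one_add_one_eq_two, h2]
    rw [this, Matrix.single_zero]
  have key : ∀ (a b c d : Matrix (Fin (m' + 1 + 2)) (Fin (m' + 1 + 2)) F),
      1 - a + c + b - (d - 0 + 0 + b) + (b - b + d + 0) + (c - 0 + 0 + a) = 1 + (c + c) := by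
    intros
    abel
  rw [key, e, add_zero]

end Cfsg.Agent.Lib.Helper79.Sp2G
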