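import Cfsg.Agent.Lib.Helper79.StBC5a
import Cfsg.Agent.Lib.Helper59.StBB1
import Cfsg.Agent.Lib.Helper23.StBRedUnique
import Cfsg.Agent.Lib.Helper57.StBA3
import Cfsg.Agent.Lib.Helper68.StBB3
import Cfsg.Agent.Lib.Helper62.StBC0

/-!
K-S2311-C5 (keystone 2311012, architect helper64): the restriction of `1_{P_K}^G` to `B`
is the sum over the right-`K`-reduced `r` of `1_{B ∩ r B r⁻¹}^B`.  EXACT spec signature.
(K-B2a and the forward direction of K-B2b are re-derived here from K-B1, K-A2, K-A3, which are on main.)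
-/

set_option autoImplicit false

namespace Cfsg.Agent.Lib.Helper79.StB

open Cfsg Cfsg.Agent.Lib.Helper08 Cfsg.Agent.Lib.Helper64.StB

variable {G : Type*} [Group G] (P : Cfsg.BNPair G)

theorem closure_le_parabolic (J : Set G) : Subgroup.closure J ≤ P.parabolic J := by
  unfold BNPair.parabolic
  exact le_sup_right

/-- K-B2a, from `bruhat_exists` and K-A3. -/
theorem c5_exists_red_dcoset {J K : Set G} (hJ : J ⊆ P.S) (hK : K ⊆ P.S) (g : G) :
    ∃ d, RedJK P J K d ∧ ∃ p ∈ P.parabolic J, ∃ p' ∈ P.parabolic K, g = p * d * p' := by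
  obtain ⟨n, hn, b1, hb1, b2, hb2, rfl⟩ := bruhat_exists P g
  obtain ⟨a, ha, b, hb, d, hd, hE⟩ := Cfsg.Agent.Lib.Helper57.StB.exists_red P hJ hK hn
  -- hE : n⁻¹ * (a * d * b) ∈ B
  refine ⟨d, hd, b1 * a, ?_, b * (n⁻¹ * (a * d * b))⁻¹ * b2, ?_, ?_⟩
  · exact (P.parabolic J).mul_mem (B_le_parabolic P J hb1) (closure_le_parabolic P J ha)
  · exact (P.parabolic K).mul_mem ((P.parabolic K).mul_mem (closure_le_parabolic P K hb)
      (B_le_parabolic P K (P.B.inv_mem hE))) (B_le_parabolic P K hb2)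
  · group

/-- the forward direction of K-B2b, from K-B1 and K-A2. -/
theorem c5_eqv_of_red_dcoset {J K : Set G} (hJ : J ⊆ P.S) (hK : K ⊆ P.S) {d d' : G}
    (hd : RedJK P J K d) (hd' : RedJK P J K d')
    (h : ∃ p ∈ P.parabolic J, ∃ p' ∈ P.parabolic K, d' = p * d * p') : Eqv P d d' := by
  obtain ⟨p, hp, p', hp', hdd'⟩ := h
  exact Cfsg.Agent.Lib.Helper23.StB.red_unique P hJ hK hd hd'
    (Cfsg.Agent.Lib.Helper59.StB.eqv_of_mem_dcoset P hJ hK hd.1 hd'.1 hp hp' hdd')

/-- **K-S2311-C5.** -/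
theorem fpc_parabolic_apply_of_mem_B [Finite G] {K : Set G} (hK : K ⊆ P.S) {R : Finset G}
    (hR : IsTrans P R) [DecidablePred fun r : G => ∀ t ∈ K, len P r < len P (r * t)] (b : P.B) :
    Cfsg.fixedPointCharacter (P.parabolic K) (b : G) =
      ∑ r ∈ R.filter (fun r => ∀ t ∈ K, len P r < len P (r * t)),
        Cfsg.fixedPointCharacter (BInt P r) b :=
  fpc_parabolic_apply_of_mem_B_of P hR
    (fun g => c5_exists_red_dcoset P (Set.empty_subset _) hK g)
    (fun hd hd' h => c5_eqv_of_red_dcoset P (Set.empty_subset _) hK hd hd' h)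
    (fun hn hred _ hx h => Cfsg.Agent.Lib.Helper68.StB.conj_mem_B_of_red P hK hn hred hx h)
    (fun hm h hn => Cfsg.Agent.Lib.Helper62.StB.redJK_congr P (Set.empty_subset _) hK hm h hn)
    b

end Cfsg.Agent.Lib.Helper79.StB
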