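import Cfsg.Agent.Lib.Helper64.StBDefs
import Cfsg.Agent.Lib.Helper08.BNPairParabolic

/-!
K-S2311-C5 (keystone 2311012, architect helper64), first half: the restriction of `1_{P_K}^G` to `B`
is the sum over the right-`K`-reduced `r` of `1_{B ∩ r B r⁻¹}^B`, ASSUMING the statements of
K-B2a, K-B2b, K-B3 and K-C1a (for `J = ∅`) as hypotheses.
-/

set_option autoImplicit false

namespace Cfsg.Agent.Lib.Helper79.StB

open Cfsg Cfsg.Agent.Lib.Helper08 Cfsg.Agent.Lib.Helper64.StB

variable {G : Type*} [Group G] (P : Cfsg.BNPair G)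

/-- the map `B/(B ∩ r B r⁻¹) → G/P_K`, `x ↦ x r P_K` -/
def cosetMap (K : Set G) (r : G) : P.B ⧸ BInt P r → G ⧸ P.parabolic K :=
  Quotient.lift (fun x : P.B => (((x : G) * r : G) : G ⧸ P.parabolic K)) (by
    intro x y hxy
    have h1 : x⁻¹ * y ∈ BInt P r := QuotientGroup.leftRel_apply.mp hxy
    apply QuotientGroup.eq.mpr
    have h2 : ((x : G) * r)⁻¹ * ((y : G) * r) = r⁻¹ * ((x⁻¹ * y : P.B) : G) * r := by
      simp [mul_assoc]
    rw [h2]
    exact B_le_parabolic P K ((mem_BInt P).mp h1))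

theorem cosetMap_mk (K : Set G) (r : G) (x : P.B) :
    cosetMap P K r (QuotientGroup.mk x) = (((x : G) * r : G) : G ⧸ P.parabolic K) := rfl

theorem cosetMap_smul (K : Set G) (r : G) (b : P.B) (c : P.B ⧸ BInt P r) :
    cosetMap P K r (b • c) = (b : G) • cosetMap P K r c := by
  induction c using QuotientGroup.induction_on with
  | H x =>
    rw [MulAction.Quotient.smul_mk, cosetMap_mk, cosetMap_mk, MulAction.Quotient.smul_mk]
    simp [mul_assoc]

theorem parabolic_empty : P.parabolic (∅ : Set G) = P.B := by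
  unfold BNPair.parabolic
  rw [Subgroup.closure_empty, sup_bot_eq]

theorem fpc_parabolic_apply_of_mem_B_of [Finite G] {K : Set G} {R : Finset G}
    (hR : IsTrans P R) [DecidablePred fun r : G => ∀ t ∈ K, len P r < len P (r * t)]
    (h2a : ∀ g : G, ∃ d, RedJK P ∅ K d ∧ ∃ p ∈ P.parabolic ∅, ∃ p' ∈ P.parabolic K, g = p * d * p')
    (h2b : ∀ {d d' : G}, RedJK P ∅ K d → RedJK P ∅ K d' →
      (∃ p ∈ P.parabolic ∅, ∃ p' ∈ P.parabolic K, d' = p * d * p') → Eqv P d d')
    (h3 : ∀ {n : G}, n ∈ P.N → (∀ t ∈ K, len P n < len P (n * t)) → ∀ {x : G}, x ∈ P.B →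
      n⁻¹ * x * n ∈ P.parabolic K → n⁻¹ * x * n ∈ P.B)
    (h1a : ∀ {n m : G}, m ∈ P.N → Eqv P n m → RedJK P ∅ K n → RedJK P ∅ K m)
    (b : P.B) :
    Cfsg.fixedPointCharacter (P.parabolic K) (b : G) =
      ∑ r ∈ R.filter (fun r => ∀ t ∈ K, len P r < len P (r * t)),
        Cfsg.fixedPointCharacter (BInt P r) b := by
  classical
  set R' := R.filter (fun r => ∀ t ∈ K, len P r < len P (r * t)) with hR'
  have hpar0 := parabolic_empty P
  have hred : ∀ r ∈ R', RedJK P ∅ K r := by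
    intro r hr
    rw [hR', Finset.mem_filter] at hr
    exact ⟨hR.mem_N r hr.1, fun s hs => absurd hs (Set.notMem_empty s), hr.2⟩
  have hmemR : ∀ r ∈ R', r ∈ R := fun r hr => Finset.mem_of_mem_filter r hr
  -- (I1) the double cosets `B r P_K` are disjoint
  have hI1 : ∀ r ∈ R', ∀ r' ∈ R', ∀ x x' : P.B,
      (((x : G) * r : G) : G ⧸ P.parabolic K) = (((x' : G) * r' : G) : G ⧸ P.parabolic K) →
        r = r' := by
    intro r hr r' hr' x x' h
    rw [QuotientGroup.eq] at h
    have hE : Eqv P r r' := by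
      apply h2b (hred r hr) (hred r' hr')
      refine ⟨(x' : G)⁻¹ * (x : G), ?_, ((x : G) * r)⁻¹ * ((x' : G) * r'), h, ?_⟩
      · rw [hpar0]; exact P.B.mul_mem (P.B.inv_mem x'.2) x.2
      · group
    exact hR.inj r (hmemR r hr) r' (hmemR r' hr') hE
  -- (I2) injectivity on each piece
  have hI2 : ∀ r ∈ R', Function.Injective (cosetMap P K r) := by
    intro r hr c c' h
    induction c using QuotientGroup.induction_on with
    | H x =>
      induction c' using QuotientGroup.induction_on with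
      | H x' =>
        rw [cosetMap_mk, cosetMap_mk, QuotientGroup.eq] at h
        apply QuotientGroup.eq.mpr
        rw [mem_BInt]
        have h2 : ((x : G) * r)⁻¹ * ((x' : G) * r) = r⁻¹ * ((x⁻¹ * x' : P.B) : G) * r := by
          simp [mul_assoc]
        rw [h2] at h
        exact h3 (hred r hr).1 (hred r hr).2.2 (x⁻¹ * x').2 h
  -- (S) surjectivity
  have hS : ∀ q : G ⧸ P.parabolic K, ∃ r ∈ R', ∃ c : P.B ⧸ BInt P r, cosetMap P K r c = q := by
    intro q
    induction q using QuotientGroup.induction_on with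
    | H g =>
      obtain ⟨d, hd, p, hp, p', hp', rfl⟩ := h2a g
      rw [hpar0] at hp
      obtain ⟨r, hrR, hrd⟩ := hR.cover d hd.1
      have hrred : RedJK P ∅ K r := h1a (hR.mem_N r hrR) (Eqv_symm P hrd) hd
      have hrR' : r ∈ R' := by
        rw [hR', Finset.mem_filter]
        exact ⟨hrR, hrred.2.2⟩
      refine ⟨r, hrR', QuotientGroup.mk ⟨p, hp⟩, ?_⟩
      rw [cosetMap_mk]
      apply QuotientGroup.eq.mpr
      have h2 : ((p : G) * r)⁻¹ * (p * d * p') = (r⁻¹ * d) * p' := by group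
      show (((⟨p, hp⟩ : P.B) : G) * r)⁻¹ * (p * d * p') ∈ P.parabolic K
      rw [h2]
      exact (P.parabolic K).mul_mem (B_le_parabolic P K hrd) hp'
  -- the bijection
  let Ψ : (Σ r : {r // r ∈ R'}, MulAction.fixedBy (P.B ⧸ BInt P (r : G)) b) →
      MulAction.fixedBy (G ⧸ P.parabolic K) (b : G) := fun z =>
    ⟨cosetMap P K (z.1 : G) z.2.1, by
      rw [MulAction.mem_fixedBy, ← cosetMap_smul]
      exact congrArg _ (MulAction.mem_fixedBy.mp z.2.2)⟩
  have hΨinj : Function.Injective Ψ := by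
    rintro ⟨⟨r, hr⟩, ⟨c, hc⟩⟩ ⟨⟨r', hr'⟩, ⟨c', hc'⟩⟩ h
    have h1 : cosetMap P K r c = cosetMap P K r' c' := congrArg Subtype.val h
    have hrr' : r = r' := by
      induction c using QuotientGroup.induction_on with
      | H x =>
        induction c' using QuotientGroup.induction_on with
        | H x' => exact hI1 r hr r' hr' x x' h1
    subst hrr'
    have hcc' : c = c' := hI2 r hr h1
    subst hcc'
    rfl
  have hΨsurj : Function.Surjective Ψ := by
    rintro ⟨q, hq⟩
    obtain ⟨r, hr, c, hc⟩ := hS q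
    have hfix : c ∈ MulAction.fixedBy (P.B ⧸ BInt P r) b := by
      rw [MulAction.mem_fixedBy]
      apply hI2 r hr
      rw [cosetMap_smul, hc]
      exact MulAction.mem_fixedBy.mp hq
    exact ⟨⟨⟨r, hr⟩, ⟨c, hfix⟩⟩, Subtype.ext hc⟩
  have hcard : Nat.card (MulAction.fixedBy (G ⧸ P.parabolic K) (b : G)) =
      ∑ r : {r // r ∈ R'}, Nat.card (MulAction.fixedBy (P.B ⧸ BInt P (r : G)) b) := by
    rw [← Nat.card_sigma]
    exact (Nat.card_congr (Equiv.ofBijective Ψ ⟨hΨinj, hΨsurj⟩)).symm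
  unfold Cfsg.fixedPointCharacter
  rw [hcard, Nat.cast_sum]
  exact Finset.sum_coe_sort R' (fun r => (Nat.card (MulAction.fixedBy (P.B ⧸ BInt P r) b) : ℂ))

end Cfsg.Agent.Lib.Helper79.StB
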