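import Mathlib
import Cfsg.Agent.Lib.Helper48.StODefs
import Cfsg.Agent.Lib.Helper61.StOR0c
import Cfsg.Agent.Lib.Helper32.StOF2P

/-!
# K-StO pack (S2547, architect helper48), leaf F2Z (keystone 254709): the dichotomy for a monomial
matrix and the last simple root `ε_{m-1}`.
-/

set_option autoImplicit false
set_option linter.unusedSectionVars false
set_option linter.unusedVariables false

namespace Cfsg.Agent.Lib.Helper79.StO

open Cfsg Cfsg.Agent.Lib.Helper48.StO Cfsg.Agent.Lib.Helper61.StO Cfsg.Agent.Lib.Helper32.StO Matrix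

variable {m : ℕ} {F : Type*} [Field F]

/-- the off-diagonal entries of `x_{ε_k}(t)` -/
theorem f2z_xZMat_apply_eq_zero (k : Fin m) (t : F) (a b : OI m) (hab : a ≠ b)
    (h1 : ¬ (a = zI ∧ b = fI k)) (h2 : ¬ (a = eI k ∧ b = zI)) (h3 : ¬ (a = eI k ∧ b = fI k)) :
    xZMat m F k t a b = 0 := by
  unfold xZMat
  rw [Matrix.sub_apply, Matrix.sub_apply, Matrix.add_apply, Matrix.one_apply_ne hab,
    Matrix.single_apply, Matrix.single_apply, Matrix.single_apply, if_neg, if_neg, if_neg]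
  · simp
  · rintro ⟨rfl, rfl⟩
    exact h3 ⟨rfl, rfl⟩
  · rintro ⟨rfl, rfl⟩
    exact h2 ⟨rfl, rfl⟩
  · rintro ⟨rfl, rfl⟩
    exact h1 ⟨rfl, rfl⟩

/-- the off-diagonal entries of `x_{-ε_k}(t)` -/
theorem f2z_yZMat_apply_eq_zero (k : Fin m) (t : F) (a b : OI m) (hab : a ≠ b)
    (h1 : ¬ (a = zI ∧ b = eI k)) (h2 : ¬ (a = fI k ∧ b = zI)) (h3 : ¬ (a = fI k ∧ b = eI k)) :
    yZMat m F k t a b = 0 := by
  unfold yZMat
  rw [Matrix.sub_apply, Matrix.sub_apply, Matrix.add_apply, Matrix.one_apply_ne hab,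
    Matrix.single_apply, Matrix.single_apply, Matrix.single_apply, if_neg, if_neg, if_neg]
  · simp
  · rintro ⟨rfl, rfl⟩
    exact h3 ⟨rfl, rfl⟩
  · rintro ⟨rfl, rfl⟩
    exact h2 ⟨rfl, rfl⟩
  · rintro ⟨rfl, rfl⟩
    exact h1 ⟨rfl, rfl⟩

/-- a permutation commuting with the duality fixes `z` -/
theorem f2z_sigma_zI (σ : Equiv.Perm (OI m)) (hσ : ∀ a, σ (dualE m a) = dualE m (σ a)) :
    σ zI = zI := by
  have h := hσ zI
  rw [dualE_zI] at h
  rcases hz : σ zI with u | i | i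
  · rfl
  · rw [hz] at h
    exact absurd h (by simp [dualE])
  · rw [hz] at h
    exact absurd h (by simp [dualE])

/-- **K-StO leaf F2Z** -/
theorem dich_last (hm : 0 < m) (n : OG m F)
    (σ : Equiv.Perm (OI m)) (hn : MonWith m F n σ) :
    (∀ t : F, n⁻¹ * xZ m F (lastF hm) t * n ∈ Bsub m F) ∨
      (∀ t : F, n⁻¹ * yZ m F (lastF hm) t * n ∈ Bsub m F) := by
  obtain ⟨k, hk⟩ : ∃ k, k = lastF hm := ⟨_, rfl⟩
  rw [← hk]
  have hz : σ zI = zI := f2z_sigma_zI σ hn.2
  obtain ⟨a, ha⟩ : ∃ a, a = σ.symm (eI k) := ⟨_, rfl⟩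
  have hσa : σ a = eI k := by rw [ha, Equiv.apply_symm_apply]
  have hσda : σ (dualE m a) = fI k := by rw [hn.2 a, hσa, dualE_eI]
  have haz : a ≠ zI := by
    rintro rfl
    rw [hz] at hσa
    exact absurd hσa (by simp)
  have hposz : pos m (zI : OI m) = m := rfl
  have hpa : pos m a ≠ m := fun e => haz (pos_injective m (e.trans hposz.symm))
  have hle := f2p_pos_le a
  have hpd : pos m (dualE m a) = 2 * m - pos m a := pos_dualE m a
  -- inverse images
  have inv_z : ∀ c, σ c = zI → c = zI := fun c hc => σ.injective (hc.trans hz.symm)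
  have inv_e : ∀ c, σ c = eI k → c = a := fun c hc => σ.injective (hc.trans hσa.symm)
  have inv_f : ∀ c, σ c = fI k → c = dualE m a := fun c hc => σ.injective (hc.trans hσda.symm)
  rcases lt_or_gt_of_ne hpa with hlt | hgt
  · left
    intro t
    apply f2p_conj_mem_B_of n _ σ hn
    intro c d hcd
    rw [mat_xZ]
    have hne : c ≠ d := by
      rintro rfl
      exact lt_irrefl _ hcd
    apply f2z_xZMat_apply_eq_zero
    · exact fun e => hne (σ.injective e)
    · rintro ⟨h1, h2⟩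
      rw [inv_z c h1, inv_f d h2, hpd, hposz] at hcd
      omega
    · rintro ⟨h1, h2⟩
      rw [inv_e c h1, inv_z d h2, hposz] at hcd
      omega
    · rintro ⟨h1, h2⟩
      rw [inv_e c h1, inv_f d h2, hpd] at hcd
      omega
  · right
    intro t
    apply f2p_conj_mem_B_of n _ σ hn
    intro c d hcd
    rw [mat_yZ]
    have hne : c ≠ d := by
      rintro rfl
      exact lt_irrefl _ hcd
    apply f2z_yZMat_apply_eq_zero
    · exact fun e => hne (σ.injective e)
    · rintro ⟨h1, h2⟩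
      rw [inv_z c h1, inv_e d h2, hposz] at hcd
      omega
    · rintro ⟨h1, h2⟩
      rw [inv_f c h1, inv_z d h2, hpd, hposz] at hcd
      omega
    · rintro ⟨h1, h2⟩
      rw [inv_f c h1, inv_e d h2, hpd] at hcd
      omega

end Cfsg.Agent.Lib.Helper79.StO
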