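import Mathlib
import Cfsg.Agent.Lib.Helper53.StOmDefs
import Cfsg.Agent.Lib.Helper79.StOmC9
import Cfsg.Agent.Lib.Helper50.MinusTwoB

/-!
K-StOm-E2 (254925, S2549 pack, architect helper53): in characteristic two `T ⊓ Ω` has odd order.
-/

set_option autoImplicit false
set_option linter.unusedSectionVars false
set_option linter.unusedVariables false

namespace Cfsg.Agent.Lib.Helper79.StOm

open Cfsg Cfsg.Agent.Lib.Helper53.StOm Matrix

section plane
variable {F : Type*} [Field F] {a b : F}

/-- the `2×2` part: a `φ`-isometry `Z ≠ 1` of the anisotropic plane with `Z * Z = 1` is a reflection (char 2) -/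
theorem e2_plane [CharP F 2]
    (hab : ∀ z₁ z₂ : F, z₁ ^ 2 + a * z₁ * z₂ + b * z₂ ^ 2 = 0 → z₁ = 0 ∧ z₂ = 0)
    (Z : Matrix (Fin 2) (Fin 2) F)
    (hZ : ∀ c : Fin 2 → F, (Z *ᵥ c) 0 ^ 2 + a * (Z *ᵥ c) 0 * (Z *ᵥ c) 1 + b * (Z *ᵥ c) 1 ^ 2 =
      c 0 ^ 2 + a * c 0 * c 1 + b * c 1 ^ 2)
    (hZ2 : Z * Z = 1) (hne : Z ≠ 1) :
    ∃ v : Fin 2 → F, v 0 ^ 2 + a * v 0 * v 1 + b * v 1 ^ 2 ≠ 0 ∧
      ∀ c : Fin 2 → F, Z *ᵥ c = c - ((v 0 ^ 2 + a * v 0 * v 1 + b * v 1 ^ 2)⁻¹ *
        (2 * v 0 * c 0 + a * (v 0 * c 1 + v 1 * c 0) + 2 * b * v 1 * c 1)) • v := by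
  classical
  have h2 : (2 : F) = 0 := CharTwo.two_eq_zero
  set N := Z - 1 with hN
  have hZN : Z = 1 + N := by rw [hN]; abel
  have hNN : N * N = 0 := by
    rw [hN, sub_mul, mul_sub, mul_sub, hZ2, Matrix.one_mul, Matrix.mul_one, Matrix.mul_one]
    have : (1 : Matrix (Fin 2) (Fin 2) F) - Z - (Z - 1) = (2 : F) • (1 - Z) := by
      rw [two_smul]; abel
    rw [this, h2, zero_smul]
  have hNne : N ≠ 0 := by
    intro h
    apply hne
    rw [hZN, h, add_zero]
  obtain ⟨i, j, hij⟩ : ∃ i j, N i j ≠ 0 := by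
    by_contra hcon
    push_neg at hcon
    apply hNne
    ext i j
    exact hcon i j
  set c0 : Fin 2 → F := Pi.single j 1 with hc0
  set v : Fin 2 → F := N *ᵥ c0 with hv
  have hvne : v ≠ 0 := by
    intro h
    apply hij
    have := congrFun h i
    rw [hv, hc0, mulVec_single_one] at this
    simpa using this
  have hNv : N *ᵥ v = 0 := by
    rw [hv, mulVec_mulVec, hNN, zero_mulVec]
  have hZc0 : Z *ᵥ c0 = c0 + v := by
    rw [hZN, add_mulVec, one_mulVec]
  have hZv : Z *ᵥ v = v := by
    rw [hZN, add_mulVec, one_mulVec, hNv, add_zero]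
  have hphiv : v 0 ^ 2 + a * v 0 * v 1 + b * v 1 ^ 2 ≠ 0 := by
    intro h
    obtain ⟨h0, h1⟩ := hab _ _ h
    apply hvne
    ext l
    fin_cases l
    · exact h0
    · exact h1
  refine ⟨v, hphiv, ?_⟩
  -- `β(v, c0) = - φ(v)`
  have e1 := hZ c0
  rw [hZc0] at e1
  simp only [Pi.add_apply] at e1
  have hβ0 : 2 * v 0 * c0 0 + a * (v 0 * c0 1 + v 1 * c0 0) + 2 * b * v 1 * c0 1 =
      -(v 0 ^ 2 + a * v 0 * v 1 + b * v 1 ^ 2) := by
    linear_combination e1
  -- independence
  have hd : c0 0 * v 1 - c0 1 * v 0 ≠ 0 := by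
    intro hd
    have hex : ∃ k : F, c0 = k • v := by
      by_cases hv0 : v 0 = 0
      · have hv1 : v 1 ≠ 0 := by
          intro hv1
          apply hvne
          ext l
          fin_cases l
          · exact hv0
          · exact hv1
        refine ⟨c0 1 / v 1, ?_⟩
        ext l
        fin_cases l
        · simp only [Fin.zero_eta, Pi.smul_apply, smul_eq_mul]
          rw [hv0] at hd ⊢
          have : c0 0 * v 1 = 0 := by linear_combination hd
          rcases mul_eq_zero.mp this with h | h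
          · rw [h, mul_zero]
          · exact absurd h hv1
        · simp only [Fin.mk_one, Pi.smul_apply, smul_eq_mul]
          field_simp
      · refine ⟨c0 0 / v 0, ?_⟩
        ext l
        fin_cases l
        · simp only [Fin.zero_eta, Pi.smul_apply, smul_eq_mul]
          field_simp
        · simp only [Fin.mk_one, Pi.smul_apply, smul_eq_mul]
          field_simp
          linear_combination -hd
    obtain ⟨k, hk⟩ := hex
    apply hvne
    have : v = N *ᵥ (k • v) := by rw [← hk]
    rw [this, mulVec_smul, hNv, smul_zero]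
  intro c
  set d := c0 0 * v 1 - c0 1 * v 0 with hd'
  set x := (c 0 * v 1 - c 1 * v 0) / d with hx
  set y := (c0 0 * c 1 - c0 1 * c 0) / d with hy
  have hc : c = x • c0 + y • v := by
    ext l
    fin_cases l
    · simp only [Fin.zero_eta, Pi.add_apply, Pi.smul_apply, smul_eq_mul, hx, hy]
      field_simp
      rw [hd']
      ring
    · simp only [Fin.mk_one, Pi.add_apply, Pi.smul_apply, smul_eq_mul, hx, hy]
      field_simp
      rw [hd']
      ring
  have hZc : Z *ᵥ c = c + x • v := by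
    rw [hc, mulVec_add, mulVec_smul, mulVec_smul, hZc0, hZv, smul_add]
    abel
  rw [hZc]
  have hβ : 2 * v 0 * c 0 + a * (v 0 * c 1 + v 1 * c 0) + 2 * b * v 1 * c 1 =
      -(x * (v 0 ^ 2 + a * v 0 * v 1 + b * v 1 ^ 2)) := by
    have h0 : c 0 = x * c0 0 + y * v 0 := by
      have := congrFun hc 0
      simpa using this
    have h1 : c 1 = x * c0 1 + y * v 1 := by
      have := congrFun hc 1
      simpa using this
    rw [h0, h1]
    linear_combination x * hβ0 + (y * (v 0 ^ 2 + a * v 0 * v 1 + b * v 1 ^ 2)) * h2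
  rw [hβ]
  have hs : (v 0 ^ 2 + a * v 0 * v 1 + b * v 1 ^ 2)⁻¹ *
      -(x * (v 0 ^ 2 + a * v 0 * v 1 + b * v 1 ^ 2)) = -x := by
    rw [mul_neg, mul_comm x, ← mul_assoc, inv_mul_cancel₀ hphiv, one_mul]
  rw [hs, neg_smul, sub_neg_eq_add]

end plane

universe u

/-- a reflection is not in `Ω` (generalisation of `Helper50.wIso_not_mem_Omega'`) -/
theorem e2_refl_not_mem_Omega {m : ℕ} {F : Type u} [Field F] [Fintype F] {a b : F}
    (hab : ∀ z₁ z₂ : F, z₁ ^ 2 + a * z₁ * z₂ + b * z₂ ^ 2 = 0 → z₁ = 0 ∧ z₂ = 0)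
    (g : OG m F a b) (v : MI m → F) (hv : Cfsg.quadFormMinus m F a b v ≠ 0)
    (hg : mat g = Cfsg.reflectionMatrix (Cfsg.quadFormMinus m F a b) v) :
    g ∉ Cfsg.Omega F (Cfsg.quadFormMinus m F a b) := by
  intro h
  obtain ⟨K, hKf, hKa, hK⟩ := Cfsg.Agent.Lib.Helper50.exists_quadratic_extension a b hab
  obtain ⟨θ, hθ⟩ := Cfsg.Agent.Lib.Helper50.exists_root_quadratic a b hK
  have hd := Cfsg.Agent.Lib.Helper50.disc_ne_zero_of_anis a b hab
  have h1 := Cfsg.Agent.Lib.Helper50.Omega_le_pscSub (algebraMap F K) m a b hd θ hθ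
    ⟨g, h, rfl⟩
  rw [Cfsg.Agent.Lib.Helper50.mem_pscSub] at h1
  exact Cfsg.Agent.Lib.Helper50.pscK_reflection_not (algebraMap F K) m a b hd θ hθ
    (Cfsg.Agent.Lib.Helper50.inclM m a b g) v hv hg h1

variable {m : ℕ} {F : Type*} [Field F] {a b : F}

theorem e2_polarVec_inl (v : Fin 2 → F) (w : Fin m ⊕ Fin m) :
    Cfsg.polarVec (Cfsg.quadFormMinus m F a b) (c9iota v) (Sum.inl w) = 0 := by
  unfold Cfsg.polarVec QuadraticMap.polar Cfsg.quadFormMinus c9iota
  rcases w with w | w
  · simp [Pi.single_apply]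
  · simp [Pi.single_apply]

theorem e2_polarVec_inr (v : Fin 2 → F) (j : Fin 2) :
    Cfsg.polarVec (Cfsg.quadFormMinus m F a b) (c9iota v) (Sum.inr j) =
      2 * v 0 * (Pi.single j 1 : Fin 2 → F) 0 +
        a * (v 0 * (Pi.single j 1 : Fin 2 → F) 1 + v 1 * (Pi.single j 1 : Fin 2 → F) 0) +
        2 * b * v 1 * (Pi.single j 1 : Fin 2 → F) 1 := by
  unfold Cfsg.polarVec QuadraticMap.polar Cfsg.quadFormMinus c9iota
  fin_cases j
  · simp [Pi.single_apply]
    ring
  · simp [Pi.single_apply]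
    ring

/-- an involution in `T` is trivial or a reflection (characteristic two) -/
theorem e2_eq_one_or_refl [CharP F 2]
    (hab : ∀ z₁ z₂ : F, z₁ ^ 2 + a * z₁ * z₂ + b * z₂ ^ 2 = 0 → z₁ = 0 ∧ z₂ = 0)
    (t : OG m F a b) (ht : t ∈ Tsub m F a b) (htt : t * t = 1) :
    t = 1 ∨ ∃ v : MI m → F, Cfsg.quadFormMinus m F a b v ≠ 0 ∧
      mat t = Cfsg.reflectionMatrix (Cfsg.quadFormMinus m F a b) v := by
  classical
  have hT := (mem_Tsub_iff t).1 ht
  set M := mat t with hM
  have hMM : M * M = 1 := by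
    rw [hM, ← mat_mul, htt, mat_one]
  have h2 : (2 : F) = 0 := CharTwo.two_eq_zero
  -- diagonal entries off the plane
  have hdiag : ∀ x : MI m, pos m x ≠ m → M x x = 1 := by
    intro x hx
    have h1 : M x x * M x x = 1 := by
      have := congrFun (congrFun hMM x) x
      rw [mul_apply, Finset.sum_eq_single x, one_apply_eq] at this
      · exact this
      · intro w _ hw
        have : pos m w ≠ pos m x := fun h => hw (c9_eq_of_pos_eq x w hx h)
        rw [hT w x this, mul_zero]
      · intro h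
        exact absurd (Finset.mem_univ _) h
    have h3 : (M x x - 1) * (M x x - 1) = 0 := by
      linear_combination h1 - (M x x) * h2 + h2
    have h4 := mul_self_eq_zero.mp h3
    exact sub_eq_zero.mp h4
  -- the plane
  have hZiso : ∀ c : Fin 2 → F,
      (c9Z M *ᵥ c) 0 ^ 2 + a * (c9Z M *ᵥ c) 0 * (c9Z M *ᵥ c) 1 + b * (c9Z M *ᵥ c) 1 ^ 2 =
        c 0 ^ 2 + a * c 0 * c 1 + b * c 1 ^ 2 := by
    intro c
    have hq := quad_mulVec t (c9iota c)
    rw [← hM, c9_mulVec_iota M hT c, c9_quad_iota, c9_quad_iota] at hq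
    exact hq
  have hZZ : c9Z M * c9Z M = 1 := by
    have hz : ∀ (w : Fin m ⊕ Fin m) (j : Fin 2), M (Sum.inl w) (zI j) = 0 := by
      intro w j
      apply hT
      rcases w with w | w
      · have := w.2
        simp only [pos]
        omega
      · have := w.2
        simp only [pos]
        omega
    ext i j
    have := congrFun (congrFun hMM (zI i)) (zI j)
    rw [mul_apply, Fintype.sum_sum_type] at this
    simp only [hz, mul_zero, Finset.sum_const_zero, zero_add] at this
    rw [mul_apply]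
    simp only [c9Z, submatrix_apply]
    rw [this, one_apply, one_apply]
    simp
  by_cases hZ1 : c9Z M = 1
  · left
    apply mat_injective
    rw [mat_one, ← hM]
    ext x y
    by_cases hxy : pos m x = pos m y
    · by_cases hx : pos m x = m
      · obtain ⟨i, rfl⟩ := c9_exists_zI x hx
        obtain ⟨j, rfl⟩ := c9_exists_zI y (by rw [← hxy]; exact hx)
        have := congrFun (congrFun hZ1 i) j
        simp only [c9Z, submatrix_apply] at this
        rw [this, one_apply, one_apply]
        simp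
      · have hyx : y = x := c9_eq_of_pos_eq x y hx hxy.symm
        rw [hyx, hdiag x hx, one_apply_eq]
    · rw [hT x y hxy, one_apply_ne]
      intro h
      exact hxy (by rw [h])
  · right
    obtain ⟨v, hv, hZv⟩ := e2_plane hab (c9Z M) hZiso hZZ hZ1
    refine ⟨c9iota v, by rw [c9_quad_iota]; exact hv, ?_⟩
    ext x y
    unfold Cfsg.reflectionMatrix
    rw [Matrix.sub_apply, Matrix.smul_apply, vecMulVec_apply, smul_eq_mul, c9_quad_iota]
    rcases x with x | i
    · -- off the plane
      have hx : pos m (Sum.inl x : MI m) ≠ m := by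
        rcases x with x | x
        · have := x.2
          simp only [pos]
          omega
        · have := x.2
          simp only [pos]
          omega
      have hv0 : (c9iota v : MI m → F) (Sum.inl x) = 0 := rfl
      rw [hv0, zero_mul, mul_zero, sub_zero]
      by_cases hyx : y = Sum.inl x
      · rw [hyx, hdiag _ hx, one_apply_eq]
      · have : pos m (Sum.inl x : MI m) ≠ pos m y := fun h => hyx (c9_eq_of_pos_eq _ y hx h.symm)
        rw [hT _ _ this, one_apply_ne (Ne.symm hyx)]
    · rcases y with y | j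
      · have hne : pos m (zI i : MI m) ≠ pos m (Sum.inl y : MI m) := by
          rcases y with y | y
          · have := y.2
            simp only [pos]
            omega
          · have := y.2
            simp only [pos]
            omega
        rw [hT _ _ hne, e2_polarVec_inl, mul_zero, mul_zero, sub_zero, one_apply_ne]
        intro h
        cases h
      · have h1 : M (Sum.inr i) (Sum.inr j) = (c9Z M *ᵥ (Pi.single j 1 : Fin 2 → F)) i := by
          rw [mulVec_single_one]
          rfl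
        rw [h1, hZv, e2_polarVec_inr]
        have hv1 : (c9iota v : MI m → F) (Sum.inr i) = v i := rfl
        rw [hv1, one_apply]
        simp only [Pi.sub_apply, Pi.smul_apply, smul_eq_mul, Pi.single_apply, Sum.inr.injEq]
        ring

theorem not_two_dvd_card_T_inf_Omega [Fintype F] [CharP F 2]
    (hab : ∀ z₁ z₂ : F, z₁ ^ 2 + a * z₁ * z₂ + b * z₂ ^ 2 = 0 → z₁ = 0 ∧ z₂ = 0) :
    ¬ 2 ∣ Nat.card ↥(Tsub m F a b ⊓ Cfsg.Omega F (Cfsg.quadFormMinus m F a b)) := by
  intro hdvd
  haveI : Fact (Nat.Prime 2) := ⟨Nat.prime_two⟩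
  obtain ⟨t, ht⟩ := exists_prime_orderOf_dvd_card' 2 hdvd
  have h1 : (t : OG m F a b) * (t : OG m F a b) = 1 := by
    have := pow_orderOf_eq_one t
    rw [ht, pow_two] at this
    have h := congrArg (Subtype.val) this
    simpa using h
  have hne : (t : OG m F a b) ≠ 1 := by
    intro h
    have h3 : t = 1 := Subtype.ext h
    rw [h3, orderOf_one] at ht
    exact absurd ht (by norm_num)
  rcases e2_eq_one_or_refl hab (t : OG m F a b) t.2.1 h1 with h | ⟨v, hv, hmat⟩
  · exact hne h
  · exact e2_refl_not_mem_Omega hab (t : OG m F a b) v hv hmat t.2.2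

end Cfsg.Agent.Lib.Helper79.StOm
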