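import Mathlib
import Cfsg.Agent.Lib.Helper66.ConjFixed

/-!
# Winter's theorem: group-theoretic lemmas, part A (helper79)
-/

set_option autoImplicit false

namespace Cfsg.Agent.Lib.Helper79.Winter

open Subgroup
open scoped Pointwise

/-- If `⨅ 𝒦 = ⊥` for a family of normal subgroups and `P K` is normal for each `K ∈ 𝒦`, then the
Sylow subgroup `P` is normal. -/
theorem sylow_normal_of_quotients {H : Type*} [Group H] [Finite H] {p : ℕ} [hp : Fact p.Prime]
    (P : Sylow p H) (𝒦 : Set (Subgroup H))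
    (hbot : ∀ g : H, (∀ K ∈ 𝒦, g ∈ K) → g = 1)
    (hn : ∀ K ∈ 𝒦, K.Normal)
    (hq : ∀ K ∈ 𝒦, ((P : Subgroup H) ⊔ K).Normal) : (P : Subgroup H).Normal := by
  classical
  set D : Subgroup H := ⨅ K : 𝒦, ((P : Subgroup H) ⊔ K.1) with hD
  have hDn : D.Normal := Subgroup.normal_iInf_normal (fun K => hq K.1 K.2)
  have hPD : (P : Subgroup H) ≤ D := le_iInf (fun K => le_sup_left)
  obtain ⟨n, hn'⟩ := IsPGroup.iff_card.mp P.2
  have hpow : ∀ d ∈ D, d ^ (p ^ n) = 1 := by
    intro d hd
    apply hbot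
    intro K hK
    haveI := hn K hK
    have hdK : d ∈ (P : Subgroup H) ⊔ K := (iInf_le (fun K : 𝒦 => (P : Subgroup H) ⊔ K.1) ⟨K, hK⟩) hd
    have hmem : d ∈ (((P : Subgroup H) ⊔ K : Subgroup H) : Set H) := hdK
    rw [Subgroup.mul_normal] at hmem
    obtain ⟨x, hx, k, hk, rfl⟩ := Set.mem_mul.mp hmem
    have hx1 : x ^ (p ^ n) = 1 := by
      have := pow_card_eq_one' (G := (P : Subgroup H)) (x := ⟨x, hx⟩)
      rw [hn'] at this
      exact congrArg Subtype.val this
    have hk1 : (QuotientGroup.mk' K) k = 1 := (QuotientGroup.eq_one_iff k).mpr hk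
    have : (QuotientGroup.mk' K) ((x * k) ^ (p ^ n)) = 1 := by
      rw [map_pow, map_mul, hk1, mul_one, ← map_pow, hx1, map_one]
    exact (QuotientGroup.eq_one_iff _).mp this
  have hDp : IsPGroup p D := by
    intro d
    refine ⟨n, ?_⟩
    exact Subtype.ext (hpow d.1 d.2)
  have : D = P := P.3 hDp hPD
  rw [← this]
  exact hDn


/-- maximal subgroups of solvable groups: prime power index `r ^ a`, and a `p`-element outside the
core forces `r = p` or `r ^ i ≡ 1 (mod p)` for some `1 ≤ i ≤ a`. -/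
theorem exists_prime_pow_index_of_isCoatom {G : Type*} [Group G] [Finite G]
    [hs : Group.IsSolvable G] {p : ℕ} [hp : Fact p.Prime] (H : Subgroup G) (hH : IsCoatom H)
    (x : G) (k : ℕ) (hx : x ^ (p ^ k) = 1) (hxN : x ∉ H.normalCore) :
    ∃ r a : ℕ, r.Prime ∧ H.index = r ^ a ∧
      (r = p ∨ ∃ i, 1 ≤ i ∧ i ≤ a ∧ r ^ i ≡ 1 [MOD p]) := by
  classical
  set N := H.normalCore with hN
  haveI hNn : N.Normal := Subgroup.normalCore_normal H
  have hNH : N ≤ H := Subgroup.normalCore_le H
  set π := QuotientGroup.mk' N with hπdef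
  have hπ : Function.Surjective π := QuotientGroup.mk'_surjective N
  have hker : π.ker = N := QuotientGroup.ker_mk' N
  set Hb := H.map π with hHb
  have hidx : Hb.index = H.index := Subgroup.index_map_eq H hπ (by rw [hker]; exact hNH)
  -- (i) normal subgroups inside `Hb` are trivial
  have hi : ∀ B : Subgroup (G ⧸ N), B.Normal → B ≤ Hb → B = ⊥ := by
    intro B hB hBH
    have h1 : B.comap π ≤ H := by
      have h0 : B.comap π ≤ Hb.comap π := Subgroup.comap_mono hBH
      rw [hHb, Subgroup.comap_map_eq, hker, sup_of_le_left hNH] at h0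
      exact h0
    haveI : (B.comap π).Normal := hB.comap π
    have h2 : B.comap π ≤ N := Subgroup.normal_le_normalCore.mpr h1
    rw [eq_bot_iff]
    intro b hb
    obtain ⟨g, rfl⟩ := hπ b
    have hg : g ∈ N := h2 hb
    rw [Subgroup.mem_bot]
    exact (QuotientGroup.eq_one_iff g).mpr hg
  -- the quotient is nontrivial and solvable
  have hxb : π x ≠ 1 := fun h => hxN ((QuotientGroup.eq_one_iff x).mp h)
  haveI : Nontrivial (G ⧸ N) := ⟨⟨π x, 1, hxb⟩⟩
  have hsQ : Group.IsSolvable (G ⧸ N) := solvable_of_surjective hπ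
  obtain ⟨hex⟩ := hsQ
  set n := Nat.find hex with hn
  have hn0 : n ≠ 0 := by
    intro h0
    have := Nat.find_spec hex
    rw [← hn, h0, derivedSeries_zero] at this
    exact top_ne_bot this
  obtain ⟨m, hm⟩ := Nat.exists_eq_succ_of_ne_zero hn0
  set A := derivedSeries (G ⧸ N) m with hA
  haveI hAn : A.Normal := derivedSeries_normal (G ⧸ N) m
  have hAne : A ≠ ⊥ := by
    have : m < n := by omega
    exact Nat.find_min hex this
  have hAab : ∀ a ∈ A, ∀ b ∈ A, a * b = b * a := by
    have h1 : ⁅A, A⁆ = ⊥ := by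
      have := Nat.find_spec hex
      rw [← hn, hm, derivedSeries_succ] at this
      exact this
    have h2 := Subgroup.commutator_eq_bot_iff_le_centralizer.mp h1
    intro a ha b hb
    exact (Subgroup.mem_centralizer_iff.mp (h2 ha) b hb).symm
  -- (★)
  have hstar : ∀ B : Subgroup (G ⧸ N), B.Normal → B ≤ A → B ≠ ⊥ →
      Hb ⊔ B = ⊤ ∧ Nat.card B = H.index := by
    intro B hBn hBA hBne
    have hsup : Hb ⊔ B = ⊤ := by
      set C := B.comap π with hC
      have hCH : ¬ C ≤ H := by
        intro hCH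
        apply hBne
        apply hi B hBn
        rw [← Subgroup.map_comap_eq_self_of_surjective hπ B]
        exact Subgroup.map_mono hCH
      have hlt : H < H ⊔ C := by
        refine lt_of_le_of_ne le_sup_left ?_
        intro h
        apply hCH
        rw [h]
        exact le_sup_right
      have htop := hH.2 _ hlt
      have := congrArg (Subgroup.map π) htop
      rw [Subgroup.map_sup, hC, Subgroup.map_comap_eq_self_of_surjective hπ B,
        ← MonoidHom.range_eq_map, MonoidHom.range_eq_top.mpr hπ] at this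
      exact this
    have hmul : ((Hb : Set (G ⧸ N)) * (B : Set (G ⧸ N))) = Set.univ := by
      rw [← Subgroup.mul_normal, hsup]
      rfl
    have hinfn : (Hb ⊓ B).Normal := by
      constructor
      intro c hc g
      have hg : g ∈ ((Hb : Set (G ⧸ N)) * (B : Set (G ⧸ N))) := by rw [hmul]; exact Set.mem_univ g
      obtain ⟨h, hh, b, hb, rfl⟩ := Set.mem_mul.mp hg
      have hcb : b * c * b⁻¹ = c := by
        rw [hAab b (hBA hb) c (hBA hc.2), mul_inv_cancel_right]
      have : h * b * c * (h * b)⁻¹ = h * (b * c * b⁻¹) * h⁻¹ := by group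
      rw [this, hcb]
      exact ⟨Hb.mul_mem (Hb.mul_mem hh hc.1) (Hb.inv_mem hh), hBn.conj_mem c hc.2 h⟩
    have hdisj : Disjoint Hb B := by
      rw [disjoint_iff]
      exact hi _ hinfn inf_le_left
    have hcomp := Subgroup.isComplement'_of_disjoint_and_mul_eq_univ hdisj hmul
    have := hcomp.symm.index_eq_card
    rw [hidx] at this
    exact ⟨hsup, this.symm⟩
  obtain ⟨hsupA, hcardA⟩ := hstar A hAn le_rfl hAne
  -- a prime divisor of `|A|`
  have hA1 : Nat.card A ≠ 1 := by
    intro h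
    exact hAne (Subgroup.card_eq_one.mp h)
  obtain ⟨r, hr, hrA⟩ := Nat.exists_prime_and_dvd hA1
  haveI : Fact r.Prime := ⟨hr⟩
  -- `Ω`
  let Ω : Subgroup (G ⧸ N) :=
    { carrier := {g | g ∈ A ∧ g ^ r = 1}
      mul_mem' := by
        intro a b ha hb
        refine ⟨A.mul_mem ha.1 hb.1, ?_⟩
        have hc : Commute a b := hAab a ha.1 b hb.1
        rw [hc.mul_pow, ha.2, hb.2, one_mul]
      one_mem' := ⟨A.one_mem, one_pow r⟩
      inv_mem' := by
        intro a ha
        exact ⟨A.inv_mem ha.1, by rw [inv_pow, ha.2, inv_one]⟩ }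
  have hΩn : Ω.Normal := by
    constructor
    intro a ha g
    refine ⟨hAn.conj_mem a ha.1 g, ?_⟩
    rw [conj_pow, ha.2, mul_one, mul_inv_cancel]
  have hΩA : Ω ≤ A := fun a ha => ha.1
  have hΩne : Ω ≠ ⊥ := by
    obtain ⟨a, ha⟩ := exists_prime_orderOf_dvd_card' (G := A) r hrA
    intro h
    have hmem : (a : G ⧸ N) ∈ Ω := by
      refine ⟨a.2, ?_⟩
      have := pow_orderOf_eq_one a
      rw [ha] at this
      exact_mod_cast congrArg Subtype.val this
    rw [h, Subgroup.mem_bot] at hmem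
    have : a = 1 := Subtype.ext hmem
    rw [this, orderOf_one] at ha
    exact hr.one_lt.ne ha
  obtain ⟨-, hcardΩ⟩ := hstar Ω hΩn hΩA hΩne
  have hΩeq : Ω = A := Subgroup.eq_of_le_of_card_ge hΩA (by rw [hcardΩ, hcardA])
  have hApg : IsPGroup r A := by
    intro a
    refine ⟨1, ?_⟩
    have : (a : G ⧸ N) ∈ Ω := by rw [hΩeq]; exact a.2
    rw [pow_one]
    exact Subtype.ext this.2
  obtain ⟨a', ha'⟩ := IsPGroup.iff_card.mp hApg
  refine ⟨r, a', hr, by rw [← hcardA, ha'], ?_⟩
  by_cases hrp : r = p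
  · exact Or.inl hrp
  right
  have hcop : Nat.Coprime p r := (Nat.coprime_primes hp.out hr).mpr (Ne.symm hrp)
  set xb := π x with hxbdef
  have hxbk : xb ^ (p ^ k) = 1 := by rw [hxbdef, ← map_pow, hx, map_one]
  have hzp : IsPGroup p (Subgroup.zpowers xb) := by
    have hdvd : orderOf xb ∣ p ^ k := orderOf_dvd_of_pow_eq_one hxbk
    obtain ⟨j, -, hj⟩ := (Nat.dvd_prime_pow hp.out).mp hdvd
    apply IsPGroup.of_card (n := j)
    rw [Nat.card_zpowers, hj]
  have hnorm : xb ∈ Subgroup.normalizer (A : Set (G ⧸ N)) := by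
    rw [Subgroup.normalizer_eq_top]
    exact Subgroup.mem_top _
  have hmod := Cfsg.Agent.Lib.Helper66.card_modEq_card_inf_centralizer_singleton
    xb A hzp hnorm
  set C := A ⊓ Subgroup.centralizer {xb} with hC
  have hCdvd : Nat.card C ∣ r ^ a' := by
    rw [← ha']
    exact Subgroup.card_dvd_of_le inf_le_left
  obtain ⟨c, hca, hc⟩ := (Nat.dvd_prime_pow hr).mp hCdvd
  have hclt : c < a' := by
    rcases lt_or_eq_of_le hca with h | h
    · exact h
    exfalso
    have hCA : C = A := Subgroup.eq_of_le_of_card_ge inf_le_left (by rw [hc, h, ha'])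
    have hAcent : ∀ a ∈ A, a * xb = xb * a := by
      intro a ha
      have : a ∈ C := by rw [hCA]; exact ha
      exact (Subgroup.mem_centralizer_singleton_iff.mp this.2)
    set Z := Subgroup.centralizer (A : Set (G ⧸ N)) with hZ
    haveI hZn : Z.Normal := Subgroup.normal_centralizer
    have hxZ : xb ∈ Z := by
      rw [hZ, Subgroup.mem_centralizer_iff]
      intro a ha
      exact hAcent a ha
    have hAZ : A ≤ Z := by
      intro a ha
      rw [hZ, Subgroup.mem_centralizer_iff]
      intro b hb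
      exact hAab b hb a ha
    have hmulA : ((Hb : Set (G ⧸ N)) * (A : Set (G ⧸ N))) = Set.univ := by
      rw [← Subgroup.mul_normal, hsupA]
      rfl
    have hZHn : (Z ⊓ Hb).Normal := by
      constructor
      intro c hc g
      have hg : g ∈ ((Hb : Set (G ⧸ N)) * (A : Set (G ⧸ N))) := by rw [hmulA]; exact Set.mem_univ g
      obtain ⟨h, hh, b, hb, rfl⟩ := Set.mem_mul.mp hg
      have hcb : b * c * b⁻¹ = c := by
        have := Subgroup.mem_centralizer_iff.mp hc.1 b hb
        rw [this, mul_inv_cancel_right]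
      have : h * b * c * (h * b)⁻¹ = h * (b * c * b⁻¹) * h⁻¹ := by group
      rw [this, hcb]
      exact ⟨hZn.conj_mem c hc.1 h, Hb.mul_mem (Hb.mul_mem hh hc.2) (Hb.inv_mem hh)⟩
    have hZH : Z ⊓ Hb = ⊥ := hi _ hZHn inf_le_right
    have hg : xb ∈ ((Hb : Set (G ⧸ N)) * (A : Set (G ⧸ N))) := by rw [hmulA]; exact Set.mem_univ xb
    obtain ⟨h, hh, b, hb, hhb⟩ := Set.mem_mul.mp hg
    have hhZ : h ∈ Z := by
      have : h = xb * b⁻¹ := by rw [← hhb, mul_inv_cancel_right]
      rw [this]
      exact Z.mul_mem hxZ (Z.inv_mem (hAZ hb))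
    have hh1 : h = 1 := by
      have : h ∈ Z ⊓ Hb := ⟨hhZ, hh⟩
      rw [hZH, Subgroup.mem_bot] at this
      exact this
    have hxA : xb ∈ A := by rw [← hhb, hh1, one_mul]; exact hb
    have ho1 : orderOf xb ∣ p ^ k := orderOf_dvd_of_pow_eq_one hxbk
    have ho2 : orderOf xb ∣ r ^ a' := by
      rw [← ha']
      have := orderOf_dvd_natCard (⟨xb, hxA⟩ : A)
      rwa [Subgroup.orderOf_mk] at this
    have hcop' : Nat.Coprime (p ^ k) (r ^ a') := Nat.Coprime.pow _ _ hcop
    have : orderOf xb = 1 := Nat.eq_one_of_dvd_coprimes hcop' ho1 ho2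
    exact hxb (orderOf_eq_one_iff.mp this)
  refine ⟨a' - c, by omega, by omega, ?_⟩
  rw [ha', hc] at hmod
  have hsplit : r ^ a' = r ^ c * r ^ (a' - c) := by
    rw [← pow_add]
    congr 1
    omega
  rw [hsplit] at hmod
  have hmod' : r ^ c * r ^ (a' - c) ≡ r ^ c * 1 [MOD p] := by rwa [mul_one]
  have hg : Nat.gcd p (r ^ c) = 1 := Nat.Coprime.pow_right c hcop
  exact Nat.ModEq.cancel_left_of_coprime hg hmod'


/-- coprime automorphisms: if `a` fixes `g⁻¹ * a g` then `a g = g` -/
theorem aut_fix_of_fix_comm {G : Type*} [Group G] [Finite G] {p : ℕ} [Fact p.Prime]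
    (hG : IsPGroup p G) (a : MulAut G) (ha : Nat.Coprime (orderOf a) p) (g : G)
    (hc : a (g⁻¹ * a g) = g⁻¹ * a g) : a g = g := by
  set c := g⁻¹ * a g with hcdef
  have hag : a g = g * c := by rw [hcdef]; group
  have hpow : ∀ k : ℕ, (a ^ k) g = g * c ^ k := by
    intro k
    induction k with
    | zero => simp
    | succ k ih =>
      rw [pow_succ', MulAut.mul_apply, ih, map_mul, map_pow, hc, hag, mul_assoc, ← pow_succ']
  have h1 := hpow (orderOf a)
  rw [pow_orderOf_eq_one, MulAut.one_apply] at h1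
  have h2 : c ^ orderOf a = 1 := by
    have : g * c ^ orderOf a = g * 1 := by rw [mul_one]; exact h1.symm
    exact mul_left_cancel this
  obtain ⟨j, hj⟩ := hG c
  have h3 : c = 1 := by
    have hcop : Nat.Coprime (orderOf a) (p ^ j) := ha.pow_right j
    have hd1 : orderOf c ∣ orderOf a := orderOf_dvd_of_pow_eq_one h2
    have hd2 : orderOf c ∣ p ^ j := orderOf_dvd_of_pow_eq_one hj
    have : orderOf c ∣ 1 := by
      have := Nat.dvd_gcd hd1 hd2
      rwa [hcop] at this
    exact orderOf_eq_one_iff.mp (Nat.dvd_one.mp this)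
  rw [hag, h3, mul_one]

/-- a nontrivial `p`-power order automorphism of a finite abelian `r`-group (`r ≠ p`) has an
irreducible invariant subgroup without fixed points; its order is `≡ 1 (mod p)`. -/
theorem exists_irreducible_section {A : Type*} [Group A] [Finite A]
    (hc : ∀ a b : A, a * b = b * a) {r p : ℕ} [hr : Fact r.Prime] [hp : Fact p.Prime]
    (hrp : r ≠ p) (hA : IsPGroup r A) (σ : MulAut A) (b : ℕ) (hσ : σ ^ (p ^ b) = 1)
    (hne : σ ≠ 1) :
    ∃ B : Subgroup A, B ≠ ⊥ ∧ (∀ x ∈ B, σ x ∈ B) ∧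
      (∀ C : Subgroup A, C ≤ B → (∀ c ∈ C, σ c ∈ C) → C = ⊥ ∨ C = B) ∧
      Nat.card B ≡ 1 [MOD p] := by
  classical
  have hcop : Nat.Coprime (orderOf σ) r := by
    have hdvd : orderOf σ ∣ p ^ b := orderOf_dvd_of_pow_eq_one hσ
    obtain ⟨j, -, hj⟩ := (Nat.dvd_prime_pow hp.out).mp hdvd
    rw [hj]
    exact Nat.Coprime.pow_left j ((Nat.coprime_primes hp.out hr.out).mpr (Ne.symm hrp))
  let δ : A →* A :=
    { toFun := fun a => a⁻¹ * σ a
      map_one' := by simp
      map_mul' := by
        intro a c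
        rw [map_mul, mul_inv_rev, hc c⁻¹ a⁻¹, mul_assoc, mul_assoc, ← mul_assoc c⁻¹ (σ a) (σ c),
          hc c⁻¹ (σ a), mul_assoc] }
  have hδ : ∀ a, δ a = a⁻¹ * σ a := fun a => rfl
  set D := δ.range with hD
  have hDne : D ≠ ⊥ := by
    intro h
    apply hne
    ext a
    have : δ a ∈ D := ⟨a, rfl⟩
    rw [h, Subgroup.mem_bot, hδ, inv_mul_eq_one] at this
    rw [MulAut.one_apply]
    exact this.symm
  have hDinv : ∀ x ∈ D, σ x ∈ D := by
    rintro x ⟨a, rfl⟩
    refine ⟨σ a, ?_⟩
    rw [hδ, hδ, map_mul, map_inv]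
  have hDfix : ∀ x ∈ D, σ x = x → x = 1 := by
    rintro x ⟨a, rfl⟩ hx
    rw [hδ] at hx ⊢
    have := aut_fix_of_fix_comm hA σ hcop a hx
    rw [this, inv_mul_cancel]
  set S : Set (Subgroup A) := {B | B ≠ ⊥ ∧ B ≤ D ∧ ∀ x ∈ B, σ x ∈ B} with hS
  have hSne : S.Nonempty := ⟨D, hDne, le_rfl, hDinv⟩
  obtain ⟨B, hBS, hBmin⟩ := Set.exists_min_image S (fun B => Nat.card B) (Set.toFinite S) hSne
  obtain ⟨hBne, hBD, hBinv⟩ := hBS
  refine ⟨B, hBne, hBinv, ?_, ?_⟩
  · intro C hCB hCinv
    by_cases hC : C = ⊥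
    · exact Or.inl hC
    right
    have hCS : C ∈ S := ⟨hC, hCB.trans hBD, hCinv⟩
    exact Subgroup.eq_of_le_of_card_ge hCB (hBmin C hCS)
  · -- fixed point count
    haveI : Fintype B := Fintype.ofFinite _
    let f : Function.End B := fun x => ⟨σ x.1, hBinv x.1 x.2⟩
    have hfpow : ∀ (k : ℕ) (x : B), ((f ^ k) x : A) = (σ ^ k) x.1 := by
      intro k
      induction k with
      | zero => intro x; rfl
      | succ k ih =>
        intro x
        rw [pow_succ', pow_succ', MulAut.mul_apply, ← ih x]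
        rfl
    have hf : f ^ p ^ b = 1 := by
      funext x
      apply Subtype.ext
      rw [hfpow, hσ]
      rfl
    have hmod := Equiv.Perm.card_fixedPoints_modEq (f := f) (p := p) (n := b) hf
    have hfix : Fintype.card (Function.fixedPoints f) = 1 := by
      rw [Fintype.card_eq_one_iff]
      refine ⟨⟨1, ?_⟩, ?_⟩
      · show f 1 = 1
        apply Subtype.ext
        show σ ((1 : B) : A) = 1
        simp
      · rintro ⟨x, hx⟩
        apply Subtype.ext
        have hx' : f x = x := hx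
        have h1 : σ x.1 = x.1 := congrArg Subtype.val hx'
        have := hDfix x.1 (hBD x.2) h1
        exact Subtype.ext this
    rw [hfix, ← Nat.card_eq_fintype_card] at hmod
    exact hmod

end Cfsg.Agent.Lib.Helper79.Winter
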