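import Mathlib
import Cfsg.Agent.Lib.Helper79.WinterA

/-!
# Winter's theorem: group-theoretic lemmas, part B (helper79)

Pulling the irreducible section back to a subgroup of `G`.
-/

set_option autoImplicit false

namespace Cfsg.Agent.Lib.Helper79.Winter

open Subgroup
open scoped commutatorElement

/-- an `x`-irreducible section `M / L` of a class-two normal `r`-subgroup `K` with `L` central -/
theorem exists_section_subgroup {G : Type*} [Group G] [Finite G] {r p : ℕ} [hr : Fact r.Prime]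
    [hp : Fact p.Prime] (hrp : r ≠ p) (K L : Subgroup G) [hK : K.Normal] (hKr : IsPGroup r K)
    (hLK : L ≤ K) (hLZ : L ≤ Subgroup.center G) (hKL : ⁅K, K⁆ ≤ L)
    (x : G) (b : ℕ) (hx : x ^ (p ^ b) = 1) (hnc : ∃ k ∈ K, x * k * x⁻¹ * k⁻¹ ∉ L) :
    ∃ M : Subgroup G, L ≤ M ∧ M ≤ K ∧ (∀ m ∈ M, x * m * x⁻¹ ∈ M) ∧
      L.relIndex M ≡ 1 [MOD p] ∧ L.relIndex M ≠ 1 ∧ (∃ e, L.relIndex M = r ^ e) ∧
      (∀ C : Subgroup G, L ≤ C → C ≤ M → (∀ c ∈ C, x * c * x⁻¹ ∈ C) → C = L ∨ C = M) := by
  classical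
  have hcen : ∀ l ∈ L, ∀ g : G, g * l = l * g := fun l hl g => Subgroup.mem_center_iff.mp (hLZ hl) g
  haveI hLn : L.Normal := by
    constructor
    intro l hl g
    rw [hcen l hl g, mul_inv_cancel_right]
    exact hl
  set L' := L.subgroupOf K with hL'
  haveI hL'n : L'.Normal := inferInstance
  have hmemL' : ∀ k : K, k ∈ L' ↔ (k : G) ∈ L := fun k => Subgroup.mem_subgroupOf
  set π := QuotientGroup.mk' L' with hπdef
  have hπ : Function.Surjective π := QuotientGroup.mk'_surjective L'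
  have hπeq : ∀ a c : K, π a = π c ↔ a⁻¹ * c ∈ L' := fun a c => QuotientGroup.eq
  -- commutativity of the quotient
  have hcomm : ∀ a c : K ⧸ L', a * c = c * a := by
    intro a c
    obtain ⟨a, rfl⟩ := hπ a
    obtain ⟨c, rfl⟩ := hπ c
    rw [← map_mul, ← map_mul, hπeq, hmemL']
    apply hKL
    have : (((a * c)⁻¹ * (c * a) : K) : G) = ⁅(c : G)⁻¹, (a : G)⁻¹⁆ := by
      rw [commutatorElement_def]
      push_cast
      group
    rw [this]
    exact Subgroup.commutator_mem_commutator (K.inv_mem c.2) (K.inv_mem a.2)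
  have hApg : IsPGroup r (K ⧸ L') := hKr.to_quotient L'
  -- the automorphism
  have hmap : ∀ y : G, L'.map ((MulAut.conjNormal y : MulAut K) : K →* K) = L' := by
    intro y
    ext k
    constructor
    · rintro ⟨l, hl, rfl⟩
      have hlL : (l : G) ∈ L := (hmemL' l).mp hl
      have : ((MulAut.conjNormal y : MulAut K) l) = l := by
        apply Subtype.ext
        rw [MulAut.conjNormal_apply, hcen _ hlL y, mul_inv_cancel_right]
      show ((MulAut.conjNormal y : MulAut K) l) ∈ L'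
      rw [this]
      exact hl
    · intro hk
      have hkL : (k : G) ∈ L := (hmemL' k).mp hk
      refine ⟨k, hk, ?_⟩
      apply Subtype.ext
      show (((MulAut.conjNormal y : MulAut K) k : K) : G) = k
      rw [MulAut.conjNormal_apply, hcen _ hkL y, mul_inv_cancel_right]
  set σ : MulAut (K ⧸ L') := QuotientGroup.congr L' L' (MulAut.conjNormal x) (hmap x) with hσdef
  have hσmk : ∀ k : K, σ (π k) = π ((MulAut.conjNormal x : MulAut K) k) := fun k => rfl
  have hσpow : ∀ (n : ℕ) (k : K), (σ ^ n) (π k) = π ((MulAut.conjNormal (x ^ n) : MulAut K) k) := by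
    intro n
    induction n with
    | zero => intro k; simp
    | succ n ih =>
      intro k
      rw [pow_succ', MulAut.mul_apply, ih, hσmk, pow_succ', map_mul, MulAut.mul_apply]
  have hσ : σ ^ (p ^ b) = 1 := by
    ext a
    obtain ⟨k, rfl⟩ := hπ a
    rw [hσpow, hx, map_one, MulAut.one_apply, MulAut.one_apply]
  have hσne : σ ≠ 1 := by
    obtain ⟨k, hkK, hk⟩ := hnc
    intro h
    have h1 : σ (π ⟨k, hkK⟩) = π ⟨k, hkK⟩ := by rw [h, MulAut.one_apply]
    rw [hσmk, eq_comm, hπeq, hmemL'] at h1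
    apply hk
    have : x * k * x⁻¹ * k⁻¹ = k * (((⟨k, hkK⟩ : K)⁻¹ *
        (MulAut.conjNormal x : MulAut K) ⟨k, hkK⟩ : K) : G) * k⁻¹ := by
      push_cast
      rw [MulAut.conjNormal_apply]
      group
    rw [this]
    exact hLn.conj_mem _ h1 k
  obtain ⟨B, hBne, hBinv, hBirr, hBmod⟩ :=
    exists_irreducible_section hcomm hrp hApg σ b hσ hσne
  set M' := B.comap π with hM'
  set M := M'.map K.subtype with hM
  have hmemM : ∀ g : G, g ∈ M ↔ ∃ h : g ∈ K, π ⟨g, h⟩ ∈ B := by
    intro g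
    constructor
    · rintro ⟨k, hk, rfl⟩
      exact ⟨k.2, hk⟩
    · rintro ⟨h, hB⟩
      exact ⟨⟨g, h⟩, hB, rfl⟩
  have hLM : L ≤ M := by
    intro l hl
    rw [hmemM]
    refine ⟨hLK hl, ?_⟩
    have : π ⟨l, hLK hl⟩ = 1 := (QuotientGroup.eq_one_iff _).mpr ((hmemL' _).mpr hl)
    rw [this]
    exact B.one_mem
  have hMK : M ≤ K := Subgroup.map_subtype_le M'
  have hMinv : ∀ m ∈ M, x * m * x⁻¹ ∈ M := by
    intro m hm
    obtain ⟨hmK, hmB⟩ := (hmemM m).mp hm
    rw [hmemM]
    refine ⟨hK.conj_mem m hmK x, ?_⟩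
    have := hBinv _ hmB
    rw [hσmk] at this
    exact this
  have hrel : L.relIndex M = Nat.card B := by
    have h1 : L = L'.map K.subtype := by
      rw [hL', Subgroup.map_subgroupOf_eq_of_le hLK]
    have h2 : L.relIndex M = L'.relIndex M' := by
      conv_lhs => rw [h1, hM]
      exact Subgroup.relIndex_map_map_of_injective L' M' K.subtype_injective
    have h3 : L' = (⊥ : Subgroup (K ⧸ L')).comap π := by
      rw [MonoidHom.comap_bot, hπdef, QuotientGroup.ker_mk']
    rw [h2]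
    conv_lhs => rw [h3]
    rw [Subgroup.relIndex_comap, hM', Subgroup.map_comap_eq_self_of_surjective hπ,
      Subgroup.relIndex_bot_left]
  refine ⟨M, hLM, hMK, hMinv, by rw [hrel]; exact hBmod, ?_, ?_, ?_⟩
  · rw [hrel]
    intro h
    exact hBne (Subgroup.card_eq_one.mp h)
  · rw [hrel]
    have hBpg : IsPGroup r B := hApg.to_subgroup B
    exact IsPGroup.iff_card.mp hBpg
  · intro C hLC hCM hCinv
    set C' := (C.subgroupOf K).map π with hC'
    have hC'B : C' ≤ B := by
      rintro _ ⟨k, hk, rfl⟩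
      have hkC : (k : G) ∈ C := Subgroup.mem_subgroupOf.mp hk
      obtain ⟨_, hB⟩ := (hmemM _).mp (hCM hkC)
      exact hB
    have hC'inv : ∀ c ∈ C', σ c ∈ C' := by
      rintro _ ⟨k, hk, rfl⟩
      have hkC : (k : G) ∈ C := Subgroup.mem_subgroupOf.mp hk
      rw [hσmk]
      refine ⟨(MulAut.conjNormal x : MulAut K) k, ?_, rfl⟩
      show (MulAut.conjNormal x : MulAut K) k ∈ C.subgroupOf K
      rw [Subgroup.mem_subgroupOf, MulAut.conjNormal_apply]
      exact hCinv _ hkC
    rcases hBirr C' hC'B hC'inv with h | h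
    · left
      apply le_antisymm _ hLC
      intro c hc
      have hcK : c ∈ K := hMK (hCM hc)
      have : π ⟨c, hcK⟩ ∈ C' := ⟨⟨c, hcK⟩, Subgroup.mem_subgroupOf.mpr hc, rfl⟩
      rw [h, Subgroup.mem_bot] at this
      exact (hmemL' _).mp ((QuotientGroup.eq_one_iff _).mp this)
    · right
      apply le_antisymm hCM
      intro m hm
      obtain ⟨hmK, hmB⟩ := (hmemM m).mp hm
      rw [← h] at hmB
      obtain ⟨k, hk, hkm⟩ := hmB
      have hkC : (k : G) ∈ C := Subgroup.mem_subgroupOf.mp hk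
      have hkm' : π k = π ⟨m, hmK⟩ := hkm
      rw [hπeq, hmemL'] at hkm'
      have : m = (k : G) * ((k⁻¹ * ⟨m, hmK⟩ : K) : G) := by
        push_cast
        group
      rw [this]
      exact C.mul_mem hkC (hLC hkm')

end Cfsg.Agent.Lib.Helper79.Winter
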