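import Mathlib
import Cfsg.Agent.Lib.Helper79.WinterB
import Cfsg.Agent.Lib.Helper01.Fitting
import Cfsg.Agent.Lib.Helper13.Fitting
import Cfsg.Agent.Lib.Helper06.CoprimePairs

/-!
# Winter's theorem: group-theoretic lemmas, part C (helper79)

In a finite solvable group all of whose abelian normal subgroups are central and whose
`O_p` is central, a non-normal Sylow `p`-subgroup gives a class-two section `M / L`.
-/

set_option autoImplicit false

namespace Cfsg.Agent.Lib.Helper79.Winter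

open Subgroup
open scoped commutatorElement

/-- coprime action on elements: if `x` is a `p`-element, `c = x k x⁻¹ k⁻¹` an element of
order prime to `p` commuting with `x`, then `c = 1` -/
theorem comm_eq_one_aux {G : Type*} [Group G] [Finite G] {r p : ℕ} [hr : Fact r.Prime]
    [hp : Fact p.Prime] (hrp : r ≠ p) (K : Subgroup G) (hKr : IsPGroup r K) (x : G) (b : ℕ)
    (hx : x ^ (p ^ b) = 1) (k : G) (hc : x * k * x⁻¹ * k⁻¹ ∈ K)
    (hcomm : Commute x (x * k * x⁻¹ * k⁻¹)) : x * k * x⁻¹ * k⁻¹ = 1 := by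
  obtain ⟨e, he⟩ := hKr ⟨_, hc⟩
  have he' : (x * k * x⁻¹ * k⁻¹) ^ (r ^ e) = 1 := by
    have := congrArg (Subtype.val) he
    simpa using this
  have hcop : Nat.Coprime (r ^ e) p :=
    Nat.Coprime.pow_left _ ((Nat.coprime_primes hr.out hp.out).mpr hrp)
  exact Cfsg.Agent.Lib.Helper06.comm_eq_one_of_commute hx he' hcop hcomm

theorem exists_class_two_section {G : Type*} [Group G] [Finite G] [hs : Group.IsSolvable G]
    {p : ℕ} [hp : Fact p.Prime] (P : Sylow p G) (hP : ¬ (P : Subgroup G).Normal)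
    (hAN : ∀ A : Subgroup G, A.Normal → (∀ a ∈ A, ∀ b ∈ A, a * b = b * a) →
      A ≤ Subgroup.center G)
    (hOp : Cfsg.pCore p G ≤ Subgroup.center G) :
    ∃ (r : ℕ) (M L : Subgroup G), r.Prime ∧ r ≠ p ∧ L ≤ M ∧ L ≤ Subgroup.center G ∧
      L.relIndex M ≡ 1 [MOD p] ∧ L.relIndex M ≠ 1 ∧ (∃ e, L.relIndex M = r ^ e) ∧
      (∀ g ∈ M, g ∉ L → ∃ h : G, g⁻¹ * h * g * h⁻¹ ∈ Subgroup.center G ∧
        g⁻¹ * h * g * h⁻¹ ≠ 1) ∧
      ((∀ a ∈ M, ∀ b ∈ M, a * b = b * a) ∨
        (∀ g ∈ M, g ∉ L → ∃ h ∈ M, g⁻¹ * h * g * h⁻¹ ∈ L ∧ g⁻¹ * h * g * h⁻¹ ≠ 1)) := by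
  classical
  -- Step 1: a prime `r` with `P` not centralizing `O_r(G)`
  have h1 : ∃ r : Nat.Primes, ¬ ((P : Subgroup G) ≤
      Subgroup.centralizer ((Cfsg.pCore (r : ℕ) G : Subgroup G) : Set G)) := by
    by_contra hcon
    push Not at hcon
    set F := Cfsg.fittingSubgroup G with hF
    haveI hFn : F.Normal := Cfsg.Agent.Lib.Helper13.fittingSubgroup_normal
    have hFle : F ≤ ⨆ q : Nat.Primes, Cfsg.pCore (q : ℕ) G :=
      Cfsg.Agent.Lib.Helper01.le_iSup_pCore_of_normal_nilpotent hFn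
        Cfsg.Agent.Lib.Helper01.fitting_isNilpotent
    have hFP : F ≤ Subgroup.centralizer ((P : Subgroup G) : Set G) := by
      refine hFle.trans (iSup_le ?_)
      intro q
      exact Subgroup.le_centralizer_iff.mp (hcon q)
    have hPF : (P : Subgroup G) ≤ Subgroup.centralizer (F : Set G) :=
      Subgroup.le_centralizer_iff.mp hFP
    have hPF' : (P : Subgroup G) ≤ F :=
      hPF.trans Cfsg.Agent.Lib.Helper13.centralizer_fittingSubgroup_le
    set Z := F ⊓ Subgroup.centralizer (F : Set G) with hZ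
    haveI hCn : (Subgroup.centralizer (F : Set G)).Normal := Subgroup.normal_centralizer
    have hZn : Z.Normal := inferInstance
    have hZab : ∀ a ∈ Z, ∀ c ∈ Z, a * c = c * a := by
      intro a ha c hc
      exact Subgroup.mem_centralizer_iff.mp hc.2 a ha.1
    have hZc : Z ≤ Subgroup.center G := hAN Z hZn hZab
    apply hP
    constructor
    intro n hn g
    have hnc : n ∈ Subgroup.center G := hZc ⟨hPF' hn, hPF hn⟩
    rw [Subgroup.mem_center_iff.mp hnc g, mul_inv_cancel_right]
    exact hn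
  obtain ⟨⟨r, hrprime⟩, hr⟩ := h1
  haveI hrf : Fact r.Prime := ⟨hrprime⟩
  have hrp : r ≠ p := by
    rintro rfl
    apply hr
    intro x _
    rw [Subgroup.mem_centralizer_iff]
    intro g hg
    exact (Subgroup.mem_center_iff.mp (hOp hg) x).symm
  simp only at hr
  -- Step 2: minimal `K`
  set S : Set (Subgroup G) := {K | K.Normal ∧ K ≤ Cfsg.pCore r G ∧
    ¬ ((P : Subgroup G) ≤ Subgroup.centralizer (K : Set G))} with hS
  have hSne : S.Nonempty :=
    ⟨Cfsg.pCore r G, Cfsg.Agent.Lib.Helper01.pCore_normal r, le_refl _, hr⟩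
  obtain ⟨K, ⟨hKn, hKle, hKP⟩, hKmin⟩ := (wellFounded_lt (α := Subgroup G)).has_min S hSne
  haveI := hKn
  have hKr : IsPGroup r K := (Cfsg.Agent.Lib.Helper01.pCore_isPGroup r).to_le hKle
  have hmin : ∀ B : Subgroup G, B.Normal → B < K →
      (P : Subgroup G) ≤ Subgroup.centralizer (B : Set G) := by
    intro B hBn hBK
    by_contra hcon
    exact hKmin B ⟨hBn, hBK.le.trans hKle, hcon⟩ hBK
  -- `P` is a `p`-group
  have hPpow : ∀ x ∈ (P : Subgroup G), ∃ b : ℕ, x ^ (p ^ b) = 1 := by
    intro x hx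
    obtain ⟨b, hb⟩ := P.isPGroup' ⟨x, hx⟩
    refine ⟨b, ?_⟩
    have := congrArg Subtype.val hb
    simpa using this
  -- Step 3
  set N₀ := Subgroup.normalClosure ((P : Subgroup G) : Set G) with hN₀
  haveI hN₀n : N₀.Normal := Subgroup.normalClosure_normal
  have hPN₀ : (P : Subgroup G) ≤ N₀ := Subgroup.subset_normalClosure
  have hKN₀ : ⁅K, N₀⁆ = K := by
    have hle : ⁅K, N₀⁆ ≤ K := Subgroup.commutator_le_left K N₀
    have hnorm : ⁅K, N₀⁆.Normal := Subgroup.commutator_normal K N₀
    by_contra hne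
    have hlt : ⁅K, N₀⁆ < K := lt_of_le_of_ne hle hne
    have hPc := hmin _ hnorm hlt
    apply hKP
    intro x hx
    rw [Subgroup.mem_centralizer_iff]
    intro k hk
    obtain ⟨b, hb⟩ := hPpow x hx
    have hcmem : x * k * x⁻¹ * k⁻¹ ∈ ⁅K, N₀⁆ := by
      rw [Subgroup.commutator_comm, ← commutatorElement_def]
      exact Subgroup.commutator_mem_commutator (hPN₀ hx) hk
    have hcomm : Commute x (x * k * x⁻¹ * k⁻¹) :=
      (Subgroup.mem_centralizer_iff.mp (hPc hx) _ hcmem).symm
    have := comm_eq_one_aux hrp K hKr x b hb k (hle hcmem) hcomm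
    have h2 : x * k = k * x := by
      have h3 : x * k * x⁻¹ * k⁻¹ * k * x = k * x := by rw [this, one_mul]
      rw [← h3]
      group
    exact h2.symm
  have hstar : ∀ B : Subgroup G, B.Normal → B < K → B ≤ Subgroup.center G := by
    intro B hBn hBK
    haveI := hBn
    have hPc := hmin B hBn hBK
    haveI hCBn : (Subgroup.centralizer (B : Set G)).Normal := Subgroup.normal_centralizer
    have hN₀B : N₀ ≤ Subgroup.centralizer (B : Set G) := Subgroup.normalClosure_le_normal hPc
    have hN₀B' : ⁅N₀, B⁆ = ⊥ := Subgroup.commutator_eq_bot_iff_le_centralizer.mpr hN₀B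
    have h1 : ⁅⁅N₀, B⁆, K⁆ = ⊥ := by rw [hN₀B', Subgroup.commutator_bot_left]
    have h2 : ⁅⁅B, K⁆, N₀⁆ = ⊥ := by
      have : ⁅⁅B, K⁆, N₀⁆ ≤ ⁅B, N₀⁆ :=
        Subgroup.commutator_mono (Subgroup.commutator_le_left B K) (le_refl _)
      rw [Subgroup.commutator_comm B N₀, hN₀B'] at this
      exact le_bot_iff.mp this
    have h3 : ⁅⁅K, N₀⁆, B⁆ = ⊥ := Subgroup.commutator_commutator_eq_bot_of_rotate h1 h2
    rw [hKN₀] at h3
    have hKB : K ≤ Subgroup.centralizer (B : Set G) :=
      Subgroup.commutator_eq_bot_iff_le_centralizer.mp h3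
    apply hAN B hBn
    intro a ha c hc
    exact Subgroup.mem_centralizer_iff.mp (hKB (hBK.le hc)) a ha
  -- Step 4
  have hKne : K ≠ ⊥ := by
    rintro rfl
    apply hKP
    intro x _
    rw [Subgroup.mem_centralizer_iff]
    intro k hk
    have : k = 1 := hk
    rw [this, one_mul, mul_one]
  have hKK : ⁅K, K⁆ ≤ Subgroup.center G :=
    hstar _ (Subgroup.commutator_normal K K) (Group.IsSolvable.commutator_lt_of_ne_bot hKne)
  -- Step 5
  haveI hCKn : (Subgroup.centralizer (K : Set G)).Normal := Subgroup.normal_centralizer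
  have hZK : K ⊓ Subgroup.centralizer (K : Set G) ≤ Subgroup.center G := by
    apply hstar (K ⊓ Subgroup.centralizer (K : Set G)) inferInstance
    apply lt_of_le_of_ne inf_le_left
    intro heq
    have hKc : K ≤ Subgroup.centralizer (K : Set G) := by
      intro k hk
      have hk' : k ∈ K ⊓ Subgroup.centralizer (K : Set G) := by rw [heq]; exact hk
      exact hk'.2
    have hKcen : K ≤ Subgroup.center G := by
      apply hAN K hKn
      intro a ha c hc
      exact Subgroup.mem_centralizer_iff.mp (hKc hc) a ha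
    apply hKP
    intro x _
    rw [Subgroup.mem_centralizer_iff]
    intro k hk
    exact (Subgroup.mem_center_iff.mp (hKcen hk) x).symm
  set L := K ⊓ Subgroup.center G with hL
  have hLK : L ≤ K := inf_le_left
  have hLZ : L ≤ Subgroup.center G := inf_le_right
  have hKL : ⁅K, K⁆ ≤ L := le_inf (Subgroup.commutator_le_left K K) hKK
  -- Step 6
  obtain ⟨x, hxP, hxK⟩ := SetLike.not_le_iff_exists.mp hKP
  obtain ⟨b, hb⟩ := hPpow x hxP
  have hnc : ∃ k ∈ K, x * k * x⁻¹ * k⁻¹ ∉ L := by
    by_contra hcon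
    push Not at hcon
    apply hxK
    rw [Subgroup.mem_centralizer_iff]
    intro k hk
    have hc := hcon k hk
    have hcomm : Commute x (x * k * x⁻¹ * k⁻¹) :=
      Subgroup.mem_center_iff.mp (hLZ hc) x
    have := comm_eq_one_aux hrp K hKr x b hb k (hLK hc) hcomm
    have h3 : x * k * x⁻¹ * k⁻¹ * k * x = k * x := by rw [this, one_mul]
    rw [← h3]
    group
  obtain ⟨M, hLM, hMK, hMinv, hmod, hne1, hpow, hirr⟩ :=
    exists_section_subgroup hrp K L hKr hLK hLZ hKL x b hb hnc
  -- noncentral elements of `K` do not centralize `K`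
  have hnoncent : ∀ g ∈ K, g ∉ L → ∃ h ∈ K, h * g ≠ g * h := by
    intro g hgK hgL
    by_contra hcon
    push Not at hcon
    apply hgL
    refine ⟨hgK, hZK ⟨hgK, ?_⟩⟩
    show g ∈ Subgroup.centralizer (K : Set G)
    rw [Subgroup.mem_centralizer_iff]
    exact hcon
  have hcne : ∀ g h : G, h * g ≠ g * h → g⁻¹ * h * g * h⁻¹ ≠ 1 := by
    intro g h hne hc
    apply hne
    have : g * (g⁻¹ * h * g * h⁻¹) * h = g * h := by rw [hc, mul_one]
    rw [← this]
    group
  have hcmem : ∀ g ∈ K, ∀ h ∈ K, g⁻¹ * h * g * h⁻¹ ∈ L := by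
    intro g hg h hh
    apply hKL
    have : g⁻¹ * h * g * h⁻¹ = ⁅g⁻¹, h⁆ := by rw [commutatorElement_def, inv_inv]
    rw [this]
    exact Subgroup.commutator_mem_commutator (K.inv_mem hg) hh
  refine ⟨r, M, L, hrprime, hrp, hLM, hLZ, hmod, hne1, hpow, ?_, ?_⟩
  · intro g hgM hgL
    obtain ⟨h, hhK, hne⟩ := hnoncent g (hMK hgM) hgL
    exact ⟨h, hLZ (hcmem g (hMK hgM) h hhK), hcne g h hne⟩
  · -- the center of `M`
    have hpowinv : ∀ (n : ℕ), ∀ m ∈ M, x ^ n * m * (x ^ n)⁻¹ ∈ M := by
      intro n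
      induction n with
      | zero => intro m hm; simpa using hm
      | succ n ih =>
        intro m hm
        have : x ^ (n + 1) * m * (x ^ (n + 1))⁻¹ = x * (x ^ n * m * (x ^ n)⁻¹) * x⁻¹ := by
          rw [pow_succ']
          group
        rw [this]
        exact hMinv _ (ih m hm)
    have hinvinv : ∀ m ∈ M, x⁻¹ * m * x ∈ M := by
      intro m hm
      have hxinv : x⁻¹ = x ^ (p ^ b - 1) := by
        have hpos : 0 < p ^ b := pos_of_ne_zero (pow_ne_zero _ hp.out.ne_zero)
        have : x ^ (p ^ b - 1) * x = 1 := by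
          rw [← pow_succ, Nat.sub_add_cancel hpos, hb]
        exact (eq_inv_of_mul_eq_one_left this).symm
      have := hpowinv (p ^ b - 1) m hm
      rw [← hxinv, inv_inv] at this
      exact this
    set C := M ⊓ Subgroup.centralizer (M : Set G) with hC
    have hLC : L ≤ C := by
      intro l hl
      refine ⟨hLM hl, ?_⟩
      show l ∈ Subgroup.centralizer (M : Set G)
      rw [Subgroup.mem_centralizer_iff]
      intro m _
      exact Subgroup.mem_center_iff.mp (hLZ hl) m
    have hCinv : ∀ c ∈ C, x * c * x⁻¹ ∈ C := by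
      intro c hc
      refine ⟨hMinv c hc.1, ?_⟩
      show x * c * x⁻¹ ∈ Subgroup.centralizer (M : Set G)
      rw [Subgroup.mem_centralizer_iff]
      intro m hm
      have h1 := Subgroup.mem_centralizer_iff.mp hc.2 _ (hinvinv m hm)
      have h2 : m * (x * c * x⁻¹) = x * ((x⁻¹ * m * x) * c) * x⁻¹ := by group
      rw [h2, h1]
      group
    rcases hirr C hLC inf_le_left hCinv with h | h
    · right
      intro g hgM hgL
      have : ∃ h ∈ M, h * g ≠ g * h := by
        by_contra hcon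
        push Not at hcon
        apply hgL
        rw [← h]
        refine ⟨hgM, ?_⟩
        show g ∈ Subgroup.centralizer (M : Set G)
        rw [Subgroup.mem_centralizer_iff]
        exact hcon
      obtain ⟨h', hh'M, hne⟩ := this
      exact ⟨h', hh'M, hcmem g (hMK hgM) h' (hMK hh'M), hcne g h' hne⟩
    · left
      intro a ha c hc
      have hcC : c ∈ C := by rw [h]; exact hc
      exact Subgroup.mem_centralizer_iff.mp hcC.2 a ha

end Cfsg.Agent.Lib.Helper79.Winter
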