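import Mathlib
import Cfsg.Prelude.Def_Characters
import Cfsg.Prelude.Def_Blocks
import Cfsg.Prelude.Def_Solvable
import Cfsg.Agent.Lib.Helper79.WinterA
import Cfsg.Agent.Lib.Helper79.WinterD
import Cfsg.Agent.Lib.Helper85.CliffordCorr
import Cfsg.Agent.Lib.Helper05.CharDegree
import Cfsg.Agent.Lib.Helper01.PCore
import Cfsg.Agent.S0887

/-!
# Winter's theorem: Clifford-theoretic reductions (helper79)
-/

set_option autoImplicit false

namespace Cfsg.Agent.Lib.Helper79.Winter

open scoped ComplexConjugate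
open Cfsg
open Cfsg.Agent.Lib.Helper83

universe u
variable {G : Type u} [Group G]

/-- the value of `χ` on a subgroup in terms of the constituents -/
theorem restrict_apply_eq_sum [Finite G] {χ : G → ℂ} (hχ : IsCharacter G χ) (Q : Subgroup G)
    [Fintype Q] [Fintype (IrrCharacter Q)] (x : Q) :
    χ (x : G) = ∑ φ : IrrCharacter Q,
      (irrMult (fun n : Q => χ (n : G)) φ : ℂ) * (φ : Q → ℂ) x := by
  have h := char_eq_sum_irrMult (isCharacter_restrict Q hχ)
  have h2 := congrFun h x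
  rw [Finset.sum_apply] at h2
  simp only [Pi.smul_apply, smul_eq_mul] at h2
  exact h2

/-- if all irreducible constituents of `χ|_Q` are linear and `χ` is faithful, `Q` is abelian -/
theorem comm_of_linear_constituents [Finite G] (χ : IrrCharacter G)
    (hfaith : ∀ g : G, (χ : G → ℂ) g = (χ : G → ℂ) 1 → g = 1) (Q : Subgroup G) [Fintype Q]
    (hlin : ∀ φ : IrrCharacter Q, classInner (fun n : Q => (χ : G → ℂ) (n : G)) (φ : Q → ℂ) ≠ 0 →
      (φ : Q → ℂ) 1 = 1) : ∀ a ∈ Q, ∀ b ∈ Q, a * b = b * a := by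
  classical
  haveI : Fintype G := Fintype.ofFinite G
  haveI : Fintype (IrrCharacter Q) := Fintype.ofFinite _
  have hχc : IsCharacter G (χ : G → ℂ) := isCharacter_of_irr χ.2
  have hres : IsCharacter Q (fun n : Q => (χ : G → ℂ) (n : G)) := isCharacter_restrict Q hχc
  intro a ha b hb
  set a' : Q := ⟨a, ha⟩ with ha'
  set b' : Q := ⟨b, hb⟩ with hb'
  have h1 := restrict_apply_eq_sum hχc Q (a' * b' * a'⁻¹ * b'⁻¹)
  have h2 := restrict_apply_eq_sum hχc Q (1 : Q)
  have h3 : (χ : G → ℂ) ((a' * b' * a'⁻¹ * b'⁻¹ : Q) : G) = (χ : G → ℂ) ((1 : Q) : G) := by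
    rw [h1, h2]
    refine Finset.sum_congr rfl fun φ _ => ?_
    by_cases hm : irrMult (fun n : Q => (χ : G → ℂ) (n : G)) φ = 0
    · rw [hm]; simp
    · have hne : classInner (fun n : Q => (χ : G → ℂ) (n : G)) (φ : Q → ℂ) ≠ 0 := by
        rw [← irrMult_cast hres φ]
        exact_mod_cast hm
      have hφ1 := hlin φ hne
      rw [Cfsg.Agent.Lib.Helper05.linear_char_commutator (isCharacter_of_irr φ.2) hφ1, hφ1]
  have h4 : a * b * a⁻¹ * b⁻¹ = 1 := by
    apply hfaith
    have : ((a' * b' * a'⁻¹ * b'⁻¹ : Q) : G) = a * b * a⁻¹ * b⁻¹ := by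
      push_cast
      rfl
    rw [← this, h3]
    rfl
  have h5 : a * b * a⁻¹ * b⁻¹ * b * a = b * a := by rw [h4, one_mul]
  rw [← h5]
  group

/-- `O_p(G)` is abelian if `G` has a faithful irreducible character of degree prime to `p` -/
theorem pCore_comm_of_not_dvd [Finite G] (χ : IrrCharacter G)
    (hfaith : ∀ g : G, (χ : G → ℂ) g = (χ : G → ℂ) 1 → g = 1) {p : ℕ} [hp : Fact p.Prime]
    (hpn : ¬ p ∣ charDegree (χ : G → ℂ)) :
    ∀ a ∈ Cfsg.pCore p G, ∀ b ∈ Cfsg.pCore p G, a * b = b * a := by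
  classical
  haveI : Fintype G := Fintype.ofFinite G
  set Q := Cfsg.pCore p G with hQ
  haveI hQn : Q.Normal := Cfsg.Agent.Lib.Helper01.pCore_normal p
  haveI : Fintype Q := Fintype.ofFinite Q
  have hQp : IsPGroup p Q := Cfsg.Agent.Lib.Helper01.pCore_isPGroup p
  have hχc : IsCharacter G (χ : G → ℂ) := isCharacter_of_irr χ.2
  apply comm_of_linear_constituents χ hfaith Q
  intro φ hne
  have hφc : IsCharacter Q (φ : Q → ℂ) := isCharacter_of_irr φ.2
  have h1 := (Cfsg.Agent.S0887.result Q (χ : G → ℂ) χ.2 (φ : Q → ℂ) φ.2 hne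
    (charDegree (χ : G → ℂ)) (charDegree (φ : Q → ℂ)) (charDegree_cast hχc).symm
    (charDegree_cast hφc).symm).1
  have h2 : charDegree (φ : Q → ℂ) ∣ Nat.card Q := irr_charDegree_dvd_card φ
  obtain ⟨k, hk⟩ := IsPGroup.iff_card.mp hQp
  rw [hk] at h2
  obtain ⟨j, _, hj⟩ := (Nat.dvd_prime_pow hp.out).mp h2
  have hj0 : j = 0 := by
    by_contra hj0
    apply hpn
    refine dvd_trans ?_ h1
    rw [hj]
    exact dvd_pow_self p hj0
  rw [hj0, pow_zero] at hj
  rw [← charDegree_cast hφc, hj]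
  simp

/-- a noncentral abelian normal subgroup gives a proper subgroup of index dividing the degree -/
theorem exists_proper_index_dvd [Finite G] (χ : IrrCharacter G)
    (hfaith : ∀ g : G, (χ : G → ℂ) g = (χ : G → ℂ) 1 → g = 1) (A : Subgroup G) (hA : A.Normal)
    (hab : ∀ a ∈ A, ∀ b ∈ A, a * b = b * a) (hnc : ¬ A ≤ Subgroup.center G) :
    ∃ T : Subgroup G, T ≠ ⊤ ∧ T.index ∣ charDegree (χ : G → ℂ) := by
  classical
  haveI : Fintype G := Fintype.ofFinite G
  haveI : Fintype A := Fintype.ofFinite A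
  have hχc : IsCharacter G (χ : G → ℂ) := isCharacter_of_irr χ.2
  have hres : IsCharacter A (fun n : A => (χ : G → ℂ) (n : G)) := isCharacter_restrict A hχc
  have hχ1 : (χ : G → ℂ) 1 ≠ 0 := Cfsg.Agent.Lib.Helper79.irr_one_ne_zero χ.2
  obtain ⟨lam, hlam, hcon⟩ := Cfsg.Agent.Lib.Helper85.exists_irr_constituent hres hχ1
  have hlamc : IsCharacter A lam := isCharacter_of_irr hlam
  set T := Cfsg.Agent.Lib.Helper85.conjStab hA lam with hT
  haveI : Fintype T := Fintype.ofFinite T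
  obtain ⟨ψ, hψ, -, hind⟩ := Cfsg.Agent.Lib.Helper85.exists_irr_conjStab hA χ.2 hlam hcon
  refine ⟨T, ?_, ?_⟩
  · intro htop
    apply hnc
    have hinv : ∀ g : G, Cfsg.Agent.Lib.Helper85.conjFun hA lam g = lam := by
      intro g
      rw [← Cfsg.Agent.Lib.Helper85.mem_conjStab, ← hT, htop]
      exact Subgroup.mem_top g
    have hlam1 : lam 1 = 1 := by
      apply Cfsg.Agent.Lib.Helper85.irr_apply_one_of_comm _ hlam
      intro a b
      apply Subtype.ext
      exact hab a a.2 b b.2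
    have hcl := Cfsg.Agent.Lib.Helper85.clifford_finset hA χ.2 hlam hcon
    have himg : (Finset.univ.image (fun g : G => Cfsg.Agent.Lib.Helper85.conjFun hA lam g)) =
        {lam} := by
      have : (fun g : G => Cfsg.Agent.Lib.Helper85.conjFun hA lam g) = fun _ => lam := by
        funext g
        exact hinv g
      rw [this]
      exact Finset.image_const ⟨1, Finset.mem_univ _⟩ lam
    rw [himg, Finset.sum_singleton] at hcl
    set e := classInner (fun n : A => (χ : G → ℂ) (n : G)) lam with he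
    have hval : ∀ x : A, (χ : G → ℂ) (x : G) = e * lam x := by
      intro x
      have := congrFun hcl x
      simpa using this
    have hmul := Cfsg.Agent.Lib.Helper21.linear_char_mul hlamc hlam1
    intro a ha
    rw [Subgroup.mem_center_iff]
    intro g
    have hcA : a * (g * a⁻¹ * g⁻¹) ∈ A := A.mul_mem ha (hA.conj_mem _ (A.inv_mem ha) g)
    have hc1 : (χ : G → ℂ) (a * (g * a⁻¹ * g⁻¹)) = (χ : G → ℂ) 1 := by
      have h1 := hval ⟨a * (g * a⁻¹ * g⁻¹), hcA⟩
      have h2 := hval (1 : A)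
      have h3 : (⟨a * (g * a⁻¹ * g⁻¹), hcA⟩ : A) =
          ⟨a, ha⟩ * ⟨g * a⁻¹ * g⁻¹, hA.conj_mem _ (A.inv_mem ha) g⟩ := rfl
      have h4 : lam ⟨g * a⁻¹ * g⁻¹, hA.conj_mem _ (A.inv_mem ha) g⟩ = lam ⟨a⁻¹, A.inv_mem ha⟩ := by
        have := congrFun (hinv g) ⟨a⁻¹, A.inv_mem ha⟩
        rw [Cfsg.Agent.Lib.Helper85.conjFun_apply] at this
        exact this
      have h5 : lam ⟨a, ha⟩ * lam ⟨a⁻¹, A.inv_mem ha⟩ = lam 1 := by
        rw [← hmul]
        congr 1
        apply Subtype.ext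
        simp
      show (χ : G → ℂ) ((⟨a * (g * a⁻¹ * g⁻¹), hcA⟩ : A) : G) = (χ : G → ℂ) ((1 : A) : G)
      rw [h1, h2, h3, hmul, h4, h5]
    have h6 := hfaith _ hc1
    have h7 : a * (g * a⁻¹ * g⁻¹) * g * a = g * a := by rw [h6, one_mul]
    rw [← h7]
    group
  · have h1 := congrFun hind 1
    rw [Cfsg.Agent.Lib.Helper85.indFun_apply_one] at h1
    have hψc : IsCharacter T ψ := isCharacter_of_irr hψ
    rw [← charDegree_cast hχc, ← charDegree_cast hψc] at h1
    have h2 : charDegree (χ : G → ℂ) = T.index * charDegree ψ := by exact_mod_cast h1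
    exact ⟨_, h2⟩

/-- restriction to a normal subgroup whose Sylow `p`-subgroup is not normal: some faithful
quotient of the normal subgroup carries an irreducible constituent and has non-normal
Sylow `p`-subgroup -/
theorem exists_constituent_quotient [Finite G] (χ : IrrCharacter G)
    (hfaith : ∀ g : G, (χ : G → ℂ) g = (χ : G → ℂ) 1 → g = 1) (N : Subgroup G) [hN : N.Normal]
    {p : ℕ} [hp : Fact p.Prime] (P : Sylow p N) (hP : ¬ (P : Subgroup N).Normal) :
    ∃ (K : Subgroup N) (_ : K.Normal) (ψ : IrrCharacter (N ⧸ K)),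
      (∀ q : N ⧸ K, (ψ : N ⧸ K → ℂ) q = (ψ : N ⧸ K → ℂ) 1 → q = 1) ∧
      charDegree (ψ : N ⧸ K → ℂ) ∣ charDegree (χ : G → ℂ) ∧
      ¬ ((P : Subgroup N).map (QuotientGroup.mk' K)).Normal := by
  classical
  haveI : Fintype G := Fintype.ofFinite G
  haveI : Fintype N := Fintype.ofFinite N
  haveI : Fintype (IrrCharacter N) := Fintype.ofFinite _
  have hχc : IsCharacter G (χ : G → ℂ) := isCharacter_of_irr χ.2
  have hres : IsCharacter N (fun n : N => (χ : G → ℂ) (n : G)) := isCharacter_restrict N hχc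
  set 𝒦 : Set (Subgroup N) := {K | ∃ φ : IrrCharacter N,
    classInner (fun n : N => (χ : G → ℂ) (n : G)) (φ : N → ℂ) ≠ 0 ∧
      K = charKer (IrrCharacter_isCharacter φ)} with h𝒦
  have hbot : ∀ g : N, (∀ K ∈ 𝒦, g ∈ K) → g = 1 := by
    intro g hg
    have h1 := restrict_apply_eq_sum hχc N g
    have h2 := restrict_apply_eq_sum hχc N (1 : N)
    have h3 : (χ : G → ℂ) (g : G) = (χ : G → ℂ) ((1 : N) : G) := by
      rw [h1, h2]
      refine Finset.sum_congr rfl fun φ _ => ?_
      by_cases hm : irrMult (fun n : N => (χ : G → ℂ) (n : G)) φ = 0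
      · rw [hm]; simp
      · have hne : classInner (fun n : N => (χ : G → ℂ) (n : G)) (φ : N → ℂ) ≠ 0 := by
          rw [← irrMult_cast hres φ]
          exact_mod_cast hm
        have hmem := hg _ ⟨φ, hne, rfl⟩
        rw [mem_charKer] at hmem
        rw [hmem]
    have h4 := hfaith _ h3
    exact Subtype.ext h4
  have hn : ∀ K ∈ 𝒦, K.Normal := by
    rintro K ⟨φ, _, rfl⟩
    exact charKer_normal _
  by_contra hcon
  push Not at hcon
  apply hP
  apply sylow_normal_of_quotients P 𝒦 hbot hn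
  rintro K' ⟨φ, hne, rfl⟩
  set K := charKer (IrrCharacter_isCharacter φ) with hK
  have hφc : IsCharacter N (φ : N → ℂ) := isCharacter_of_irr φ.2
  obtain ⟨ψ, hψ, hψv⟩ := exists_isIrrCharacter_quotient K φ.2
    (fun n hn => (mem_charKer _ n).mp hn)
  have hψ1 : ψ 1 = (φ : N → ℂ) 1 := hψv 1
  have hfaithψ : ∀ q : N ⧸ K, ψ q = ψ 1 → q = 1 := by
    intro q hq
    obtain ⟨g, rfl⟩ := QuotientGroup.mk_surjective q
    rw [hψv, hψ1] at hq
    exact (QuotientGroup.eq_one_iff g).mpr ((mem_charKer _ g).mpr hq)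
  have hdeg : charDegree ψ ∣ charDegree (χ : G → ℂ) := by
    have h1 : charDegree ψ = charDegree (φ : N → ℂ) := by
      unfold charDegree
      rw [hψ1]
    rw [h1]
    exact (Cfsg.Agent.S0887.result N (χ : G → ℂ) χ.2 (φ : N → ℂ) φ.2 hne
      (charDegree (χ : G → ℂ)) (charDegree (φ : N → ℂ)) (charDegree_cast hχc).symm
      (charDegree_cast hφc).symm).1
  have hnorm := hcon K inferInstance ⟨ψ, hψ⟩ hfaithψ hdeg
  have h1 : ((P : Subgroup N).map (QuotientGroup.mk' K)).comap (QuotientGroup.mk' K) =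
      (P : Subgroup N) ⊔ K := by
    rw [Subgroup.comap_map_eq, QuotientGroup.ker_mk']
  rw [← h1]
  exact hnorm.comap _

end Cfsg.Agent.Lib.Helper79.Winter
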