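import Mathlib
import Cfsg.Agent.Lib.Helper79.WinterC
import Cfsg.Agent.Lib.Helper79.WinterE

/-!
# Winter's theorem: the induction (helper79)
-/

set_option autoImplicit false

namespace Cfsg.Agent.Lib.Helper79.Winter

open Cfsg

universe u

/-- the conclusion of Winter's theorem -/
def Concl (p n : ℕ) : Prop :=
  ∃ q : ℕ, IsPrimePow q ∧ q ∣ n ∧
    ((q : ℤ) ≡ -1 [ZMOD p] ∨ (q : ℤ) ≡ 0 [ZMOD p] ∨ (q : ℤ) ≡ 1 [ZMOD p])

theorem Concl.mono {p m n : ℕ} (h : Concl p m) (hmn : m ∣ n) : Concl p n := by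
  obtain ⟨q, hq, hqm, hmod⟩ := h
  exact ⟨q, hq, hqm.trans hmn, hmod⟩

theorem concl_of_modEq_one {p n q : ℕ} (hq : IsPrimePow q) (hqn : q ∣ n) (h : q ≡ 1 [MOD p]) :
    Concl p n :=
  ⟨q, hq, hqn, Or.inr (Or.inr (by exact_mod_cast Int.natCast_modEq_iff.mpr h))⟩

/-- number theory at the end of the class-two case -/
theorem concl_of_section {p r n q' : ℕ} [hp : Fact p.Prime] (hr : r.Prime)
    (hmod : q' ≡ 1 [MOD p]) (hne1 : q' ≠ 1) (hpow : ∃ e, q' = r ^ e)
    (h : q' ∣ n ∨ ∃ d : ℕ, d ∣ n ∧ d * d = q') : Concl p n := by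
  obtain ⟨e, he⟩ := hpow
  rcases h with hdvd | ⟨d, hdn, hdd⟩
  · refine concl_of_modEq_one ?_ hdvd hmod
    rw [isPrimePow_def]
    refine ⟨r, e, hr.prime, ?_, he.symm⟩
    rcases Nat.eq_zero_or_pos e with h0 | h0
    · exfalso; apply hne1; rw [he, h0, pow_zero]
    · exact h0
  · have hd : d ∣ r ^ e := by rw [← he, ← hdd]; exact dvd_mul_right d d
    obtain ⟨j, _, hj⟩ := (Nat.dvd_prime_pow hr).mp hd
    have hj0 : 0 < j := by
      rcases Nat.eq_zero_or_pos j with h0 | h0
      · exfalso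
        apply hne1
        rw [← hdd, hj, h0, pow_zero, mul_one]
      · exact h0
    have hdpp : IsPrimePow d := by
      rw [isPrimePow_def]
      exact ⟨r, j, hr.prime, hj0, hj.symm⟩
    have hmodZ : ((d : ℤ) * (d : ℤ)) ≡ 1 [ZMOD p] := by
      have := Int.natCast_modEq_iff.mpr hmod
      rw [← hdd] at this
      exact_mod_cast this
    have hdvd : (p : ℤ) ∣ ((d : ℤ) - 1) * ((d : ℤ) + 1) := by
      have := (Int.modEq_iff_dvd.mp hmodZ.symm)
      have h2 : (d : ℤ) * (d : ℤ) - 1 = ((d : ℤ) - 1) * ((d : ℤ) + 1) := by ring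
      rw [h2] at this
      exact this
    have hpZ : Prime (p : ℤ) := Nat.prime_iff_prime_int.mp hp.out
    rcases hpZ.dvd_or_dvd hdvd with h1 | h1
    · refine ⟨d, hdpp, hdn, Or.inr (Or.inr ?_)⟩
      exact (Int.modEq_iff_dvd.mpr h1).symm
    · refine ⟨d, hdpp, hdn, Or.inl ?_⟩
      apply Int.ModEq.symm
      apply Int.modEq_iff_dvd.mpr
      have : (d : ℤ) - -1 = (d : ℤ) + 1 := by ring
      rw [this]
      exact h1

theorem winter_aux {p : ℕ} [hp : Fact p.Prime] :
    ∀ (k : ℕ) (G : Type u) [Group G] [Finite G] [Group.IsSolvable G], Nat.card G = k →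
      ∀ (χ : IrrCharacter G), (∀ g : G, (χ : G → ℂ) g = (χ : G → ℂ) 1 → g = 1) →
        ∀ P : Sylow p G, ¬ (P : Subgroup G).Normal → Concl p (charDegree (χ : G → ℂ)) := by
  intro k
  induction k using Nat.strong_induction_on with
  | _ k ih =>
  intro G _ _ _ hk χ hfaith P hP
  classical
  set n := charDegree (χ : G → ℂ) with hn
  by_cases hpn : p ∣ n
  · refine ⟨p, hp.out.isPrimePow, hpn, Or.inr (Or.inl ?_)⟩
    exact Int.modEq_zero_iff_dvd.mpr (dvd_refl _)
  have hPpow : ∀ x ∈ (P : Subgroup G), ∃ b : ℕ, x ^ (p ^ b) = 1 := by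
    intro x hx
    obtain ⟨b, hb⟩ := P.isPGroup' ⟨x, hx⟩
    refine ⟨b, ?_⟩
    have := congrArg Subtype.val hb
    simpa using this
  by_cases hA : ∃ N : Subgroup G, N.Normal ∧ N ≠ ⊤ ∧ (P : Subgroup G) ≤ N
  · obtain ⟨N, hNn, hNtop, hPN⟩ := hA
    haveI := hNn
    set PN : Sylow p N := P.subtype hPN with hPNdef
    have hPNn : ¬ (PN : Subgroup N).Normal := by
      intro hnorm
      apply hP
      have hfr := Sylow.normalizer_sup_eq_top PN
      have hmap : (PN : Subgroup N).map N.subtype = P := by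
        rw [hPNdef, Sylow.coe_subtype, Subgroup.map_subgroupOf_eq_of_le hPN]
      rw [hmap] at hfr
      have hNle : N ≤ Subgroup.normalizer ((P : Subgroup G) : Set G) := by
        intro x hx
        rw [Subgroup.mem_normalizer_iff]
        have key : ∀ (y : G) (z : G), z ∈ N → y ∈ (P : Subgroup G) → z * y * z⁻¹ ∈ (P : Subgroup G) := by
          intro y z hz hy
          have h1 : (⟨y, hPN hy⟩ : N) ∈ (PN : Subgroup N) := by
            rw [hPNdef, Sylow.coe_subtype, Subgroup.mem_subgroupOf]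
            exact hy
          have h2 := hnorm.conj_mem _ h1 ⟨z, hz⟩
          rw [hPNdef, Sylow.coe_subtype, Subgroup.mem_subgroupOf] at h2
          exact h2
        intro y
        constructor
        · exact key y x hx
        · intro hy
          have := key _ x⁻¹ (N.inv_mem hx) hy
          have h3 : x⁻¹ * (x * y * x⁻¹) * x⁻¹⁻¹ = y := by group
          rw [h3] at this
          exact this
      have htop : Subgroup.normalizer ((P : Subgroup G) : Set G) = ⊤ := by
        rw [← hfr]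
        exact (sup_eq_left.mpr hNle).symm
      exact Subgroup.normalizer_eq_top_iff.mp htop
    obtain ⟨K, hKn, ψ, hψf, hψd, hψP⟩ := exists_constituent_quotient χ hfaith N PN hPNn
    haveI := hKn
    have hsurj : Function.Surjective (QuotientGroup.mk' K) := QuotientGroup.mk'_surjective K
    set P' : Sylow p (N ⧸ K) := PN.mapSurjective hsurj with hP'def
    have hP' : ¬ (P' : Subgroup (N ⧸ K)).Normal := by
      rw [hP'def, Sylow.coe_mapSurjective]
      exact hψP
    have hcard : Nat.card (N ⧸ K) < k := by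
      have h1 : Nat.card (N ⧸ K) ≤ Nat.card N := Nat.card_le_card_of_surjective _ hsurj
      have h2 : Nat.card N < Nat.card G := by
        apply lt_of_le_of_ne (Subgroup.card_le_card_group N)
        intro h
        exact hNtop ((Subgroup.card_eq_iff_eq_top N).mp h)
      omega
    exact (ih _ hcard (N ⧸ K) rfl ψ hψf P' hP').mono hψd
  push Not at hA
  by_cases hC : ∃ A : Subgroup G, A.Normal ∧ (∀ a ∈ A, ∀ b ∈ A, a * b = b * a) ∧
      ¬ A ≤ Subgroup.center G
  · obtain ⟨A, hAn, hAab, hAnc⟩ := hC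
    obtain ⟨T, hTtop, hTdvd⟩ := exists_proper_index_dvd χ hfaith A hAn hAab hAnc
    obtain ⟨H, hHco, hTH⟩ := (eq_top_or_exists_le_coatom T).resolve_left hTtop
    have hcore_ne : H.normalCore ≠ ⊤ := by
      intro h
      apply hHco.1
      rw [eq_top_iff, ← h]
      exact Subgroup.normalCore_le H
    have hPcore := hA H.normalCore (Subgroup.normalCore_normal H) hcore_ne
    obtain ⟨x, hxP, hxN⟩ := SetLike.not_le_iff_exists.mp hPcore
    obtain ⟨b, hb⟩ := hPpow x hxP
    obtain ⟨r, a, hr, hidx, hcase⟩ := exists_prime_pow_index_of_isCoatom H hHco x b hb hxN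
    have hHdvd : H.index ∣ n := (Subgroup.index_dvd_of_le hTH).trans hTdvd
    rw [hidx] at hHdvd
    rcases hcase with rfl | ⟨i, hi1, hia, hmod⟩
    · exfalso
      have ha : a ≠ 0 := by
        rintro rfl
        rw [pow_zero, Subgroup.index_eq_one] at hidx
        exact hHco.1 hidx
      apply hpn
      exact (dvd_pow_self r ha).trans hHdvd
    · refine concl_of_modEq_one (q := r ^ i) ?_ ?_ hmod
      · rw [isPrimePow_def]
        exact ⟨r, i, hr.prime, by omega, rfl⟩
      · exact (pow_dvd_pow r hia).trans hHdvd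
  push Not at hC
  have hOp : Cfsg.pCore p G ≤ Subgroup.center G :=
    hC _ (Cfsg.Agent.Lib.Helper01.pCore_normal p) (pCore_comm_of_not_dvd χ hfaith hpn)
  obtain ⟨r, M, L, hr, hrp, hLM, hLZ, hmod, hne1, hpow, hvan, hcase⟩ :=
    exists_class_two_section P hP hC hOp
  exact concl_of_section hr hmod hne1 hpow (char_core χ hfaith M L hLM hLZ hvan hcase)

end Cfsg.Agent.Lib.Helper79.Winter
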